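import Groth.Agent.Lib.Helper14.DvrDominate
import Mathlib.AlgebraicGeometry.Stalk
import Mathlib.AlgebraicGeometry.Noetherian
import Mathlib.AlgebraicGeometry.ResidueField

set_option autoImplicit false
universe u
open CategoryTheory CategoryTheory.Limits AlgebraicGeometry IsLocalRing

namespace Groth.Agent.Lib.Helper50

theorem exists_dvr_factor {B : Type u} [CommRing B] [IsNoetherianRing B] [IsLocalRing B]
    {L : Type u} [Field L] (φ : B →+* L) (hker : RingHom.ker φ ≠ maximalIdeal B)
    (hfg : ∃ F : Finset L, Subfield.closure (Set.range φ ∪ ↑F) = ⊤) :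
    ∃ R : ValuationSubring L, IsDiscreteValuationRing R ∧
      ∃ ψ : B →+* R, IsLocalHom ψ ∧ R.subtype.comp ψ = φ := by
  classical
  set p := RingHom.ker φ with hp
  haveI : p.IsPrime := RingHom.ker_isPrime φ
  let A := B ⧸ p
  haveI : IsLocalRing A :=
    IsLocalRing.of_surjective' (Ideal.Quotient.mk p) Ideal.Quotient.mk_surjective
  have hA : ¬ IsField A := by
    intro h
    have hmax : p.IsMaximal := Ideal.Quotient.maximal_of_isField p h
    exact hker (IsLocalRing.eq_maximalIdeal hmax)
  let φ' : A →+* L := RingHom.kerLift φ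
  have hφ' : Function.Injective φ' := RingHom.kerLift_injective φ
  let K := FractionRing A
  letI : Algebra A L := φ'.toAlgebra
  letI : Algebra K L := (IsFractionRing.lift (K := K) (g := φ') hφ').toAlgebra
  haveI : IsScalarTower A K L := IsScalarTower.of_algebraMap_eq (fun a => by
    change φ' a = IsFractionRing.lift hφ' (algebraMap A K a)
    rw [IsFractionRing.lift_algebraMap])
  obtain ⟨F, hF⟩ := hfg
  have hfg' : (⊤ : IntermediateField K L).FG := by
    refine ⟨F, ?_⟩
    rw [← IntermediateField.toSubfield_inj, IntermediateField.adjoin_toSubfield]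
    apply top_unique
    change ⊤ ≤ _
    rw [← hF]
    apply Subfield.closure_mono
    apply Set.union_subset_union_left
    rintro _ ⟨b, rfl⟩
    refine ⟨algebraMap A K (Ideal.Quotient.mk p b), ?_⟩
    rw [← IsScalarTower.algebraMap_apply A K L]
    rfl
  obtain ⟨R, hR, hmem, hlt⟩ :=
    Groth.Agent.Lib.Helper14.DvrDominate.exists_dvr_dominating_fg A hA K L hfg'
  refine ⟨R, hR, ?_⟩
  let ψ : B →+* R := φ.codRestrict R.toSubring (fun b => hmem (Ideal.Quotient.mk p b))
  refine ⟨ψ, ⟨fun b hb => ?_⟩, rfl⟩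
  by_contra hb'
  have hbm : b ∈ maximalIdeal B := hb'
  have hbA : Ideal.Quotient.mk p b ∈ maximalIdeal A := by
    rw [IsLocalRing.mem_maximalIdeal, mem_nonunits_iff]
    intro hu
    have : IsLocalHom (Ideal.Quotient.mk p) :=
      IsLocalHom.of_surjective _ Ideal.Quotient.mk_surjective
    exact hb' (isUnit_of_map_unit (Ideal.Quotient.mk p) b hu)
  have h1 := hlt _ hbA
  have h2 : R.valuation (ψ b : L) = 1 := (R.valuation_eq_one_iff (ψ b)).mp hb
  exact absurd h2 (ne_of_lt h1)

theorem exists_dvr_spec {P : Scheme.{u}} [IsLocallyNoetherian P] (w : P) {L : Type u} [Field L]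
    (φ : P.presheaf.stalk w ⟶ CommRingCat.of L)
    (hker : RingHom.ker φ.hom ≠ maximalIdeal (P.presheaf.stalk w))
    (hfg : ∃ F : Finset L, Subfield.closure (Set.range φ.hom ∪ ↑F) = ⊤) :
    ∃ (A : ValuationSubring L) (y : Spec (CommRingCat.of A) ⟶ P), IsDiscreteValuationRing A ∧
      y (closedPoint A) = w ∧
      Spec.map (CommRingCat.ofHom A.subtype) ≫ y = Spec.map φ ≫ P.fromSpecStalk w := by
  obtain ⟨R, hR, ψ, hψ, hcomp⟩ := exists_dvr_factor φ.hom hker hfg
  refine ⟨R, Spec.map (CommRingCat.ofHom ψ) ≫ P.fromSpecStalk w, hR, ?_, ?_⟩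
  · haveI : IsLocalHom (CommRingCat.ofHom ψ).hom := hψ
    have h1 : (Spec.map (CommRingCat.ofHom ψ)) (closedPoint R) =
        closedPoint (P.presheaf.stalk w) := Spec_closedPoint (f := CommRingCat.ofHom ψ)
    change P.fromSpecStalk w ((Spec.map (CommRingCat.ofHom ψ)) (closedPoint R)) = w
    rw [h1]
    exact Scheme.fromSpecStalk_closedPoint
  · rw [← Category.assoc, ← Spec.map_comp]
    congr 2
    ext x
    exact congr($hcomp x)

theorem apply_closedPoint_of_ker_eq {P : Scheme.{u}} (w : P) {L : Type u} [Field L]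
    (φ : P.presheaf.stalk w ⟶ CommRingCat.of L)
    (hker : RingHom.ker φ.hom = maximalIdeal (P.presheaf.stalk w)) :
    (Spec.map φ ≫ P.fromSpecStalk w) (closedPoint L) = w := by
  have h1 : Spec.map φ (closedPoint L) = closedPoint (P.presheaf.stalk w) := by
    apply PrimeSpectrum.ext
    change Ideal.comap φ.hom (maximalIdeal L) = maximalIdeal _
    rw [← hker, IsLocalRing.maximalIdeal_eq_bot]
    rfl
  change P.fromSpecStalk w (Spec.map φ (closedPoint L)) = w
  rw [h1]
  exact Scheme.fromSpecStalk_closedPoint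

/-- Every element of the residue field at a point of an affine chart is a quotient of values. -/
theorem exists_evaluation_div {X : Scheme.{u}} {V : X.Opens} (hV : IsAffineOpen V) (x : X)
    (hxV : x ∈ V) (k : X.residueField x) :
    ∃ a b : Γ(X, V), X.evaluation V x hxV b ≠ 0 ∧
      k = X.evaluation V x hxV a / X.evaluation V x hxV b := by
  obtain ⟨s, rfl⟩ := X.residue_surjective x k
  letI : Algebra Γ(X, V) (X.presheaf.stalk x) :=
    TopCat.Presheaf.algebra_section_stalk X.presheaf (⟨x, hxV⟩ : V)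
  haveI : IsLocalization.AtPrime (X.presheaf.stalk x) (hV.primeIdealOf ⟨x, hxV⟩).asIdeal :=
    hV.isLocalization_stalk ⟨x, hxV⟩
  obtain ⟨⟨a, b⟩, hab⟩ := IsLocalization.surj (hV.primeIdealOf ⟨x, hxV⟩).asIdeal.primeCompl s
  have hunit : IsUnit (X.presheaf.germ V x hxV b.1) :=
    IsLocalization.map_units (M := (hV.primeIdealOf ⟨x, hxV⟩).asIdeal.primeCompl)
      (X.presheaf.stalk x) b
  have hb : X.evaluation V x hxV b.1 ≠ 0 := (hunit.map (X.residue x).hom).ne_zero
  refine ⟨a, b.1, hb, ?_⟩
  rw [eq_div_iff hb]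
  have := congrArg (X.residue x).hom hab
  rw [map_mul] at this
  exact this

/-- The local ring map from the stalk at a specialization of `p x` to the residue field of `x`. -/
noncomputable def specResMap {X Y : Scheme.{u}} (p : X ⟶ Y) (x : X) (y' : Y)
    (hsp : p.base x ⤳ y') : Y.presheaf.stalk y' ⟶ X.residueField x :=
  Y.presheaf.stalkSpecializes hsp ≫ p.stalkMap x ≫ X.residue x

theorem SpecMap_specResMap_fromSpecStalk {X Y : Scheme.{u}} (p : X ⟶ Y) (x : X) (y' : Y)
    (hsp : p.base x ⤳ y') :
    Spec.map (specResMap p x y' hsp) ≫ Y.fromSpecStalk y' = X.fromSpecResidueField x ≫ p := by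
  rw [specResMap, Spec.map_comp, Spec.map_comp, Category.assoc, Category.assoc,
    Scheme.SpecMap_stalkSpecializes_fromSpecStalk, Scheme.SpecMap_stalkMap_fromSpecStalk,
    Scheme.fromSpecResidueField, Category.assoc]

theorem specResMap_germ {X Y : Scheme.{u}} (p : X ⟶ Y) (x : X) (y' : Y)
    (hsp : p.base x ⤳ y') (W : Y.Opens) (hW : y' ∈ W) (V : X.Opens) (hxV : x ∈ V)
    (e : V ≤ p ⁻¹ᵁ W) (a : Γ(Y, W)) :
    (specResMap p x y' hsp) (Y.presheaf.germ W y' hW a) =
      X.evaluation V x hxV (p.appLE W V e a) := by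
  have hpx : p.base x ∈ W := e hxV
  have h1 : Y.presheaf.germ W y' hW ≫ specResMap p x y' hsp =
      p.appLE W V e ≫ X.evaluation V x hxV := by
    rw [specResMap, TopCat.Presheaf.germ_stalkSpecializes_assoc,
      Scheme.Hom.germ_stalkMap_assoc, Scheme.Hom.appLE, Category.assoc]
    congr 1
    rw [Scheme.evaluation, ← Category.assoc, TopCat.Presheaf.germ_res]
  exact congr($h1 a)

theorem exists_dvr_through_specialization {X Y : Scheme.{u}} [IsLocallyNoetherian Y]
    (p : X ⟶ Y) [LocallyOfFiniteType p] (x : X) (y' : Y) (hsp : p.base x ⤳ y')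
    (hne : y' ≠ p.base x) :
    ∃ (A : ValuationSubring (X.residueField x)) (h : Spec (CommRingCat.of A) ⟶ Y),
      IsDiscreteValuationRing A ∧ h.base (IsLocalRing.closedPoint A) = y' ∧
      Spec.map (CommRingCat.ofHom A.subtype) ≫ h = X.fromSpecResidueField x ≫ p := by
  classical
  set φ := specResMap p x y' hsp with hφ
  have hcomp := SpecMap_specResMap_fromSpecStalk p x y' hsp
  have hker : RingHom.ker φ.hom ≠ maximalIdeal (Y.presheaf.stalk y') := by
    intro hk
    have h1 := apply_closedPoint_of_ker_eq (L := X.residueField x) y' φ hk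
    rw [hcomp] at h1
    apply hne
    rw [← h1]
    exact congrArg p.base (Scheme.fromSpecResidueField_apply x _)
  have hfg : ∃ F : Finset (X.residueField x),
      Subfield.closure (Set.range φ.hom ∪ ↑F) = ⊤ := by
    obtain ⟨W, hW, hy'W, -⟩ := exists_isAffineOpen_mem_and_subset
      (show y' ∈ (⊤ : Y.Opens) from trivial)
    have hpx : p.base x ∈ W := hsp.mem_open W.2 hy'W
    obtain ⟨V, hV, hxV, hVW⟩ := exists_isAffineOpen_mem_and_subset
      (show x ∈ p ⁻¹ᵁ W from hpx)
    have e : V ≤ p ⁻¹ᵁ W := hVW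
    have hft := p.finiteType_appLE hW hV e
    let _ := (p.appLE W V e).hom.toAlgebra
    obtain ⟨F', hF'⟩ : (⊤ : Subalgebra Γ(Y, W) Γ(X, V)).FG := hft.out
    refine ⟨F'.image (X.evaluation V x hxV), ?_⟩
    set E := Subfield.closure (Set.range φ.hom ∪ ↑(F'.image (X.evaluation V x hxV))) with hE
    have hev : ∀ a : Γ(X, V), X.evaluation V x hxV a ∈ E := by
      intro a
      have ha : a ∈ Algebra.adjoin Γ(Y, W) (F' : Set Γ(X, V)) := by rw [hF']; trivial
      induction ha using Algebra.adjoin_induction with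
      | mem a ha =>
        apply Subfield.subset_closure
        right
        rw [Finset.coe_image]
        exact ⟨a, ha, rfl⟩
      | algebraMap r =>
        apply Subfield.subset_closure
        left
        exact ⟨Y.presheaf.germ W y' hy'W r, specResMap_germ p x y' hsp W hy'W V hxV e r⟩
      | add a b _ _ iha ihb => rw [map_add]; exact add_mem iha ihb
      | mul a b _ _ iha ihb => rw [map_mul]; exact mul_mem iha ihb
    apply top_unique
    intro k _
    obtain ⟨a, b, -, rfl⟩ := exists_evaluation_div hV x hxV k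
    exact div_mem (hev a) (hev b)
  obtain ⟨A, y, hA, hy, hAy⟩ := exists_dvr_spec (L := X.residueField x) y' φ hker hfg
  exact ⟨A, y, hA, hy, hAy.trans hcomp⟩

end Groth.Agent.Lib.Helper50
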