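import Groth.Agent.Lib.Helper50.RatExt
import Groth.Prelude.Def_Pi1
import Mathlib.AlgebraicGeometry.Properties
import Mathlib.AlgebraicGeometry.Noetherian

set_option autoImplicit false
universe u
open CategoryTheory CategoryTheory.Limits AlgebraicGeometry IsLocalRing TopologicalSpace

namespace Groth.Agent.Lib.Helper50

theorem isRegularLocalRing_of_isIntegrallyClosed_of_dim_le_one (R : Type u) [CommRing R]
    [IsDomain R] [IsNoetherianRing R] [IsLocalRing R] [IsIntegrallyClosed R]
    (h : ringKrullDim R ≤ 1) : IsRegularLocalRing R := by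
  have : Ring.KrullDimLE 1 R := Ring.krullDimLE_iff.mpr h
  have h3 : IsIntegrallyClosed R ∧ ∀ P : Ideal R, P ≠ ⊥ → P.IsPrime → P = maximalIdeal R :=
    ⟨inferInstance, fun P hP hP' => eq_maximalIdeal (hP'.isMaximal_of_ne_bot hP)⟩
  have : IsPrincipalIdealRing R :=
    ((tfae_of_isNoetherianRing_of_isLocalRing_of_isDomain R).out 3 0).mp h3
  infer_instance

theorem ringKrullDim_stalk_le_one_of_closed {X : Scheme.{u}} [CompactSpace X]
    (hcurve : ∀ x : X, IsClosed ({x} : Set X) → ringKrullDim (X.presheaf.stalk x) = 1) (x : X) :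
    ringKrullDim (X.presheaf.stalk x) ≤ 1 := by
  obtain ⟨z, hzx, hz⟩ := IsClosed.exists_closed_singleton (isClosed_closure (s := {x}))
    ⟨x, subset_closure rfl⟩
  have hxz : x ⤳ z := specializes_iff_mem_closure.mpr hzx
  have hle : z ≤ x := hxz
  have h1 := Order.coheight_anti hle
  rw [← hcurve z hz, ringKrullDim_stalk_eq_coheight, ringKrullDim_stalk_eq_coheight]
  exact_mod_cast h1

theorem isReduced_of_isNormalScheme {X : Scheme.{u}} (hnorm : Pi1.IsNormalScheme X) :
    IsReduced X := by
  have : ∀ x : X, _root_.IsReduced (X.presheaf.stalk x) := fun x => by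
    have := (hnorm x).1
    infer_instance
  exact isReduced_of_isReduced_stalk X

theorem isRegularLocalRing_stalk_of_isNormalScheme {X : Scheme.{u}} [IsLocallyNoetherian X]
    (hnorm : Pi1.IsNormalScheme X) (x : X) (h : ringKrullDim (X.presheaf.stalk x) ≤ 1) :
    IsRegularLocalRing (X.presheaf.stalk x) := by
  have := (hnorm x).1
  have := (hnorm x).2
  exact isRegularLocalRing_of_isIntegrallyClosed_of_dim_le_one _ h

theorem existsUnique_extension_of_normal_curve {S X Y : Scheme.{u}} [IsLocallyNoetherian S]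
    (p : Y ⟶ S) [IsProper p] (q : X ⟶ S) [IsLocallyNoetherian X] [CompactSpace X]
    (hcurve : ∀ x : X, IsClosed ({x} : Set X) → ringKrullDim (X.presheaf.stalk x) = 1)
    (hnorm : Pi1.IsNormalScheme X) (U : X.Opens) (hU : Dense (U : Set X))
    (g : (U : Scheme.{u}) ⟶ Y) (hg : g ≫ p = U.ι ≫ q) :
    ∃! g' : X ⟶ Y, U.ι ≫ g' = g ∧ g' ≫ p = q := by
  have hred : IsReduced X := isReduced_of_isNormalScheme hnorm
  have hcl : IsClosedMap (pullback.snd p q).base := (pullback.snd p q).isClosedMap
  obtain ⟨U', hUU', s', hs'₁, hs'₂, hU'⟩ := exists_section_extension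
    (fun x hx => isRegularLocalRing_stalk_of_isNormalScheme hnorm x hx)
    (pullback.snd p q) hcl U hU (pullback.lift g U.ι hg) (pullback.lift_snd _ _ _)
  obtain rfl : U' = ⊤ := by
    ext x
    simp only [TopologicalSpace.Opens.coe_top, Set.mem_univ, iff_true]
    exact hU' x (ringKrullDim_stalk_le_one_of_closed hcurve x)
  have hdom : IsDominant U.ι := ⟨by
    rw [DenseRange, Scheme.Opens.range_ι]; exact hU⟩
  refine ⟨X.topIso.inv ≫ s' ≫ pullback.fst p q, ⟨?_, ?_⟩, ?_⟩
  · have h1 : U.ι ≫ X.topIso.inv = X.homOfLE hUU' := by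
      rw [← cancel_mono (⊤ : X.Opens).ι, Category.assoc, Scheme.toIso_inv_ι, Category.comp_id,
        Scheme.homOfLE_ι]
    rw [← Category.assoc, h1, ← Category.assoc, hs'₂, pullback.lift_fst]
  · rw [Category.assoc, Category.assoc, pullback.condition, ← Category.assoc s', hs'₁,
      Scheme.toIso_inv_ι_assoc]
  · rintro g₂ ⟨hg₂, hg₂'⟩
    refine ext_of_isDominant_of_isSeparated p ?_ U.ι ?_
    · rw [hg₂', Category.assoc, Category.assoc, pullback.condition, ← Category.assoc s', hs'₁,
        Scheme.toIso_inv_ι_assoc]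
    · have h1 : U.ι ≫ X.topIso.inv = X.homOfLE hUU' := by
        rw [← cancel_mono (⊤ : X.Opens).ι, Category.assoc, Scheme.toIso_inv_ι, Category.comp_id,
          Scheme.homOfLE_ι]
      rw [hg₂, ← Category.assoc, h1, ← Category.assoc, hs'₂, pullback.lift_fst]

end Groth.Agent.Lib.Helper50
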