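import Groth.Agent.Lib.Helper50.LimDesc4
import Mathlib.AlgebraicGeometry.Morphisms.FinitePresentation

set_option autoImplicit false
universe u
open CategoryTheory AlgebraicGeometry Limits

namespace Groth.Agent.Lib.Helper50

/-- If `f ≫ g` is locally of finite presentation and `g` is locally of finite type, then `f` is
locally of finite presentation (Stacks 02FV). -/
lemma locallyOfFinitePresentation_of_comp {X Y Z : Scheme.{u}} (f : X ⟶ Y) (g : Y ⟶ Z)
    [LocallyOfFinitePresentation (f ≫ g)] [LocallyOfFiniteType g] :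
    LocallyOfFinitePresentation f := by
  rw [HasRingHomProperty.iff_exists_appLE (P := @LocallyOfFinitePresentation)
    (RingHom.finitePresentation_stableUnderComposition.stableUnderCompositionWithLocalizationAway
      RingHom.finitePresentation_holdsForLocalizationAway).left]
  intro x
  obtain ⟨_, ⟨W, hW : IsAffineOpen W, rfl⟩, hxW, -⟩ :=
    Z.isBasis_affineOpens.exists_subset_of_mem_open (Set.mem_univ (g (f x))) isOpen_univ
  obtain ⟨_, ⟨V, hV : IsAffineOpen V, rfl⟩, hxV, hVW⟩ :=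
    Y.isBasis_affineOpens.exists_subset_of_mem_open (show f x ∈ g ⁻¹ᵁ W from hxW) (g ⁻¹ᵁ W).2
  obtain ⟨_, ⟨U, hU : IsAffineOpen U, rfl⟩, hxU, hUV⟩ :=
    X.isBasis_affineOpens.exists_subset_of_mem_open (show x ∈ f ⁻¹ᵁ V from hxV) (f ⁻¹ᵁ V).2
  refine ⟨⟨V, hV⟩, ⟨U, hU⟩, hxU, hUV, ?_⟩
  have hUW : U ≤ (f ≫ g) ⁻¹ᵁ W := fun y hy ↦ hVW (hUV hy)
  have h1 : ((f ≫ g).appLE W U hUW).hom.FinitePresentation :=
    HasRingHomProperty.appLE @LocallyOfFinitePresentation _ inferInstance ⟨W, hW⟩ ⟨U, hU⟩ hUW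
  have h2 : (g.appLE W V hVW).hom.FiniteType :=
    HasRingHomProperty.appLE @LocallyOfFiniteType _ inferInstance ⟨W, hW⟩ ⟨V, hV⟩ hVW
  have e : (f ≫ g).appLE W U hUW = g.appLE W V hVW ≫ f.appLE V U hUV :=
    (Scheme.Hom.appLE_comp_appLE ..).symm
  rw [e, CommRingCat.hom_comp] at h1
  exact RingHom.FinitePresentation.of_comp_finiteType _ h1 h2

section Cart

variable {J : Type u} [SmallCategory J] [IsCofiltered J] {F E : J ⥤ Scheme.{u}} (τ : F ⟶ E)
    [∀ (i j : J) (f : i ⟶ j), IsAffineHom (F.map f)]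
    [∀ (i j : J) (f : i ⟶ j), IsAffineHom (E.map f)]
    (cF : Cone F) (hcF : IsLimit cF) (cE : Cone E) (hcE : IsLimit cE)
    (f : cF.pt ⟶ cE.pt) (hf : ∀ j, cF.π.app j ≫ τ.app j = f ≫ cE.π.app j)
    (hτ : ∀ {j k : J} (φ : j ⟶ k), IsPullback (F.map φ) (τ.app j) (τ.app k) (E.map φ))

include hcF hcE hf hτ in
/-- **Descent of isomorphisms** (Stacks 081E-type). For a cartesian natural transformation
between cofiltered systems of qcqs schemes with affine transition maps, locally of finite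
presentation, whose limit is an isomorphism: eventually the components are isomorphisms. -/
theorem exists_forall_isIso_app
    [∀ j, CompactSpace (E.obj j)] [∀ j, QuasiSeparatedSpace (E.obj j)]
    [∀ j, CompactSpace (F.obj j)]
    [∀ j, LocallyOfFinitePresentation (τ.app j)] [IsIso f] (j₀ : J) :
    ∃ (j : J) (_ : j ⟶ j₀), ∀ (k : J) (_ : k ⟶ j), IsIso (τ.app k) := by
  -- Step 1: a section of `τ` at some stage
  obtain ⟨k₁, φ₁, g, hg1, hg2⟩ : ∃ (k₁ : J) (φ₁ : k₁ ⟶ j₀) (g : E.obj k₁ ⟶ F.obj j₀),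
      cE.π.app k₁ ≫ g = inv f ≫ cF.π.app j₀ ∧ g ≫ τ.app j₀ = E.map φ₁ := by
    let E' : Over j₀ ⥤ Scheme.{u} := Over.forget j₀ ⋙ E
    let t : E' ⟶ (Functor.const (Over j₀)).obj (E.obj j₀) :=
      { app := fun k ↦ E.map k.hom
        naturality := fun k l φ ↦ by
          dsimp [E']
          rw [Category.comp_id, ← E.map_comp, Over.w] }
    let cE' : Cone E' := cE.whisker (Over.forget j₀)
    have hcE' : IsLimit cE' := (Functor.Initial.isLimitWhiskerEquiv (Over.forget j₀) cE).symm hcE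
    have : ∀ {k l : Over j₀} (φ : k ⟶ l), IsAffineHom (E'.map φ) := fun φ ↦
      inferInstanceAs (IsAffineHom (E.map φ.left))
    have : ∀ k : Over j₀, CompactSpace (E'.obj k) := fun k ↦
      inferInstanceAs (CompactSpace (E.obj k.left))
    have : ∀ k : Over j₀, QuasiSeparatedSpace (E'.obj k) := fun k ↦
      inferInstanceAs (QuasiSeparatedSpace (E.obj k.left))
    have ha0 : (inv f ≫ cF.π.app j₀) ≫ τ.app j₀ = cE.π.app j₀ := by
      simp only [Category.assoc, hf, IsIso.inv_hom_id_assoc]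
    have ha : cE'.π ≫ t = (Functor.const _).map ((inv f ≫ cF.π.app j₀) ≫ τ.app j₀) := by
      ext k
      simp only [NatTrans.comp_app, Functor.const_map_app, ha0]
      exact cE.w k.hom
    obtain ⟨k, g, hg1, hg2⟩ := Scheme.exists_π_app_comp_eq_of_locallyOfFinitePresentation E' t
      (τ.app j₀) cE' hcE' (inv f ≫ cF.π.app j₀) ha
    exact ⟨k.left, k.hom, g, hg1, hg2⟩
  let s : E.obj k₁ ⟶ F.obj k₁ := (hτ φ₁).lift g (𝟙 _) (by rw [hg2, Category.id_comp])
  have hs1 : s ≫ F.map φ₁ = g := (hτ φ₁).lift_fst _ _ _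
  have hs2 : s ≫ τ.app k₁ = 𝟙 _ := (hτ φ₁).lift_snd _ _ _
  -- Step 2: `τ ≫ s` and `𝟙` agree at a later stage
  have hab : cF.π.app k₁ ≫ (τ.app k₁ ≫ s) = cF.π.app k₁ ≫ 𝟙 (F.obj k₁) := by
    apply (hτ φ₁).hom_ext
    · simp only [Category.assoc, hs1, Category.id_comp]
      rw [reassoc_of% (hf k₁), hg1]
      simp only [IsIso.hom_inv_id_assoc]
      exact (cF.w φ₁).symm
    · simp only [Category.assoc, hs2, Category.comp_id]
  obtain ⟨l₁, ψ, hψ⟩ : ∃ (l₁ : J) (ψ : l₁ ⟶ k₁), F.map ψ ≫ τ.app k₁ ≫ s = F.map ψ := by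
    let F' : Over k₁ ⥤ Scheme.{u} := Over.forget k₁ ⋙ F
    let t' : F' ⟶ (Functor.const (Over k₁)).obj (E.obj k₁) :=
      { app := fun l ↦ F.map l.hom ≫ τ.app k₁
        naturality := fun l m φ ↦ by
          dsimp [F']
          rw [Category.comp_id, ← Category.assoc, ← F.map_comp, Over.w] }
    let cF' : Cone F' := cF.whisker (Over.forget k₁)
    have hcF' : IsLimit cF' :=
      (Functor.Initial.isLimitWhiskerEquiv (Over.forget k₁) cF).symm hcF
    have : ∀ {l m : Over k₁} (φ : l ⟶ m), IsAffineHom (F'.map φ) := fun φ ↦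
      inferInstanceAs (IsAffineHom (F.map φ.left))
    have : ∀ l : Over k₁, CompactSpace (F'.obj l) := fun l ↦
      inferInstanceAs (CompactSpace (F.obj l.left))
    have : LocallyOfFiniteType (τ.app k₁) := inferInstance
    have h1 : t'.app (Over.mk (𝟙 k₁)) = (τ.app k₁ ≫ s) ≫ τ.app k₁ := by
      change F.map (𝟙 k₁) ≫ τ.app k₁ = (τ.app k₁ ≫ s) ≫ τ.app k₁
      rw [F.map_id, Category.id_comp, Category.assoc, hs2, Category.comp_id]
    have h2 : t'.app (Over.mk (𝟙 k₁)) = 𝟙 (F.obj k₁) ≫ τ.app k₁ := by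
      change F.map (𝟙 k₁) ≫ τ.app k₁ = 𝟙 (F.obj k₁) ≫ τ.app k₁
      rw [F.map_id]
    obtain ⟨l, hl, hl'⟩ := Scheme.exists_hom_comp_eq_comp_of_locallyOfFiniteType F' t'
      (τ.app k₁) cF' hcF' (i := Over.mk (𝟙 k₁)) (τ.app k₁ ≫ s) (𝟙 (F.obj k₁)) h1 h2 hab
    refine ⟨l.left, hl.left, ?_⟩
    have h3 : F.map hl.left ≫ (τ.app k₁ ≫ s) = F.map hl.left ≫ 𝟙 (F.obj k₁) := hl'
    exact h3.trans (Category.comp_id (F.map hl.left))
  -- Step 3: the inverse at stage `l₁`
  have key : IsIso (τ.app l₁) := by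
    let sl : E.obj l₁ ⟶ F.obj l₁ := (hτ ψ).lift (E.map ψ ≫ s) (𝟙 _)
      (by rw [Category.assoc, hs2, Category.comp_id, Category.id_comp])
    have hsl1 : sl ≫ F.map ψ = E.map ψ ≫ s := (hτ ψ).lift_fst _ _ _
    have hsl2 : sl ≫ τ.app l₁ = 𝟙 _ := (hτ ψ).lift_snd _ _ _
    refine ⟨sl, ?_, hsl2⟩
    apply (hτ ψ).hom_ext
    · rw [Category.assoc, hsl1, Category.id_comp, ← τ.naturality_assoc, hψ]
    · rw [Category.assoc, hsl2, Category.comp_id, Category.id_comp]
  refine ⟨l₁, ψ ≫ φ₁, fun m χ ↦ ?_⟩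
  exact (hτ χ).isIso_snd_of_isIso

end Cart

end Groth.Agent.Lib.Helper50
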