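import Mathlib.AlgebraicGeometry.AffineSpace
import Mathlib.AlgebraicGeometry.Morphisms.ClosedImmersion
import Mathlib.AlgebraicGeometry.Morphisms.Preimmersion
import Mathlib.AlgebraicGeometry.PullbackCarrier
import Mathlib.RingTheory.FiniteType

set_option autoImplicit false
universe u
open CategoryTheory AlgebraicGeometry Limits

namespace Groth.Agent.Lib.Helper50

/-- A finitely generated algebra is a quotient of a polynomial algebra in a positive number of
variables indexed by a lifted finite type. -/
lemma exists_surjective_mvPolynomial_ulift {R B : Type u} [CommRing R] [CommRing B] [Algebra R B]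
    [Algebra.FiniteType R B] :
    ∃ (n : ℕ) (_ : 0 < n) (π : MvPolynomial (ULift.{u} (Fin n)) R →ₐ[R] B),
      Function.Surjective π := by
  obtain ⟨n, π, hπ⟩ := Algebra.FiniteType.iff_quotient_mvPolynomial''.mp
    (inferInstance : Algebra.FiniteType R B)
  let g : ULift.{u} (Fin (n + 1)) → MvPolynomial (Fin n) R :=
    fun k ↦ if h : k.down.val < n then MvPolynomial.X ⟨k.down.val, h⟩ else 0
  let σ : MvPolynomial (ULift.{u} (Fin (n + 1))) R →ₐ[R] MvPolynomial (Fin n) R :=
    MvPolynomial.aeval g
  let e : Fin n → ULift.{u} (Fin (n + 1)) := fun i ↦ ULift.up (Fin.castSucc i)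
  have hσ : Function.Surjective σ := by
    intro x
    refine ⟨MvPolynomial.rename e x, ?_⟩
    show MvPolynomial.aeval g (MvPolynomial.rename e x) = x
    rw [MvPolynomial.aeval_rename]
    have : g ∘ e = MvPolynomial.X := by
      funext i
      simp [g, e]
    rw [this, MvPolynomial.aeval_X_left]
    rfl
  exact ⟨n + 1, Nat.succ_pos n, π.comp σ, hπ.comp hσ⟩

/-- The spectrum of an algebra of finite type over the ring of an affine open of `Y` embeds into
an affine space over `Y`. -/
theorem exists_isPreimmersion_affineSpace {Y : Scheme.{u}} {R B : CommRingCat.{u}}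
    (j : Spec R ⟶ Y) [IsOpenImmersion j] (ψ : R ⟶ B) (hψ : ψ.hom.FiniteType) :
    ∃ (n : ℕ) (_ : 0 < n) (i : Spec B ⟶ 𝔸(ULift.{u} (Fin n); Y)),
      IsPreimmersion i ∧ i ≫ (𝔸(ULift.{u} (Fin n); Y) ↘ Y) = Spec.map ψ ≫ j := by
  algebraize [ψ.hom]
  obtain ⟨n, hn, π, hπ⟩ := exists_surjective_mvPolynomial_ulift (R := R) (B := B)
  let π' : CommRingCat.of (MvPolynomial (ULift.{u} (Fin n)) R) ⟶ B :=
    CommRingCat.ofHom π.toRingHom
  have hπ' : IsClosedImmersion (Spec.map π') := IsClosedImmersion.spec_of_surjective π' hπ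
  have hj : IsOpenImmersion (AffineSpace.map (ULift.{u} (Fin n)) j) :=
    MorphismProperty.of_isPullback (AffineSpace.isPullback_map (n := ULift.{u} (Fin n)) j).flip
      inferInstance
  refine ⟨n, hn, Spec.map π' ≫ (AffineSpace.SpecIso (ULift.{u} (Fin n)) R).inv ≫
    AffineSpace.map (ULift.{u} (Fin n)) j, inferInstance, ?_⟩
  rw [Category.assoc, Category.assoc, AffineSpace.map_over, AffineSpace.SpecIso_inv_over_assoc,
    ← Spec.map_comp_assoc]
  congr 2
  ext x
  show π (MvPolynomial.C x) = ψ x
  rw [← MvPolynomial.algebraMap_eq, AlgHom.commutes]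
  rfl

end Groth.Agent.Lib.Helper50
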