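import Groth.Agent.Lib.Helper50.FPColim
import Mathlib.RingTheory.FiniteType
import Mathlib.RingTheory.Adjoin.FG

set_option autoImplicit false
universe u
open CategoryTheory Limits

namespace Groth.Agent.Lib.Helper50

lemma exists_lift_of_preservesColimit {A : CommRingCat.{u}} {J : Type u} [Preorder J]
    (X : Under A) (F : J ⥤ Under A)
    [PreservesColimit F (coyoneda.obj (Opposite.op X))] (c : Cocone F) (hc : IsColimit c)
    (φ : X ⟶ c.pt) : ∃ (j : J) (g : X ⟶ F.obj j), g ≫ c.ι.app j = φ := by
  have := isColimitOfPreserves (coyoneda.obj (Opposite.op X)) hc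
  obtain ⟨j, g, hg⟩ := Types.jointly_surjective_of_isColimit this φ
  exact ⟨j, g, hg⟩

section step1

variable {A B : Type u} [CommRing A] [CommRing B] [Algebra A B]

/-- The directed system of finitely generated subalgebras. -/
abbrev FGSub (A B : Type u) [CommRing A] [CommRing B] [Algebra A B] : Type u :=
  {S : Subalgebra A B // S.FG}

instance : IsDirected (FGSub A B) (· ≤ ·) :=
  ⟨fun S T ↦ ⟨⟨S.1 ⊔ T.1, S.2.sup T.2⟩,
    (le_sup_left : S.1 ≤ S.1 ⊔ T.1), (le_sup_right : T.1 ≤ S.1 ⊔ T.1)⟩⟩

instance : Nonempty (FGSub A B) := ⟨⟨⊥, Subalgebra.fg_bot⟩⟩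

/-- The functor of finitely generated subalgebras. -/
noncomputable def fgSubFunctor (A B : Type u) [CommRing A] [CommRing B] [Algebra A B] :
    FGSub A B ⥤ Under (CommRingCat.of A) where
  obj S := Under.mk (CommRingCat.ofHom (algebraMap A S.1))
  map {S T} g := Under.homMk (CommRingCat.ofHom (Subalgebra.inclusion (leOfHom g)).toRingHom)
    (by ext; rfl)
  map_id S := by ext; rfl
  map_comp g g' := by ext; rfl

/-- The cocone of inclusions. -/
noncomputable def fgSubCocone (A B : Type u) [CommRing A] [CommRing B] [Algebra A B] :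
    Cocone (fgSubFunctor A B) where
  pt := Under.mk (CommRingCat.ofHom (algebraMap A B))
  ι :=
    { app := fun S ↦ Under.homMk (CommRingCat.ofHom S.1.val.toRingHom) (by ext; rfl)
      naturality := fun S T g ↦ by ext; rfl }

noncomputable def fgSubIsColimit (A B : Type u) [CommRing A] [CommRing B] [Algebra A B] :
    IsColimit (fgSubCocone A B) := by
  refine isColimitUnderOfTypes _ _ ?_ ?_
  · intro (x : B)
    have hfg : (Algebra.adjoin A ({x} : Set B)).FG := by
      have := Subalgebra.fg_adjoin_finset (R := A) ({x} : Finset B)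
      rwa [Finset.coe_singleton] at this
    exact ⟨⟨Algebra.adjoin A {x}, hfg⟩, ⟨x, Algebra.subset_adjoin rfl⟩, rfl⟩
  · intro S y y' e
    exact ⟨S, le_rfl, by
      have : y = y' := Subtype.ext e
      rw [this]⟩

end step1

end Groth.Agent.Lib.Helper50
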