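import Mathlib.AlgebraicGeometry.AffineTransitionLimit
import Mathlib.CategoryTheory.Limits.Constructions.Over.Connected
import Mathlib.Algebra.Category.Ring.Colimits

set_option autoImplicit false
universe u
open CategoryTheory AlgebraicGeometry Limits

namespace Groth.Agent.Lib.Helper50

attribute [local instance] IsFiltered.isConnected IsCofiltered.isConnected

section

variable {S : Scheme.{u}} {U : S.Opens} (hU : IsAffineOpen U) {J : Type u} [Preorder J]
  (F : J ⥤ Under Γ(S, U))

/-- The diagram of spectra over `U` attached to a diagram of algebras over `Γ(S, U)`. -/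
noncomputable def specDiagram : Jᵒᵖ ⥤ Over (U : Scheme.{u}) where
  obj j := Over.mk (Spec.map (F.obj j.unop).hom ≫ hU.isoSpec.inv)
  map {i j} g := Over.homMk (Spec.map (F.map g.unop).right) (by
    dsimp
    rw [← Spec.map_comp_assoc, Under.w])
  map_id i := by
    ext1
    simp
  map_comp g g' := by
    ext1
    simp [Spec.map_comp]

/-- The cone over the diagram of spectra attached to a cocone of algebras. -/
noncomputable def specCone (c : Cocone F) : Cone (specDiagram hU F ⋙ Over.map U.ι) where
  pt := Over.mk (Spec.map c.pt.hom ≫ hU.fromSpec)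
  π :=
    { app := fun j ↦ Over.homMk (Spec.map (c.ι.app j.unop).right) (by
        dsimp [specDiagram]
        rw [Category.assoc, ← Spec.map_comp_assoc, Under.w, IsAffineOpen.isoSpec_inv_ι])
      naturality := fun i j g ↦ by
        ext1
        show 𝟙 _ ≫ Spec.map (c.ι.app j.unop).right =
          Spec.map (c.ι.app i.unop).right ≫ Spec.map (F.map g.unop).right
        rw [Category.id_comp, ← Spec.map_comp, ← Under.comp_right, c.w] }

variable [IsDirected J (· ≤ ·)] [Nonempty J]

/-- The cone of spectra attached to a colimit cocone is a limit cone. -/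
noncomputable def isLimitSpecCone (c : Cocone F) (hc : IsColimit c) :
    IsLimit (specCone hU F c) := by
  have h1 : IsColimit ((Under.forget _).mapCocone c) := isColimitOfPreserves (Under.forget _) hc
  have h2 : IsLimit (Scheme.Spec.mapCone ((Under.forget _).mapCocone c).op) :=
    isLimitOfPreserves Scheme.Spec h1.op
  apply isLimitOfReflects (Over.forget S)
  let α : (F ⋙ Under.forget _).op ⋙ Scheme.Spec ≅
      (specDiagram hU F ⋙ Over.map U.ι) ⋙ Over.forget S :=
    NatIso.ofComponents (fun j ↦ Iso.refl _) (fun g ↦ by
      dsimp [specDiagram]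
      simp)
  refine (IsLimit.equivOfNatIsoOfIso α _ _ ?_) h2
  exact Cones.ext (Iso.refl _) (fun j ↦ by
    dsimp [specCone, α]
    exact (Category.comp_id _).trans (Category.id_comp _).symm)

end

end Groth.Agent.Lib.Helper50
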