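import Groth.Agent.Lib.Helper50.LimOC
import Groth.Agent.Lib.Helper50.AffImm
import Groth.Agent.Lib.Helper50.SpecDiag
import Groth.Agent.Lib.Helper50.FPStep1
import Mathlib.AlgebraicGeometry.Morphisms.UniversallyClosed
import Mathlib.AlgebraicGeometry.Morphisms.UniversallyOpen

set_option autoImplicit false
universe u
open CategoryTheory AlgebraicGeometry Limits

namespace Groth.Agent.Lib.Helper50

attribute [local instance] IsFiltered.isConnected IsCofiltered.isConnected

section restrict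

variable {P X Y T Z : Scheme.{u}}

/-- The base change of an open map along a preimmersion is an open map. -/
theorem isOpenMap_snd_of_isPreimmersion {fst : P ⟶ X} {snd : P ⟶ T} {f : X ⟶ Y} {i : T ⟶ Y}
    (h : IsPullback fst snd f i) [IsPreimmersion i] (hf : IsOpenMap f) : IsOpenMap snd := by
  have : IsPreimmersion fst := MorphismProperty.of_isPullback h.flip inferInstance
  intro W hW
  obtain ⟨W', hW', rfl⟩ := fst.isEmbedding.isInducing.isOpen_iff.mp hW
  rw [Scheme.image_preimage_eq_of_isPullback h]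
  exact (hf _ hW').preimage i.continuous

/-- The base change of a closed map along a preimmersion is a closed map. -/
theorem isClosedMap_snd_of_isPreimmersion {fst : P ⟶ X} {snd : P ⟶ T} {f : X ⟶ Y} {i : T ⟶ Y}
    (h : IsPullback fst snd f i) [IsPreimmersion i] (hf : IsClosedMap f) : IsClosedMap snd := by
  have : IsPreimmersion fst := MorphismProperty.of_isPullback h.flip inferInstance
  intro W hW
  obtain ⟨W', hW', rfl⟩ := fst.isEmbedding.isInducing.isClosed_iff.mp hW
  rw [Scheme.image_preimage_eq_of_isPullback h]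
  exact (hf _ hW').preimage i.continuous

set_option backward.isDefEq.respectTransparency false in
lemma isPullback_lift_snd_comp (f : X ⟶ Y) (g : Z ⟶ Y) (i : T ⟶ Z) :
    IsPullback (pullback.lift (pullback.fst f (i ≫ g)) (pullback.snd f (i ≫ g) ≫ i)
      (by rw [pullback.condition, Category.assoc])) (pullback.snd f (i ≫ g))
      (pullback.snd f g) i := by
  refine IsPullback.of_right (h₁₂ := pullback.fst f g) (h₂₂ := g) (v₁₃ := f) ?_
    (pullback.lift_snd _ _ _) (IsPullback.of_hasPullback _ _)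
  rw [pullback.lift_fst]
  exact IsPullback.of_hasPullback _ _

theorem isOpenMap_snd_comp_of_isPreimmersion (f : X ⟶ Y) (g : Z ⟶ Y) (i : T ⟶ Z)
    [IsPreimmersion i] (H : IsOpenMap (pullback.snd f g)) :
    IsOpenMap (pullback.snd f (i ≫ g)) :=
  isOpenMap_snd_of_isPreimmersion (isPullback_lift_snd_comp f g i) H

theorem isClosedMap_snd_comp_of_isPreimmersion (f : X ⟶ Y) (g : Z ⟶ Y) (i : T ⟶ Z)
    [IsPreimmersion i] (H : IsClosedMap (pullback.snd f g)) :
    IsClosedMap (pullback.snd f (i ≫ g)) :=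
  isClosedMap_snd_of_isPreimmersion (isPullback_lift_snd_comp f g i) H

end restrict

section key

variable {X Y : Scheme.{u}} (f : X ⟶ Y) {U : Y.Opens} (hU : IsAffineOpen U)

lemma finiteType_algebraMap_fgSub (A B : Type u) [CommRing A] [CommRing B] [Algebra A B]
    (S : FGSub A B) : (algebraMap A S.1).FiniteType := by
  rw [RingHom.finiteType_algebraMap]
  exact (Subalgebra.fg_iff_finiteType S.1).mp S.2

include hU in
theorem isOpenMap_snd_Spec_of_affineSpace
    (H : ∀ n : ℕ, 0 < n → IsOpenMap (pullback.snd f (𝔸(ULift.{u} (Fin n); Y) ↘ Y)))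
    (B : Type u) [CommRing B] [Algebra Γ(Y, U) B] :
    IsOpenMap (pullback.snd f
      (Spec.map (CommRingCat.ofHom (algebraMap Γ(Y, U) B)) ≫ hU.fromSpec)) := by
  let F : FGSub Γ(Y, U) B ⥤ Under Γ(Y, U) := fgSubFunctor Γ(Y, U) B
  let c : Cocone F := fgSubCocone Γ(Y, U) B
  have hc : IsColimit c := fgSubIsColimit Γ(Y, U) B
  have hlim : IsLimit (specCone hU F c) := isLimitSpecCone hU F c hc
  let D : (FGSub Γ(Y, U) B)ᵒᵖ ⥤ Scheme.{u} :=
    (specDiagram hU F ⋙ Over.map U.ι) ⋙ Over.forget Y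
  have hDaff : ∀ (i j : (FGSub Γ(Y, U) B)ᵒᵖ) (g : i ⟶ j), IsAffineHom (D.map g) :=
    fun i j g ↦ by
      dsimp [D, specDiagram]; infer_instance
  let cD : Cone D := (Over.forget Y).mapCone (specCone hU F c)
  have hcD : IsLimit cD := isLimitOfPreserves (Over.forget Y) hlim
  let β : ∀ j, D.obj j ⟶ Y := fun j ↦ ((specDiagram hU F ⋙ Over.map U.ι).obj j).hom
  have hβ : ∀ {j k : (FGSub Γ(Y, U) B)ᵒᵖ} (φ : j ⟶ k), D.map φ ≫ β k = β j :=
    fun φ ↦ Over.w ((specDiagram hU F ⋙ Over.map U.ι).map φ)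
  let b : cD.pt ⟶ Y := (specCone hU F c).pt.hom
  have hb : ∀ j, cD.π.app j ≫ β j = b := fun j ↦ Over.w ((specCone hU F c).π.app j)
  refine isOpenMap_of_forall_isOpenMap_snd D cD hcD β hβ f b hb (pullback.fst f b)
    (pullback.snd f b) (IsPullback.of_hasPullback f b) ?_
  intro j
  let ψ : Γ(Y, U) ⟶ CommRingCat.of j.unop.1 :=
    CommRingCat.ofHom (algebraMap Γ(Y, U) j.unop.1)
  have hψ : ψ.hom.FiniteType := finiteType_algebraMap_fgSub Γ(Y, U) B j.unop
  obtain ⟨n, hn, i, hi, hiβ⟩ := exists_isPreimmersion_affineSpace hU.fromSpec ψ hψ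
  have e : β j = i ≫ (𝔸(ULift.{u} (Fin n); Y) ↘ Y) := by
    rw [hiβ]
    dsimp [β, specDiagram]
    rw [Category.assoc, IsAffineOpen.isoSpec_inv_ι]
    rfl
  rw [e]
  exact isOpenMap_snd_comp_of_isPreimmersion f _ i (H n hn)

include hU in
theorem isClosedMap_snd_Spec_of_affineSpace
    [QuasiCompact f]
    (H : ∀ n : ℕ, 0 < n → IsClosedMap (pullback.snd f (𝔸(ULift.{u} (Fin n); Y) ↘ Y)))
    (B : Type u) [CommRing B] [Algebra Γ(Y, U) B] :
    IsClosedMap (pullback.snd f
      (Spec.map (CommRingCat.ofHom (algebraMap Γ(Y, U) B)) ≫ hU.fromSpec)) := by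
  let F : FGSub Γ(Y, U) B ⥤ Under Γ(Y, U) := fgSubFunctor Γ(Y, U) B
  let c : Cocone F := fgSubCocone Γ(Y, U) B
  have hc : IsColimit c := fgSubIsColimit Γ(Y, U) B
  have hlim : IsLimit (specCone hU F c) := isLimitSpecCone hU F c hc
  let D : (FGSub Γ(Y, U) B)ᵒᵖ ⥤ Scheme.{u} :=
    (specDiagram hU F ⋙ Over.map U.ι) ⋙ Over.forget Y
  have hDaff : ∀ (i j : (FGSub Γ(Y, U) B)ᵒᵖ) (g : i ⟶ j), IsAffineHom (D.map g) :=
    fun i j g ↦ by
      dsimp [D, specDiagram]; infer_instance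
  let cD : Cone D := (Over.forget Y).mapCone (specCone hU F c)
  have hcD : IsLimit cD := isLimitOfPreserves (Over.forget Y) hlim
  let β : ∀ j, D.obj j ⟶ Y := fun j ↦ ((specDiagram hU F ⋙ Over.map U.ι).obj j).hom
  have hβ : ∀ {j k : (FGSub Γ(Y, U) B)ᵒᵖ} (φ : j ⟶ k), D.map φ ≫ β k = β j :=
    fun φ ↦ Over.w ((specDiagram hU F ⋙ Over.map U.ι).map φ)
  let b : cD.pt ⟶ Y := (specCone hU F c).pt.hom
  have hb : ∀ j, cD.π.app j ≫ β j = b := fun j ↦ Over.w ((specCone hU F c).π.app j)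
  refine isClosedMap_of_forall_isClosedMap_snd D cD hcD β hβ f b hb (pullback.fst f b)
    (pullback.snd f b) (IsPullback.of_hasPullback f b) ?_
  intro j
  let ψ : Γ(Y, U) ⟶ CommRingCat.of j.unop.1 :=
    CommRingCat.ofHom (algebraMap Γ(Y, U) j.unop.1)
  have hψ : ψ.hom.FiniteType := finiteType_algebraMap_fgSub Γ(Y, U) B j.unop
  obtain ⟨n, hn, i, hi, hiβ⟩ := exists_isPreimmersion_affineSpace hU.fromSpec ψ hψ
  have e : β j = i ≫ (𝔸(ULift.{u} (Fin n); Y) ↘ Y) := by
    rw [hiβ]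
    dsimp [β, specDiagram]
    rw [Category.assoc, IsAffineOpen.isoSpec_inv_ι]
    rfl
  rw [e]
  exact isClosedMap_snd_comp_of_isPreimmersion f _ i (H n hn)

end key

section main

variable {X Y : Scheme.{u}} (f : X ⟶ Y)

lemma exists_affine_nbhds {T : Scheme.{u}} (g : T ⟶ Y) (t : T) :
    ∃ (U : Y.Opens) (V : T.Opens), IsAffineOpen U ∧ IsAffineOpen V ∧ t ∈ V ∧ V ≤ g ⁻¹ᵁ U := by
  obtain ⟨_, ⟨U, hU, rfl⟩, hgt, -⟩ := Y.isBasis_affineOpens.exists_subset_of_mem_open
    (Set.mem_univ (g t)) isOpen_univ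
  obtain ⟨_, ⟨V, hV, rfl⟩, htV, hVU⟩ := T.isBasis_affineOpens.exists_subset_of_mem_open
    (show t ∈ ((g ⁻¹ᵁ U : T.Opens) : Set T) from hgt) (g ⁻¹ᵁ U).isOpen
  exact ⟨U, V, hU, hV, htV, hVU⟩

theorem isOpenMap_snd_of_affineSpace
    (H : ∀ n : ℕ, 0 < n → IsOpenMap (pullback.snd f (𝔸(ULift.{u} (Fin n); Y) ↘ Y)))
    {T : Scheme.{u}} (g : T ⟶ Y) : IsOpenMap (pullback.snd f g) := by
  choose U V hU hV htV hVU using exists_affine_nbhds g
  have hcover : TopologicalSpace.IsOpenCover V := by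
    refine TopologicalSpace.IsOpenCover.mk (top_le_iff.mp fun t _ ↦ ?_)
    exact TopologicalSpace.Opens.mem_iSup.mpr ⟨t, htV t⟩
  change topologically @IsOpenMap (pullback.snd f g)
  apply IsZariskiLocalAtTarget.of_openCover (P := topologically @IsOpenMap)
    (T.openCoverOfIsOpenCover V hcover)
  intro (t : T)
  show topologically @IsOpenMap (pullback.snd (pullback.snd f g) (V t).ι)
  rw [← pullbackLeftPullbackSndIso_hom_snd,
    MorphismProperty.cancel_left_of_respectsIso (topologically @IsOpenMap)]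
  have e : (V t).ι ≫ g = (hV t).isoSpec.hom ≫
      Spec.map (g.appLE (U t) (V t) (hVU t)) ≫ (hU t).fromSpec := by
    rw [IsAffineOpen.SpecMap_appLE_fromSpec g (hU t) (hV t) (hVU t),
      ← IsAffineOpen.isoSpec_inv_ι (hV t), Category.assoc, Iso.hom_inv_id_assoc]
  show IsOpenMap (pullback.snd f ((V t).ι ≫ g))
  rw [e]
  algebraize [(g.appLE (U t) (V t) (hVU t)).hom]
  exact isOpenMap_snd_comp_of_isPreimmersion f _ _
    (isOpenMap_snd_Spec_of_affineSpace f (hU t) H Γ(T, V t))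

theorem isClosedMap_snd_of_affineSpace
    [QuasiCompact f]
    (H : ∀ n : ℕ, 0 < n → IsClosedMap (pullback.snd f (𝔸(ULift.{u} (Fin n); Y) ↘ Y)))
    {T : Scheme.{u}} (g : T ⟶ Y) : IsClosedMap (pullback.snd f g) := by
  choose U V hU hV htV hVU using exists_affine_nbhds g
  have hcover : TopologicalSpace.IsOpenCover V := by
    refine TopologicalSpace.IsOpenCover.mk (top_le_iff.mp fun t _ ↦ ?_)
    exact TopologicalSpace.Opens.mem_iSup.mpr ⟨t, htV t⟩
  change topologically @IsClosedMap (pullback.snd f g)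
  apply IsZariskiLocalAtTarget.of_openCover (P := topologically @IsClosedMap)
    (T.openCoverOfIsOpenCover V hcover)
  intro (t : T)
  show topologically @IsClosedMap (pullback.snd (pullback.snd f g) (V t).ι)
  rw [← pullbackLeftPullbackSndIso_hom_snd,
    MorphismProperty.cancel_left_of_respectsIso (topologically @IsClosedMap)]
  have e : (V t).ι ≫ g = (hV t).isoSpec.hom ≫
      Spec.map (g.appLE (U t) (V t) (hVU t)) ≫ (hU t).fromSpec := by
    rw [IsAffineOpen.SpecMap_appLE_fromSpec g (hU t) (hV t) (hVU t),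
      ← IsAffineOpen.isoSpec_inv_ι (hV t), Category.assoc, Iso.hom_inv_id_assoc]
  show IsClosedMap (pullback.snd f ((V t).ι ≫ g))
  rw [e]
  algebraize [(g.appLE (U t) (V t) (hVU t)).hom]
  exact isClosedMap_snd_comp_of_isPreimmersion f _ _
    (isClosedMap_snd_Spec_of_affineSpace f (hU t) H Γ(T, V t))

theorem universallyOpen_of_affineSpace
    (H : ∀ n : ℕ, 0 < n → IsOpenMap (pullback.snd f (𝔸(ULift.{u} (Fin n); Y) ↘ Y))) :
    UniversallyOpen f := by
  refine ⟨fun X' Y' i₁ i₂ f' hsq ↦ ?_⟩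
  have hsq' : IsPullback i₁ f' f i₂ := hsq.flip
  rw [← hsq'.isoPullback_hom_snd,
    MorphismProperty.cancel_left_of_respectsIso (topologically @IsOpenMap)]
  exact isOpenMap_snd_of_affineSpace f H i₂

theorem universallyClosed_of_affineSpace [QuasiCompact f]
    (H : ∀ n : ℕ, 0 < n → IsClosedMap (pullback.snd f (𝔸(ULift.{u} (Fin n); Y) ↘ Y))) :
    UniversallyClosed f := by
  refine ⟨fun X' Y' i₁ i₂ f' hsq ↦ ?_⟩
  have hsq' : IsPullback i₁ f' f i₂ := hsq.flip
  rw [← hsq'.isoPullback_hom_snd,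
    MorphismProperty.cancel_left_of_respectsIso (topologically @IsClosedMap)]
  exact isClosedMap_snd_of_affineSpace f H i₂

end main

end Groth.Agent.Lib.Helper50
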