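import Groth.Agent.Lib.Helper50.Descent7

/-!
# Existence of descent to a stage for morphisms of finite presentation
-/

set_option autoImplicit false
universe u
open CategoryTheory AlgebraicGeometry Limits TopologicalSpace

namespace Groth.Agent.Lib.Helper50.Descent

variable {I : Type u} [SmallCategory I] [IsCofiltered I]
    (D : I ⥤ Scheme.{u}) (c : Limits.Cone D) (hc : Limits.IsLimit c)
    [∀ (i j : I) (f : i ⟶ j), IsAffineHom (D.map f)]

include hc in
theorem descends_affineOpen [∀ i, QuasiSeparatedSpace (D.obj i)] {X : Scheme.{u}} (f : X ⟶ c.pt)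
    [LocallyOfFinitePresentation f] (U : X.Opens) (hU : IsAffineOpen U) (V' : c.pt.Opens)
    (hV' : IsAffineOpen V') (h : U ≤ f ⁻¹ᵁ V') : Descends D c (U.ι ≫ f) := by
  have e : U.ι ≫ f = hU.isoSpec.hom ≫ (Spec.map (f.appLE V' U h) ≫ hV'.fromSpec) := by
    rw [IsAffineOpen.SpecMap_appLE_fromSpec f hV' hU h, hU.isoSpec_hom_fromSpec_assoc]
  rw [e]
  exact (descends_of_affine D c hc _
    (HasRingHomProperty.appLE @LocallyOfFinitePresentation f inferInstance ⟨V', hV'⟩ ⟨U, hU⟩ h)
    hV'.fromSpec).of_iso hU.isoSpec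

include hc in
theorem descends_sup [∀ i, QuasiSeparatedSpace (D.obj i)] {X : Scheme.{u}} (f : X ⟶ c.pt)
    [QuasiSeparatedSpace X] (U V : X.Opens) (hU : IsCompact (U : Set X)) (hV : IsCompact (V : Set X))
    (h1 : Descends D c (U.ι ≫ f)) (h2 : Descends D c (V.ι ≫ f)) :
    Descends D c ((U ⊔ V).ι ≫ f) := by
  have i1 : CompactSpace ↥U.toScheme := isCompact_iff_compactSpace.mp hU
  have i2 : CompactSpace ↥V.toScheme := isCompact_iff_compactSpace.mp hV
  have i3 : QuasiSeparatedSpace ↥(U ⊔ V).toScheme :=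
    QuasiSeparatedSpace.of_isOpenEmbedding (U ⊔ V).ι.isOpenEmbedding
  refine Descends.of_cover hc ((U ⊔ V).ι ≫ f) (X.homOfLE le_sup_left) (X.homOfLE le_sup_right)
    ?_ ?_ ?_
  · rintro ⟨x, hx⟩
    rcases hx with hx | hx
    · left; exact ⟨⟨x, hx⟩, Subtype.ext (by rw [Scheme.homOfLE_apply])⟩
    · right; exact ⟨⟨x, hx⟩, Subtype.ext (by rw [Scheme.homOfLE_apply])⟩
  · rw [Scheme.homOfLE_ι_assoc]; exact h1
  · rw [Scheme.homOfLE_ι_assoc]; exact h2

include hc in
/-- **Existence of descent** (EGA IV 8.8.2 (ii), Stacks 01ZM): a morphism of finite presentation to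
the limit of a cofiltered system of quasi-separated schemes with affine transition maps is the base
change of a morphism of finite presentation to a stage. -/
theorem descends_of_finitePresentation [∀ i, QuasiSeparatedSpace (D.obj i)] {X : Scheme.{u}}
    (f : X ⟶ c.pt) [LocallyOfFinitePresentation f] [CompactSpace X] [QuasiSeparatedSpace X] :
    Descends D c f := by
  classical
  have key : ∀ x : X, ∃ (U : X.Opens) (V' : c.pt.Opens), IsAffineOpen U ∧ IsAffineOpen V' ∧
      x ∈ U ∧ U ≤ f ⁻¹ᵁ V' := by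
    intro x
    obtain ⟨_, ⟨V', hV' : IsAffineOpen V', rfl⟩, hxV, -⟩ :=
      c.pt.isBasis_affineOpens.exists_subset_of_mem_open (Set.mem_univ (f x)) isOpen_univ
    obtain ⟨_, ⟨U, hU : IsAffineOpen U, rfl⟩, hxU, hUV⟩ :=
      X.isBasis_affineOpens.exists_subset_of_mem_open
        (show x ∈ (f ⁻¹ᵁ V' : Set X) from hxV) (f ⁻¹ᵁ V').isOpen
    exact ⟨U, V', hU, hV', hxU, hUV⟩
  choose U V' hU hV' hxU hUV using key
  obtain ⟨t, ht⟩ := isCompact_univ.elim_finite_subcover (fun x => (U x : Set X))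
    (fun x => (U x).isOpen) (fun x _ => Set.mem_iUnion.mpr ⟨x, hxU x⟩)
  have step : ∀ s : Finset X, IsCompact ((⨆ x ∈ s, U x : X.Opens) : Set X) ∧
      Descends D c ((⨆ x ∈ s, U x : X.Opens).ι ≫ f) := by
    intro s
    induction s using Finset.induction_on with
    | empty =>
      have e : (⨆ x ∈ (∅ : Finset X), U x : X.Opens) = ⊥ := by simp
      rw [e]
      exact ⟨by simp, descends_affineOpen D c hc f ⊥ (isAffineOpen_bot X) ⊥ (isAffineOpen_bot _)
        bot_le⟩
    | insert x s hx ih =>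
      rw [Finset.iSup_insert]
      exact ⟨by simpa using (hU x).isCompact.union ih.1,
        descends_sup D c hc f _ _ (hU x).isCompact ih.1
          (descends_affineOpen D c hc f (U x) (hU x) (V' x) (hV' x) (hUV x)) ih.2⟩
  have htop : (⨆ x ∈ t, U x : X.Opens) = ⊤ := by
    rw [eq_top_iff]
    intro x _
    obtain ⟨y, hy⟩ := Set.mem_iUnion.mp (ht (Set.mem_univ x))
    obtain ⟨hyt, hxy⟩ := Set.mem_iUnion.mp hy
    simp only [Opens.iSup_mk, Opens.carrier_eq_coe, Opens.mem_mk, Set.mem_iUnion]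
    exact ⟨y, hyt, hxy⟩
  have h := (step t).2
  rw [htop] at h
  have := h.of_iso X.topIso.symm
  simpa using this

end Groth.Agent.Lib.Helper50.Descent
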