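import Mathlib.AlgebraicGeometry.AffineTransitionLimit
import Mathlib.CategoryTheory.Limits.Shapes.Pullback.Connected

set_option autoImplicit false
universe u
open CategoryTheory AlgebraicGeometry Limits

namespace Groth.Agent.Lib.Helper50

section

variable {I : Type u} [SmallCategory I] (D : I ⥤ Scheme.{u}) {B : Scheme.{u}}
  (β : ∀ j, D.obj j ⟶ B) (hβ : ∀ {j k : I} (φ : j ⟶ k), D.map φ ≫ β k = β j)
  {T : Scheme.{u}} (a : T ⟶ B)

set_option backward.isDefEq.respectTransparency false in
/-- The base change `j ↦ T ×_B D_j` of a diagram over `B`. -/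
noncomputable def bcDiagram : I ⥤ Scheme.{u} where
  obj j := pullback a (β j)
  map {j k} φ := pullback.map a (β j) a (β k) (𝟙 T) (D.map φ) (𝟙 B) (by simp)
    (by rw [Category.comp_id, hβ])
  map_id j := by
    apply pullback.hom_ext <;> simp [pullback.map]
  map_comp φ ψ := by
    apply pullback.hom_ext <;> simp [pullback.map]

@[simp] lemma bcDiagram_obj (j : I) : (bcDiagram D β hβ a).obj j = pullback a (β j) := rfl

set_option backward.isDefEq.respectTransparency false in
@[reassoc (attr := simp)]
lemma bcDiagram_map_fst {j k : I} (φ : j ⟶ k) :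
    (bcDiagram D β hβ a).map φ ≫ pullback.fst a (β k) = pullback.fst a (β j) := by
  simp [bcDiagram, pullback.map]

set_option backward.isDefEq.respectTransparency false in
@[reassoc (attr := simp)]
lemma bcDiagram_map_snd {j k : I} (φ : j ⟶ k) :
    (bcDiagram D β hβ a).map φ ≫ pullback.snd a (β k) = pullback.snd a (β j) ≫ D.map φ := by
  simp [bcDiagram, pullback.map]

/-- The projection of the base-changed diagram to the original one. -/
noncomputable def bcDiagramSnd : bcDiagram D β hβ a ⟶ D where
  app j := pullback.snd a (β j)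
  naturality _ _ φ := bcDiagram_map_snd D β hβ a φ

@[simp] lemma bcDiagramSnd_app (j : I) :
    (bcDiagramSnd D β hβ a).app j = pullback.snd a (β j) := rfl

set_option backward.isDefEq.respectTransparency false in
lemma isPullback_bcDiagram_map {j k : I} (φ : j ⟶ k) :
    IsPullback ((bcDiagram D β hβ a).map φ) (pullback.snd a (β j)) (pullback.snd a (β k))
      (D.map φ) := by
  refine IsPullback.of_right (h₁₂ := pullback.fst a (β k)) (h₂₂ := β k) (v₁₃ := a) ?_
    (bcDiagram_map_snd D β hβ a φ) (IsPullback.of_hasPullback _ _)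
  rw [bcDiagram_map_fst, hβ]
  exact IsPullback.of_hasPullback _ _

instance [∀ (i j : I) (f : i ⟶ j), IsAffineHom (D.map f)] (i j : I) (f : i ⟶ j) :
    IsAffineHom ((bcDiagram D β hβ a).map f) :=
  MorphismProperty.of_isPullback (isPullback_bcDiagram_map D β hβ a f).flip inferInstance

variable (c : Cone D) (b : c.pt ⟶ B) (hb : ∀ j, c.π.app j ≫ β j = b)
  {P : Scheme.{u}} (p : P ⟶ T) (q : P ⟶ c.pt) (hpq : p ≫ a = q ≫ b)

/-- The legs of the base-changed cone. -/
noncomputable def bcConeπ (j : I) : P ⟶ pullback a (β j) :=
  pullback.lift p (q ≫ c.π.app j) (by rw [hpq, Category.assoc, hb])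

set_option backward.isDefEq.respectTransparency false in
@[reassoc (attr := simp)]
lemma bcConeπ_fst (j : I) :
    bcConeπ D β a c b hb p q hpq j ≫ pullback.fst a (β j) = p := by
  simp [bcConeπ]

set_option backward.isDefEq.respectTransparency false in
@[reassoc (attr := simp)]
lemma bcConeπ_snd (j : I) :
    bcConeπ D β a c b hb p q hpq j ≫ pullback.snd a (β j) = q ≫ c.π.app j := by
  simp [bcConeπ]

set_option backward.isDefEq.respectTransparency false in
/-- The cone over the base-changed diagram with apex a base change of the apex. -/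
noncomputable def bcCone : Cone (bcDiagram D β hβ a) where
  pt := P
  π :=
    { app := fun j ↦ bcConeπ D β a c b hb p q hpq j
      naturality := fun j k φ ↦ by
        apply pullback.hom_ext
        · simp
        · simp }

@[simp] lemma bcCone_pt : (bcCone D β hβ a c b hb p q hpq).pt = P := rfl

lemma bcCone_π_app (j : I) :
    (bcCone D β hβ a c b hb p q hpq).π.app j = bcConeπ D β a c b hb p q hpq j := rfl

lemma isPullback_bcConeπ (h : IsPullback p q a b) (j : I) :
    IsPullback (bcConeπ D β a c b hb p q h.w j) q (pullback.snd a (β j)) (c.π.app j) := by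
  refine IsPullback.of_right (h₁₂ := pullback.fst a (β j)) (h₂₂ := β j) (v₁₃ := a) ?_
    (bcConeπ_snd D β a c b hb p q _ j) (IsPullback.of_hasPullback _ _)
  rw [bcConeπ_fst, hb]
  exact h

/-- The base change of a limit cone (over a connected index category) is a limit cone. -/
noncomputable def isLimitBcCone [IsConnected I] (hc : IsLimit c) (h : IsPullback p q a b) :
    IsLimit (bcCone D β hβ a c b hb p q h.w) :=
  isLimitOfIsPullbackOfIsConnected (bcDiagramSnd D β hβ a) _ c
    { hom := q
      w := fun j ↦ (bcConeπ_snd D β a c b hb p q h.w j).symm }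
    (fun j ↦ isPullback_bcConeπ D β a c b hb p q h j) hc

end

end Groth.Agent.Lib.Helper50
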