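import Mathlib.AlgebraicGeometry.AffineTransitionLimit
import Mathlib.AlgebraicGeometry.ResidueField

set_option autoImplicit false
universe u
open CategoryTheory AlgebraicGeometry Limits

namespace Groth.Agent.Lib.Helper50

variable {I : Type u} [SmallCategory I] [IsCofiltered I]
    (D : I ⥤ Scheme.{u}) (c : Limits.Cone D) (hc : Limits.IsLimit c)
    [∀ (i j : I) (f : i ⟶ j), IsAffineHom (D.map f)]

include hc in
/-- A compatible family of points of the stages comes from a point of the limit. -/
lemma exists_π_app_eq_of_compatible (x : ∀ i, D.obj i)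
    (hx : ∀ {i j : I} (φ : i ⟶ j), D.map φ (x i) = x j) :
    ∃ s : c.pt, ∀ i, c.π.app i s = x i := by
  have key : ∀ {i j : I} (φ : i ⟶ j),
      Spec.map (((D.obj j).residueFieldCongr (hx φ).symm).hom ≫
        (D.map φ).residueFieldMap (x i)) ≫ (D.obj j).fromSpecResidueField (x j) =
      (D.obj i).fromSpecResidueField (x i) ≫ D.map φ := by
    intro i j φ
    rw [Spec.map_comp, Category.assoc, Scheme.residueFieldCongr_fromSpecResidueField,
      Scheme.Hom.SpecMap_residueFieldMap_fromSpecResidueField]
  let G : I ⥤ Scheme.{u} :=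
    { obj := fun i ↦ Spec ((D.obj i).residueField (x i))
      map := fun {i j} φ ↦ Spec.map (((D.obj j).residueFieldCongr (hx φ).symm).hom ≫
        (D.map φ).residueFieldMap (x i))
      map_id := fun i ↦ by
        rw [← cancel_mono ((D.obj i).fromSpecResidueField (x i)), key, D.map_id,
          Category.comp_id, Category.id_comp]
      map_comp := fun {i j k} φ ψ ↦ by
        rw [← cancel_mono ((D.obj k).fromSpecResidueField (x k)), key, Category.assoc, key,
          ← Category.assoc, key, Category.assoc, D.map_comp] }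
  let γ : G ⟶ D :=
    { app := fun i ↦ (D.obj i).fromSpecResidueField (x i)
      naturality := fun i j φ ↦ key φ }
  have hGaff : ∀ i, IsAffine (G.obj i) := fun i ↦
    inferInstanceAs (IsAffine (Spec ((D.obj i).residueField (x i))))
  have hGhom : ∀ {i j : I} (f : i ⟶ j), IsAffineHom (G.map f) := fun f ↦ inferInstance
  have hGne : ∀ i, Nonempty (G.obj i) := fun i ↦
    inferInstanceAs (Nonempty (Spec ((D.obj i).residueField (x i))))
  have hGc : ∀ i, CompactSpace (G.obj i) := fun i ↦ inferInstance
  let e : G ⟶ (G ⋙ Scheme.Γ.rightOp) ⋙ Scheme.Spec := Functor.whiskerLeft G ΓSpec.adjunction.unit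
  have (i : _) : IsIso (e.app i) := IsAffine.affine
  have : IsIso e := NatIso.isIso_of_isIso_app e
  let cG : LimitCone G := ⟨_, (IsLimit.postcomposeInvEquiv (asIso e) _).symm
    (isLimitOfPreserves Scheme.Spec (limit.isLimit (G ⋙ Scheme.Γ.rightOp)))⟩
  obtain ⟨t⟩ : Nonempty cG.1.pt := Scheme.nonempty_of_isLimit G cG.1 cG.2
  let l := hc.lift ((Cone.postcompose γ).obj cG.1)
  refine ⟨l t, fun i ↦ ?_⟩
  have h1 : l ≫ c.π.app i = cG.1.π.app i ≫ γ.app i := hc.fac ((Cone.postcompose γ).obj cG.1) i
  rw [← Scheme.Hom.comp_apply, h1, Scheme.Hom.comp_apply]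
  exact Scheme.fromSpecResidueField_apply _ _

include hc in
/-- The topology of the limit is induced from the product of the stages. -/
lemma isInducing_pi_π_app : Topology.IsInducing (fun (s : c.pt) (i : I) ↦ c.π.app i s) := by
  rw [Topology.isInducing_iff_nhds]
  intro x
  apply le_antisymm
  · rw [← Filter.map_le_iff_le_comap]
    exact (continuous_pi fun i ↦ (c.π.app i).continuous).continuousAt
  · intro W hW
    obtain ⟨W', hW'W, hW'o, hxW'⟩ := mem_nhds_iff.mp hW
    obtain ⟨_, ⟨_, ⟨i, V, hV, rfl⟩, rfl⟩, hxV, hVW⟩ :=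
      (isBasis_preimage_isAffineOpen D c hc).exists_subset_of_mem_open hxW' hW'o
    refine Filter.mem_comap.mpr ⟨(fun u : (∀ i, D.obj i) ↦ u i) ⁻¹' (V : Set (D.obj i)), ?_, ?_⟩
    · exact ((continuous_apply i).isOpen_preimage _ V.2).mem_nhds hxV
    · exact fun y hy ↦ hW'W (hVW hy)

end Groth.Agent.Lib.Helper50
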