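import Mathlib.AlgebraicGeometry.AffineTransitionLimit
import Mathlib.Algebra.Category.Ring.FilteredColimits
import Mathlib.RingTheory.FiniteType
import Groth.Agent.Lib.Helper50.LimBC
import Groth.Agent.Lib.Helper50.LimTop
import Groth.Agent.Lib.Helper50.FPStep1

set_option autoImplicit false
universe u
open CategoryTheory CategoryTheory.Limits AlgebraicGeometry Opposite

namespace Groth.Agent.Lib.Helper50

section FG

variable (R₀ B : Type u) [CommRing R₀] [CommRing B] [Algebra R₀ B]

/-- The diagram of finitely generated subalgebras. -/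
def fgDiagram : FGSub R₀ B ⥤ CommRingCat.{u} where
  obj S := CommRingCat.of S.1
  map {S T} h := CommRingCat.ofHom (Subalgebra.inclusion (leOfHom h)).toRingHom
  map_id S := rfl
  map_comp f g := rfl

/-- The cocone of inclusions of the finitely generated subalgebras. -/
def fgCocone : Cocone (fgDiagram R₀ B) where
  pt := CommRingCat.of B
  ι :=
    { app := fun S => CommRingCat.ofHom S.1.val.toRingHom
      naturality := fun S T h => rfl }

/-- A ring is the filtered colimit of its finitely generated subalgebras. -/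
noncomputable def isColimitFgCocone : IsColimit (fgCocone R₀ B) := by
  have h2 : ReflectsColimitsOfShape (FGSub R₀ B) (forget CommRingCat.{u}) :=
    reflectsColimitsOfShape_of_reflectsIsomorphisms
  apply isColimitOfReflects (forget CommRingCat)
  apply Types.FilteredColimit.isColimitOf'
  · intro x
    change B at x
    have hfg : (Algebra.adjoin R₀ ({x} : Set B)).FG := by
      have := Subalgebra.fg_adjoin_finset (R := R₀) ({x} : Finset B)
      simpa using this
    exact ⟨⟨Algebra.adjoin R₀ {x}, hfg⟩, ⟨x, Algebra.subset_adjoin rfl⟩, rfl⟩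
  · intro j y y' e
    refine ⟨j, 𝟙 j, ?_⟩
    change j.1 at y y'
    have : (y : B) = y' := e
    have h3 : y = y' := Subtype.ext this
    rw [h3]

/-- `Spec` of the diagram of finitely generated subalgebras. -/
noncomputable def fgSpecDiagram : (FGSub R₀ B)ᵒᵖ ⥤ Scheme.{u} :=
  (fgDiagram R₀ B).op ⋙ Scheme.Spec

/-- The cone `Spec B ⟶ Spec S`. -/
noncomputable def fgSpecCone : Cone (fgSpecDiagram R₀ B) :=
  Scheme.Spec.mapCone (fgCocone R₀ B).op

/-- `Spec B` is the limit of the `Spec S`, `S` a finitely generated subalgebra. -/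
noncomputable def isLimitFgSpecCone : IsLimit (fgSpecCone R₀ B) :=
  isLimitOfPreserves Scheme.Spec (isColimitFgCocone R₀ B).op

instance (i : (FGSub R₀ B)ᵒᵖ) : IsAffine ((fgSpecDiagram R₀ B).obj i) :=
  inferInstanceAs (IsAffine (Spec _))

instance (i j : (FGSub R₀ B)ᵒᵖ) (φ : i ⟶ j) : IsAffineHom ((fgSpecDiagram R₀ B).map φ) :=
  inferInstance

lemma fgSpecCone_pt : (fgSpecCone R₀ B).pt = Spec (CommRingCat.of B) := rfl

lemma fgSpecCone_π_app (S : FGSub R₀ B) :
    (fgSpecCone R₀ B).π.app (op S) = Spec.map (CommRingCat.ofHom S.1.val.toRingHom) := rfl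

lemma fgSpecDiagram_obj (S : FGSub R₀ B) :
    (fgSpecDiagram R₀ B).obj (op S) = Spec (CommRingCat.of S.1) := rfl

end FG

/-- If every base change of `f` along a morphism locally of finite type reflects
specializations, then so does every base change. -/
theorem specializes_of_forall_locallyOfFiniteType {X Y : Scheme.{u}} (f : Y ⟶ X)
    (h : ∀ (X' : Scheme.{u}) (g : X' ⟶ X) [LocallyOfFiniteType g] (y₀ y₁ : ↥(pullback f g)),
      (pullback.snd f g).base y₁ ⤳ (pullback.snd f g).base y₀ → y₁ ⤳ y₀)
    (X' : Scheme.{u}) (g : X' ⟶ X) (y₀ y₁ : ↥(pullback f g))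
    (hs : (pullback.snd f g).base y₁ ⤳ (pullback.snd f g).base y₀) : y₁ ⤳ y₀ := by
  obtain ⟨U, hU, hxU, -⟩ := exists_isAffineOpen_mem_and_subset
    (x := g.base ((pullback.snd f g).base y₀)) (U := ⊤) trivial
  obtain ⟨U', hU', hxU', hU'U⟩ := exists_isAffineOpen_mem_and_subset
    (x := (pullback.snd f g).base y₀) (U := g ⁻¹ᵁ U) hxU
  have e : U' ≤ g ⁻¹ᵁ U := hU'U
  letI : Algebra Γ(X, U) Γ(X', U') := (g.appLE U U' e).hom.toAlgebra
  let D := fgSpecDiagram Γ(X, U) Γ(X', U')
  let c := fgSpecCone Γ(X, U) Γ(X', U')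
  have hc := isLimitFgSpecCone Γ(X, U) Γ(X', U')
  let β : ∀ j, D.obj j ⟶ X := fun j =>
    Spec.map (CommRingCat.ofHom (algebraMap Γ(X, U) j.unop.1)) ≫ hU.fromSpec
  have hβ : ∀ {j k : (FGSub Γ(X, U) Γ(X', U'))ᵒᵖ} (φ : j ⟶ k), D.map φ ≫ β k = β j := by
    intro j k φ
    have h1 : Spec.map (CommRingCat.ofHom
        (Subalgebra.inclusion (leOfHom φ.unop)).toRingHom) ≫
        Spec.map (CommRingCat.ofHom (algebraMap Γ(X, U) k.unop.1)) =
        Spec.map (CommRingCat.ofHom (algebraMap Γ(X, U) j.unop.1)) := by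
      rw [← Spec.map_comp]
      rfl
    exact (Category.assoc _ _ _).symm.trans (congrArg (· ≫ hU.fromSpec) h1)
  let b : Spec Γ(X', U') ⟶ X := hU'.fromSpec ≫ g
  have hb : ∀ j, c.π.app j ≫ β j = b := by
    intro j
    have h1 : Spec.map (CommRingCat.ofHom j.unop.1.val.toRingHom) ≫
        Spec.map (CommRingCat.ofHom (algebraMap Γ(X, U) j.unop.1)) =
        Spec.map (g.appLE U U' e) := by
      rw [← Spec.map_comp]
      rfl
    refine (Category.assoc _ _ _).symm.trans ((congrArg (· ≫ hU.fromSpec) h1).trans ?_)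
    exact hU.SpecMap_appLE_fromSpec g hU' e
  -- the base-changed limit
  have hpb : IsPullback (pullback.fst f b) (pullback.snd f b) f b := IsPullback.of_hasPullback f b
  haveI : IsConnected (FGSub Γ(X, U) Γ(X', U'))ᵒᵖ := IsCofiltered.isConnected _
  have hlim := isLimitBcCone D β hβ f c b hb (pullback.fst f b) (pullback.snd f b) hc hpb
  have hind := isInducing_pi_π_app (bcDiagram D β hβ f) _ hlim
  haveI hft : ∀ j, LocallyOfFiniteType (β j) := by
    intro j
    haveI : LocallyOfFiniteType (Spec.map (CommRingCat.ofHom (algebraMap Γ(X, U) j.unop.1))) := by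
      rw [HasRingHomProperty.Spec_iff (P := @LocallyOfFiniteType)]
      exact RingHom.finiteType_algebraMap.mpr ((Subalgebra.fg_iff_finiteType _).mp j.unop.2)
    exact inferInstanceAs (LocallyOfFiniteType
      (Spec.map (CommRingCat.ofHom (algebraMap Γ(X, U) j.unop.1)) ≫ hU.fromSpec))
  -- key: specialization in the pullback along `b`
  have key : ∀ z₀ z₁ : ↥(pullback f b),
      (pullback.snd f b).base z₁ ⤳ (pullback.snd f b).base z₀ → z₁ ⤳ z₀ := by
    intro z₀ z₁ hz
    refine hind.specializes_iff.mp (specializes_pi.mpr fun j => ?_)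
    refine @h (D.obj j) (β j) (hft j) _ _ ?_
    have e1 : ∀ z : ↥(pullback f b), (pullback.snd f (β j)).base
        (((bcCone D β hβ f c b hb (pullback.fst f b) (pullback.snd f b) hpb.w).π.app j).base z) =
        (c.π.app j).base ((pullback.snd f b).base z) := by
      intro z
      exact congrArg (fun m => m.base z)
        (bcConeπ_snd D β f c b hb (pullback.fst f b) (pullback.snd f b) hpb.w j)
    rw [e1, e1]
    exact hz.map (c.π.app j).continuous
  -- transfer to the original pullback
  let Q := pullback (pullback.snd f g) hU'.fromSpec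
  let κ : Q ⟶ pullback f b :=
    pullback.lift (pullback.fst (pullback.snd f g) hU'.fromSpec ≫ pullback.fst f g)
      (pullback.snd (pullback.snd f g) hU'.fromSpec) (by
        rw [Category.assoc, pullback.condition, ← Category.assoc, pullback.condition,
          Category.assoc])
  let θ : pullback f b ⟶ pullback f g :=
    pullback.lift (pullback.fst f b) (pullback.snd f b ≫ hU'.fromSpec)
      (pullback.condition.trans (Category.assoc _ _ _).symm)
  have hθ₁ : θ ≫ pullback.fst f g = pullback.fst f b := pullback.lift_fst _ _ _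
  have hθ₂ : θ ≫ pullback.snd f g = pullback.snd f b ≫ hU'.fromSpec := pullback.lift_snd _ _ _
  have hκ₁ : κ ≫ pullback.fst f b =
      pullback.fst (pullback.snd f g) hU'.fromSpec ≫ pullback.fst f g := pullback.lift_fst _ _ _
  have hκsnd : κ ≫ pullback.snd f b = pullback.snd (pullback.snd f g) hU'.fromSpec :=
    pullback.lift_snd _ _ _
  have hκθ : κ ≫ θ = pullback.fst (pullback.snd f g) hU'.fromSpec := by
    apply pullback.hom_ext
    · rw [Category.assoc, hθ₁, hκ₁]
    · exact (Category.assoc _ _ _).trans ((congrArg (κ ≫ ·) hθ₂).trans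
        ((Category.assoc _ _ _).symm.trans ((congrArg (· ≫ hU'.fromSpec) hκsnd).trans
          pullback.condition.symm)))
  -- lift the points
  have hmem : ∀ y : ↥(pullback f g), (pullback.snd f g).base y ∈ U' →
      ∃ z : ↥(pullback f b), θ.base z = y ∧
        hU'.fromSpec.base ((pullback.snd f b).base z) = (pullback.snd f g).base y := by
    intro y hy
    rw [← SetLike.mem_coe, ← hU'.range_fromSpec] at hy
    obtain ⟨u, hu⟩ := hy
    obtain ⟨w, hw₁, hw₂⟩ := Scheme.Pullback.exists_preimage_pullback
      (f := pullback.snd f g) (g := hU'.fromSpec) y u hu.symm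
    refine ⟨κ.base w, ?_, ?_⟩
    · rw [← hw₁]
      exact congrArg (fun m => m.base w) hκθ
    · have : (pullback.snd f b).base (κ.base w) = u := by
        rw [← hw₂]
        exact congrArg (fun m => m.base w) hκsnd
      rw [this, hu]
  obtain ⟨z₀, hz₀, hz₀'⟩ := hmem y₀ hxU'
  obtain ⟨z₁, hz₁, hz₁'⟩ := hmem y₁ (hs.mem_open U'.2 hxU')
  have hz : (pullback.snd f b).base z₁ ⤳ (pullback.snd f b).base z₀ := by
    refine hU'.fromSpec.isOpenEmbedding.isInducing.specializes_iff.mp ?_
    rw [hz₀', hz₁']
    exact hs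
  rw [← hz₀, ← hz₁]
  exact (key z₀ z₁ hz).map θ.continuous

end Groth.Agent.Lib.Helper50
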