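import Groth.Agent.Lib.Helper50.LimDesc2
import Groth.Agent.Lib.Helper50.LimBC
import Mathlib.CategoryTheory.Filtered.Connected

set_option autoImplicit false
universe u
open CategoryTheory AlgebraicGeometry Limits

namespace Groth.Agent.Lib.Helper50

namespace StageSetup

variable {I : Type u} [SmallCategory I] [IsCofiltered I]
    (D : I ⥤ Scheme.{u}) (c : Limits.Cone D) (hc : Limits.IsLimit c)
    [∀ (i j : I) (f : i ⟶ j), IsAffineHom (D.map f)] (i₀ : I)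
    {X₀ Y₀ : Scheme.{u}} (f₀ : X₀ ⟶ Y₀) (g₀ : Y₀ ⟶ D.obj i₀)
    {X Y : Scheme.{u}} (f : X ⟶ Y) (g : Y ⟶ c.pt) (qY : Y ⟶ Y₀) (qX : X ⟶ X₀)
    (hY : IsPullback qY g g₀ (c.π.app i₀)) (hX : IsPullback qX f f₀ qY)

/-- The system of stages over `i₀`. -/
abbrev D₀ : Over i₀ ⥤ Scheme.{u} := Over.forget i₀ ⋙ D

abbrev β (j : Over i₀) : (D₀ D i₀).obj j ⟶ D.obj i₀ := D.map j.hom

omit [IsCofiltered I] [∀ (i j : I) (f : i ⟶ j), IsAffineHom (D.map f)] in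
lemma hβ {j k : Over i₀} (φ : j ⟶ k) : (D₀ D i₀).map φ ≫ β D i₀ k = β D i₀ j := by
  dsimp [D₀, β]
  rw [← D.map_comp, Over.w]

instance (j k : Over i₀) (φ : j ⟶ k) : IsAffineHom ((D₀ D i₀).map φ) :=
  inferInstanceAs (IsAffineHom (D.map φ.left))

/-- The cone over the stages over `i₀`. -/
abbrev c₀ : Cone (D₀ D i₀) := c.whisker (Over.forget i₀)

/-- It is a limit cone. -/
noncomputable def hc₀ : IsLimit (c₀ D c i₀) :=
  (Functor.Initial.isLimitWhiskerEquiv (Over.forget i₀) c).symm hc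

/-- The system `Y₀ ×_{S_{i₀}} S_j`. -/
noncomputable abbrev E : Over i₀ ⥤ Scheme.{u} := bcDiagram (D₀ D i₀) (β D i₀) (hβ D i₀) g₀

omit [IsCofiltered I] [∀ (i j : I) (f : i ⟶ j), IsAffineHom (D.map f)] in
lemma hb (j : Over i₀) : (c₀ D c i₀).π.app j ≫ β D i₀ j = c.π.app i₀ := by
  dsimp [c₀, β]
  rw [c.w]

/-- The cone with apex `Y` over `E`. -/
noncomputable abbrev cE : Cone (E D i₀ g₀) :=
  bcCone (D₀ D i₀) (β D i₀) (hβ D i₀) g₀ (c₀ D c i₀) (c.π.app i₀) (hb D c i₀) qY g hY.w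

include hc in
/-- It is a limit cone. -/
noncomputable def hcE : IsLimit (cE D c i₀ g₀ g qY hY) :=
  have := IsCofiltered.isConnected (Over i₀)
  isLimitBcCone (D₀ D i₀) (β D i₀) (hβ D i₀) g₀ (c₀ D c i₀) (c.π.app i₀) (hb D c i₀) qY g
    (hc₀ D c hc i₀) hY

/-- The structure maps `Y_j ⟶ Y₀`. -/
noncomputable abbrev γ (j : Over i₀) : (E D i₀ g₀).obj j ⟶ Y₀ := pullback.fst g₀ (β D i₀ j)

omit [IsCofiltered I] [∀ (i j : I) (f : i ⟶ j), IsAffineHom (D.map f)] in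
lemma hγ {j k : Over i₀} (φ : j ⟶ k) : (E D i₀ g₀).map φ ≫ γ D i₀ g₀ k = γ D i₀ g₀ j :=
  bcDiagram_map_fst _ _ _ _ φ

/-- The system `X₀ ×_{Y₀} Y_j`. -/
noncomputable abbrev F : Over i₀ ⥤ Scheme.{u} :=
  bcDiagram (E D i₀ g₀) (γ D i₀ g₀) (hγ D i₀ g₀) f₀

/-- The natural transformation `X_j ⟶ Y_j`. -/
noncomputable abbrev τ : F D i₀ f₀ g₀ ⟶ E D i₀ g₀ :=
  bcDiagramSnd (E D i₀ g₀) (γ D i₀ g₀) (hγ D i₀ g₀) f₀

omit [IsCofiltered I] [∀ (i j : I) (f : i ⟶ j), IsAffineHom (D.map f)] in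
lemma hb' (j : Over i₀) : (cE D c i₀ g₀ g qY hY).π.app j ≫ γ D i₀ g₀ j = qY :=
  bcConeπ_fst (D₀ D i₀) (β D i₀) g₀ (c₀ D c i₀) (c.π.app i₀) (hb D c i₀) qY g hY.w j

/-- The cone with apex `X` over `F`. -/
noncomputable abbrev cF : Cone (F D i₀ f₀ g₀) :=
  bcCone (E D i₀ g₀) (γ D i₀ g₀) (hγ D i₀ g₀) f₀ (cE D c i₀ g₀ g qY hY) qY
    (hb' D c i₀ g₀ g qY hY) qX f hX.w

include hc in
/-- It is a limit cone. -/
noncomputable def hcF : IsLimit (cF D c i₀ f₀ g₀ f g qY qX hY hX) :=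
  have := IsCofiltered.isConnected (Over i₀)
  isLimitBcCone (E D i₀ g₀) (γ D i₀ g₀) (hγ D i₀ g₀) f₀ (cE D c i₀ g₀ g qY hY) qY
    (hb' D c i₀ g₀ g qY hY) qX f (hcE D c hc i₀ g₀ g qY hY) hX

omit [IsCofiltered I] [∀ (i j : I) (f : i ⟶ j), IsAffineHom (D.map f)] in
lemma hf (j : Over i₀) : (cF D c i₀ f₀ g₀ f g qY qX hY hX).π.app j ≫ (τ D i₀ f₀ g₀).app j =
    f ≫ (cE D c i₀ g₀ g qY hY).π.app j :=
  bcConeπ_snd (E D i₀ g₀) (γ D i₀ g₀) f₀ (cE D c i₀ g₀ g qY hY) qY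
    (hb' D c i₀ g₀ g qY hY) qX f hX.w j

section instances

omit [IsCofiltered I]

lemma isAffineHom_γ (j : Over i₀) : IsAffineHom (γ D i₀ g₀ j) :=
  MorphismProperty.of_isPullback (P := @IsAffineHom)
    (IsPullback.of_hasPullback g₀ (β D i₀ j)).flip (inferInstanceAs (IsAffineHom (D.map j.hom)))

lemma isAffineHom_fst_F (j : Over i₀) : IsAffineHom (pullback.fst f₀ (γ D i₀ g₀ j)) :=
  MorphismProperty.of_isPullback (P := @IsAffineHom)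
    (IsPullback.of_hasPullback f₀ (γ D i₀ g₀ j)).flip (isAffineHom_γ D i₀ g₀ j)

lemma compactSpace_E [CompactSpace Y₀] (j : Over i₀) : CompactSpace ((E D i₀ g₀).obj j) :=
  have := isAffineHom_γ D i₀ g₀ j
  QuasiCompact.compactSpace_of_compactSpace (γ D i₀ g₀ j)

lemma quasiSeparatedSpace_E [QuasiSeparatedSpace Y₀] (j : Over i₀) :
    QuasiSeparatedSpace ((E D i₀ g₀).obj j) :=
  have := isAffineHom_γ D i₀ g₀ j
  quasiSeparatedSpace_of_quasiSeparated (γ D i₀ g₀ j)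

lemma compactSpace_F [CompactSpace X₀] (j : Over i₀) : CompactSpace ((F D i₀ f₀ g₀).obj j) :=
  have := isAffineHom_fst_F D i₀ f₀ g₀ j
  (QuasiCompact.compactSpace_of_compactSpace (pullback.fst f₀ (γ D i₀ g₀ j)) :
    CompactSpace ↥(pullback f₀ (γ D i₀ g₀ j)))

lemma quasiSeparatedSpace_F [QuasiSeparatedSpace X₀] (j : Over i₀) :
    QuasiSeparatedSpace ((F D i₀ f₀ g₀).obj j) :=
  have := isAffineHom_fst_F D i₀ f₀ g₀ j
  (quasiSeparatedSpace_of_quasiSeparated (pullback.fst f₀ (γ D i₀ g₀ j)) :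
    QuasiSeparatedSpace ↥(pullback f₀ (γ D i₀ g₀ j)))

end instances

omit [IsCofiltered I] [∀ (i j : I) (f : i ⟶ j), IsAffineHom (D.map f)] in
/-- The natural transformation `τ` is cartesian. -/
lemma isPullback_τ {j k : Over i₀} (φ : j ⟶ k) :
    IsPullback ((F D i₀ f₀ g₀).map φ) ((τ D i₀ f₀ g₀).app j) ((τ D i₀ f₀ g₀).app k)
      ((E D i₀ g₀).map φ) :=
  isPullback_bcDiagram_map (E D i₀ g₀) (γ D i₀ g₀) (hγ D i₀ g₀) f₀ φ

omit [IsCofiltered I] [∀ (i j : I) (f : i ⟶ j), IsAffineHom (D.map f)] in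
lemma locallyOfFiniteType_τ [LocallyOfFiniteType f₀] (j : Over i₀) :
    LocallyOfFiniteType ((τ D i₀ f₀ g₀).app j) :=
  inferInstanceAs (LocallyOfFiniteType (pullback.snd f₀ (γ D i₀ g₀ j)))

omit [IsCofiltered I] [∀ (i j : I) (f : i ⟶ j), IsAffineHom (D.map f)] in
/-- Packaging the conclusion of the "descent to a stage" statements. -/
lemma exists_stage (P : MorphismProperty Scheme.{u})
    (H : ∃ j : Over i₀, P ((τ D i₀ f₀ g₀).app j)) :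
    ∃ (i : I) (φ : i ⟶ i₀) (Xi Yi : Scheme.{u}) (fi : Xi ⟶ Yi) (gi : Yi ⟶ D.obj i)
      (pY : Yi ⟶ Y₀) (pX : Xi ⟶ X₀), IsPullback pY gi g₀ (D.map φ) ∧ IsPullback pX fi f₀ pY ∧
        P fi := by
  obtain ⟨j, hj⟩ := H
  exact ⟨j.left, j.hom, _, _, pullback.snd f₀ (pullback.fst g₀ (D.map j.hom)),
    pullback.snd g₀ (D.map j.hom), pullback.fst g₀ (D.map j.hom), pullback.fst f₀ _,
    IsPullback.of_hasPullback _ _, IsPullback.of_hasPullback _ _, hj⟩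

end StageSetup

end Groth.Agent.Lib.Helper50
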