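import Groth.Agent.Lib.Helper50.LimDesc4
import Mathlib.AlgebraicGeometry.Morphisms.Finite

set_option autoImplicit false
universe u
open CategoryTheory AlgebraicGeometry Limits

namespace Groth.Agent.Lib.Helper50

/-- A finite type ring map `φ : R → C` has a finite "test set" for finiteness after a
"base change" `R' → C'` (with `C'` generated by the images of `C` and `R'`). -/
lemma exists_finset_forall_finite_of_generate {R C : Type u} [CommRing R] [CommRing C]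
    (φ : R →+* C) (hφ : φ.FiniteType) :
    ∃ s : Finset C, ∀ {R' C' : Type u} [CommRing R'] [CommRing C'] (α : R →+* R') (ρ : C →+* C')
      (φ' : R' →+* C'), φ'.comp α = ρ.comp φ → φ'.range ⊔ ρ.range = ⊤ →
      (∀ x ∈ s, φ'.IsIntegralElem (ρ x)) → φ'.Finite := by
  classical
  algebraize [φ]
  obtain ⟨s, hs⟩ := (‹Algebra.FiniteType R C› : Algebra.FiniteType R C).out
  refine ⟨s, fun {R' C'} _ _ α ρ φ' hcomm hgen hx ↦ ?_⟩
  let _ : Algebra R' C' := φ'.toAlgebra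
  let B : Subalgebra R' C' := Algebra.adjoin R' (ρ '' (s : Set C))
  let A' : Subalgebra R C :=
    { B.toSubring.comap ρ with
      algebraMap_mem' := fun r ↦ by
        change ρ (φ r) ∈ B
        have : ρ (φ r) = algebraMap R' C' (α r) := congr($(hcomm.symm) r)
        rw [this]
        exact B.algebraMap_mem _ }
  have h1 : Algebra.adjoin R (s : Set C) ≤ A' := Algebra.adjoin_le fun x hx' ↦
    Algebra.subset_adjoin (R := R') ⟨x, hx', rfl⟩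
  rw [hs] at h1
  have h2 : ρ.range ≤ B.toSubring := by
    rintro _ ⟨z, rfl⟩
    exact h1 (Algebra.mem_top (R := R) (x := z))
  have h3 : φ'.range ≤ B.toSubring := by
    rintro _ ⟨z, rfl⟩
    exact B.algebraMap_mem z
  have hB : B = ⊤ := by
    rw [eq_top_iff]
    intro y _
    have : y ∈ φ'.range ⊔ ρ.range := by rw [hgen]; trivial
    exact (sup_le h3 h2) this
  have hfg : (Subalgebra.toSubmodule B).FG :=
    _root_.fg_adjoin_of_finite (s.finite_toSet.image ρ) (by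
      rintro _ ⟨x, hx', rfl⟩
      exact hx x hx')
  rw [hB, Algebra.top_toSubmodule] at hfg
  exact ⟨hfg⟩

end Groth.Agent.Lib.Helper50

namespace Groth.Agent.Lib.Helper50

section Poly

variable {I : Type u} [SmallCategory I] [IsCofiltered I]
    (D : I ⥤ Scheme.{u}) (c : Limits.Cone D) (hc : Limits.IsLimit c)
    [∀ (i j : I) (f : i ⟶ j), IsAffineHom (D.map f)]

include hc in
/-- A finite family of sections of the limit over the preimage of an affine open of a stage comes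
from a later stage. -/
lemma exists_appLE_π_eq_of_finite {i : I} {U : (D.obj i).Opens} (hU : IsAffineOpen U)
    {ι : Type*} [Finite ι] (a : ι → Γ(c.pt, c.π.app i ⁻¹ᵁ U)) :
    ∃ (j : I) (f : j ⟶ i) (a' : ι → Γ(D.obj j, D.map f ⁻¹ᵁ U)), ∀ m,
      (c.π.app j).appLE (D.map f ⁻¹ᵁ U) (c.π.app i ⁻¹ᵁ U) (π_preimage_le D c f U) (a' m) = a m := by
  obtain ⟨j, f, hj⟩ := eventually_finite (ι := ι)
    (fun m k g' ↦ a m ∈ ((c.π.app k).appLE (D.map g' ⁻¹ᵁ U) (c.π.app i ⁻¹ᵁ U)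
      (π_preimage_le D c g' U)).hom.range)
    (fun m ↦ by
      obtain ⟨j, f, t, ht⟩ := exists_appLE_π_eq D c hc hU (a m)
      refine ⟨j, f, fun k g g' hg ↦ ?_⟩
      subst hg
      refine ⟨(D.map g).appLE (D.map f ⁻¹ᵁ U) (D.map (g ≫ f) ⁻¹ᵁ U)
        (by rw [Functor.map_comp, Scheme.Hom.comp_preimage]) t, ?_⟩
      rw [← ht]
      simp only [← CommRingCat.comp_apply, Scheme.Hom.appLE_comp_appLE, c.w])
  have := hj j (𝟙 j) f (Category.id_comp f)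
  choose a' ha' using this
  exact ⟨j, f, a', ha'⟩

include hc in
/-- A monic polynomial over the sections of the limit comes from a monic polynomial at a stage. -/
lemma exists_monic_map_eq {i : I} {U : (D.obj i).Opens} (hU : IsAffineOpen U)
    (p : Polynomial Γ(c.pt, c.π.app i ⁻¹ᵁ U)) (hp : p.Monic) :
    ∃ (j : I) (f : j ⟶ i) (p' : Polynomial Γ(D.obj j, D.map f ⁻¹ᵁ U)), p'.Monic ∧
      p'.map ((c.π.app j).appLE (D.map f ⁻¹ᵁ U) (c.π.app i ⁻¹ᵁ U)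
        (π_preimage_le D c f U)).hom = p := by
  obtain ⟨j, f, a', ha'⟩ := exists_appLE_π_eq_of_finite D c hc hU
    (fun m : Fin p.natDegree ↦ p.coeff m)
  refine ⟨j, f, Polynomial.X ^ p.natDegree +
    ∑ m : Fin p.natDegree, Polynomial.C (a' m) * Polynomial.X ^ (m : ℕ), ?_, ?_⟩
  · exact Polynomial.monic_X_pow_add (Polynomial.degree_sum_fin_lt _)
  · rw [Polynomial.map_add, Polynomial.map_pow, Polynomial.map_X, Polynomial.map_sum]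
    conv_rhs => rw [hp.as_sum]
    congr 1
    rw [← Fin.sum_univ_eq_sum_range (fun m ↦ Polynomial.C (p.coeff m) * Polynomial.X ^ m)]
    refine Finset.sum_congr rfl fun m _ ↦ ?_
    rw [Polynomial.map_mul, Polynomial.map_C, Polynomial.map_pow, Polynomial.map_X]
    congr 2
    exact ha' m

end Poly

end Groth.Agent.Lib.Helper50

namespace Groth.Agent.Lib.Helper50

lemma isIntegral_appLE_of_eq {X Y : Scheme.{u}} (f : X ⟶ Y) (W : Y.Opens) (O : X.Opens)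
    (e : O ≤ f ⁻¹ᵁ W) (hO : O = f ⁻¹ᵁ W) (H : (f.app W).hom.IsIntegral) :
    (f.appLE W O e).hom.IsIntegral := by
  subst hO
  rwa [← Scheme.Hom.app_eq_appLE]

lemma app_eq_zero_of_appLE_eq_zero {X Y : Scheme.{u}} (f : X ⟶ Y) (W : Y.Opens) (O : X.Opens)
    (e : O ≤ f ⁻¹ᵁ W) (hO : O = f ⁻¹ᵁ W) (s : Γ(Y, W))
    (H : f.appLE W O e s = 0) : f.app W s = 0 := by
  subst hO
  rwa [← Scheme.Hom.app_eq_appLE] at H

section Cart

variable {J : Type u} [SmallCategory J] [IsCofiltered J] {F E : J ⥤ Scheme.{u}} (τ : F ⟶ E)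
    [∀ (i j : J) (f : i ⟶ j), IsAffineHom (F.map f)]
    [∀ (i j : J) (f : i ⟶ j), IsAffineHom (E.map f)]
    (cF : Cone F) (hcF : IsLimit cF) (cE : Cone E) (hcE : IsLimit cE)
    (f : cF.pt ⟶ cE.pt) (hf : ∀ j, cF.π.app j ≫ τ.app j = f ≫ cE.π.app j)

include hcF hcE hf in
lemma exists_forall_isIntegralElem (j₁ : J) {V : (E.obj j₁).Opens}
    (hV : IsAffineOpen V) (hU : IsCompact (τ.app j₁ ⁻¹ᵁ V : Set (F.obj j₁)))
    [IsIntegralHom f] (x : Γ(F.obj j₁, τ.app j₁ ⁻¹ᵁ V)) :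
    ∃ (j : J) (φ : j ⟶ j₁), ∀ (k : J) (g : k ⟶ j) (g' : k ⟶ j₁), g ≫ φ = g' →
      ((τ.app k).appLE (E.map g' ⁻¹ᵁ V) (F.map g' ⁻¹ᵁ (τ.app j₁ ⁻¹ᵁ V))
        (map_preimage_le_app_preimage τ g' V)).hom.IsIntegralElem
          ((F.map g').app (τ.app j₁ ⁻¹ᵁ V) x) := by
  have hπ := isAffineHom_π_app E cE hcE j₁
  have hW : IsAffineOpen (cE.π.app j₁ ⁻¹ᵁ V) := hV.preimage _
  have hO := π_preimage_app_preimage τ cF cE f hf j₁ V
  obtain ⟨p, hp, hpy⟩ := isIntegral_appLE_of_eq f (cE.π.app j₁ ⁻¹ᵁ V)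
    (cF.π.app j₁ ⁻¹ᵁ (τ.app j₁ ⁻¹ᵁ V)) hO.le hO (Scheme.Hom.isIntegral_app f _ hW)
    ((cF.π.app j₁).app (τ.app j₁ ⁻¹ᵁ V) x)
  obtain ⟨k₁, g₁, p₁, hp₁, hmap⟩ := exists_monic_map_eq E cE hcE hV p hp
  have hU₁ : IsCompact (F.map g₁ ⁻¹ᵁ (τ.app j₁ ⁻¹ᵁ V) : Set (F.obj k₁)) :=
    QuasiCompact.isCompact_preimage (f := F.map g₁) _ (TopologicalSpace.Opens.isOpen _) hU
  have key : (cF.π.app k₁).app (F.map g₁ ⁻¹ᵁ (τ.app j₁ ⁻¹ᵁ V))
      (p₁.eval₂ ((τ.app k₁).appLE (E.map g₁ ⁻¹ᵁ V) (F.map g₁ ⁻¹ᵁ (τ.app j₁ ⁻¹ᵁ V))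
          (map_preimage_le_app_preimage τ g₁ V)).hom
        ((F.map g₁).app (τ.app j₁ ⁻¹ᵁ V) x)) = 0 := by
    refine app_eq_zero_of_appLE_eq_zero _ _ (cF.π.app j₁ ⁻¹ᵁ (τ.app j₁ ⁻¹ᵁ V))
      (π_preimage_le F cF g₁ _) (π_preimage_eq F cF g₁ _).symm _ ?_
    have h_hom : ((cF.π.app k₁).appLE (F.map g₁ ⁻¹ᵁ (τ.app j₁ ⁻¹ᵁ V))
          (cF.π.app j₁ ⁻¹ᵁ (τ.app j₁ ⁻¹ᵁ V)) (π_preimage_le F cF g₁ _)).hom.comp
        ((τ.app k₁).appLE (E.map g₁ ⁻¹ᵁ V) (F.map g₁ ⁻¹ᵁ (τ.app j₁ ⁻¹ᵁ V))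
          (map_preimage_le_app_preimage τ g₁ V)).hom =
        (f.appLE (cE.π.app j₁ ⁻¹ᵁ V) (cF.π.app j₁ ⁻¹ᵁ (τ.app j₁ ⁻¹ᵁ V)) hO.le).hom.comp
          ((cE.π.app k₁).appLE (E.map g₁ ⁻¹ᵁ V) (cE.π.app j₁ ⁻¹ᵁ V)
            (π_preimage_le E cE g₁ V)).hom := by
      rw [← CommRingCat.hom_comp, ← CommRingCat.hom_comp]
      congr 1
      simp only [Scheme.Hom.appLE_comp_appLE, hf]
    have h_x : ((cF.π.app k₁).appLE (F.map g₁ ⁻¹ᵁ (τ.app j₁ ⁻¹ᵁ V))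
          (cF.π.app j₁ ⁻¹ᵁ (τ.app j₁ ⁻¹ᵁ V)) (π_preimage_le F cF g₁ _)).hom
        ((F.map g₁).app (τ.app j₁ ⁻¹ᵁ V) x) = (cF.π.app j₁).app (τ.app j₁ ⁻¹ᵁ V) x := by
      change ((cF.π.app k₁).appLE (F.map g₁ ⁻¹ᵁ (τ.app j₁ ⁻¹ᵁ V))
          (cF.π.app j₁ ⁻¹ᵁ (τ.app j₁ ⁻¹ᵁ V)) (π_preimage_le F cF g₁ _))
        ((F.map g₁).app (τ.app j₁ ⁻¹ᵁ V) x) = _
      simp only [← CommRingCat.comp_apply, Scheme.Hom.app_eq_appLE, Scheme.Hom.appLE_comp_appLE,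
        cF.w]
    rw [← hmap, Polynomial.eval₂_map] at hpy
    change ((cF.π.app k₁).appLE (F.map g₁ ⁻¹ᵁ (τ.app j₁ ⁻¹ᵁ V))
          (cF.π.app j₁ ⁻¹ᵁ (τ.app j₁ ⁻¹ᵁ V)) (π_preimage_le F cF g₁ _)).hom _ = 0
    rw [Polynomial.hom_eval₂, h_hom, h_x]
    exact hpy
  obtain ⟨l, u, hl⟩ := exists_app_map_eq_zero_of_isLimit F cF hcF hU₁ _ key
  refine ⟨l, u ≫ g₁, fun k g g' hg ↦ ?_⟩
  subst hg
  refine ⟨p₁.map ((E.map (g ≫ u)).appLE (E.map g₁ ⁻¹ᵁ V) (E.map (g ≫ u ≫ g₁) ⁻¹ᵁ V)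
    (by rw [← Scheme.Hom.comp_preimage, ← E.map_comp, Category.assoc])).hom, hp₁.map _, ?_⟩
  rw [Polynomial.eval₂_map]
  have h2 := congr(((F.map g).appLE (F.map u ⁻¹ᵁ (F.map g₁ ⁻¹ᵁ (τ.app j₁ ⁻¹ᵁ V)))
    (F.map (g ≫ u ≫ g₁) ⁻¹ᵁ (τ.app j₁ ⁻¹ᵁ V))
    (by simp only [Functor.map_comp, Scheme.Hom.comp_preimage]; exact le_rfl)).hom $hl)
  rw [map_zero] at h2
  change ((F.map g).appLE (F.map u ⁻¹ᵁ (F.map g₁ ⁻¹ᵁ (τ.app j₁ ⁻¹ᵁ V)))
    (F.map (g ≫ u ≫ g₁) ⁻¹ᵁ (τ.app j₁ ⁻¹ᵁ V)) _).hom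
      (((F.map u).app (F.map g₁ ⁻¹ᵁ (τ.app j₁ ⁻¹ᵁ V))).hom _) = 0 at h2
  rw [Polynomial.hom_eval₂, Polynomial.hom_eval₂] at h2
  have hnat : F.map g ≫ F.map u ≫ τ.app k₁ = τ.app k ≫ E.map (g ≫ u) := by
    rw [← Category.assoc, ← F.map_comp, τ.naturality]
  have h_hom2 : ((F.map g).appLE (F.map u ⁻¹ᵁ (F.map g₁ ⁻¹ᵁ (τ.app j₁ ⁻¹ᵁ V)))
      (F.map (g ≫ u ≫ g₁) ⁻¹ᵁ (τ.app j₁ ⁻¹ᵁ V))
      (by simp only [Functor.map_comp, Scheme.Hom.comp_preimage]; exact le_rfl)).hom.comp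
        (((F.map u).app (F.map g₁ ⁻¹ᵁ (τ.app j₁ ⁻¹ᵁ V))).hom.comp
          ((τ.app k₁).appLE (E.map g₁ ⁻¹ᵁ V) (F.map g₁ ⁻¹ᵁ (τ.app j₁ ⁻¹ᵁ V))
            (map_preimage_le_app_preimage τ g₁ V)).hom) =
      ((τ.app k).appLE (E.map (g ≫ u ≫ g₁) ⁻¹ᵁ V) (F.map (g ≫ u ≫ g₁) ⁻¹ᵁ (τ.app j₁ ⁻¹ᵁ V))
        (map_preimage_le_app_preimage τ (g ≫ u ≫ g₁) V)).hom.comp
        ((E.map (g ≫ u)).appLE (E.map g₁ ⁻¹ᵁ V) (E.map (g ≫ u ≫ g₁) ⁻¹ᵁ V)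
          (by rw [← Scheme.Hom.comp_preimage, ← E.map_comp, Category.assoc])).hom := by
    simp only [← CommRingCat.hom_comp]
    congr 1
    simp only [Scheme.Hom.app_eq_appLE, Scheme.Hom.appLE_comp_appLE, hnat]
  have h_x2 : ((F.map g).appLE (F.map u ⁻¹ᵁ (F.map g₁ ⁻¹ᵁ (τ.app j₁ ⁻¹ᵁ V)))
      (F.map (g ≫ u ≫ g₁) ⁻¹ᵁ (τ.app j₁ ⁻¹ᵁ V))
      (by simp only [Functor.map_comp, Scheme.Hom.comp_preimage]; exact le_rfl)).hom
        (((F.map u).app (F.map g₁ ⁻¹ᵁ (τ.app j₁ ⁻¹ᵁ V))).hom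
          ((F.map g₁).app (τ.app j₁ ⁻¹ᵁ V) x)) =
      (F.map (g ≫ u ≫ g₁)).app (τ.app j₁ ⁻¹ᵁ V) x := by
    change ((F.map g).appLE (F.map u ⁻¹ᵁ (F.map g₁ ⁻¹ᵁ (τ.app j₁ ⁻¹ᵁ V)))
      (F.map (g ≫ u ≫ g₁) ⁻¹ᵁ (τ.app j₁ ⁻¹ᵁ V)) _)
        (((F.map u).app (F.map g₁ ⁻¹ᵁ (τ.app j₁ ⁻¹ᵁ V)))
          ((F.map g₁).app (τ.app j₁ ⁻¹ᵁ V) x)) = _
    simp only [← CommRingCat.comp_apply, Scheme.Hom.app_eq_appLE, Scheme.Hom.appLE_comp_appLE,
      ← Functor.map_comp]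
  rw [h_hom2, h_x2] at h2
  exact h2

end Cart

end Groth.Agent.Lib.Helper50

namespace Groth.Agent.Lib.Helper50

lemma finite_app_of_finite_appLE {X Y : Scheme.{u}} (f : X ⟶ Y) (U : Y.Opens)
    (V : X.Opens) (e : V ≤ f ⁻¹ᵁ U) (hV : V = f ⁻¹ᵁ U)
    (H : (f.appLE U V e).hom.Finite) : (f.app U).hom.Finite := by
  subst hV
  rwa [← Scheme.Hom.app_eq_appLE] at H

set_option backward.isDefEq.respectTransparency.types false in
/-- A morphism is finite if the target is covered by affine opens with affine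
preimages on which the map on sections is finite. -/
lemma isFinite_of_forall_affine {X Y : Scheme.{u}} (f : X ⟶ Y) {ι : Type*}
    (U : ι → Y.Opens) (hU : ⨆ i, U i = ⊤) (hU' : ∀ i, IsAffineOpen (U i))
    (h1 : ∀ i, IsAffineOpen (f ⁻¹ᵁ U i)) (h2 : ∀ i, (f.app (U i)).hom.Finite) :
    IsFinite f := by
  refine (inferInstance : HasAffineProperty @IsFinite
    (fun X _ f _ ↦ IsAffine X ∧ RingHom.Finite (f.appTop).hom)).of_iSup_eq_top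
    (fun i ↦ ⟨U i, hU' i⟩) hU fun i ↦ ⟨h1 i, ?_⟩
  dsimp only
  rw [morphismRestrict_appTop]
  have key : ∀ (W : Y.Opens) (_ : W = U i) (V : X.Opens) (e : V = f ⁻¹ᵁ W),
      (f.app W ≫ X.presheaf.map (eqToHom e).op).hom.Finite := by
    rintro W rfl V rfl
    simpa using h2 i
  exact key _ (Scheme.Opens.ι_image_top _) _ _

section Cart

variable {J : Type u} [SmallCategory J] [IsCofiltered J] {F E : J ⥤ Scheme.{u}} (τ : F ⟶ E)
    [∀ (i j : J) (f : i ⟶ j), IsAffineHom (F.map f)]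
    [∀ (i j : J) (f : i ⟶ j), IsAffineHom (E.map f)]
    (cF : Cone F) (hcF : IsLimit cF) (cE : Cone E) (hcE : IsLimit cE)
    (f : cF.pt ⟶ cE.pt) (hf : ∀ j, cF.π.app j ≫ τ.app j = f ≫ cE.π.app j)
    (hτ : ∀ {j k : J} (φ : j ⟶ k), IsPullback (F.map φ) (τ.app j) (τ.app k) (E.map φ))

include hcF hcE hf hτ in
lemma exists_forall_finite_appLE (j₁ : J) {V : (E.obj j₁).Opens}
    (hV : IsAffineOpen V) (hU : IsAffineOpen (τ.app j₁ ⁻¹ᵁ V))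
    (hφ : ((τ.app j₁).app V).hom.FiniteType) [IsIntegralHom f] :
    ∃ (j : J) (φ : j ⟶ j₁), ∀ (k : J) (g : k ⟶ j) (g' : k ⟶ j₁), g ≫ φ = g' →
      ((τ.app k).appLE (E.map g' ⁻¹ᵁ V)
        (F.map g' ⁻¹ᵁ (τ.app j₁ ⁻¹ᵁ V)) (map_preimage_le_app_preimage τ g' V)).hom.Finite := by
  obtain ⟨s, hs⟩ := exists_finset_forall_finite_of_generate _ hφ
  obtain ⟨j, φ, hj⟩ := eventually_finset s
    (fun x k g' ↦ ((τ.app k).appLE (E.map g' ⁻¹ᵁ V)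
        (F.map g' ⁻¹ᵁ (τ.app j₁ ⁻¹ᵁ V)) (map_preimage_le_app_preimage τ g' V)).hom.IsIntegralElem
          ((F.map g').app (τ.app j₁ ⁻¹ᵁ V) x))
    (fun x _ ↦ exists_forall_isIntegralElem τ cF hcF cE hcE f hf j₁ hV hU.isCompact x)
  refine ⟨j, φ, fun k g g' hg ↦ ?_⟩
  refine hs ((E.map g').app V).hom ((F.map g').app (τ.app j₁ ⁻¹ᵁ V)).hom _ ?_ ?_ (hj k g g' hg)
  · rw [← CommRingCat.hom_comp, ← CommRingCat.hom_comp]
    congr 1
    simp only [Scheme.Hom.app_eq_appLE, Scheme.Hom.appLE_comp_appLE, τ.naturality]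
  · have hUY : F.map g' ⁻¹ᵁ (τ.app j₁ ⁻¹ᵁ V) =
        F.map g' ⁻¹ᵁ (τ.app j₁ ⁻¹ᵁ V) ⊓ τ.app k ⁻¹ᵁ (E.map g' ⁻¹ᵁ V) :=
      (inf_eq_left.mpr (map_preimage_le_app_preimage τ g' V)).symm
    have hpo := (isIso_pushoutSection_iff (hτ g') (US := V) (UT := E.map g' ⁻¹ᵁ V)
      (UX := τ.app j₁ ⁻¹ᵁ V) le_rfl le_rfl hUY).mp
      (isIso_pushoutSection_of_isAffineOpen (hτ g') le_rfl le_rfl hUY hV (hV.preimage _) hU)
    have := range_sup_range_eq_top_of_isPushout hpo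
    rw [sup_comm]
    rw [Scheme.Hom.app_eq_appLE]
    exact this

include hcF hcE hf hτ in
/-- **Descent of finiteness** (Stacks 01ZO-type). For a cartesian natural transformation
between cofiltered systems of qcqs schemes with affine transition maps, locally of finite type,
whose limit is integral (e.g. finite): eventually the components are finite. -/
theorem exists_forall_isFinite_app
    [∀ j, CompactSpace (E.obj j)] [∀ j, QuasiSeparatedSpace (E.obj j)]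
    [∀ j, CompactSpace (F.obj j)] [∀ j, QuasiSeparatedSpace (F.obj j)]
    [∀ j, LocallyOfFiniteType (τ.app j)] [IsIntegralHom f] (j₀ : J) :
    ∃ (j : J) (_ : j ⟶ j₀), ∀ (k : J) (_ : k ⟶ j), IsFinite (τ.app k) := by
  obtain ⟨j₁, φ₁, h₁⟩ := exists_forall_isAffineHom_app τ cF hcF cE hcE f hf j₀
  have hτ₁ : IsAffineHom (τ.app j₁) := h₁ j₁ (𝟙 _)
  obtain ⟨j, φ, hj⟩ := eventually_finite (ι := (E.obj j₁).affineCover.finiteSubcover.I₀)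
    (fun a k g' ↦ ((τ.app k).appLE
      (E.map g' ⁻¹ᵁ ((E.obj j₁).affineCover.finiteSubcover.f a).opensRange)
      (F.map g' ⁻¹ᵁ (τ.app j₁ ⁻¹ᵁ ((E.obj j₁).affineCover.finiteSubcover.f a).opensRange))
      (map_preimage_le_app_preimage τ g' _)).hom.Finite)
    (fun a ↦ exists_forall_finite_appLE τ cF hcF cE hcE f hf hτ j₁
      (isAffineOpen_opensRange _) ((isAffineOpen_opensRange _).preimage _) (by
        rw [Scheme.Hom.app_eq_appLE]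
        exact HasRingHomProperty.appLE @LocallyOfFiniteType _ inferInstance
          ⟨_, isAffineOpen_opensRange _⟩ ⟨_, (isAffineOpen_opensRange _).preimage _⟩ _))
  refine ⟨j, φ ≫ φ₁, fun k g ↦ ?_⟩
  have : IsAffineHom (τ.app k) := h₁ k (g ≫ φ)
  refine isFinite_of_forall_affine (τ.app k)
    (fun a ↦ E.map (g ≫ φ) ⁻¹ᵁ ((E.obj j₁).affineCover.finiteSubcover.f a).opensRange) ?_
    (fun a ↦ (isAffineOpen_opensRange _).preimage _)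
    (fun a ↦ ((isAffineOpen_opensRange _).preimage _).preimage _) (fun a ↦ ?_)
  · rw [← Scheme.Hom.preimage_iSup, (E.obj j₁).affineCover.finiteSubcover.iSup_opensRange]
    rfl
  · exact finite_app_of_finite_appLE _ _ _ _ (map_preimage_app_preimage τ (g ≫ φ) _)
      (hj k g (g ≫ φ) rfl a)

end Cart

end Groth.Agent.Lib.Helper50
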