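import Mathlib.Topology.Irreducible
import Mathlib.Topology.NoetherianSpace
import Mathlib.Topology.Connected.Clopen

set_option autoImplicit false

namespace Groth.Agent.Lib.Helper50

open Set TopologicalSpace

/-- A Noetherian space has finitely many connected components. -/
lemma finite_range_connectedComponent (X : Type*) [TopologicalSpace X] [NoetherianSpace X] :
    (Set.range (connectedComponent : X → Set X)).Finite := by
  classical
  have hfin : (irreducibleComponents X).Finite := NoetherianSpace.finite_irreducibleComponents
  let g : Set X → Set X := fun Y ↦ if h : Y.Nonempty then connectedComponent h.some else ∅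
  refine (hfin.image g).subset ?_
  rintro _ ⟨x, rfl⟩
  refine ⟨irreducibleComponent x, irreducibleComponent_mem_irreducibleComponents x, ?_⟩
  have hne : (irreducibleComponent x).Nonempty := ⟨x, mem_irreducibleComponent⟩
  simp only [g, dif_pos hne]
  have hconn : IsConnected (irreducibleComponent x) :=
    isIrreducible_irreducibleComponent.isConnected
  have h1 : hne.some ∈ connectedComponent x :=
    hconn.subset_connectedComponent mem_irreducibleComponent hne.some_mem
  exact (connectedComponent_eq h1).symm

/-- In a Noetherian space, connected components are open. -/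
lemma isOpen_connectedComponent_of_noetherianSpace {X : Type*} [TopologicalSpace X]
    [NoetherianSpace X] (x : X) : IsOpen (connectedComponent x) := by
  have hfin := finite_range_connectedComponent X
  have hcompl : (connectedComponent x)ᶜ =
      ⋃ C ∈ (Set.range (connectedComponent : X → Set X)) \ {connectedComponent x}, C := by
    ext y
    simp only [mem_compl_iff, mem_iUnion, exists_prop]
    constructor
    · intro hy
      refine ⟨connectedComponent y, ⟨⟨y, rfl⟩, ?_⟩, mem_connectedComponent⟩
      intro h
      apply hy
      rw [← (h : connectedComponent y = connectedComponent x)]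
      exact mem_connectedComponent
    · rintro ⟨_, ⟨⟨z, rfl⟩, hz⟩, hyz⟩ hyx
      apply hz
      exact ((connectedComponent_eq hyz).trans (connectedComponent_eq hyx).symm)
  rw [← isClosed_compl_iff, hcompl]
  exact (hfin.subset diff_subset).isClosed_biUnion
    (by rintro _ ⟨⟨z, rfl⟩, -⟩; exact isClosed_connectedComponent)

/-- A continuous map with dense range from a space with finitely many connected components, under
which the images of the components lie in pairwise disjoint open sets covering the target,
induces a bijection on connected components. -/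
lemma bijOn_connectedComponents_of_denseRange {X Z : Type*} [TopologicalSpace X]
    [TopologicalSpace Z] (f : X → Z) (hf : Continuous f) (hd : DenseRange f)
    (hfin : (Set.range (connectedComponent : X → Set X)).Finite)
    (W : Set X → Set Z)
    (hWo : ∀ C ∈ Set.range (connectedComponent : X → Set X), IsOpen (W C))
    (hWf : ∀ C ∈ Set.range (connectedComponent : X → Set X), f '' C ⊆ W C)
    (hWd : ∀ C ∈ Set.range (connectedComponent : X → Set X),
      ∀ C' ∈ Set.range (connectedComponent : X → Set X), C ≠ C' → Disjoint (W C) (W C'))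
    (hWc : ∀ z : Z, ∃ C ∈ Set.range (connectedComponent : X → Set X), z ∈ W C) :
    Set.BijOn (fun C : Set X => closure (f '' C))
      (Set.range (connectedComponent : X → Set X))
      (Set.range (connectedComponent : Z → Set Z)) := by
  classical
  set 𝒞 := Set.range (connectedComponent : X → Set X) with h𝒞
  -- each `W C` is closed
  have hWcl : ∀ C ∈ 𝒞, IsClosed (W C) := by
    intro C hC
    have hcompl : (W C)ᶜ = ⋃ C' ∈ 𝒞 \ {C}, W C' := by
      ext z
      simp only [mem_compl_iff, mem_iUnion, exists_prop]
      constructor
      · intro hz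
        obtain ⟨C', hC', hzC'⟩ := hWc z
        refine ⟨C', ⟨hC', ?_⟩, hzC'⟩
        rintro (rfl : C' = C)
        exact hz hzC'
      · rintro ⟨C', ⟨hC', hne⟩, hzC'⟩ hzC
        exact (hWd C hC C' hC' (fun h ↦ hne h.symm)).le_bot ⟨hzC, hzC'⟩
    rw [← isOpen_compl_iff, hcompl]
    exact isOpen_biUnion fun C' hC' ↦ hWo C' hC'.1
  have hTW : ∀ C ∈ 𝒞, closure (f '' C) ⊆ W C := fun C hC ↦
    closure_minimal (hWf C hC) (hWcl C hC)
  have hTconn : ∀ C ∈ 𝒞, IsConnected (closure (f '' C)) := by
    rintro _ ⟨x, rfl⟩
    exact (isConnected_connectedComponent.image f hf.continuousOn).closure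
  -- the closures cover
  have hcov : ∀ z : Z, ∃ C ∈ 𝒞, z ∈ closure (f '' C) := by
    have hclosed : IsClosed (⋃ C ∈ 𝒞, closure (f '' C)) :=
      hfin.isClosed_biUnion fun _ _ ↦ isClosed_closure
    have hrange : range f ⊆ ⋃ C ∈ 𝒞, closure (f '' C) := by
      rintro _ ⟨x, rfl⟩
      simp only [mem_iUnion, exists_prop]
      exact ⟨connectedComponent x, ⟨x, rfl⟩, subset_closure ⟨x, mem_connectedComponent, rfl⟩⟩
    have := closure_minimal hrange hclosed
    rw [hd.closure_range] at this
    intro z
    have hz := this (mem_univ z)
    simpa only [mem_iUnion, exists_prop] using hz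
  -- each closure equals `W C`
  have hWT : ∀ C ∈ 𝒞, W C ⊆ closure (f '' C) := by
    intro C hC z hz
    obtain ⟨C', hC', hzC'⟩ := hcov z
    by_cases h : C = C'
    · subst h; exact hzC'
    · exact ((hWd C hC C' hC' h).le_bot ⟨hz, hTW C' hC' hzC'⟩).elim
  have hTeq : ∀ C ∈ 𝒞, closure (f '' C) = W C := fun C hC ↦
    subset_antisymm (hTW C hC) (hWT C hC)
  have hTclopen : ∀ C ∈ 𝒞, IsClopen (closure (f '' C)) := fun C hC ↦
    ⟨isClosed_closure, (hTeq C hC) ▸ hWo C hC⟩
  have hTcomp : ∀ C ∈ 𝒞, ∀ z ∈ closure (f '' C), closure (f '' C) = connectedComponent z :=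
    fun C hC z hz ↦ subset_antisymm ((hTconn C hC).subset_connectedComponent hz)
      ((hTclopen C hC).connectedComponent_subset hz)
  refine ⟨?_, ?_, ?_⟩
  · intro C hC
    obtain ⟨z, hz⟩ := (hTconn C hC).nonempty
    exact ⟨z, (hTcomp C hC z hz).symm⟩
  · intro C hC C' hC' heq
    by_contra hne
    obtain ⟨z, hz⟩ := (hTconn C hC).nonempty
    have heq' : closure (f '' C) = closure (f '' C') := heq
    have hz' : z ∈ closure (f '' C') := heq' ▸ hz
    exact (hWd C hC C' hC' hne).le_bot ⟨hTW C hC hz, hTW C' hC' hz'⟩
  · rintro _ ⟨z, rfl⟩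
    obtain ⟨C, hC, hzC⟩ := hcov z
    exact ⟨C, hC, hTcomp C hC z hzC⟩

end Groth.Agent.Lib.Helper50
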