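import Groth.Agent.Lib.Helper50.DvrSpec
import Groth.Agent.Lib.Helper50.UnivOC
import Mathlib.AlgebraicGeometry.ValuativeCriterion
import Mathlib.Topology.NoetherianSpace

set_option autoImplicit false
universe u
open CategoryTheory CategoryTheory.Limits AlgebraicGeometry IsLocalRing TopologicalSpace

namespace Groth.Agent.Lib.Helper50

theorem exists_generic_specializes_of_mem_closure_range {Y N : Type*} [TopologicalSpace Y]
    [TopologicalSpace N] [NoetherianSpace Y] [QuasiSober Y] (g : Y → N) (hg : Continuous g)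
    (w : N) (hw : w ∈ closure (Set.range g)) :
    ∃ ξ : Y, closure {ξ} ∈ irreducibleComponents Y ∧ g ξ ⤳ w := by
  have hfin : (irreducibleComponents Y).Finite := NoetherianSpace.finite_irreducibleComponents
  have h1 : Set.range g = ⋃ C ∈ irreducibleComponents Y, g '' C := by
    rw [← Set.image_univ, ← sUnion_irreducibleComponents, Set.sUnion_eq_biUnion,
      Set.image_iUnion₂]
  rw [h1, hfin.closure_biUnion] at hw
  simp only [Set.mem_iUnion] at hw
  obtain ⟨C, hC, hwC⟩ := hw
  obtain ⟨ξ, hξ⟩ := QuasiSober.sober hC.1 (isClosed_of_mem_irreducibleComponents C hC)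
  refine ⟨ξ, by rw [hξ.def]; exact hC, ?_⟩
  rw [specializes_iff_mem_closure]
  have h2 : g '' C ⊆ closure {g ξ} := by
    rw [← hξ.def]
    refine (image_closure_subset_closure_image hg).trans ?_
    rw [Set.image_singleton]
  exact closure_minimal h2 isClosed_closure hwC

section Conversion

variable {L : Type u} [Field L] (A : ValuationSubring L)

/-- The identification of the abstract fraction field of a valuation subring with the field. -/
noncomputable def fracEquiv : FractionRing A ≃ₐ[A] L := FractionRing.algEquiv A L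

theorem SpecMap_algebraMap_fractionRing :
    Spec.map (CommRingCat.ofHom (algebraMap A (FractionRing A))) =
      Spec.map (CommRingCat.ofHom ((fracEquiv A).symm : L →+* FractionRing A)) ≫
        Spec.map (CommRingCat.ofHom A.subtype) := by
  rw [← Spec.map_comp]
  congr 1
  ext a
  exact ((fracEquiv A).symm.commutes a).symm

theorem SpecMap_subtype_eq :
    Spec.map (CommRingCat.ofHom A.subtype) =
      Spec.map (CommRingCat.ofHom ((fracEquiv A) : FractionRing A →+* L)) ≫
        Spec.map (CommRingCat.ofHom (algebraMap A (FractionRing A))) := by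
  rw [← Spec.map_comp]
  congr 1
  ext a
  exact ((fracEquiv A).commutes a).symm

theorem SpecMap_fracEquiv_symm_comp :
    Spec.map (CommRingCat.ofHom ((fracEquiv A) : FractionRing A →+* L)) ≫
      Spec.map (CommRingCat.ofHom ((fracEquiv A).symm : L →+* FractionRing A)) = 𝟙 _ := by
  rw [← Spec.map_comp, ← Spec.map_id]
  congr 1
  ext a
  exact (fracEquiv A).apply_symm_apply a

end Conversion

/-- Existence part of the valuative criterion, tested on discrete valuation subrings of fields. -/
def DvrExistence {X S : Scheme.{u}} (f : X ⟶ S) : Prop :=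
  ∀ (L : Type u) [Field L] (A : ValuationSubring L), IsDiscreteValuationRing A →
    ∀ (x : Spec (CommRingCat.of L) ⟶ X) (y : Spec (CommRingCat.of A) ⟶ S),
      x ≫ f = Spec.map (CommRingCat.ofHom A.subtype) ≫ y →
      ∃ l : Spec (CommRingCat.of A) ⟶ X, l ≫ f = y ∧
        Spec.map (CommRingCat.ofHom A.subtype) ≫ l = x

theorem dvrExistence_of_fractionRing {X S : Scheme.{u}} (f : X ⟶ S)
    (H : ∀ (A : Type u) [CommRing A] [IsDomain A] [IsDiscreteValuationRing A]
      (x : Spec (CommRingCat.of (FractionRing A)) ⟶ X) (y : Spec (CommRingCat.of A) ⟶ S),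
      x ≫ f = Spec.map (CommRingCat.ofHom (algebraMap A (FractionRing A))) ≫ y →
        ∃ l : Spec (CommRingCat.of A) ⟶ X, l ≫ f = y ∧
          Spec.map (CommRingCat.ofHom (algebraMap A (FractionRing A))) ≫ l = x) :
    DvrExistence f := by
  intro L _ A hA x y hxy
  have := hA
  obtain ⟨l, hl₁, hl₂⟩ := H A
    (Spec.map (CommRingCat.ofHom ((fracEquiv A).symm : L →+* FractionRing A)) ≫ x) y (by
      rw [Category.assoc, hxy, SpecMap_algebraMap_fractionRing, Category.assoc])
  refine ⟨l, hl₁, ?_⟩
  rw [SpecMap_subtype_eq, Category.assoc, hl₂, ← Category.assoc, SpecMap_fracEquiv_symm_comp,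
    Category.id_comp]

theorem DvrExistence.of_isPullback {X S X' S' : Scheme.{u}} {f : X ⟶ S} (H : DvrExistence f)
    {f' : X' ⟶ S'} {g' : X' ⟶ X} {g : S' ⟶ S} (h : IsPullback g' f' f g) :
    DvrExistence f' := by
  intro L _ A hA x y hxy
  obtain ⟨l, hl₁, hl₂⟩ := H L A hA (x ≫ g') (y ≫ g) (by
    rw [Category.assoc, h.w, ← Category.assoc, hxy, Category.assoc])
  refine ⟨h.lift l y hl₁, h.lift_snd _ _ _, ?_⟩
  apply h.hom_ext
  · rw [Category.assoc, h.lift_fst, hl₂]
  · rw [Category.assoc, h.lift_snd, hxy]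

theorem isClosedMap_of_dvrExistence {X S : Scheme.{u}} [IsLocallyNoetherian S] (f : X ⟶ S)
    [LocallyOfFiniteType f] [QuasiCompact f] (H : DvrExistence f) : IsClosedMap f.base := by
  intro Z hZ
  rw [← closure_subset_iff_isClosed]
  intro w hw
  obtain ⟨N, hN, hwN, -⟩ := exists_isAffineOpen_mem_and_subset
    (show w ∈ (⊤ : S.Opens) from trivial)
  haveI : IsLocallyNoetherian X := LocallyOfFiniteType.isLocallyNoetherian f
  let V : X.Opens := f ⁻¹ᵁ N
  haveI : CompactSpace (V : Scheme.{u}) :=
    isCompact_iff_compactSpace.mp (QuasiCompact.isCompact_preimage (f := f) _ N.2 hN.isCompact)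
  haveI : IsNoetherian (V : Scheme.{u}) := {}
  let Z' : Set (V : Scheme.{u}) := V.ι.base ⁻¹' Z
  have hZ' : IsClosed Z' := hZ.preimage V.ι.continuous
  haveI : QuasiSober Z' := hZ'.isClosedEmbedding_subtypeVal.quasiSober
  let g : Z' → S := fun z => f.base (V.ι.base z.1)
  have hg : Continuous g :=
    f.continuous.comp (V.ι.continuous.comp continuous_subtype_val)
  have hrange : Set.range g = (N : Set S) ∩ f.base '' Z := by
    ext s
    constructor
    · rintro ⟨z, rfl⟩
      exact ⟨z.1.2, V.ι.base z.1, z.2, rfl⟩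
    · rintro ⟨hsN, z, hzZ, rfl⟩
      exact ⟨⟨⟨z, hsN⟩, hzZ⟩, rfl⟩
  have hw' : w ∈ closure (Set.range g) := by
    rw [hrange]
    exact N.2.inter_closure ⟨hwN, hw⟩
  obtain ⟨ξ, -, hξ⟩ := exists_generic_specializes_of_mem_closure_range g hg w hw'
  set z : X := V.ι.base ξ.1 with hz
  have hzZ : z ∈ Z := ξ.2
  by_cases hne : w = f.base z
  · exact ⟨z, hzZ, hne.symm⟩
  obtain ⟨A, h, hA, hcl, hcomp⟩ := exists_dvr_through_specialization f z w hξ hne
  obtain ⟨l, hl₁, hl₂⟩ := H _ A hA (X.fromSpecResidueField z) h hcomp.symm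
  refine ⟨l.base (closedPoint A), ?_, ?_⟩
  · have h1 : (Spec.map (CommRingCat.ofHom A.subtype)).base (closedPoint (X.residueField z)) ⤳
        closedPoint A := IsLocalRing.specializes_closedPoint _
    have h2 := h1.map l.continuous
    have h3 : l.base ((Spec.map (CommRingCat.ofHom A.subtype)).base
        (closedPoint (X.residueField z))) = z := by
      have := congrArg (fun q => q.base (closedPoint (X.residueField z))) hl₂
      exact this.trans (Scheme.fromSpecResidueField_apply z _)
    rw [h3] at h2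
    exact h2.mem_closed hZ hzZ
  · rw [← hcl, ← hl₁]
    rfl

theorem universallyClosed_of_dvrExistence {X S : Scheme.{u}} [IsLocallyNoetherian S] (f : X ⟶ S)
    [LocallyOfFiniteType f] [QuasiCompact f] (H : DvrExistence f) : UniversallyClosed f := by
  refine universallyClosed_of_affineSpace f (fun n _ => ?_)
  haveI : IsLocallyNoetherian (𝔸(ULift.{u} (Fin n); S)) :=
    LocallyOfFiniteType.isLocallyNoetherian (𝔸(ULift.{u} (Fin n); S) ↘ S)
  exact isClosedMap_of_dvrExistence (pullback.snd f (𝔸(ULift.{u} (Fin n); S) ↘ S))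
    (H.of_isPullback (IsPullback.of_hasPullback f (𝔸(ULift.{u} (Fin n); S) ↘ S)))

end Groth.Agent.Lib.Helper50
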