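import Groth.Agent.Lib.Helper50.LimBC
import Mathlib.AlgebraicGeometry.PullbackCarrier
import Mathlib.AlgebraicGeometry.Fiber
import Mathlib.AlgebraicGeometry.Properties

set_option autoImplicit false
universe u
open CategoryTheory AlgebraicGeometry Limits

namespace Groth.Agent.Lib.Helper50

attribute [local instance] IsCofiltered.isConnected

section

variable {I : Type u} [SmallCategory I] [IsCofiltered I] (D : I ⥤ Scheme.{u})
  [∀ (i j : I) (f : i ⟶ j), IsAffineHom (D.map f)]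
  (c : Cone D) (hc : IsLimit c) {B : Scheme.{u}}
  (β : ∀ j, D.obj j ⟶ B) (hβ : ∀ {j k : I} (φ : j ⟶ k), D.map φ ≫ β k = β j)
  {T : Scheme.{u}} (a : T ⟶ B) (b : c.pt ⟶ B) (hb : ∀ j, c.π.app j ≫ β j = b)
  {P : Scheme.{u}} (p : P ⟶ T) (q : P ⟶ c.pt) (h : IsPullback p q a b)

include hc hβ hb h in
/-- If all stages of a base change are open maps, so is the base change to the limit. -/
theorem isOpenMap_of_forall_isOpenMap_snd (H : ∀ j, IsOpenMap (pullback.snd a (β j))) :
    IsOpenMap q := by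
  intro W hW
  let cX := bcCone D β hβ a c b hb p q h.w
  have hcX : IsLimit cX := isLimitBcCone D β hβ a c b hb p q hc h
  rw [isOpen_iff_forall_mem_open]
  rintro _ ⟨x, hx, rfl⟩
  obtain ⟨_, ⟨j, V, hV, rfl⟩, hxV, hVW⟩ := TopologicalSpace.Opens.isBasis_iff_nbhd.mp
    (isBasis_preimage_isAffineOpen _ cX hcX) (U := ⟨W, hW⟩) hx
  let qj : P ⟶ pullback a (β j) := bcConeπ D β a c b hb p q h.w j
  let V' : Set ↥(pullback a (β j)) := (V : Set ↥((bcDiagram D β hβ a).obj j))
  have hxV' : x ∈ qj ⁻¹' V' := hxV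
  have hVW' : qj ⁻¹' V' ⊆ W := hVW
  refine ⟨q '' (qj ⁻¹' V'), Set.image_mono hVW', ?_, ⟨x, hxV', rfl⟩⟩
  rw [Scheme.image_preimage_eq_of_isPullback (isPullback_bcConeπ D β a c b hb p q h j)]
  exact (H j _ V.isOpen).preimage (c.π.app j).continuous

include hc hβ hb h in
/-- If all stages of a base change of a quasi-compact morphism are closed maps, so is the base
change to the limit. -/
theorem isClosedMap_of_forall_isClosedMap_snd [QuasiCompact a]
    (H : ∀ j, IsClosedMap (pullback.snd a (β j))) :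
    IsClosedMap q := by
  intro Z hZ
  let cX := bcCone D β hβ a c b hb p q h.w
  have hcX : IsLimit cX := isLimitBcCone D β hβ a c b hb p q hc h
  have : QuasiCompact q := by
    exact MorphismProperty.of_isPullback h inferInstance
  rw [← isOpen_compl_iff, isOpen_iff_forall_mem_open]
  intro s hs
  have hF : IsCompact (q ⁻¹' {s}) := q.isCompact_preimage_singleton s
  have hFZ : q ⁻¹' {s} ⊆ Zᶜ := fun x hx hxZ ↦ hs ⟨x, hxZ, hx⟩
  obtain ⟨K, hKc, hKo, hFK, hKZ⟩ :=
    PrespectralSpace.exists_isCompact_and_isOpen_between hF hZ.isOpen_compl hFZ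
  obtain ⟨j, V, hVc, hVK⟩ := exists_preimage_eq _ cX hcX ⟨K, hKo⟩ hKc
  let qj : P ⟶ pullback a (β j) := bcConeπ D β a c b hb p q h.w j
  let V' : Set ↥(pullback a (β j)) := (V : Set ↥((bcDiagram D β hβ a).obj j))
  have hV'o : IsOpen V' := V.isOpen
  have hVK' : ∀ x : P, x ∈ K ↔ qj x ∈ V' := fun x ↦ by
    have h1 : qj ⁻¹' V' = K := congrArg (fun U : P.Opens ↦ (U : Set P)) hVK
    rw [← h1]
    exact Iff.rfl
  refine ⟨(c.π.app j) ⁻¹' (pullback.snd a (β j) '' V'ᶜ)ᶜ, ?_, ?_, ?_⟩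
  · rintro _ hs' ⟨z, hz, rfl⟩
    apply hs'
    refine ⟨qj z, ?_, ?_⟩
    · intro hzV
      exact hKZ ((hVK' z).mpr hzV) hz
    · rw [← Scheme.Hom.comp_apply, bcConeπ_snd, Scheme.Hom.comp_apply]
  · exact ((H j _ hV'o.isClosed_compl).isOpen_compl).preimage (c.π.app j).continuous
  · rintro ⟨v, hv, hvs⟩
    obtain ⟨x, hx1, hx2⟩ := Scheme.exists_preimage_of_isPullback
      (isPullback_bcConeπ D β a c b hb p q h j) v s hvs
    apply hv
    have : x ∈ K := hFK hx2
    rw [hVK'] at this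
    rwa [← hx1]

end

end Groth.Agent.Lib.Helper50
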