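import Groth.Agent.Lib.Helper50.LimDesc3
import Mathlib.AlgebraicGeometry.Morphisms.Flat

set_option autoImplicit false
universe u
open CategoryTheory AlgebraicGeometry Limits

namespace Groth.Agent.Lib.Helper50

/-- In a pushout square of commutative rings, the pushout is generated by the images. -/
lemma range_sup_range_eq_top_of_isPushout {R A B P : CommRingCat.{u}} {f : R ⟶ A} {g : R ⟶ B}
    {inl : A ⟶ P} {inr : B ⟶ P} (h : IsPushout f g inl inr) :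
    inl.hom.range ⊔ inr.hom.range = ⊤ := by
  let T : Subring P := inl.hom.range ⊔ inr.hom.range
  let a : A ⟶ CommRingCat.of T := CommRingCat.ofHom
    (inl.hom.codRestrict T fun x ↦ (le_sup_left : inl.hom.range ≤ T) ⟨x, rfl⟩)
  let b : B ⟶ CommRingCat.of T := CommRingCat.ofHom
    (inr.hom.codRestrict T fun x ↦ (le_sup_right : inr.hom.range ≤ T) ⟨x, rfl⟩)
  let ι : CommRingCat.of T ⟶ P := CommRingCat.ofHom T.subtype
  have hab : f ≫ a = g ≫ b := by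
    ext x
    exact congr($(h.w).hom x)
  have h1 : inl ≫ h.desc a b hab ≫ ι = inl ≫ 𝟙 P := by
    rw [h.inl_desc_assoc]; ext x; rfl
  have h2 : inr ≫ h.desc a b hab ≫ ι = inr ≫ 𝟙 P := by
    rw [h.inr_desc_assoc]; ext x; rfl
  have h3 : h.desc a b hab ≫ ι = 𝟙 P := h.hom_ext h1 h2
  rw [eq_top_iff]
  intro p _
  have : p = ι.hom ((h.desc a b hab).hom p) := congr($(h3.symm).hom p)
  rw [this]
  exact ((h.desc a b hab).hom p).2

/-- A finite type ring map `φ : R → C` has a finite "test set" for surjectivity after a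
"base change" `R' → C'` (with `C'` generated by the images of `C` and `R'`). -/
lemma exists_finset_forall_surjective_of_generate {R C : Type u} [CommRing R] [CommRing C]
    (φ : R →+* C) (hφ : φ.FiniteType) :
    ∃ s : Finset C, ∀ {R' C' : Type u} [CommRing R'] [CommRing C'] (α : R →+* R') (ρ : C →+* C')
      (φ' : R' →+* C'), φ'.comp α = ρ.comp φ → φ'.range ⊔ ρ.range = ⊤ →
      (∀ x ∈ s, ρ x ∈ φ'.range) → Function.Surjective φ' := by
  algebraize [φ]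
  obtain ⟨s, hs⟩ := (‹Algebra.FiniteType R C› : Algebra.FiniteType R C).out
  refine ⟨s, fun {R' C'} _ _ α ρ φ' hcomm hgen hx ↦ ?_⟩
  let A' : Subalgebra R C :=
    { φ'.range.comap ρ with
      algebraMap_mem' := fun r ↦ ⟨α r, congr($hcomm r)⟩ }
  have h1 : Algebra.adjoin R (s : Set C) ≤ A' := Algebra.adjoin_le fun x hx' ↦ hx x hx'
  rw [hs] at h1
  have h2 : ρ.range ≤ φ'.range := by
    rintro _ ⟨z, rfl⟩
    exact h1 (Algebra.mem_top (R := R) (x := z))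
  rw [sup_eq_left.mpr h2] at hgen
  exact RingHom.range_eq_top.mp hgen

end Groth.Agent.Lib.Helper50

namespace Groth.Agent.Lib.Helper50

lemma surjective_appLE_of_eq {X Y : Scheme.{u}} (f : X ⟶ Y) (W : Y.Opens) (O : X.Opens)
    (e : O ≤ f ⁻¹ᵁ W) (hO : O = f ⁻¹ᵁ W) (H : Function.Surjective (f.app W).hom) :
    Function.Surjective (f.appLE W O e).hom := by
  subst hO
  rwa [← Scheme.Hom.app_eq_appLE]

lemma app_eq_of_appLE_eq {X Y : Scheme.{u}} (f : X ⟶ Y) (W : Y.Opens) (O : X.Opens)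
    (e : O ≤ f ⁻¹ᵁ W) (hO : O = f ⁻¹ᵁ W) (s t : Γ(Y, W))
    (H : f.appLE W O e s = f.appLE W O e t) : f.app W s = f.app W t := by
  subst hO
  rwa [← Scheme.Hom.app_eq_appLE] at H

section Cart

variable {J : Type u} [SmallCategory J] [IsCofiltered J] {F E : J ⥤ Scheme.{u}} (τ : F ⟶ E)
    [∀ (i j : J) (f : i ⟶ j), IsAffineHom (F.map f)]
    [∀ (i j : J) (f : i ⟶ j), IsAffineHom (E.map f)]
    (cF : Cone F) (hcF : IsLimit cF) (cE : Cone E) (hcE : IsLimit cE)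
    (f : cF.pt ⟶ cE.pt) (hf : ∀ j, cF.π.app j ≫ τ.app j = f ≫ cE.π.app j)

omit [IsCofiltered J] [∀ (i j : J) (f : i ⟶ j), IsAffineHom (F.map f)]
  [∀ (i j : J) (f : i ⟶ j), IsAffineHom (E.map f)] in
lemma map_preimage_le_app_preimage {j k : J} (g : k ⟶ j) (V : (E.obj j).Opens) :
    F.map g ⁻¹ᵁ (τ.app j ⁻¹ᵁ V) ≤ τ.app k ⁻¹ᵁ (E.map g ⁻¹ᵁ V) :=
  (map_preimage_app_preimage τ g V).le

include hf in
omit [IsCofiltered J] [∀ (i j : J) (f : i ⟶ j), IsAffineHom (F.map f)]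
  [∀ (i j : J) (f : i ⟶ j), IsAffineHom (E.map f)] in
lemma π_preimage_app_preimage (j : J) (V : (E.obj j).Opens) :
    cF.π.app j ⁻¹ᵁ (τ.app j ⁻¹ᵁ V) = f ⁻¹ᵁ (cE.π.app j ⁻¹ᵁ V) := by
  rw [← Scheme.Hom.comp_preimage, ← Scheme.Hom.comp_preimage, hf]

include hcF hcE hf in
lemma exists_forall_map_app_mem_range_appLE (j₁ : J) {V : (E.obj j₁).Opens}
    (hV : IsAffineOpen V) (hU : IsCompact (τ.app j₁ ⁻¹ᵁ V : Set (F.obj j₁)))
    [IsClosedImmersion f] (x : Γ(F.obj j₁, τ.app j₁ ⁻¹ᵁ V)) :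
    ∃ (j : J) (φ : j ⟶ j₁), ∀ (k : J) (g : k ⟶ j) (g' : k ⟶ j₁), g ≫ φ = g' →
      (F.map g').app (τ.app j₁ ⁻¹ᵁ V) x ∈ ((τ.app k).appLE (E.map g' ⁻¹ᵁ V)
        (F.map g' ⁻¹ᵁ (τ.app j₁ ⁻¹ᵁ V)) (map_preimage_le_app_preimage τ g' V)).hom.range := by
  have hπ := isAffineHom_π_app E cE hcE j₁
  have hW : IsAffineOpen (cE.π.app j₁ ⁻¹ᵁ V) := hV.preimage _
  have hO := π_preimage_app_preimage τ cF cE f hf j₁ V
  obtain ⟨σ, hσ⟩ := surjective_appLE_of_eq f (cE.π.app j₁ ⁻¹ᵁ V)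
    (cF.π.app j₁ ⁻¹ᵁ (τ.app j₁ ⁻¹ᵁ V)) hO.le hO (Scheme.Hom.app_surjective f _ hW)
    ((cF.π.app j₁).app (τ.app j₁ ⁻¹ᵁ V) x)
  obtain ⟨k₁, g₁, t₁, ht₁⟩ := exists_appLE_π_eq E cE hcE hV σ
  have hU₁ : IsCompact (F.map g₁ ⁻¹ᵁ (τ.app j₁ ⁻¹ᵁ V) : Set (F.obj k₁)) :=
    QuasiCompact.isCompact_preimage (f := F.map g₁) _ (TopologicalSpace.Opens.isOpen _) hU
  have key : (cF.π.app k₁).app (F.map g₁ ⁻¹ᵁ (τ.app j₁ ⁻¹ᵁ V))
        ((F.map g₁).app (τ.app j₁ ⁻¹ᵁ V) x) =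
      (cF.π.app k₁).app (F.map g₁ ⁻¹ᵁ (τ.app j₁ ⁻¹ᵁ V))
        ((τ.app k₁).appLE (E.map g₁ ⁻¹ᵁ V) (F.map g₁ ⁻¹ᵁ (τ.app j₁ ⁻¹ᵁ V))
          (map_preimage_le_app_preimage τ g₁ V) t₁) := by
    refine app_eq_of_appLE_eq _ _ (cF.π.app j₁ ⁻¹ᵁ (τ.app j₁ ⁻¹ᵁ V))
      (π_preimage_le F cF g₁ _) (π_preimage_eq F cF g₁ _).symm _ _ ?_
    rw [← ht₁] at hσ
    simp only [← CommRingCat.comp_apply, Scheme.Hom.app_eq_appLE, Scheme.Hom.appLE_comp_appLE,
      cF.w, hf] at hσ ⊢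
    exact hσ.symm
  obtain ⟨l, u, hl⟩ := exists_app_map_eq_map_of_isLimit F cF hcF hU₁ _ _ key
  refine ⟨l, u ≫ g₁, fun k g g' hg ↦ ?_⟩
  subst hg
  refine ⟨(E.map (g ≫ u)).appLE (E.map g₁ ⁻¹ᵁ V) (E.map (g ≫ u ≫ g₁) ⁻¹ᵁ V)
    (by rw [← Scheme.Hom.comp_preimage, ← E.map_comp, Category.assoc]) t₁, ?_⟩
  have := congr((F.map g).appLE (F.map u ⁻¹ᵁ (F.map g₁ ⁻¹ᵁ (τ.app j₁ ⁻¹ᵁ V)))
    (F.map (g ≫ u ≫ g₁) ⁻¹ᵁ (τ.app j₁ ⁻¹ᵁ V))
    (by simp only [Functor.map_comp, Scheme.Hom.comp_preimage]; exact le_rfl) $hl)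
  have hnat : F.map g ≫ F.map u ≫ τ.app k₁ = τ.app k ≫ E.map (g ≫ u) := by
    rw [← Category.assoc, ← F.map_comp, τ.naturality]
  simp only [← CommRingCat.comp_apply, Scheme.Hom.app_eq_appLE, Scheme.Hom.appLE_comp_appLE,
    ← Functor.map_comp] at this ⊢
  simp only [hnat] at this
  exact this.symm

variable (hτ : ∀ {j k : J} (φ : j ⟶ k), IsPullback (F.map φ) (τ.app j) (τ.app k) (E.map φ))

include hcF hcE hf hτ in
lemma exists_forall_surjective_app_appLE (j₁ : J) {V : (E.obj j₁).Opens}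
    (hV : IsAffineOpen V) (hU : IsAffineOpen (τ.app j₁ ⁻¹ᵁ V))
    (hφ : ((τ.app j₁).app V).hom.FiniteType) [IsClosedImmersion f] :
    ∃ (j : J) (φ : j ⟶ j₁), ∀ (k : J) (g : k ⟶ j) (g' : k ⟶ j₁), g ≫ φ = g' →
      Function.Surjective ((τ.app k).appLE (E.map g' ⁻¹ᵁ V)
        (F.map g' ⁻¹ᵁ (τ.app j₁ ⁻¹ᵁ V)) (map_preimage_le_app_preimage τ g' V)).hom := by
  obtain ⟨s, hs⟩ := exists_finset_forall_surjective_of_generate _ hφ
  obtain ⟨j, φ, hj⟩ := eventually_finset s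
    (fun x k g' ↦ (F.map g').app (τ.app j₁ ⁻¹ᵁ V) x ∈ ((τ.app k).appLE (E.map g' ⁻¹ᵁ V)
        (F.map g' ⁻¹ᵁ (τ.app j₁ ⁻¹ᵁ V)) (map_preimage_le_app_preimage τ g' V)).hom.range)
    (fun x _ ↦ exists_forall_map_app_mem_range_appLE τ cF hcF cE hcE f hf j₁ hV hU.isCompact x)
  refine ⟨j, φ, fun k g g' hg ↦ ?_⟩
  refine hs ((E.map g').app V).hom ((F.map g').app (τ.app j₁ ⁻¹ᵁ V)).hom _ ?_ ?_ (hj k g g' hg)
  · rw [← CommRingCat.hom_comp, ← CommRingCat.hom_comp]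
    congr 1
    simp only [Scheme.Hom.app_eq_appLE, Scheme.Hom.appLE_comp_appLE, τ.naturality]
  · have hUY : F.map g' ⁻¹ᵁ (τ.app j₁ ⁻¹ᵁ V) =
        F.map g' ⁻¹ᵁ (τ.app j₁ ⁻¹ᵁ V) ⊓ τ.app k ⁻¹ᵁ (E.map g' ⁻¹ᵁ V) :=
      (inf_eq_left.mpr (map_preimage_le_app_preimage τ g' V)).symm
    have hpo := (isIso_pushoutSection_iff (hτ g') (US := V) (UT := E.map g' ⁻¹ᵁ V)
      (UX := τ.app j₁ ⁻¹ᵁ V) le_rfl le_rfl hUY).mp
      (isIso_pushoutSection_of_isAffineOpen (hτ g') le_rfl le_rfl hUY hV (hV.preimage _) hU)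
    have := range_sup_range_eq_top_of_isPushout hpo
    rw [sup_comm]
    rw [Scheme.Hom.app_eq_appLE]
    exact this

include hcF hcE hf hτ in
/-- **Descent of closed immersions** (Stacks 01ZP-type). For a cartesian natural transformation
between cofiltered systems of qcqs schemes with affine transition maps, locally of finite type,
whose limit is a closed immersion: eventually the components are closed immersions. -/
theorem exists_forall_isClosedImmersion_app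
    [∀ j, CompactSpace (E.obj j)] [∀ j, QuasiSeparatedSpace (E.obj j)]
    [∀ j, CompactSpace (F.obj j)] [∀ j, QuasiSeparatedSpace (F.obj j)]
    [∀ j, LocallyOfFiniteType (τ.app j)] [IsClosedImmersion f] (j₀ : J) :
    ∃ (j : J) (_ : j ⟶ j₀), ∀ (k : J) (_ : k ⟶ j), IsClosedImmersion (τ.app k) := by
  obtain ⟨j₁, φ₁, h₁⟩ := exists_forall_isAffineHom_app τ cF hcF cE hcE f hf j₀
  have hτ₁ : IsAffineHom (τ.app j₁) := h₁ j₁ (𝟙 _)
  obtain ⟨j, φ, hj⟩ := eventually_finite (ι := (E.obj j₁).affineCover.finiteSubcover.I₀)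
    (fun a k g' ↦ Function.Surjective ((τ.app k).appLE
      (E.map g' ⁻¹ᵁ ((E.obj j₁).affineCover.finiteSubcover.f a).opensRange)
      (F.map g' ⁻¹ᵁ (τ.app j₁ ⁻¹ᵁ ((E.obj j₁).affineCover.finiteSubcover.f a).opensRange))
      (map_preimage_le_app_preimage τ g' _)).hom)
    (fun a ↦ exists_forall_surjective_app_appLE τ cF hcF cE hcE f hf hτ j₁
      (isAffineOpen_opensRange _) ((isAffineOpen_opensRange _).preimage _) (by
        rw [Scheme.Hom.app_eq_appLE]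
        exact HasRingHomProperty.appLE @LocallyOfFiniteType _ inferInstance
          ⟨_, isAffineOpen_opensRange _⟩ ⟨_, (isAffineOpen_opensRange _).preimage _⟩ _))
  refine ⟨j, φ ≫ φ₁, fun k g ↦ ?_⟩
  have : IsAffineHom (τ.app k) := h₁ k (g ≫ φ)
  refine isClosedImmersion_of_forall_affine (τ.app k)
    (fun a ↦ E.map (g ≫ φ) ⁻¹ᵁ ((E.obj j₁).affineCover.finiteSubcover.f a).opensRange) ?_
    (fun a ↦ (isAffineOpen_opensRange _).preimage _)
    (fun a ↦ ((isAffineOpen_opensRange _).preimage _).preimage _) (fun a ↦ ?_)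
  · rw [← Scheme.Hom.preimage_iSup, (E.obj j₁).affineCover.finiteSubcover.iSup_opensRange]
    rfl
  · exact surjective_app_of_surjective_appLE _ _ _ _ (map_preimage_app_preimage τ (g ≫ φ) _)
      (hj k g (g ≫ φ) rfl a)

end Cart

end Groth.Agent.Lib.Helper50
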