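import Groth.Agent.Lib.Helper50.LimDesc4
import Mathlib.AlgebraicGeometry.Morphisms.FinitePresentation
import Mathlib.AlgebraicGeometry.PullbackCarrier

set_option autoImplicit false
universe u
open CategoryTheory AlgebraicGeometry Limits Topology

namespace Groth.Agent.Lib.Helper50

section

variable {I : Type u} [SmallCategory I] [IsCofiltered I]
    (D : I ⥤ Scheme.{u}) (c : Limits.Cone D) (hc : Limits.IsLimit c)
    [∀ (i j : I) (f : i ⟶ j), IsAffineHom (D.map f)]

include hc in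
/-- A constructible subset of a stage whose preimage in the limit is empty has empty preimage
at some later stage. -/
lemma exists_map_preimage_eq_empty_of_isConstructible (i₀ : I) [CompactSpace (D.obj i₀)]
    [QuasiSeparatedSpace (D.obj i₀)] {C : Set (D.obj i₀)} (hC : IsConstructible C)
    (h : c.π.app i₀ ⁻¹' C = ∅) : ∃ (j : I) (φ : j ⟶ i₀), D.map φ ⁻¹' C = ∅ := by
  have : Nonempty (D.obj i₀).affineOpens := ⟨⟨⊥, isAffineOpen_bot _⟩⟩
  refine IsConstructible.induction_of_isTopologicalBasis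
    (P := fun C _ ↦ c.π.app i₀ ⁻¹' C = ∅ → ∃ (j : I) (φ : j ⟶ i₀), D.map φ ⁻¹' C = ∅)
    (fun U : (D.obj i₀).affineOpens ↦ ((U : (D.obj i₀).Opens) : Set (D.obj i₀))) ?_
    (fun U ↦ U.2.isCompact) ?_ ?_ C hC h
  · have := (D.obj i₀).isBasis_affineOpens
    rw [TopologicalSpace.Opens.IsBasis] at this
    convert this using 1
    ext s
    simp
  · intro U s hs h
    let V : (D.obj i₀).Opens := ⨆ j ∈ s, (j : (D.obj i₀).Opens)
    have hV : ((V : (D.obj i₀).Opens) : Set (D.obj i₀)) =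
        ⋃ j ∈ s, ((j : (D.obj i₀).Opens) : Set (D.obj i₀)) := by simp [V]
    rw [← hV] at h ⊢
    have H : c.π.app i₀ ⁻¹ᵁ U.1 ≤ c.π.app i₀ ⁻¹ᵁ V := by
      intro x hx
      by_contra hxV
      have : x ∈ c.π.app i₀ ⁻¹' ((U.1 : Set (D.obj i₀)) \ V) := ⟨hx, hxV⟩
      rw [h] at this
      exact this
    obtain ⟨j, φ, hj⟩ := exists_map_preimage_le_map_preimage D c hc U.2.isCompact H
    refine ⟨j, φ, ?_⟩
    ext x
    simp only [Set.mem_preimage, Set.mem_sdiff, Set.mem_empty_iff_false, iff_false, not_and,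
      not_not]
    intro hx
    exact hj hx
  · intro s _ t _ hs ht h
    rw [Set.preimage_union, Set.union_empty_iff] at h
    obtain ⟨j₁, φ₁, h₁⟩ := hs h.1
    obtain ⟨j₂, φ₂, h₂⟩ := ht h.2
    obtain ⟨l, a, b, -⟩ := IsCofilteredOrEmpty.cone_objs j₁ j₂
    obtain ⟨m, e, he⟩ := IsCofilteredOrEmpty.cone_maps (a ≫ φ₁) (b ≫ φ₂)
    refine ⟨m, e ≫ a ≫ φ₁, ?_⟩
    rw [Set.preimage_union, Set.union_empty_iff]
    constructor
    · rw [← Category.assoc, D.map_comp, Scheme.Hom.comp_base, TopCat.coe_comp, Set.preimage_comp,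
        h₁, Set.preimage_empty]
    · rw [he, ← Category.assoc, D.map_comp, Scheme.Hom.comp_base, TopCat.coe_comp,
        Set.preimage_comp, h₂, Set.preimage_empty]

end

section Cart

variable {J : Type u} [SmallCategory J] [IsCofiltered J] {F E : J ⥤ Scheme.{u}} (τ : F ⟶ E)
    [∀ (i j : J) (f : i ⟶ j), IsAffineHom (F.map f)]
    [∀ (i j : J) (f : i ⟶ j), IsAffineHom (E.map f)]
    (cF : Cone F) (cE : Cone E) (hcE : IsLimit cE)
    (f : cF.pt ⟶ cE.pt) (hf : ∀ j, cF.π.app j ≫ τ.app j = f ≫ cE.π.app j)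
    (hτ : ∀ {j k : J} (φ : j ⟶ k), IsPullback (F.map φ) (τ.app j) (τ.app k) (E.map φ))

omit [∀ (i j : J) (f : i ⟶ j), IsAffineHom (F.map f)] in
include hcE hf hτ in
/-- **Descent of surjectivity**. For a cartesian natural transformation
between cofiltered systems of qcqs schemes with affine transition maps, locally of finite
presentation, whose limit is surjective: eventually the components are surjective. -/
theorem exists_forall_surjective_app
    [∀ j, CompactSpace (E.obj j)] [∀ j, QuasiSeparatedSpace (E.obj j)]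
    [∀ j, CompactSpace (F.obj j)]
    [∀ j, LocallyOfFinitePresentation (τ.app j)] [Surjective f] (j₀ : J) :
    ∃ (j : J) (_ : j ⟶ j₀), ∀ (k : J) (_ : k ⟶ j), Surjective (τ.app k) := by
  have hC : IsConstructible (Set.range (τ.app j₀))ᶜ := by
    rw [isConstructible_compl, ← Set.image_univ]
    exact (τ.app j₀).isConstructible_image .univ
  obtain ⟨j, φ, hj⟩ := exists_map_preimage_eq_empty_of_isConstructible E cE hcE j₀ hC (by
    ext y
    simp only [Set.mem_preimage, Set.mem_compl_iff, Set.mem_empty_iff_false, iff_false, not_not]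
    obtain ⟨x, rfl⟩ := f.surjective y
    refine ⟨cF.π.app j₀ x, ?_⟩
    rw [← Scheme.Hom.comp_apply, ← Scheme.Hom.comp_apply, hf])
  refine ⟨j, φ, fun k ψ ↦ ⟨fun z ↦ ?_⟩⟩
  have hz : E.map (ψ ≫ φ) z ∈ Set.range (τ.app j₀) := by
    by_contra hz
    have : E.map ψ z ∈ E.map φ ⁻¹' (Set.range (τ.app j₀))ᶜ := by
      rw [Set.mem_preimage, ← Scheme.Hom.comp_apply, ← E.map_comp]
      exact hz
    rw [hj] at this
    exact this
  obtain ⟨w, hw⟩ := hz
  obtain ⟨p, -, hp⟩ := Scheme.Pullback.exists_preimage_pullback (f := τ.app j₀)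
    (g := E.map (ψ ≫ φ)) w z hw
  refine ⟨(hτ (ψ ≫ φ)).isoPullback.inv p, ?_⟩
  rw [← Scheme.Hom.comp_apply, IsPullback.isoPullback_inv_snd, hp]

end Cart

end Groth.Agent.Lib.Helper50
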