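import Groth.Agent.Lib.Helper50.LimStageDiag
import Groth.Agent.Lib.Helper50.LimDesc10

set_option autoImplicit false
universe u
open CategoryTheory AlgebraicGeometry Limits

namespace Groth.Agent.Lib.Helper50

namespace StageSetup

variable {I : Type u} [SmallCategory I]
    (D : I ⥤ Scheme.{u}) (i₀ : I)
    {X₀ Y₀ : Scheme.{u}} (f₀ : X₀ ⟶ Y₀) (g₀ : Y₀ ⟶ D.obj i₀)

lemma locallyOfFinitePresentation_τ [LocallyOfFinitePresentation f₀] (j : Over i₀) :
    LocallyOfFinitePresentation ((τ D i₀ f₀ g₀).app j) :=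
  inferInstanceAs (LocallyOfFinitePresentation (pullback.snd f₀ (γ D i₀ g₀ j)))

/-- The diagonal of `f₀` is locally of finite presentation if `X₀` is locally of finite
presentation and `Y₀` is locally of finite type over the base. -/
lemma locallyOfFinitePresentation_diagonal [LocallyOfFiniteType g₀]
    [LocallyOfFinitePresentation (f₀ ≫ g₀)] :
    LocallyOfFinitePresentation (pullback.diagonal f₀) := by
  have : LocallyOfFiniteType f₀ := locallyOfFiniteType_of_comp f₀ g₀
  have h1 : LocallyOfFiniteType (gΔ₀ D i₀ f₀ g₀) := by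
    dsimp only [gΔ₀]; infer_instance
  have h2 : LocallyOfFinitePresentation (pullback.diagonal f₀ ≫ gΔ₀ D i₀ f₀ g₀) := by
    have e : pullback.diagonal f₀ ≫ gΔ₀ D i₀ f₀ g₀ = f₀ ≫ g₀ := by
      simp [gΔ₀]
    rw [e]; infer_instance
  exact locallyOfFinitePresentation_of_comp (pullback.diagonal f₀) (gΔ₀ D i₀ f₀ g₀)

end StageSetup

end Groth.Agent.Lib.Helper50
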