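import Groth.Agent.Lib.Helper50.DvrCrit
import Mathlib.AlgebraicGeometry.Morphisms.Separated

set_option autoImplicit false
universe u
open CategoryTheory CategoryTheory.Limits AlgebraicGeometry IsLocalRing TopologicalSpace

namespace Groth.Agent.Lib.Helper50

theorem closure_singleton_mem_irreducibleComponents_of_isOpenEmbedding {Y X : Type*}
    [TopologicalSpace Y] [TopologicalSpace X] {ι : Y → X} (hι : Topology.IsOpenEmbedding ι)
    (ξ : Y) (hξ : closure {ξ} ∈ irreducibleComponents Y) :
    closure {ι ξ} ∈ irreducibleComponents X := by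
  refine ⟨isIrreducible_singleton.closure, fun D hD hCD => ?_⟩
  have hmem : ι ξ ∈ D := hCD (subset_closure rfl)
  have hirr : IsIrreducible (ι ⁻¹' D) := hD.preimage hι ⟨ι ξ, hmem, Set.mem_range_self ξ⟩
  have hcl : closure ({ξ} : Set Y) = ι ⁻¹' closure {ι ξ} := by
    rw [hι.isInducing.closure_eq_preimage_closure_image, Set.image_singleton]
  have hsub : closure ({ξ} : Set Y) ⊆ ι ⁻¹' D := by
    rw [hcl]; exact Set.preimage_mono hCD
  have hle : ι ⁻¹' D ⊆ closure ({ξ} : Set Y) := hξ.2 hirr hsub
  have h1 : D ⊆ closure (D ∩ Set.range ι) :=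
    subset_closure_inter_of_isPreirreducible_of_isOpen hD.2 hι.isOpen_range
      ⟨ι ξ, hmem, Set.mem_range_self ξ⟩
  refine h1.trans (closure_minimal ?_ isClosed_closure)
  rintro _ ⟨hd, y, rfl⟩
  have : y ∈ closure ({ξ} : Set Y) := hle hd
  rw [hcl] at this
  exact this

/-- A generic point of an irreducible component lies in the range of a quasi-compact morphism
with dense range from a locally Noetherian scheme. -/
theorem mem_range_of_denseRange_of_generic {U X : Scheme.{u}} [IsLocallyNoetherian U]
    (h : U ⟶ X) [QuasiCompact h] (hd : DenseRange h.base) (η : X)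
    (hη : closure {η} ∈ irreducibleComponents (X : Type u)) : η ∈ Set.range h.base := by
  obtain ⟨N, hN, hηN, -⟩ := exists_isAffineOpen_mem_and_subset
    (show η ∈ (⊤ : X.Opens) from trivial)
  let V : U.Opens := h ⁻¹ᵁ N
  haveI : CompactSpace (V : Scheme.{u}) :=
    isCompact_iff_compactSpace.mp (QuasiCompact.isCompact_preimage (f := h) _ N.2 hN.isCompact)
  haveI : IsNoetherian (V : Scheme.{u}) := {}
  let g : V.toScheme → X := fun z => h.base (V.ι.base z)
  have hg : Continuous g := h.continuous.comp V.ι.continuous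
  have hrange : Set.range g = (N : Set X) ∩ Set.range h.base := by
    ext s
    constructor
    · rintro ⟨z, rfl⟩
      exact ⟨z.2, V.ι.base z, rfl⟩
    · rintro ⟨hsN, z, rfl⟩
      exact ⟨⟨z, hsN⟩, rfl⟩
  have hw' : η ∈ closure (Set.range g) := by
    rw [hrange]
    exact N.2.inter_closure ⟨hηN, hd η⟩
  obtain ⟨ξ, -, hξ⟩ := exists_generic_specializes_of_mem_closure_range g hg η hw'
  refine ⟨V.ι.base ξ, ?_⟩
  have h1 : closure ({η} : Set X) ⊆ closure {g ξ} :=
    closure_minimal (Set.singleton_subset_iff.mpr (specializes_iff_mem_closure.mp hξ))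
      isClosed_closure
  have h2 : closure {g ξ} ⊆ closure ({η} : Set X) := hη.2 isIrreducible_singleton.closure h1
  have h3 : η ⤳ g ξ := specializes_iff_mem_closure.mpr (h2 (subset_closure rfl))
  exact (h3.antisymm hξ).eq.symm

instance locallyOfFiniteType_diagonal {X S : Scheme.{u}} (f : X ⟶ S) :
    LocallyOfFiniteType (pullback.diagonal f) := by
  haveI : LocallyOfFiniteType (pullback.diagonal f ≫ pullback.fst f f) := by
    rw [pullback.diagonal_fst]; infer_instance
  exact locallyOfFiniteType_of_comp (pullback.diagonal f) (pullback.fst f f)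

theorem isLocallyNoetherian_pullback_self {X S : Scheme.{u}} [IsLocallyNoetherian S] (f : X ⟶ S)
    [LocallyOfFiniteType f] : IsLocallyNoetherian (pullback f f) :=
  LocallyOfFiniteType.isLocallyNoetherian (pullback.fst f f ≫ f)

theorem mem_range_diagonal_of_dvr_uniqueness {X S U' : Scheme.{u}} [IsLocallyNoetherian S]
    (f : X ⟶ S) [LocallyOfFiniteType f] (p : U' ⟶ X) [LocallyOfFiniteType p] (x : U')
    (w : ↥(pullback f f)) (hw : (pullback.diagonal f).base (p.base x) ⤳ w)
    (Huniq : ∀ A : ValuationSubring (U'.residueField x), IsDiscreteValuationRing A →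
      ∀ l₁ l₂ : Spec (CommRingCat.of A) ⟶ X, l₁ ≫ f = l₂ ≫ f →
        Spec.map (CommRingCat.ofHom A.subtype) ≫ l₁ = U'.fromSpecResidueField x ≫ p →
        Spec.map (CommRingCat.ofHom A.subtype) ≫ l₂ = U'.fromSpecResidueField x ≫ p →
        l₁ = l₂) :
    w ∈ Set.range (pullback.diagonal f).base := by
  by_cases hne : w = (pullback.diagonal f).base (p.base x)
  · exact ⟨p.base x, hne.symm⟩
  haveI := isLocallyNoetherian_pullback_self f
  obtain ⟨A, y, hA, hcl, hcomp⟩ :=
    exists_dvr_through_specialization (p ≫ pullback.diagonal f) x w hw hne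
  have h₁ : Spec.map (CommRingCat.ofHom A.subtype) ≫ y ≫ pullback.fst f f =
      U'.fromSpecResidueField x ≫ p := by
    rw [← Category.assoc, hcomp, Category.assoc, Category.assoc, pullback.diagonal_fst,
      Category.comp_id]
  have h₂ : Spec.map (CommRingCat.ofHom A.subtype) ≫ y ≫ pullback.snd f f =
      U'.fromSpecResidueField x ≫ p := by
    rw [← Category.assoc, hcomp, Category.assoc, Category.assoc, pullback.diagonal_snd,
      Category.comp_id]
  have hf : (y ≫ pullback.fst f f) ≫ f = (y ≫ pullback.snd f f) ≫ f := by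
    rw [Category.assoc, Category.assoc, pullback.condition]
  have heq := Huniq A hA _ _ hf h₁ h₂
  have hy : y = (y ≫ pullback.fst f f) ≫ pullback.diagonal f := by
    apply pullback.hom_ext
    · rw [Category.assoc, pullback.diagonal_fst, Category.comp_id]
    · rw [Category.assoc, pullback.diagonal_snd, Category.comp_id, heq]
  refine ⟨(y ≫ pullback.fst f f).base (closedPoint A), ?_⟩
  rw [← hcl]
  exact (congrArg (fun q => q.base (closedPoint A)) hy).symm

theorem isSeparated_of_forall_generic {X S : Scheme.{u}} [IsLocallyNoetherian S] (f : X ⟶ S)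
    [LocallyOfFiniteType f]
    (H : ∀ η : X, closure {η} ∈ irreducibleComponents (X : Type u) →
      ∀ w : ↥(pullback f f), (pullback.diagonal f).base η ⤳ w →
        w ∈ Set.range (pullback.diagonal f).base) : IsSeparated f := by
  haveI := isLocallyNoetherian_pullback_self f
  haveI : IsLocallyNoetherian X := LocallyOfFiniteType.isLocallyNoetherian f
  suffices hcl : IsClosed (Set.range (pullback.diagonal f).base) from
    ⟨IsClosedImmersion.of_isPreimmersion _ hcl⟩
  rw [← closure_subset_iff_isClosed]
  intro w hw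
  obtain ⟨N, hN, hwN, -⟩ := exists_isAffineOpen_mem_and_subset
    (show w ∈ (⊤ : (pullback f f).Opens) from trivial)
  let V : X.Opens := pullback.diagonal f ⁻¹ᵁ N
  haveI : CompactSpace (V : Scheme.{u}) :=
    isCompact_iff_compactSpace.mp
      (QuasiCompact.isCompact_preimage (f := pullback.diagonal f) _ N.2 hN.isCompact)
  haveI : IsNoetherian (V : Scheme.{u}) := {}
  let g : V.toScheme → ↥(pullback f f) := fun z => (pullback.diagonal f).base (V.ι.base z)
  have hg : Continuous g := (pullback.diagonal f).continuous.comp V.ι.continuous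
  have hrange : Set.range g = (N : Set ↥(pullback f f)) ∩ Set.range (pullback.diagonal f).base := by
    ext s
    constructor
    · rintro ⟨z, rfl⟩
      exact ⟨z.2, V.ι.base z, rfl⟩
    · rintro ⟨hsN, z, rfl⟩
      exact ⟨⟨z, hsN⟩, rfl⟩
  have hw' : w ∈ closure (Set.range g) := by
    rw [hrange]
    exact N.2.inter_closure ⟨hwN, hw⟩
  obtain ⟨ξ, hξc, hξ⟩ := exists_generic_specializes_of_mem_closure_range g hg w hw'
  exact H (V.ι.base ξ)
    (closure_singleton_mem_irreducibleComponents_of_isOpenEmbedding V.ι.isOpenEmbedding ξ hξc)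
    w hξ

end Groth.Agent.Lib.Helper50
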