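import Mathlib.AlgebraicGeometry.ResidueField
import Mathlib.AlgebraicGeometry.Morphisms.Preimmersion
import Mathlib.AlgebraicGeometry.Morphisms.UniversallyInjective
import Mathlib.Algebra.Category.Ring.Epi
import Mathlib.LinearAlgebra.Basis.VectorSpace

set_option autoImplicit false
universe u
open CategoryTheory CategoryTheory.Limits AlgebraicGeometry TensorProduct

namespace Groth.Agent.Lib.Helper50

/-- An epimorphic algebra over a field is a quotient of the field. -/
theorem surjective_algebraMap_of_isEpi_of_field (k L : Type u) [Field k] [CommRing L]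
    [Nontrivial L] [Algebra k L] [Algebra.IsEpi k L] : Function.Surjective (algebraMap k L) := by
  have hinj : LinearMap.ker (Algebra.linearMap k L) = ⊥ :=
    LinearMap.ker_eq_bot.mpr (FaithfulSMul.algebraMap_injective k L)
  obtain ⟨g, hg⟩ := LinearMap.exists_leftInverse_of_injective (Algebra.linearMap k L) hinj
  intro a
  have h1 : (1 : L) ⊗ₜ[k] a = a ⊗ₜ[k] (1 : L) :=
    (Algebra.isEpi_iff_forall_one_tmul_eq k L).mp inferInstance a
  have h2 := congrArg (fun t => (TensorProduct.rid k L) (LinearMap.lTensor L g t)) h1
  simp only [LinearMap.lTensor_tmul, TensorProduct.rid_tmul] at h2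
  have h3 : g 1 = 1 := by
    have := LinearMap.congr_fun hg 1
    simpa using this
  rw [h3, one_smul] at h2
  refine ⟨g a, ?_⟩
  rw [Algebra.algebraMap_eq_smul_one]
  exact h2

/-- A monomorphism of schemes induces isomorphisms on residue fields. -/
theorem residueFieldMap_bijective_of_mono {X Y : Scheme.{u}} (f : X ⟶ Y) [Mono f] (x : X) :
    Function.Bijective (f.residueFieldMap x).hom := by
  haveI : Epi (f.residueFieldMap x) := by
    refine ⟨fun {T} g₁ g₂ h => ?_⟩
    apply Spec.map_injective
    rw [← cancel_mono (X.fromSpecResidueField x), ← cancel_mono f]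
    simp only [Category.assoc]
    rw [← Scheme.Hom.SpecMap_residueFieldMap_fromSpecResidueField, ← Spec.map_comp_assoc,
      ← Spec.map_comp_assoc, h]
  refine ⟨(f.residueFieldMap x).hom.injective, ?_⟩
  algebraize [(f.residueFieldMap x).hom]
  haveI : Algebra.IsEpi (Y.residueField (f.base x)) (X.residueField x) :=
    CommRingCat.epi_iff_epi.mp (by
      have : CommRingCat.ofHom (algebraMap (Y.residueField (f.base x)) (X.residueField x)) =
          f.residueFieldMap x := rfl
      rw [this]; infer_instance)
  exact surjective_algebraMap_of_isEpi_of_field _ _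

end Groth.Agent.Lib.Helper50
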