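import Mathlib.AlgebraicGeometry.AffineTransitionLimit
import Mathlib.AlgebraicGeometry.Stalk
import Mathlib.Algebra.Category.Ring.FilteredColimits

/-!
# `Spec 𝒪_{X,x}` is the cofiltered limit of the affine open neighbourhoods of `x`
-/

set_option autoImplicit false
universe u
open CategoryTheory CategoryTheory.Limits AlgebraicGeometry Opposite TopologicalSpace

namespace Groth.Agent.Lib.Helper50.StalkLim

variable (X : Scheme.{u}) (x : X)

/-- The affine open neighbourhoods of `x`, ordered by inclusion. -/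
abbrev AffNhd : Type u := {W : X.Opens // IsAffineOpen W ∧ x ∈ W}

variable {X x} in
lemma AffNhd.exists_le (V : X.Opens) (hx : x ∈ V) : ∃ W : AffNhd X x, W.1 ≤ V := by
  obtain ⟨_, ⟨W, hW, rfl⟩, hxW, hWV⟩ :=
    X.isBasis_affineOpens.exists_subset_of_mem_open hx V.2
  exact ⟨⟨W, hW, hxW⟩, hWV⟩

instance : Nonempty (AffNhd X x) := by
  obtain ⟨W, -⟩ := AffNhd.exists_le (X := X) (x := x) ⊤ trivial
  exact ⟨W⟩

instance : IsDirected (AffNhd X x) (· ≥ ·) := by
  refine ⟨fun W W' ↦ ?_⟩
  obtain ⟨W'', h⟩ := AffNhd.exists_le (X := X) (x := x) (W.1 ⊓ W'.1) ⟨W.2.2, W'.2.2⟩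
  exact ⟨W'', show W''.1 ≤ W.1 from le_trans h inf_le_left,
    show W''.1 ≤ W'.1 from le_trans h inf_le_right⟩

/-- The diagram of rings of sections over affine open neighbourhoods. -/
def ringDiagram : (AffNhd X x)ᵒᵖ ⥤ CommRingCat.{u} where
  obj W := Γ(X, W.unop.1)
  map {W W'} f := X.presheaf.map (homOfLE (leOfHom f.unop : W'.unop.1 ≤ W.unop.1)).op
  map_id W := by
    rw [← X.presheaf.map_id]; rfl
  map_comp f g := by
    rw [← X.presheaf.map_comp]; rfl

/-- The cocone of germ maps. -/
noncomputable def ringCocone : Cocone (ringDiagram X x) where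
  pt := X.presheaf.stalk x
  ι :=
    { app := fun W => X.presheaf.germ W.unop.1 x W.unop.2.2
      naturality := fun W W' f => by
        dsimp [ringDiagram]
        rw [Category.comp_id]
        exact X.presheaf.germ_res _ x _ }

/-- The stalk is the filtered colimit of sections over affine open neighbourhoods. -/
noncomputable def isColimitRingCocone : IsColimit (ringCocone X x) := by
  have h2 : ReflectsColimitsOfShape (AffNhd X x)ᵒᵖ (forget CommRingCat.{u}) :=
    reflectsColimitsOfShape_of_reflectsIsomorphisms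
  apply isColimitOfReflects (forget CommRingCat)
  apply Types.FilteredColimit.isColimitOf'
  · intro s
    change X.presheaf.stalk x at s
    obtain ⟨V, hxV, s', rfl⟩ := X.presheaf.exists_germ_eq s
    obtain ⟨W, hWV⟩ := AffNhd.exists_le (X := X) (x := x) V hxV
    refine ⟨op W, X.presheaf.map (homOfLE hWV).op s', ?_⟩
    exact (X.presheaf.germ_res_apply (homOfLE hWV) x W.2.2 s').symm
  · intro W y y' e
    change Γ(X, W.unop.1) at y y'
    have e' : X.presheaf.germ W.unop.1 x W.unop.2.2 y = X.presheaf.germ W.unop.1 x W.unop.2.2 y' := e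
    obtain ⟨V, hxV, i₁, i₂, h⟩ := X.presheaf.germ_eq x _ _ y y' e'
    obtain ⟨W', hW'V⟩ := AffNhd.exists_le (X := X) (x := x) V hxV
    have hle : W'.1 ≤ W.unop.1 := le_trans hW'V (leOfHom i₁)
    refine ⟨op W', (homOfLE hle).op, ?_⟩
    change X.presheaf.map (homOfLE hle).op y = X.presheaf.map (homOfLE hle).op y'
    have h1 : homOfLE hle = homOfLE hW'V ≫ i₁ := rfl
    have h2 : homOfLE hle = homOfLE hW'V ≫ i₂ := rfl
    conv_lhs => rw [h1]
    conv_rhs => rw [h2]
    rw [op_comp, op_comp, X.presheaf.map_comp, X.presheaf.map_comp]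
    change X.presheaf.map _ (X.presheaf.map i₁.op y) = X.presheaf.map _ (X.presheaf.map i₂.op y')
    rw [h]

/-- The diagram of the affine open neighbourhoods of `x`, as schemes. -/
noncomputable def nhdDiagram : AffNhd X x ⥤ Scheme.{u} where
  obj W := W.1.toScheme
  map {W W'} f := X.homOfLE (leOfHom f)
  map_id W := by simp
  map_comp f g := by simp

instance (W : AffNhd X x) : IsAffine ((nhdDiagram X x).obj W) := W.2.1

instance (W W' : AffNhd X x) (f : W ⟶ W') : IsAffineHom ((nhdDiagram X x).map f) :=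
  inferInstance

@[simp] lemma nhdDiagram_obj (W : AffNhd X x) : (nhdDiagram X x).obj W = W.1.toScheme := rfl

@[reassoc (attr := simp)]
lemma nhdDiagram_map_ι {W W' : AffNhd X x} (f : W ⟶ W') :
    (nhdDiagram X x).map f ≫ W'.1.ι = W.1.ι := by
  simp [nhdDiagram]

variable {X x} in
lemma fromSpecStalkOfMem_homOfLE {U V : X.Opens} (h : U ≤ V) (hx : x ∈ U) :
    U.fromSpecStalkOfMem x hx ≫ X.homOfLE h = V.fromSpecStalkOfMem x (h hx) := by
  rw [← cancel_mono V.ι]; simp

/-- The cone with vertex `Spec 𝒪_{X,x}`. -/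
noncomputable def nhdCone : Cone (nhdDiagram X x) where
  pt := Spec (X.presheaf.stalk x)
  π :=
    { app := fun W => W.1.fromSpecStalkOfMem x W.2.2
      naturality := fun W W' f => by
        dsimp
        rw [Category.id_comp]
        exact (fromSpecStalkOfMem_homOfLE (leOfHom f) W.2.2).symm }

@[simp] lemma nhdCone_pt : (nhdCone X x).pt = Spec (X.presheaf.stalk x) := rfl

@[simp] lemma nhdCone_π_app (W : AffNhd X x) :
    (nhdCone X x).π.app W = W.1.fromSpecStalkOfMem x W.2.2 := rfl

/-- The comparison with `Spec` of the ring diagram. -/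
noncomputable def nhdDiagramIso :
    nhdDiagram X x ≅ (ringDiagram X x).rightOp ⋙ Scheme.Spec :=
  NatIso.ofComponents (fun W => W.2.1.isoSpec) (fun {W W'} f => by
    dsimp [nhdDiagram, ringDiagram]
    rw [IsAffineOpen.isoSpec_hom, IsAffineOpen.isoSpec_hom]
    exact (Scheme.Opens.toSpecΓ_SpecMap_presheaf_map W.1 W'.1 (leOfHom f)).symm)

/-- `Spec 𝒪_{X,x}` is the limit of the affine open neighbourhoods of `x`. -/
noncomputable def isLimitNhdCone : IsLimit (nhdCone X x) := by
  have h1 : IsLimit (Scheme.Spec.mapCone (coneRightOpOfCocone (ringCocone X x))) :=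
    isLimitOfPreserves Scheme.Spec (isLimitConeRightOpOfCocone _ (isColimitRingCocone X x))
  refine (IsLimit.postcomposeHomEquiv (nhdDiagramIso X x) _).1 (h1.ofIsoLimit ?_)
  refine Cone.ext (Iso.refl _) ?_
  intro W
  dsimp [nhdDiagramIso, ringCocone]
  rw [Category.id_comp, IsAffineOpen.isoSpec_hom]
  exact (Scheme.Opens.fromSpecStalkOfMem_toSpecΓ W.1 x W.2.2).symm

end Groth.Agent.Lib.Helper50.StalkLim
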