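import Groth.Agent.Lib.Helper50.LimStage
import Mathlib.CategoryTheory.Monoidal.Cartesian.Over

/-!
# Morphisms of finitely presented objects over a limit of schemes

`X Y : Over (D.obj i₀)`.  Morphisms between the base changes to the limit come from a stage,
and equalities descend to a stage.
-/

set_option autoImplicit false
universe u
open CategoryTheory AlgebraicGeometry Limits

namespace Groth.Agent.Lib.Helper50.OverLim

open Groth.Agent.Lib.Helper50 Groth.Agent.Lib.Helper50.StageSetup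

variable {I : Type u} [SmallCategory I] [IsCofiltered I]
    (D : I ⥤ Scheme.{u}) (c : Limits.Cone D) (hc : Limits.IsLimit c)
    [∀ (i j : I) (f : i ⟶ j), IsAffineHom (D.map f)] (i₀ : I)

section

variable {S S' : Scheme.{u}} (f : S' ⟶ S) {X Y : Over S}

lemma map_left_fst (a : X ⟶ Y) :
    ((Over.pullback f).map a).left ≫ pullback.fst Y.hom f = pullback.fst X.hom f ≫ a.left :=
  pullback.lift_fst _ _ _

lemma map_left_snd (a : X ⟶ Y) :
    ((Over.pullback f).map a).left ≫ pullback.snd Y.hom f = pullback.snd X.hom f :=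
  pullback.lift_snd _ _ _

/-- Equality of base-changed morphisms can be checked on the first projection. -/
lemma map_eq_iff (a b : X ⟶ Y) :
    (Over.pullback f).map a = (Over.pullback f).map b ↔
      pullback.fst X.hom f ≫ a.left = pullback.fst X.hom f ≫ b.left := by
  constructor
  · intro h
    rw [← map_left_fst, ← map_left_fst, h]
  · intro h
    ext
    apply pullback.hom_ext
    · rw [map_left_fst, map_left_fst, h]
    · rw [map_left_snd, map_left_snd]

/-- Morphisms to a base change are determined by the first projection. -/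
lemma hom_bc_ext {T : Over S'} (a b : T ⟶ (Over.pullback f).obj Y)
    (h : a.left ≫ pullback.fst Y.hom f = b.left ≫ pullback.fst Y.hom f) : a = b := by
  ext
  apply pullback.hom_ext h
  have ha := Over.w a
  have hb := Over.w b
  simp only [Over.pullback_obj_hom] at ha hb
  rw [ha, hb]

end

/-- The transition map `X ×_{S_{i₀}} S_k' ⟶ X ×_{S_{i₀}} S_k`. -/
noncomputable abbrev trans (X : Over (D.obj i₀)) {k' k : Over i₀} (φ : k' ⟶ k) :
    pullback X.hom (D.map k'.hom) ⟶ pullback X.hom (D.map k.hom) :=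
  (E D i₀ X.hom).map φ

/-- The projection `X ×_{S_{i₀}} S ⟶ X ×_{S_{i₀}} S_k`. -/
noncomputable abbrev proj (X : Over (D.obj i₀)) (k : Over i₀) :
    pullback X.hom (c.π.app i₀) ⟶ pullback X.hom (D.map k.hom) :=
  (cE D c i₀ X.hom (pullback.snd X.hom (c.π.app i₀)) (pullback.fst X.hom (c.π.app i₀))
    (IsPullback.of_hasPullback _ _)).π.app k

omit [IsCofiltered I] [∀ (i j : I) (f : i ⟶ j), IsAffineHom (D.map f)] in
@[reassoc (attr := simp)]
lemma trans_fst (X : Over (D.obj i₀)) {k' k : Over i₀} (φ : k' ⟶ k) :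
    trans D i₀ X φ ≫ pullback.fst X.hom (D.map k.hom) = pullback.fst X.hom (D.map k'.hom) :=
  bcDiagram_map_fst _ _ _ _ φ

omit [IsCofiltered I] [∀ (i j : I) (f : i ⟶ j), IsAffineHom (D.map f)] in
@[reassoc (attr := simp)]
lemma trans_snd (X : Over (D.obj i₀)) {k' k : Over i₀} (φ : k' ⟶ k) :
    trans D i₀ X φ ≫ pullback.snd X.hom (D.map k.hom) =
      pullback.snd X.hom (D.map k'.hom) ≫ D.map φ.left :=
  bcDiagram_map_snd _ _ _ _ φ

omit [IsCofiltered I] [∀ (i j : I) (f : i ⟶ j), IsAffineHom (D.map f)] in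
@[reassoc (attr := simp)]
lemma proj_fst (X : Over (D.obj i₀)) (k : Over i₀) :
    proj D c i₀ X k ≫ pullback.fst X.hom (D.map k.hom) = pullback.fst X.hom (c.π.app i₀) :=
  bcConeπ_fst (D₀ D i₀) (β D i₀) X.hom (c₀ D c i₀) (c.π.app i₀) (hb D c i₀) _ _
    (IsPullback.of_hasPullback X.hom (c.π.app i₀)).w k

omit [IsCofiltered I] [∀ (i j : I) (f : i ⟶ j), IsAffineHom (D.map f)] in
@[reassoc (attr := simp)]
lemma proj_snd (X : Over (D.obj i₀)) (k : Over i₀) :
    proj D c i₀ X k ≫ pullback.snd X.hom (D.map k.hom) =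
      pullback.snd X.hom (c.π.app i₀) ≫ c.π.app k.left :=
  bcConeπ_snd (D₀ D i₀) (β D i₀) X.hom (c₀ D c i₀) (c.π.app i₀) (hb D c i₀) _ _
    (IsPullback.of_hasPullback X.hom (c.π.app i₀)).w k

include hc in
/-- **Injectivity** (elementary form): two morphisms `X ×_{S_{i₀}} S_k ⟶ Y` over `S_{i₀}` agreeing
on the limit agree at a later stage. -/
theorem exists_trans_comp_eq {X : Over (D.obj i₀)} [CompactSpace X.left] {Y : Scheme.{u}}
    (y : Y ⟶ D.obj i₀) [LocallyOfFiniteType y] (k : Over i₀)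
    (a b : pullback X.hom (D.map k.hom) ⟶ Y)
    (ha : a ≫ y = pullback.fst X.hom (D.map k.hom) ≫ X.hom)
    (hb : b ≫ y = pullback.fst X.hom (D.map k.hom) ≫ X.hom)
    (h : proj D c i₀ X k ≫ a = proj D c i₀ X k ≫ b) :
    ∃ (k' : Over i₀) (φ : k' ⟶ k), trans D i₀ X φ ≫ a = trans D i₀ X φ ≫ b := by
  let t : E D i₀ X.hom ⟶ (Functor.const (Over i₀)).obj (D.obj i₀) :=
    { app := fun l ↦ pullback.fst X.hom (D.map l.hom) ≫ X.hom
      naturality := fun l m φ ↦ by
        dsimp only [Functor.const_obj_obj, Functor.const_obj_map]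
        rw [Category.comp_id]
        exact bcDiagram_map_fst_assoc _ _ _ _ φ _ }
  have h1 : ∀ {l m : Over i₀} (φ : l ⟶ m), IsAffineHom ((E D i₀ X.hom).map φ) :=
    fun φ ↦ inferInstance
  have h2 : ∀ l : Over i₀, CompactSpace ((E D i₀ X.hom).obj l) := compactSpace_E D i₀ X.hom
  exact Scheme.exists_hom_comp_eq_comp_of_locallyOfFiniteType (E D i₀ X.hom) t y
    (cE D c i₀ X.hom (pullback.snd X.hom (c.π.app i₀)) (pullback.fst X.hom (c.π.app i₀))
      (IsPullback.of_hasPullback _ _))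
    (hcE D c hc i₀ X.hom _ _ (IsPullback.of_hasPullback _ _)) a b ha.symm hb.symm h

include hc in
/-- **Injectivity** (eventual form): two morphisms `X ⟶ Y` over `S_{i₀}` whose base changes to the
limit agree have equal base changes at all sufficiently small stages. -/
theorem exists_forall_map_eq {X Y : Over (D.obj i₀)} [CompactSpace X.left]
    [LocallyOfFiniteType Y.hom] (a b : X ⟶ Y)
    (h : (Over.pullback (c.π.app i₀)).map a = (Over.pullback (c.π.app i₀)).map b) :
    ∃ k : Over i₀, ∀ (k' : Over i₀) (_ : k' ⟶ k),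
      (Over.pullback (D.map k'.hom)).map a = (Over.pullback (D.map k'.hom)).map b := by
  rw [map_eq_iff] at h
  obtain ⟨k, φ, hk⟩ := exists_trans_comp_eq D c hc i₀ Y.hom (Over.mk (𝟙 i₀))
    (pullback.fst X.hom (D.map (𝟙 i₀)) ≫ a.left) (pullback.fst X.hom (D.map (𝟙 i₀)) ≫ b.left)
    (by rw [Category.assoc, Over.w]; rfl) (by rw [Category.assoc, Over.w]; rfl)
    ((proj_fst_assoc D c i₀ X (Over.mk (𝟙 i₀)) a.left).trans
      (h.trans (proj_fst_assoc D c i₀ X (Over.mk (𝟙 i₀)) b.left).symm))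
  refine ⟨k, fun k' ψ ↦ ?_⟩
  rw [map_eq_iff]
  have hk' : pullback.fst X.hom (D.map k.hom) ≫ a.left =
      pullback.fst X.hom (D.map k.hom) ≫ b.left :=
    (trans_fst_assoc D i₀ X φ a.left).symm.trans (hk.trans (trans_fst_assoc D i₀ X φ b.left))
  rw [← trans_fst_assoc D i₀ X ψ, ← trans_fst_assoc D i₀ X ψ, hk']

include hc in
/-- **Surjectivity** (elementary form): a morphism `X ×_{S_{i₀}} S ⟶ Y` over `S_{i₀}` with `Y`
locally of finite presentation over `S_{i₀}` factors through a stage. -/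
theorem exists_proj_comp_eq {X : Over (D.obj i₀)} [CompactSpace X.left]
    [QuasiSeparatedSpace X.left] {Y : Scheme.{u}}
    (y : Y ⟶ D.obj i₀) [LocallyOfFinitePresentation y]
    (a : pullback X.hom (c.π.app i₀) ⟶ Y)
    (ha : a ≫ y = pullback.fst X.hom (c.π.app i₀) ≫ X.hom) :
    ∃ (k : Over i₀) (θ : pullback X.hom (D.map k.hom) ⟶ Y),
      θ ≫ y = pullback.fst X.hom (D.map k.hom) ≫ X.hom ∧ proj D c i₀ X k ≫ θ = a := by
  let t : E D i₀ X.hom ⟶ (Functor.const (Over i₀)).obj (D.obj i₀) :=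
    { app := fun l ↦ pullback.fst X.hom (D.map l.hom) ≫ X.hom
      naturality := fun l m φ ↦ by
        dsimp only [Functor.const_obj_obj, Functor.const_obj_map]
        rw [Category.comp_id]
        exact bcDiagram_map_fst_assoc _ _ _ _ φ _ }
  have h1 : ∀ {l m : Over i₀} (φ : l ⟶ m), IsAffineHom ((E D i₀ X.hom).map φ) :=
    fun φ ↦ inferInstance
  have h2 : ∀ l : Over i₀, CompactSpace ((E D i₀ X.hom).obj l) := compactSpace_E D i₀ X.hom
  have h3 : ∀ l : Over i₀, QuasiSeparatedSpace ((E D i₀ X.hom).obj l) :=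
    quasiSeparatedSpace_E D i₀ X.hom
  obtain ⟨k, θ, hθ1, hθ2⟩ := Scheme.exists_π_app_comp_eq_of_locallyOfFinitePresentation
    (E D i₀ X.hom) t y
    (cE D c i₀ X.hom (pullback.snd X.hom (c.π.app i₀)) (pullback.fst X.hom (c.π.app i₀))
      (IsPullback.of_hasPullback _ _))
    (hcE D c hc i₀ X.hom _ _ (IsPullback.of_hasPullback _ _)) a (by
      ext l
      simp only [NatTrans.comp_app, Functor.const_map_app]
      exact (proj_fst_assoc D c i₀ X l X.hom).trans ha.symm)
  exact ⟨k, θ, hθ2, hθ1⟩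

end Groth.Agent.Lib.Helper50.OverLim
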