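import Groth.Agent.Lib.Helper50.OverLim

/-!
# Monomorphisms over a limit of schemes descend to a stage
-/

set_option autoImplicit false
universe u
open CategoryTheory AlgebraicGeometry Limits

namespace Groth.Agent.Lib.Helper50.OverLim

open Groth.Agent.Lib.Helper50 Groth.Agent.Lib.Helper50.StageSetup

section kernelPair

variable {S S' : Scheme.{u}} (f : S' ⟶ S) {X Y : Over S} (u : X ⟶ Y)

/-- The kernel pair of `u`, as an object over `S`. -/
noncomputable abbrev kp : Over S := Over.mk (pullback.fst u.left u.left ≫ X.hom)

/-- First projection of the kernel pair. -/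
noncomputable abbrev kp₁ : kp u ⟶ X := Over.homMk (pullback.fst u.left u.left) rfl

/-- Second projection of the kernel pair. -/
noncomputable abbrev kp₂ : kp u ⟶ X := Over.homMk (pullback.snd u.left u.left) (by
  change pullback.snd u.left u.left ≫ X.hom = pullback.fst u.left u.left ≫ X.hom
  rw [← Over.w u, ← pullback.condition_assoc])

lemma kp_condition : kp₁ u ≫ u = kp₂ u ≫ u := by
  ext
  exact pullback.condition

lemma map_kp_eq_of_mono [Mono ((Over.pullback f).map u)] :
    (Over.pullback f).map (kp₁ u) = (Over.pullback f).map (kp₂ u) := by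
  rw [← cancel_mono ((Over.pullback f).map u), ← Functor.map_comp, ← Functor.map_comp,
    kp_condition]

lemma mono_of_map_kp_eq (h : (Over.pullback f).map (kp₁ u) = (Over.pullback f).map (kp₂ u)) :
    Mono ((Over.pullback f).map u) := by
  constructor
  intro T a b hab
  have hab' : (a.left ≫ pullback.fst X.hom f) ≫ u.left = (b.left ≫ pullback.fst X.hom f) ≫ u.left := by
    have := congrArg (fun t ↦ t.left ≫ pullback.fst Y.hom f) hab
    simp only [Over.comp_left, Category.assoc] at this
    rw [map_left_fst] at this
    simpa only [Category.assoc] using this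
  let l : T.left ⟶ pullback u.left u.left := pullback.lift _ _ hab'
  have hl : l ≫ (kp u).hom = T.hom ≫ f := by
    change l ≫ pullback.fst u.left u.left ≫ X.hom = T.hom ≫ f
    rw [pullback.lift_fst_assoc, Category.assoc, pullback.condition, ← Over.w a]
    rfl
  let t : T ⟶ (Over.pullback f).obj (kp u) :=
    Over.homMk (pullback.lift l T.hom hl) (pullback.lift_snd _ _ _)
  have h1 : a = t ≫ (Over.pullback f).map (kp₁ u) := by
    apply hom_bc_ext
    rw [Over.comp_left, Category.assoc, map_left_fst]
    change _ = pullback.lift l T.hom hl ≫ pullback.fst (kp u).hom f ≫ pullback.fst u.left u.left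
    rw [pullback.lift_fst_assoc, pullback.lift_fst]
  have h2 : b = t ≫ (Over.pullback f).map (kp₂ u) := by
    apply hom_bc_ext
    rw [Over.comp_left, Category.assoc, map_left_fst]
    change _ = pullback.lift l T.hom hl ≫ pullback.fst (kp u).hom f ≫ pullback.snd u.left u.left
    rw [pullback.lift_fst_assoc, pullback.lift_snd]
  rw [h1, h2, h]

end kernelPair

variable {I : Type u} [SmallCategory I] [IsCofiltered I]
    (D : I ⥤ Scheme.{u}) (c : Limits.Cone D) (hc : Limits.IsLimit c)
    [∀ (i j : I) (f : i ⟶ j), IsAffineHom (D.map f)] (i₀ : I)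

include hc in
/-- A morphism over a stage whose base change to the limit is a monomorphism has monomorphic
base change at all sufficiently small stages. -/
theorem exists_forall_mono {X Y : Over (D.obj i₀)} (u : X ⟶ Y) [CompactSpace X.left]
    [QuasiCompact u.left] [LocallyOfFiniteType X.hom]
    (h : Mono ((Over.pullback (c.π.app i₀)).map u)) :
    ∃ k : Over i₀, ∀ (k' : Over i₀) (_ : k' ⟶ k), Mono ((Over.pullback (D.map k'.hom)).map u) := by
  have : CompactSpace (kp u).left :=
    QuasiCompact.compactSpace_of_compactSpace (pullback.fst u.left u.left)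
  obtain ⟨k, hk⟩ := exists_forall_map_eq D c hc i₀ (kp₁ u) (kp₂ u)
    (map_kp_eq_of_mono (c.π.app i₀) u)
  exact ⟨k, fun k' φ ↦ mono_of_map_kp_eq _ u (hk k' φ)⟩

end Groth.Agent.Lib.Helper50.OverLim
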