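import Mathlib.AlgebraicGeometry.AffineTransitionLimit

set_option autoImplicit false
universe u
open CategoryTheory AlgebraicGeometry Limits

namespace Groth.Agent.Lib.Helper50

variable {I : Type u} [SmallCategory I] [IsCofiltered I]
    (D : I ⥤ Scheme.{u}) (c : Limits.Cone D) (hc : Limits.IsLimit c)
    [∀ (i j : I) (f : i ⟶ j), IsAffineHom (D.map f)]

include hc in
lemma compactSpace_pt (i₀ : I) [CompactSpace (D.obj i₀)] : CompactSpace c.pt := by
  have := isAffineHom_π_app D c hc i₀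
  exact QuasiCompact.compactSpace_of_compactSpace (c.π.app i₀)

omit [IsCofiltered I] in
lemma compactSpace_of_hom {i₀ j : I} (f : j ⟶ i₀) [CompactSpace (D.obj i₀)] :
    CompactSpace (D.obj j) :=
  QuasiCompact.compactSpace_of_compactSpace (D.map f)

omit [IsCofiltered I] in
lemma quasiSeparatedSpace_of_hom {i₀ j : I} (f : j ⟶ i₀) [QuasiSeparatedSpace (D.obj i₀)] :
    QuasiSeparatedSpace (D.obj j) :=
  quasiSeparatedSpace_of_quasiSeparated (D.map f)

omit [IsCofiltered I] in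
lemma isCompact_map_preimage {i j : I} (f : j ⟶ i) {V : (D.obj i).Opens}
    (hV : IsCompact (V : Set (D.obj i))) : IsCompact ((D.map f ⁻¹ᵁ V : (D.obj j).Opens) : Set (D.obj j)) :=
  QuasiCompact.isCompact_preimage (f := D.map f) _ V.2 hV

include hc in
/-- A compact open of the limit descends to a compact open at a stage over `i₀`. -/
lemma exists_preimage_eq_over (i₀ : I) (U : c.pt.Opens) (hU : IsCompact (U : Set c.pt)) :
    ∃ (i : I) (_ : i ⟶ i₀) (V : (D.obj i).Opens),
      IsCompact (V : Set (D.obj i)) ∧ c.π.app i ⁻¹ᵁ V = U := by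
  obtain ⟨i, V, hV, hVU⟩ := exists_preimage_eq D c hc U hU
  refine ⟨IsCofiltered.min i i₀, IsCofiltered.minToRight i i₀,
    D.map (IsCofiltered.minToLeft i i₀) ⁻¹ᵁ V, ?_, ?_⟩
  · exact isCompact_map_preimage D _ hV
  · rw [← Scheme.Hom.comp_preimage, c.w, hVU]

include hc in
/-- Two compact opens of the limit descend to compact opens at a common stage over `i₀`. -/
lemma exists_preimage_eq_over₂ (i₀ : I) (U V : c.pt.Opens) (hU : IsCompact (U : Set c.pt))
    (hV : IsCompact (V : Set c.pt)) :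
    ∃ (i : I) (_ : i ⟶ i₀) (U' V' : (D.obj i).Opens),
      IsCompact (U' : Set (D.obj i)) ∧ IsCompact (V' : Set (D.obj i)) ∧
        c.π.app i ⁻¹ᵁ U' = U ∧ c.π.app i ⁻¹ᵁ V' = V := by
  obtain ⟨i₁, f₁, U₁, hU₁c, hU₁⟩ := exists_preimage_eq_over D c hc i₀ U hU
  obtain ⟨i₂, f₂, V₂, hV₂c, hV₂⟩ := exists_preimage_eq_over D c hc i₀ V hV
  refine ⟨IsCofiltered.min i₁ i₂, IsCofiltered.minToLeft i₁ i₂ ≫ f₁,
    D.map (IsCofiltered.minToLeft i₁ i₂) ⁻¹ᵁ U₁, D.map (IsCofiltered.minToRight i₁ i₂) ⁻¹ᵁ V₂,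
    isCompact_map_preimage D _ hU₁c, isCompact_map_preimage D _ hV₂c, ?_, ?_⟩
  · rw [← Scheme.Hom.comp_preimage, c.w, hU₁]
  · rw [← Scheme.Hom.comp_preimage, c.w, hV₂]

include hc in
/-- If the preimages in the limit of two opens at a stage are comparable, the first being compact,
then eventually the preimages at the stages are comparable. -/
lemma exists_forall_map_preimage_le {i : I} {U V : (D.obj i).Opens}
    (hU : IsCompact (U : Set (D.obj i))) (H : c.π.app i ⁻¹ᵁ U ≤ c.π.app i ⁻¹ᵁ V) :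
    ∃ (j : I) (g : j ⟶ i), ∀ (k : I) (h : k ⟶ j),
      D.map (h ≫ g) ⁻¹ᵁ U ≤ D.map (h ≫ g) ⁻¹ᵁ V := by
  obtain ⟨j, g, hg⟩ := exists_map_preimage_le_map_preimage D c hc hU H
  refine ⟨j, g, fun k h ↦ ?_⟩
  simpa only [Scheme.Hom.comp_preimage, Functor.map_comp] using Scheme.Hom.preimage_mono _ hg

end Groth.Agent.Lib.Helper50

namespace Groth.Agent.Lib.Helper50

variable {I : Type u} [SmallCategory I] [IsCofiltered I]
    (D : I ⥤ Scheme.{u}) (c : Limits.Cone D) (hc : Limits.IsLimit c)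
    [∀ (i j : I) (f : i ⟶ j), IsAffineHom (D.map f)]

include hc in
/-- If `W` is an affine open of a stage whose preimages at all later stages are nonempty, then its
preimage in the limit is nonempty. -/
lemma nonempty_preimage_of_isAffineOpen {i : I} (W : (D.obj i).Opens) (hW : IsAffineOpen W)
    (hne : ∀ (j : I) (f : j ⟶ i), Nonempty (D.map f ⁻¹ᵁ W)) :
    Nonempty (c.π.app i ⁻¹ᵁ W) := by
  have h1 (j : Over i) : IsAffine ((opensDiagram D i W).obj j) := hW.preimage _
  have h2 (j : Over i) : Nonempty ((opensDiagram D i W).obj j) := hne j.left j.hom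
  have h3 (j : Over i) : CompactSpace ((opensDiagram D i W).obj j) := inferInstance
  exact Scheme.nonempty_of_isLimit (opensDiagram D i W) (opensCone D c i W)
    (isLimitOpensCone D c hc i W)

include hc in
/-- If the transition maps are dominant, then so are the projections from the limit. -/
lemma isDominant_π_app (hd : ∀ (i j : I) (φ : i ⟶ j), IsDominant (D.map φ)) (i : I) :
    IsDominant (c.π.app i) := by
  refine ⟨dense_iff_inter_open.mpr fun W hWo ⟨x, hx⟩ ↦ ?_⟩
  obtain ⟨_, ⟨W', hW' : IsAffineOpen W', rfl⟩, hxW', hW'W⟩ :=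
    (D.obj i).isBasis_affineOpens.exists_subset_of_mem_open hx hWo
  have hne (j : I) (f : j ⟶ i) : Nonempty (D.map f ⁻¹ᵁ W') := by
    obtain ⟨_, hy, ⟨y, rfl⟩⟩ := (dense_iff_inter_open.mp (hd j i f).denseRange) W' W'.2 ⟨x, hxW'⟩
    exact ⟨⟨y, hy⟩⟩
  obtain ⟨⟨s, hs⟩⟩ := nonempty_preimage_of_isAffineOpen D c hc W' hW' hne
  exact ⟨c.π.app i s, hW'W hs, ⟨s, rfl⟩⟩

end Groth.Agent.Lib.Helper50
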