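import Groth.Agent.Lib.Helper50.LimDesc10
import Groth.Agent.Lib.Helper50.Lim

set_option autoImplicit false
universe u
open CategoryTheory AlgebraicGeometry Limits

namespace Groth.Agent.Lib.Helper50

section Cart

variable {J : Type u} [SmallCategory J] [IsCofiltered J] {F E : J ⥤ Scheme.{u}} (τ : F ⟶ E)
    [∀ (i j : J) (f : i ⟶ j), IsAffineHom (F.map f)]
    [∀ (i j : J) (f : i ⟶ j), IsAffineHom (E.map f)]
    (cF : Cone F) (hcF : IsLimit cF) (cE : Cone E) (hcE : IsLimit cE)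
    (f : cF.pt ⟶ cE.pt) (hf : ∀ j, cF.π.app j ≫ τ.app j = f ≫ cE.π.app j)
    (hτ : ∀ {j k : J} (φ : j ⟶ k), IsPullback (F.map φ) (τ.app j) (τ.app k) (E.map φ))

include hcF hcE hf hτ in
/-- **Descent of open immersions**. For a cartesian natural transformation
between cofiltered systems of qcqs schemes with affine transition maps, locally of finite
presentation, whose limit is an open immersion: eventually the components are open immersions. -/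
theorem exists_forall_isOpenImmersion_app
    [∀ j, CompactSpace (E.obj j)] [∀ j, QuasiSeparatedSpace (E.obj j)]
    [∀ j, CompactSpace (F.obj j)]
    [∀ j, LocallyOfFinitePresentation (τ.app j)] [IsOpenImmersion f] (j₀ : J) :
    ∃ (j : J) (_ : j ⟶ j₀), ∀ (k : J) (_ : k ⟶ j), IsOpenImmersion (τ.app k) := by
  have : CompactSpace cF.pt := compactSpace_pt F cF hcF j₀
  have hUc : IsCompact (f.opensRange : Set cE.pt) := by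
    rw [Scheme.Hom.coe_opensRange]; exact isCompact_range f.continuous
  obtain ⟨j₁, φ₁, U₁, hU₁c, hU₁⟩ := exists_preimage_eq_over E cE hcE j₀ f.opensRange hUc
  obtain ⟨j₂, φ₂, h₂⟩ := exists_map_eq_top F cF hcF (τ.app j₁ ⁻¹ᵁ U₁) (by
    rw [π_preimage_app_preimage τ cF cE f hf, hU₁]
    ext x
    simp only [TopologicalSpace.Opens.coe_top, Set.mem_univ, iff_true]
    exact ⟨x, rfl⟩)
  have hU₂top : τ.app j₂ ⁻¹ᵁ (E.map φ₂ ⁻¹ᵁ U₁) = ⊤ := by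
    rw [← map_preimage_app_preimage]; exact h₂
  have hU₂π : cE.π.app j₂ ⁻¹ᵁ (E.map φ₂ ⁻¹ᵁ U₁) = f.opensRange := by
    rw [← Scheme.Hom.comp_preimage, cE.w, hU₁]
  have hU₂c : IsCompact (E.map φ₂ ⁻¹ᵁ U₁ : Set (E.obj j₂)) :=
    QuasiCompact.isCompact_preimage (f := E.map φ₂) _ U₁.isOpen hU₁c
  -- notation
  generalize hU₂ : E.map φ₂ ⁻¹ᵁ U₁ = U₂ at hU₂top hU₂π hU₂c
  have htop (k : J) (χ : k ⟶ j₂) : τ.app k ⁻¹ᵁ (E.map χ ⁻¹ᵁ U₂) = ⊤ := by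
    rw [← map_preimage_app_preimage, hU₂top]; rfl
  -- the isomorphism between `cF.pt` and the open `W = π⁻¹ U₂`
  have hrange : Set.range f = Set.range (cE.π.app j₂ ⁻¹ᵁ U₂).ι := by
    rw [Scheme.Opens.range_ι, hU₂π, Scheme.Hom.coe_opensRange]
  let e : (cE.π.app j₂ ⁻¹ᵁ U₂).toScheme ⟶ cF.pt :=
    IsOpenImmersion.lift f (cE.π.app j₂ ⁻¹ᵁ U₂).ι hrange.ge
  have he : e ≫ f = (cE.π.app j₂ ⁻¹ᵁ U₂).ι := IsOpenImmersion.lift_fac ..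
  let e' : cF.pt ⟶ (cE.π.app j₂ ⁻¹ᵁ U₂).toScheme :=
    IsOpenImmersion.lift (cE.π.app j₂ ⁻¹ᵁ U₂).ι f hrange.le
  have he' : e' ≫ (cE.π.app j₂ ⁻¹ᵁ U₂).ι = f := IsOpenImmersion.lift_fac ..
  have hee : e' ≫ e = 𝟙 _ := by
    rw [← cancel_mono f, Category.assoc, he, he', Category.id_comp]
  -- Step 1: a section over `U_k` at some stage
  obtain ⟨k₁, χ₁, g, hg1, hg2⟩ : ∃ (k₁ : J) (χ₁ : k₁ ⟶ j₂)
      (g : (E.map χ₁ ⁻¹ᵁ U₂).toScheme ⟶ F.obj j₂),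
      (cE.π.app k₁).resLE (E.map χ₁ ⁻¹ᵁ U₂) (cE.π.app j₂ ⁻¹ᵁ U₂)
        (by rw [← Scheme.Hom.comp_preimage, cE.w]) ≫ g = e ≫ cF.π.app j₂ ∧
      g ≫ τ.app j₂ = (E.map χ₁ ⁻¹ᵁ U₂).ι ≫ E.map χ₁ := by
    let t : opensDiagram E j₂ U₂ ⟶ (Functor.const (Over j₂)).obj (E.obj j₂) :=
      { app := fun k ↦ (E.map k.hom ⁻¹ᵁ U₂).ι ≫ E.map k.hom
        naturality := fun k l φ ↦ by
          change (E.map φ.left).resLE (E.map l.hom ⁻¹ᵁ U₂) (E.map k.hom ⁻¹ᵁ U₂)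
            (by rw [← Scheme.Hom.comp_preimage, ← E.map_comp, Over.w φ]) ≫
              ((E.map l.hom ⁻¹ᵁ U₂).ι ≫ E.map l.hom) =
            ((E.map k.hom ⁻¹ᵁ U₂).ι ≫ E.map k.hom) ≫ 𝟙 _
          rw [Category.comp_id, Scheme.Hom.resLE_comp_ι_assoc, ← E.map_comp, Over.w] }
    have : ∀ k : Over j₂, CompactSpace ((opensDiagram E j₂ U₂).obj k) := fun k ↦
      isCompact_iff_compactSpace.mp
        (QuasiCompact.isCompact_preimage (f := E.map k.hom) _ U₂.isOpen hU₂c)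
    have : ∀ k : Over j₂, QuasiSeparatedSpace ((opensDiagram E j₂ U₂).obj k) := fun k ↦
      (quasiSeparatedSpace_of_quasiSeparated (E.map k.hom ⁻¹ᵁ U₂).ι :
        QuasiSeparatedSpace ↥(E.map k.hom ⁻¹ᵁ U₂).toScheme)
    have ha : (opensCone E cE j₂ U₂).π ≫ t =
        (Functor.const _).map ((e ≫ cF.π.app j₂) ≫ τ.app j₂) := by
      ext k
      change (cE.π.app k.left).resLE (E.map k.hom ⁻¹ᵁ U₂) (cE.π.app j₂ ⁻¹ᵁ U₂)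
          (by rw [← Scheme.Hom.comp_preimage, cE.w]) ≫
            ((E.map k.hom ⁻¹ᵁ U₂).ι ≫ E.map k.hom) = (e ≫ cF.π.app j₂) ≫ τ.app j₂
      rw [Scheme.Hom.resLE_comp_ι_assoc, cE.w, Category.assoc, hf, reassoc_of% he]
    obtain ⟨k, g, hg1, hg2⟩ := Scheme.exists_π_app_comp_eq_of_locallyOfFinitePresentation
      (opensDiagram E j₂ U₂) t (τ.app j₂) (opensCone E cE j₂ U₂) (isLimitOpensCone E cE hcE j₂ U₂)
      (e ≫ cF.π.app j₂) ha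
    exact ⟨k.left, k.hom, g, hg1, hg2⟩
  let s : (E.map χ₁ ⁻¹ᵁ U₂).toScheme ⟶ F.obj k₁ := (hτ χ₁).lift g (E.map χ₁ ⁻¹ᵁ U₂).ι hg2
  have hs1 : s ≫ F.map χ₁ = g := (hτ χ₁).lift_fst _ _ _
  have hs2 : s ≫ τ.app k₁ = (E.map χ₁ ⁻¹ᵁ U₂).ι := (hτ χ₁).lift_snd _ _ _
  have hr₁ : Set.range (τ.app k₁) ⊆ Set.range (E.map χ₁ ⁻¹ᵁ U₂).ι := by
    rw [Scheme.Opens.range_ι]
    rintro _ ⟨x, rfl⟩
    exact (htop k₁ χ₁).ge (Set.mem_univ x)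
  let τ' : F.obj k₁ ⟶ (E.map χ₁ ⁻¹ᵁ U₂).toScheme :=
    IsOpenImmersion.lift (E.map χ₁ ⁻¹ᵁ U₂).ι (τ.app k₁) hr₁
  have hτ' : τ' ≫ (E.map χ₁ ⁻¹ᵁ U₂).ι = τ.app k₁ := IsOpenImmersion.lift_fac ..
  -- Step 2: `τ' ≫ s` and `𝟙` agree at a later stage
  have hab : cF.π.app k₁ ≫ (τ' ≫ s) = cF.π.app k₁ ≫ 𝟙 (F.obj k₁) := by
    have h1 : cF.π.app k₁ ≫ τ' = e' ≫ (cE.π.app k₁).resLE (E.map χ₁ ⁻¹ᵁ U₂)
        (cE.π.app j₂ ⁻¹ᵁ U₂) (by rw [← Scheme.Hom.comp_preimage, cE.w]) := by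
      rw [← cancel_mono (E.map χ₁ ⁻¹ᵁ U₂).ι, Category.assoc, hτ', Category.assoc,
        Scheme.Hom.resLE_comp_ι, reassoc_of% he', hf]
    apply (hτ χ₁).hom_ext
    · simp only [Category.assoc, hs1, Category.id_comp]
      rw [reassoc_of% h1, hg1, reassoc_of% hee]
      exact (cF.w χ₁).symm
    · simp only [Category.assoc, hs2, hτ', Category.id_comp]
  obtain ⟨l₁, ψ, hψ⟩ : ∃ (l₁ : J) (ψ : l₁ ⟶ k₁), F.map ψ ≫ τ' ≫ s = F.map ψ := by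
    let F' : Over k₁ ⥤ Scheme.{u} := Over.forget k₁ ⋙ F
    let t' : F' ⟶ (Functor.const (Over k₁)).obj (E.obj k₁) :=
      { app := fun l ↦ F.map l.hom ≫ τ.app k₁
        naturality := fun l m φ ↦ by
          dsimp [F']
          rw [Category.comp_id, ← Category.assoc, ← F.map_comp, Over.w] }
    let cF' : Cone F' := cF.whisker (Over.forget k₁)
    have hcF' : IsLimit cF' :=
      (Functor.Initial.isLimitWhiskerEquiv (Over.forget k₁) cF).symm hcF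
    have : ∀ {l m : Over k₁} (φ : l ⟶ m), IsAffineHom (F'.map φ) := fun φ ↦
      inferInstanceAs (IsAffineHom (F.map φ.left))
    have : ∀ l : Over k₁, CompactSpace (F'.obj l) := fun l ↦
      inferInstanceAs (CompactSpace (F.obj l.left))
    have : LocallyOfFiniteType (τ.app k₁) := inferInstance
    have h1 : t'.app (Over.mk (𝟙 k₁)) = (τ' ≫ s) ≫ τ.app k₁ := by
      change F.map (𝟙 k₁) ≫ τ.app k₁ = (τ' ≫ s) ≫ τ.app k₁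
      rw [F.map_id, Category.id_comp, Category.assoc, hs2, hτ']
    have h2 : t'.app (Over.mk (𝟙 k₁)) = 𝟙 (F.obj k₁) ≫ τ.app k₁ := by
      change F.map (𝟙 k₁) ≫ τ.app k₁ = 𝟙 (F.obj k₁) ≫ τ.app k₁
      rw [F.map_id]
    obtain ⟨l, hl, hl'⟩ := Scheme.exists_hom_comp_eq_comp_of_locallyOfFiniteType F' t'
      (τ.app k₁) cF' hcF' (i := Over.mk (𝟙 k₁)) (τ' ≫ s) (𝟙 (F.obj k₁)) h1 h2 hab
    refine ⟨l.left, hl.left, ?_⟩
    have h3 : F.map hl.left ≫ (τ' ≫ s) = F.map hl.left ≫ 𝟙 (F.obj k₁) := hl'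
    exact h3.trans (Category.comp_id (F.map hl.left))
  -- Step 3: the inverse at stage `l₁`
  have key : IsOpenImmersion (τ.app l₁) := by
    have hr₂ : Set.range (τ.app l₁) ⊆ Set.range (E.map ψ ⁻¹ᵁ (E.map χ₁ ⁻¹ᵁ U₂)).ι := by
      rw [Scheme.Opens.range_ι]
      rintro _ ⟨x, rfl⟩
      have := (htop l₁ (ψ ≫ χ₁)).ge (Set.mem_univ x)
      rwa [E.map_comp, Scheme.Hom.comp_preimage] at this
    let τl : F.obj l₁ ⟶ (E.map ψ ⁻¹ᵁ (E.map χ₁ ⁻¹ᵁ U₂)).toScheme :=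
      IsOpenImmersion.lift (E.map ψ ⁻¹ᵁ (E.map χ₁ ⁻¹ᵁ U₂)).ι (τ.app l₁) hr₂
    have hτl : τl ≫ (E.map ψ ⁻¹ᵁ (E.map χ₁ ⁻¹ᵁ U₂)).ι = τ.app l₁ := IsOpenImmersion.lift_fac ..
    let sl : (E.map ψ ⁻¹ᵁ (E.map χ₁ ⁻¹ᵁ U₂)).toScheme ⟶ F.obj l₁ :=
      (hτ ψ).lift ((E.map ψ).resLE (E.map χ₁ ⁻¹ᵁ U₂) (E.map ψ ⁻¹ᵁ (E.map χ₁ ⁻¹ᵁ U₂)) le_rfl ≫ s)
        (E.map ψ ⁻¹ᵁ (E.map χ₁ ⁻¹ᵁ U₂)).ι
        (by rw [Category.assoc, hs2, Scheme.Hom.resLE_comp_ι])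
    have hsl1 : sl ≫ F.map ψ =
        (E.map ψ).resLE (E.map χ₁ ⁻¹ᵁ U₂) (E.map ψ ⁻¹ᵁ (E.map χ₁ ⁻¹ᵁ U₂)) le_rfl ≫ s :=
      (hτ ψ).lift_fst _ _ _
    have hsl2 : sl ≫ τ.app l₁ = (E.map ψ ⁻¹ᵁ (E.map χ₁ ⁻¹ᵁ U₂)).ι := (hτ ψ).lift_snd _ _ _
    have h1 : τl ≫ (E.map ψ).resLE (E.map χ₁ ⁻¹ᵁ U₂) (E.map ψ ⁻¹ᵁ (E.map χ₁ ⁻¹ᵁ U₂)) le_rfl =
        F.map ψ ≫ τ' := by
      rw [← cancel_mono (E.map χ₁ ⁻¹ᵁ U₂).ι, Category.assoc, Scheme.Hom.resLE_comp_ι,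
        reassoc_of% hτl, Category.assoc, hτ', τ.naturality]
    have : IsIso τl := by
      refine ⟨sl, ?_, ?_⟩
      · apply (hτ ψ).hom_ext
        · rw [Category.assoc, hsl1, Category.id_comp, reassoc_of% h1, hψ]
        · rw [Category.assoc, hsl2, hτl, Category.id_comp]
      · rw [← cancel_mono (E.map ψ ⁻¹ᵁ (E.map χ₁ ⁻¹ᵁ U₂)).ι, Category.assoc, hτl, hsl2,
          Category.id_comp]
    rw [← hτl]
    infer_instance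
  refine ⟨l₁, ψ ≫ χ₁ ≫ φ₂ ≫ φ₁, fun m χ ↦ ?_⟩
  exact MorphismProperty.of_isPullback (P := @IsOpenImmersion) (hτ χ) key

end Cart

end Groth.Agent.Lib.Helper50
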