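import Groth.Agent.Lib.Helper50.LimStageDiag2
import Groth.Agent.Lib.Helper50.LimStageFP
import Groth.Agent.Lib.Helper50.LimDesc11
import Groth.Agent.Lib.Helper46.LimFlat
import Mathlib.AlgebraicGeometry.Morphisms.Etale

set_option autoImplicit false
universe u
open CategoryTheory AlgebraicGeometry Limits

namespace Groth.Agent.Lib.Helper50

/-- The diagonal of a morphism locally of finite type is locally of finite presentation. -/
lemma locallyOfFinitePresentation_diagonal_of_locallyOfFiniteType {X Y : Scheme.{u}} (f : X ⟶ Y)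
    [LocallyOfFiniteType f] : LocallyOfFinitePresentation (pullback.diagonal f) := by
  have : LocallyOfFinitePresentation (pullback.diagonal f ≫ pullback.fst f f) := by
    rw [pullback.diagonal_fst]; infer_instance
  exact locallyOfFinitePresentation_of_comp (pullback.diagonal f) (pullback.fst f f)

namespace StageSetup

variable {I : Type u} [SmallCategory I]
    (D : I ⥤ Scheme.{u}) (c : Limits.Cone D) (hc : Limits.IsLimit c) (i₀ : I)
    {X₀ Y₀ : Scheme.{u}} (f₀ : X₀ ⟶ Y₀) (g₀ : Y₀ ⟶ D.obj i₀)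
    {X Y : Scheme.{u}} (f : X ⟶ Y) (g : Y ⟶ c.pt) (qY : Y ⟶ Y₀) (qX : X ⟶ X₀)
    (hY : IsPullback qY g g₀ (c.π.app i₀)) (hX : IsPullback qX f f₀ qY)

include hc hY hX in
/-- **Descent of open-immersion diagonals** in the stage setting (`X₀`, `Y₀` qcqs, `f₀` locally of
finite type). -/
theorem exists_forall_isOpenImmersion_diagonal_τ [IsCofiltered I]
    [∀ (i j : I) (f : i ⟶ j), IsAffineHom (D.map f)]
    [CompactSpace X₀] [QuasiSeparatedSpace X₀] [CompactSpace Y₀] [QuasiSeparatedSpace Y₀]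
    [LocallyOfFiniteType f₀] [IsOpenImmersion (pullback.diagonal f)] :
    ∃ j : Over i₀, ∀ (k : Over i₀) (_ : k ⟶ j),
      IsOpenImmersion (pullback.diagonal ((τ D i₀ f₀ g₀).app k)) := by
  have hZ := hYΔ D c i₀ f₀ g₀ f g qY qX hY hX
  have hΔ := hXΔ f₀ f qY qX hX
  have : CompactSpace ↥(pullback f₀ f₀) := compactSpace_diagonalObj f₀
  have : QuasiSeparatedSpace ↥(pullback f₀ f₀) := quasiSeparatedSpace_diagonalObj f₀
  have h1 := compactSpace_E D i₀ (gΔ₀ D i₀ f₀ g₀)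
  have h2 := quasiSeparatedSpace_E D i₀ (gΔ₀ D i₀ f₀ g₀)
  have h3 := compactSpace_F D i₀ (pullback.diagonal f₀) (gΔ₀ D i₀ f₀ g₀)
  have h4 := quasiSeparatedSpace_F D i₀ (pullback.diagonal f₀) (gΔ₀ D i₀ f₀ g₀)
  have : LocallyOfFinitePresentation (pullback.diagonal f₀) :=
    locallyOfFinitePresentation_diagonal_of_locallyOfFiniteType f₀
  have h5 := locallyOfFinitePresentation_τ D i₀ (pullback.diagonal f₀) (gΔ₀ D i₀ f₀ g₀)
  have hf' : IsOpenImmersion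
      (X := (cF D c i₀ (pullback.diagonal f₀) (gΔ₀ D i₀ f₀ g₀) (pullback.diagonal f)
        (gΔ D c f g) (qΔ f₀ f qY qX hX) qX hZ hΔ).pt)
      (Y := (cE D c i₀ (gΔ₀ D i₀ f₀ g₀) (gΔ D c f g) (qΔ f₀ f qY qX hX) hZ).pt)
      (pullback.diagonal f) := ‹IsOpenImmersion (pullback.diagonal f)›
  obtain ⟨j, _, hj⟩ := exists_forall_isOpenImmersion_app
    (τ D i₀ (pullback.diagonal f₀) (gΔ₀ D i₀ f₀ g₀))
    (cF D c i₀ (pullback.diagonal f₀) (gΔ₀ D i₀ f₀ g₀) (pullback.diagonal f)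
        (gΔ D c f g) (qΔ f₀ f qY qX hX) qX hZ hΔ)
    (hcF D c hc i₀ (pullback.diagonal f₀) (gΔ₀ D i₀ f₀ g₀) (pullback.diagonal f)
        (gΔ D c f g) (qΔ f₀ f qY qX hX) qX hZ hΔ)
    (cE D c i₀ (gΔ₀ D i₀ f₀ g₀) (gΔ D c f g) (qΔ f₀ f qY qX hX) hZ)
    (hcE D c hc i₀ (gΔ₀ D i₀ f₀ g₀) (gΔ D c f g) (qΔ f₀ f qY qX hX) hZ) (pullback.diagonal f)
    (hf D c i₀ (pullback.diagonal f₀) (gΔ₀ D i₀ f₀ g₀) (pullback.diagonal f)
        (gΔ D c f g) (qΔ f₀ f qY qX hX) qX hZ hΔ)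
    (fun φ ↦ isPullback_τ D i₀ (pullback.diagonal f₀) (gΔ₀ D i₀ f₀ g₀) φ) (Over.mk (𝟙 i₀))
  exact ⟨j, fun k ψ ↦ diagonal_τ D i₀ f₀ g₀ @IsOpenImmersion k (hj k ψ)⟩

include hc hY hX in
/-- **Descent of unramifiedness** in the stage setting (`X₀`, `Y₀` qcqs, `f₀` locally of finite
type). -/
theorem exists_forall_formallyUnramified_τ [IsCofiltered I]
    [∀ (i j : I) (f : i ⟶ j), IsAffineHom (D.map f)]
    [CompactSpace X₀] [QuasiSeparatedSpace X₀] [CompactSpace Y₀] [QuasiSeparatedSpace Y₀]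
    [LocallyOfFiniteType f₀] [FormallyUnramified f] :
    ∃ j : Over i₀, ∀ (k : Over i₀) (_ : k ⟶ j), FormallyUnramified ((τ D i₀ f₀ g₀).app k) := by
  have : LocallyOfFiniteType f := MorphismProperty.of_isPullback hX inferInstance
  have : IsOpenImmersion (pullback.diagonal f) := inferInstance
  obtain ⟨j, hj⟩ := exists_forall_isOpenImmersion_diagonal_τ D c hc i₀ f₀ g₀ f g qY qX hY hX
  exact ⟨j, fun k ψ ↦ by have := hj k ψ; infer_instance⟩

include hc hY hX in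
/-- **Descent of flatness** in the stage setting, "eventually" form (wraps helper46's
`LimFlat.exists_flat_app`). -/
theorem exists_forall_flat_τ [IsCofiltered I]
    [∀ (i j : I) (f : i ⟶ j), IsAffineHom (D.map f)]
    [CompactSpace X₀] [QuasiSeparatedSpace X₀] [CompactSpace Y₀] [QuasiSeparatedSpace Y₀]
    [LocallyOfFinitePresentation f₀] [Flat f] :
    ∃ j : Over i₀, ∀ (k : Over i₀) (_ : k ⟶ j), Flat ((τ D i₀ f₀ g₀).app k) := by
  have h3 := compactSpace_F D i₀ f₀ g₀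
  have hf' : Flat (X := (cF D c i₀ f₀ g₀ f g qY qX hY hX).pt)
      (Y := (cE D c i₀ g₀ g qY hY).pt) f := ‹Flat f›
  have hlfp := locallyOfFinitePresentation_τ D i₀ f₀ g₀
  obtain ⟨j, _, hj⟩ := Groth.Agent.Lib.Helper46.LimFlat.exists_flat_app (τ D i₀ f₀ g₀)
    (cF D c i₀ f₀ g₀ f g qY qX hY hX)
    (cE D c i₀ g₀ g qY hY) (hcE D c hc i₀ g₀ g qY hY) f
    (fun φ => isPullback_τ D i₀ f₀ g₀ φ)
    (fun j => isPullback_bcConeπ (E D i₀ g₀) (γ D i₀ g₀) f₀ (cE D c i₀ g₀ g qY hY) qY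
      (hb' D c i₀ g₀ g qY hY) qX f hX j) (Over.mk (𝟙 i₀))
  exact ⟨j, fun k ψ ↦ forall_of_τ D i₀ f₀ g₀ @Flat j hj k ψ⟩

include hc hY hX in
/-- **Descent of étaleness** in the stage setting. -/
theorem exists_forall_etale_τ [IsCofiltered I]
    [∀ (i j : I) (f : i ⟶ j), IsAffineHom (D.map f)]
    [CompactSpace X₀] [QuasiSeparatedSpace X₀] [CompactSpace Y₀] [QuasiSeparatedSpace Y₀]
    [LocallyOfFinitePresentation f₀] [Etale f] :
    ∃ j : Over i₀, ∀ (k : Over i₀) (_ : k ⟶ j), Etale ((τ D i₀ f₀ g₀).app k) := by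
  have hfl : Flat f := (Etale.iff_flat_and_formallyUnramified.mp ‹Etale f›).1
  obtain ⟨j₁, hj₁⟩ := exists_forall_flat_τ D c hc i₀ f₀ g₀ f g qY qX hY hX
  obtain ⟨j₂, hj₂⟩ := exists_forall_formallyUnramified_τ D c hc i₀ f₀ g₀ f g qY qX hY hX
  refine ⟨IsCofiltered.min j₁ j₂, fun k ψ ↦ ?_⟩
  have h1 := hj₁ k (ψ ≫ IsCofiltered.minToLeft j₁ j₂)
  have h2 := hj₂ k (ψ ≫ IsCofiltered.minToRight j₁ j₂)
  have h3 := locallyOfFinitePresentation_τ D i₀ f₀ g₀ k
  exact Etale.of_formallyUnramified_of_flat _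

end StageSetup

end Groth.Agent.Lib.Helper50
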