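import Groth.Agent.Lib.Helper50.Descent11
import Groth.Agent.Lib.Helper50.LimDesc5

/-!
# More property providers: finite, finite étale
-/

set_option autoImplicit false
universe u
open CategoryTheory AlgebraicGeometry Limits TopologicalSpace

namespace Groth.Agent.Lib.Helper50

namespace StageSetup

variable {I : Type u} [SmallCategory I]
    (D : I ⥤ Scheme.{u}) (c : Limits.Cone D) (hc : Limits.IsLimit c) (i₀ : I)
    {X₀ Y₀ : Scheme.{u}} (f₀ : X₀ ⟶ Y₀) (g₀ : Y₀ ⟶ D.obj i₀)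
    {X Y : Scheme.{u}} (f : X ⟶ Y) (g : Y ⟶ c.pt) (qY : Y ⟶ Y₀) (qX : X ⟶ X₀)
    (hY : IsPullback qY g g₀ (c.π.app i₀)) (hX : IsPullback qX f f₀ qY)

include hc hY hX in
/-- **Descent of finiteness** in the stage setting. -/
theorem exists_forall_isFinite_τ [IsCofiltered I]
    [∀ (i j : I) (f : i ⟶ j), IsAffineHom (D.map f)]
    [CompactSpace X₀] [QuasiSeparatedSpace X₀] [CompactSpace Y₀] [QuasiSeparatedSpace Y₀]
    [LocallyOfFiniteType f₀] [IsFinite f] :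
    ∃ j : Over i₀, ∀ (k : Over i₀) (_ : k ⟶ j), IsFinite ((τ D i₀ f₀ g₀).app k) := by
  have h1 := compactSpace_E D i₀ g₀
  have h2 := quasiSeparatedSpace_E D i₀ g₀
  have h3 := compactSpace_F D i₀ f₀ g₀
  have h4 := quasiSeparatedSpace_F D i₀ f₀ g₀
  have h5 := locallyOfFiniteType_τ D i₀ f₀ g₀
  have hf' : IsIntegralHom (X := (cF D c i₀ f₀ g₀ f g qY qX hY hX).pt)
      (Y := (cE D c i₀ g₀ g qY hY).pt) f := inferInstanceAs (IsIntegralHom f)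
  obtain ⟨j, _, hj⟩ := exists_forall_isFinite_app (τ D i₀ f₀ g₀)
    (cF D c i₀ f₀ g₀ f g qY qX hY hX) (hcF D c hc i₀ f₀ g₀ f g qY qX hY hX)
    (cE D c i₀ g₀ g qY hY) (hcE D c hc i₀ g₀ g qY hY) f
    (hf D c i₀ f₀ g₀ f g qY qX hY hX) (fun φ ↦ isPullback_τ D i₀ f₀ g₀ φ) (Over.mk (𝟙 i₀))
  exact ⟨j, hj⟩

end StageSetup

namespace Descent

open StageSetup

variable {I : Type u} [SmallCategory I] [IsCofiltered I]
    (D : I ⥤ Scheme.{u}) (c : Limits.Cone D) (hc : Limits.IsLimit c)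
    [∀ (i j : I) (f : i ⟶ j), IsAffineHom (D.map f)]
    [∀ i, CompactSpace (D.obj i)] [∀ i, QuasiSeparatedSpace (D.obj i)]

include hc in
lemma HP_isFinite (i₀ : I) {X₀ X : Scheme.{u}} (f₀ : X₀ ⟶ D.obj i₀) [LocallyOfFinitePresentation f₀]
    [CompactSpace X₀] [QuasiSeparatedSpace X₀] (f : X ⟶ c.pt) (qX : X ⟶ X₀)
    (hX : IsPullback qX f f₀ (c.π.app i₀)) (hf : IsFinite f) :
    ∃ j : Over i₀, IsFinite ((τ D i₀ f₀ (𝟙 (D.obj i₀))).app j) := by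
  obtain ⟨j, hj⟩ := exists_forall_isFinite_τ D c hc i₀ f₀ (𝟙 _) f (𝟙 _) (c.π.app i₀) qX
    (IsPullback.id_vert _) hX
  exact ⟨j, hj j (𝟙 j)⟩

include hc in
lemma HP_finiteEtale (i₀ : I) {X₀ X : Scheme.{u}} (f₀ : X₀ ⟶ D.obj i₀)
    [LocallyOfFinitePresentation f₀]
    [CompactSpace X₀] [QuasiSeparatedSpace X₀] (f : X ⟶ c.pt) (qX : X ⟶ X₀)
    (hX : IsPullback qX f f₀ (c.π.app i₀)) (hf : (@IsFinite ⊓ @Etale : MorphismProperty Scheme) f) :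
    ∃ j : Over i₀, (@IsFinite ⊓ @Etale : MorphismProperty Scheme)
      ((τ D i₀ f₀ (𝟙 (D.obj i₀))).app j) := by
  have hfin : IsFinite f := hf.1
  have het : Etale f := hf.2
  obtain ⟨j₁, hj₁⟩ := exists_forall_isFinite_τ D c hc i₀ f₀ (𝟙 _) f (𝟙 _) (c.π.app i₀) qX
    (IsPullback.id_vert _) hX
  obtain ⟨j₂, hj₂⟩ := exists_forall_etale_τ D c hc i₀ f₀ (𝟙 _) f (𝟙 _) (c.π.app i₀) qX
    (IsPullback.id_vert _) hX
  exact ⟨IsCofiltered.min j₁ j₂, hj₁ _ (IsCofiltered.minToLeft j₁ j₂),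
    hj₂ _ (IsCofiltered.minToRight j₁ j₂)⟩

end Descent

end Groth.Agent.Lib.Helper50
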