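import Groth.Agent.Lib.Helper50.LimStage
import Mathlib.AlgebraicGeometry.Morphisms.Basic

set_option autoImplicit false
universe u
open CategoryTheory AlgebraicGeometry Limits

namespace Groth.Agent.Lib.Helper50

/-- Restricting a cartesian square of schemes over an open of the bottom right corner. -/
lemma isPullback_morphismRestrict_of_isPullback {X Y X₀ Y₀ : Scheme.{u}} {f : X ⟶ Y}
    {f₀ : X₀ ⟶ Y₀} {qX : X ⟶ X₀} {qY : Y ⟶ Y₀} (hX : IsPullback qX f f₀ qY) (V : Y₀.Opens) :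
    IsPullback (qX.resLE (f₀ ⁻¹ᵁ V) (f ⁻¹ᵁ (qY ⁻¹ᵁ V))
        (by rw [← Scheme.Hom.comp_preimage, ← Scheme.Hom.comp_preimage, hX.w]))
      (f ∣_ (qY ⁻¹ᵁ V)) (f₀ ∣_ V) (qY ∣_ V) := by
  have t : IsPullback (f₀ ⁻¹ᵁ V).ι (f₀ ∣_ V) f₀ V.ι := (isPullback_morphismRestrict f₀ V).flip
  have s : IsPullback ((f ⁻¹ᵁ (qY ⁻¹ᵁ V)).ι ≫ qX) (f ∣_ (qY ⁻¹ᵁ V)) f₀ ((qY ⁻¹ᵁ V).ι ≫ qY) :=
    (isPullback_morphismRestrict f (qY ⁻¹ᵁ V)).flip.paste_horiz hX
  refine IsPullback.of_right ?_ ?_ t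
  · rw [Scheme.Hom.resLE_comp_ι, morphismRestrict_ι]
    exact s
  · rw [← cancel_mono V.ι, Category.assoc, Category.assoc, morphismRestrict_ι,
      Scheme.Hom.resLE_comp_ι_assoc, morphismRestrict_ι, morphismRestrict_ι_assoc, hX.w]

namespace StageSetup

variable {I : Type u} [SmallCategory I]
    (D : I ⥤ Scheme.{u}) (c : Limits.Cone D) (i₀ : I)
    {X₀ Y₀ : Scheme.{u}} (f₀ : X₀ ⟶ Y₀) (g₀ : Y₀ ⟶ D.obj i₀)
    {X Y : Scheme.{u}} (f : X ⟶ Y) (g : Y ⟶ c.pt) (qY : Y ⟶ Y₀) (qX : X ⟶ X₀)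
    (hY : IsPullback qY g g₀ (c.π.app i₀)) (hX : IsPullback qX f f₀ qY)

include hY in
/-- The restriction of the limit square for `Y` over an open of `Y₀`. -/
lemma isPullback_restrict_Y (V : Y₀.Opens) :
    IsPullback (qY ∣_ V) ((qY ⁻¹ᵁ V).ι ≫ g) (V.ι ≫ g₀) (c.π.app i₀) :=
  (isPullback_morphismRestrict qY V).paste_vert hY

/-- Any base change of `f₀` to a stage has `P` iff the standard one has. -/
lemma prop_iff_of_isPullback (P : MorphismProperty Scheme.{u}) [P.RespectsIso] (j : Over i₀)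
    {Xi Yi : Scheme.{u}} {fi : Xi ⟶ Yi} {gi : Yi ⟶ D.obj j.left} {pY : Yi ⟶ Y₀} {pX : Xi ⟶ X₀}
    (h1 : IsPullback pY gi g₀ (D.map j.hom)) (h2 : IsPullback pX fi f₀ pY) :
    P fi ↔ P ((τ D i₀ f₀ g₀).app j) := by
  have e1 : h1.isoPullback.hom ≫ pullback.fst g₀ (D.map j.hom) = pY := h1.isoPullback_hom_fst
  have h2' : IsPullback pX (fi ≫ h1.isoPullback.hom) f₀ (pullback.fst g₀ (D.map j.hom)) :=
    IsPullback.of_iso h2 (Iso.refl _) (Iso.refl _) h1.isoPullback (Iso.refl _)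
      (by simp) (by simp) (by simp) (by simp [e1])
  have e2 : h2'.isoPullback.hom ≫ pullback.snd f₀ (pullback.fst g₀ (D.map j.hom)) =
      fi ≫ h1.isoPullback.hom := h2'.isoPullback_hom_snd
  exact P.arrow_mk_iso_iff (Arrow.isoMk h2'.isoPullback h1.isoPullback e2)

/-- **Localization on `Y₀`** for "descent to a stage" statements: it suffices to descend the
property over each member of a finite open cover of `Y₀`. -/
theorem exists_stage_of_openCover [IsCofiltered I] (P : MorphismProperty Scheme.{u})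
    [IsZariskiLocalAtTarget P] {ι : Type*} [Finite ι] (V : ι → Y₀.Opens) (hV : ⨆ a, V a = ⊤)
    (H : ∀ a, ∃ j : Over i₀, ∀ (k : Over i₀) (_ : k ⟶ j),
      P ((τ D i₀ (f₀ ∣_ V a) ((V a).ι ≫ g₀)).app k)) :
    ∃ j : Over i₀, P ((τ D i₀ f₀ g₀).app j) := by
  classical
  choose j hj using H
  cases nonempty_fintype ι
  obtain ⟨k, hk⟩ := IsCofiltered.inf_objs_exists (Finset.univ.image j)
  have hk' (a : ι) : Nonempty (k ⟶ j a) := hk (Finset.mem_image_of_mem j (Finset.mem_univ a))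
  refine ⟨k, ?_⟩
  refine IsZariskiLocalAtTarget.of_iSup_eq_top (fun a ↦ γ D i₀ g₀ k ⁻¹ᵁ V a)
    (by rw [← Scheme.Hom.preimage_iSup, hV]; rfl) fun a ↦ ?_
  have h1 : IsPullback (γ D i₀ g₀ k ∣_ V a)
      ((γ D i₀ g₀ k ⁻¹ᵁ V a).ι ≫ pullback.snd g₀ (D.map k.hom)) ((V a).ι ≫ g₀) (D.map k.hom) :=
    (isPullback_morphismRestrict (γ D i₀ g₀ k) (V a)).paste_vert
      (IsPullback.of_hasPullback g₀ (D.map k.hom))
  have h2 := isPullback_morphismRestrict_of_isPullback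
    (IsPullback.of_hasPullback f₀ (γ D i₀ g₀ k)) (V a)
  exact (prop_iff_of_isPullback D i₀ (f₀ ∣_ V a) ((V a).ι ≫ g₀) P k h1 h2).mpr
    (hj a k (hk' a).some)

end StageSetup

end Groth.Agent.Lib.Helper50
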