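import Groth.Agent.Lib.Helper50.Descent8
import Groth.Agent.Lib.Helper50.LimStageLoc

/-!
# Existence of descent together with a property of the morphism
-/

set_option autoImplicit false
universe u
open CategoryTheory AlgebraicGeometry Limits TopologicalSpace

namespace Groth.Agent.Lib.Helper50.Descent

open Groth.Agent.Lib.Helper50.StageSetup

variable {I : Type u} [SmallCategory I] [IsCofiltered I]
    (D : I ⥤ Scheme.{u}) (c : Limits.Cone D) (hc : Limits.IsLimit c)
    [∀ (i j : I) (f : i ⟶ j), IsAffineHom (D.map f)]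

include hc in
/-- **Existence of descent with a property**: if `P` descends to a stage for base changes of
morphisms of finite presentation (in the `StageSetup` form with `Y₀ = S_{i₀}`), then every
morphism of finite presentation to the limit having `P` is the base change of a morphism of finite
presentation to a stage having `P`. -/
theorem exists_descent_with [∀ i, QuasiSeparatedSpace (D.obj i)]
    (P : MorphismProperty Scheme.{u}) [P.RespectsIso]
    (HP : ∀ (i₀ : I) {X₀ X : Scheme.{u}} (f₀ : X₀ ⟶ D.obj i₀) [LocallyOfFinitePresentation f₀]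
      [CompactSpace X₀] [QuasiSeparatedSpace X₀] (f : X ⟶ c.pt) (qX : X ⟶ X₀)
      (_ : IsPullback qX f f₀ (c.π.app i₀)), P f →
      ∃ j : Over i₀, P ((τ D i₀ f₀ (𝟙 (D.obj i₀))).app j))
    {X : Scheme.{u}} (f : X ⟶ c.pt) [LocallyOfFinitePresentation f] [CompactSpace X]
    [QuasiSeparatedSpace X] (hf : P f) :
    ∃ (i : I) (Xi : Scheme.{u}) (fi : Xi ⟶ D.obj i) (q : X ⟶ Xi),
      LocallyOfFinitePresentation fi ∧ CompactSpace Xi ∧ QuasiSeparatedSpace Xi ∧ P fi ∧
        IsPullback q f fi (c.π.app i) := by
  obtain ⟨i₀, X₀, f₀, qX, h1, h2, h3, hX⟩ := descends_of_finitePresentation D c hc f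
  obtain ⟨j, hj⟩ := HP i₀ f₀ f qX hX hf
  have hp := IsPullback.of_hasPullback f₀ (D.map j.hom)
  refine ⟨j.left, pullback f₀ (D.map j.hom), pullback.snd f₀ (D.map j.hom), rebaseQ hX hp,
    locallyOfFinitePresentation_of_rebase hp, compactSpace_of_rebase hp,
    quasiSeparatedSpace_of_rebase hp, ?_, isPullback_rebaseQ hX hp⟩
  exact (prop_iff_of_isPullback D i₀ f₀ (𝟙 (D.obj i₀)) P j (IsPullback.id_vert (D.map j.hom))
    hp).mpr hj

end Groth.Agent.Lib.Helper50.Descent
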