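import Groth.Agent.Lib.Helper50.Descent1

/-!
# Gluing two schemes along a common open: compatibility with base change
-/

set_option autoImplicit false
universe u
open CategoryTheory AlgebraicGeometry Limits TopologicalSpace

namespace Groth.Agent.Lib.Helper50.Descent

/-- Points of a pullback square of schemes. -/
lemma _root_.CategoryTheory.IsPullback.exists_preimage_scheme {P X Y Z : Scheme.{u}} {fst : P ⟶ X}
    {snd : P ⟶ Y} {f : X ⟶ Z} {g : Y ⟶ Z} (h : IsPullback fst snd f g) (x : X) (y : Y)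
    (hxy : f x = g y) : ∃ z : P, fst z = x ∧ snd z = y := by
  obtain ⟨z, h1, h2⟩ := Scheme.Pullback.exists_preimage_pullback x y hxy
  refine ⟨h.isoPullback.inv z, ?_, ?_⟩
  · rw [← Scheme.Hom.comp_apply, h.isoPullback_inv_fst, h1]
  · rw [← Scheme.Hom.comp_apply, h.isoPullback_inv_snd, h2]

/-- A morphism which is injective and restricts to open immersions on a jointly surjective pair
of open immersions is an open immersion. -/
lemma isOpenImmersion_of_two {X A B P : Scheme.{u}} (ℓ : X ⟶ P) (a : A ⟶ X) (b : B ⟶ X)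
    [IsOpenImmersion a] [IsOpenImmersion b] (hcov : ∀ x : X, x ∈ Set.range a ∨ x ∈ Set.range b)
    [IsOpenImmersion (a ≫ ℓ)] [IsOpenImmersion (b ≫ ℓ)] (hinj : Function.Injective ℓ) :
    IsOpenImmersion ℓ := by
  rw [IsOpenImmersion.iff_isIso_stalkMap]
  constructor
  · refine .of_continuous_injective_isOpenMap ℓ.continuous hinj ?_
    intro U hU
    have e : ℓ '' U = (a ≫ ℓ) '' (a ⁻¹' U) ∪ (b ≫ ℓ) '' (b ⁻¹' U) := by
      ext p
      constructor
      · rintro ⟨x, hx, rfl⟩
        rcases hcov x with ⟨y, rfl⟩ | ⟨y, rfl⟩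
        · exact Or.inl ⟨y, hx, by simp⟩
        · exact Or.inr ⟨y, hx, by simp⟩
      · rintro (⟨y, hy, rfl⟩ | ⟨y, hy, rfl⟩)
        · exact ⟨a y, hy, by simp⟩
        · exact ⟨b y, hy, by simp⟩
    rw [e]
    exact ((a ≫ ℓ).isOpenEmbedding.isOpenMap _ (hU.preimage a.continuous)).union
      ((b ≫ ℓ).isOpenEmbedding.isOpenMap _ (hU.preimage b.continuous))
  · intro x
    rcases hcov x with ⟨y, rfl⟩ | ⟨y, rfl⟩
    · have h1 : IsIso ((a ≫ ℓ).stalkMap y) := inferInstance
      rw [Scheme.Hom.stalkMap_comp] at h1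
      exact @IsIso.of_isIso_comp_right _ _ _ _ _ _ (a.stalkMap y) inferInstance h1
    · have h1 : IsIso ((b ≫ ℓ).stalkMap y) := inferInstance
      rw [Scheme.Hom.stalkMap_comp] at h1
      exact @IsIso.of_isIso_comp_right _ _ _ _ _ _ (b.stalkMap y) inferInstance h1

section Glue

variable {S Si : Scheme.{u}} (π : S ⟶ Si)
  {X A B : Scheme.{u}} (f : X ⟶ S) (a : A ⟶ X) (b : B ⟶ X) [IsOpenImmersion a] [IsOpenImmersion b]
  (hcov : ∀ x : X, x ∈ Set.range a ∨ x ∈ Set.range b)
  {Ai Bi Wi : Scheme.{u}} (gA : Ai ⟶ Si) (gB : Bi ⟶ Si) (wA : Wi ⟶ Ai) (wB : Wi ⟶ Bi)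
  [IsOpenImmersion wA] [IsOpenImmersion wB] (hw : wA ≫ gA = wB ≫ gB)
  (qA : A ⟶ Ai) (qB : B ⟶ Bi) (qW : pullback a b ⟶ Wi)
  (hA : IsPullback qA (a ≫ f) gA π) (hB : IsPullback qB (b ≫ f) gB π)
  (hWA : IsPullback qW (pullback.fst a b) wA qA) (hWB : IsPullback qW (pullback.snd a b) wB qB)

include hcov hWA hWB in
/-- The glued morphism to the pushout. -/
lemma exists_glue :
    ∃ q : X ⟶ pushout wA wB, a ≫ q = qA ≫ pushout.inl wA wB ∧ b ≫ q = qB ≫ pushout.inr wA wB := by
  let 𝒰 := coverOfTwo a b hcov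
  have hab : pullback.fst a b ≫ qA ≫ pushout.inl wA wB =
      pullback.snd a b ≫ qB ≫ pushout.inr wA wB := by
    rw [← hWA.w_assoc, ← hWB.w_assoc, pushout.condition]
  have hba : pullback.fst b a ≫ qB ≫ pushout.inr wA wB =
      pullback.snd b a ≫ qA ≫ pushout.inl wA wB := by
    rw [← pullbackSymmetry_hom_comp_snd_assoc, ← pullbackSymmetry_hom_comp_fst_assoc b a, hab]
  have haa : pullback.fst a a = pullback.snd a a := (cancel_mono a).mp pullback.condition
  have hbb : pullback.fst b b = pullback.snd b b := (cancel_mono b).mp pullback.condition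
  let g : ∀ i : 𝒰.I₀, 𝒰.X i ⟶ pushout wA wB := fun i ↦
    Bool.rec (motive := fun i ↦ (𝒰.X i ⟶ pushout wA wB)) (qA ≫ pushout.inl wA wB)
      (qB ≫ pushout.inr wA wB) i
  have hg : ∀ x y, pullback.fst (𝒰.f x) (𝒰.f y) ≫ g x = pullback.snd _ _ ≫ g y := by
    rintro (_ | _) (_ | _)
    · change pullback.fst a a ≫ _ = pullback.snd a a ≫ _
      rw [haa]
    · exact hab
    · exact hba
    · change pullback.fst b b ≫ _ = pullback.snd b b ≫ _
      rw [hbb]
  exact ⟨𝒰.glueMorphisms g hg, 𝒰.ι_glueMorphisms g hg false, 𝒰.ι_glueMorphisms g hg true⟩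

set_option backward.isDefEq.respectTransparency false in
include hcov hA hB hWA hWB in
/-- **Gluing commutes with base change.** -/
theorem exists_isPullback_pushout :
    ∃ q : X ⟶ pushout wA wB, a ≫ q = qA ≫ pushout.inl wA wB ∧
      b ≫ q = qB ≫ pushout.inr wA wB ∧ IsPullback q f (pushout.desc gA gB hw) π := by
  obtain ⟨q, hq1, hq2⟩ := exists_glue a b hcov wA wB qA qB qW hWA hWB
  refine ⟨q, hq1, hq2, ?_⟩
  let 𝒰 := coverOfTwo a b hcov
  set g := pushout.desc gA gB hw with hg
  have comm : q ≫ g = f ≫ π := by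
    refine 𝒰.hom_ext _ _ ?_
    rintro (_ | _)
    · change a ≫ q ≫ g = a ≫ f ≫ π
      rw [reassoc_of% hq1, hg, pushout.inl_desc, hA.w, Category.assoc]
    · change b ≫ q ≫ g = b ≫ f ≫ π
      rw [reassoc_of% hq2, hg, pushout.inr_desc, hB.w, Category.assoc]
  let ℓ : X ⟶ pullback g π := pullback.lift q f comm
  -- the two charts of the pullback
  let mA : pullback gA π ⟶ pullback g π :=
    pullback.map gA π g π (pushout.inl wA wB) (𝟙 S) (𝟙 Si) (by simp [hg]) (by simp)
  let mB : pullback gB π ⟶ pullback g π :=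
    pullback.map gB π g π (pushout.inr wA wB) (𝟙 S) (𝟙 Si) (by simp [hg]) (by simp)
  have sqA : IsPullback mA (pullback.fst gA π) (pullback.fst g π) (pushout.inl wA wB) := by
    refine IsPullback.of_right ?_ (by simp [mA]) (IsPullback.of_hasPullback g π).flip
    have e1 : mA ≫ pullback.snd g π = pullback.snd gA π := by simp [mA]
    have e2 : pushout.inl wA wB ≫ g = gA := by simp [hg]
    rw [e1, e2]
    exact (IsPullback.of_hasPullback gA π).flip
  have sqB : IsPullback mB (pullback.fst gB π) (pullback.fst g π) (pushout.inr wA wB) := by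
    refine IsPullback.of_right ?_ (by simp [mB]) (IsPullback.of_hasPullback g π).flip
    have e1 : mB ≫ pullback.snd g π = pullback.snd gB π := by simp [mB]
    have e2 : pushout.inr wA wB ≫ g = gB := by simp [hg]
    rw [e1, e2]
    exact (IsPullback.of_hasPullback gB π).flip
  have hmA : IsOpenImmersion mA := MorphismProperty.of_isPullback (P := @IsOpenImmersion) sqA.flip
    inferInstance
  have hmB : IsOpenImmersion mB := MorphismProperty.of_isPullback (P := @IsOpenImmersion) sqB.flip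
    inferInstance
  have eA : a ≫ ℓ = hA.isoPullback.hom ≫ mA := by
    apply pullback.hom_ext
    · simp [ℓ, mA, hq1]
    · simp [ℓ, mA]
  have eB : b ≫ ℓ = hB.isoPullback.hom ≫ mB := by
    apply pullback.hom_ext
    · simp [ℓ, mB, hq2]
    · simp [ℓ, mB]
  have hAℓ : IsOpenImmersion (a ≫ ℓ) := by rw [eA]; infer_instance
  have hBℓ : IsOpenImmersion (b ≫ ℓ) := by rw [eB]; infer_instance
  -- key: points of `A` and `B` with the same image in the pushout come from the overlap
  have key : ∀ (y : A) (z : B), ℓ (a y) = ℓ (b z) → a y = b z := by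
    intro y z h
    have h1 : q (a y) = q (b z) := by
      have := congr((pullback.fst g π) $h)
      simpa only [← Scheme.Hom.comp_apply, ℓ, Category.assoc, pullback.lift_fst] using this
    rw [← Scheme.Hom.comp_apply, ← Scheme.Hom.comp_apply, hq1, hq2, Scheme.Hom.comp_apply,
      Scheme.Hom.comp_apply] at h1
    obtain ⟨w, hw1, hw2⟩ := pushout_inl_eq_inr wA wB h1
    obtain ⟨t, ht1, ht2⟩ := hWA.exists_preimage_scheme w y hw1
    have e1 : a y = b (pullback.snd a b t) := by
      rw [← ht2, ← Scheme.Hom.comp_apply, pullback.condition, Scheme.Hom.comp_apply]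
    have e2 : (b ≫ ℓ) (pullback.snd a b t) = (b ≫ ℓ) z := by
      rw [Scheme.Hom.comp_apply, ← e1, h, Scheme.Hom.comp_apply]
    rw [e1, (b ≫ ℓ).isOpenEmbedding.injective e2]
  have hinj : Function.Injective ℓ := by
    intro x₁ x₂ h
    rcases hcov x₁ with ⟨y₁, rfl⟩ | ⟨y₁, rfl⟩ <;> rcases hcov x₂ with ⟨y₂, rfl⟩ | ⟨y₂, rfl⟩
    · exact congrArg a ((a ≫ ℓ).isOpenEmbedding.injective (by simpa using h))
    · exact key _ _ h
    · exact (key _ _ h.symm).symm
    · exact congrArg b ((b ≫ ℓ).isOpenEmbedding.injective (by simpa using h))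
  have hsurj : Function.Surjective ℓ := by
    intro p
    rcases pushout_jointly_surjective wA wB (pullback.fst g π p) with ⟨α, hα⟩ | ⟨α, hα⟩
    · obtain ⟨p', hp', -⟩ := sqA.exists_preimage_scheme p α hα.symm
      refine ⟨a (hA.isoPullback.inv p'), ?_⟩
      rw [← Scheme.Hom.comp_apply, ← Scheme.Hom.comp_apply, eA, Iso.inv_hom_id_assoc, hp']
    · obtain ⟨p', hp', -⟩ := sqB.exists_preimage_scheme p α hα.symm
      refine ⟨b (hB.isoPullback.inv p'), ?_⟩
      rw [← Scheme.Hom.comp_apply, ← Scheme.Hom.comp_apply, eB, Iso.inv_hom_id_assoc, hp']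
  have hoi : IsOpenImmersion ℓ := isOpenImmersion_of_two ℓ a b hcov hinj
  have hiso : IsIso ℓ := by
    rw [isIso_iff_isOpenImmersion_and_epi_base]
    refine ⟨hoi, ?_⟩
    rw [TopCat.epi_iff_surjective]
    exact hsurj
  exact IsPullback.of_iso_pullback ⟨comm⟩ (asIso ℓ) (pullback.lift_fst _ _ _)
    (pullback.lift_snd _ _ _)

end Glue

end Groth.Agent.Lib.Helper50.Descent
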