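import Groth.Agent.Lib.Helper6.AffLimit
import Groth.Agent.S8255

/-!
# A scheme affine over `Y` is the relative spectrum of its direct image algebra
-/

set_option autoImplicit false
universe u
open CategoryTheory CategoryTheory.Limits AlgebraicGeometry TopologicalSpace Opposite

namespace Groth.Agent.Lib.Helper50.AffSpecIso

open RelSpec Groth.Agent.Lib.Helper6

/-- a morphism between schemes affine over `S` inducing an isomorphism of direct image algebras is
an isomorphism. -/
theorem isIso_of_isIso_algHom {X Y S : Scheme.{u}} (gX : X ⟶ S) [IsAffineHom gX] (gY : Y ⟶ S)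
    [IsAffineHom gY] (h : Y ⟶ X) (hh : h ≫ gX = gY) [IsIso (AffAlg.algHom gX gY h hh)] :
    IsIso h := by
  set ω := inv (AffAlg.algHom gX gY h hh) with hω
  have hωc : gY.c ≫ ω = gX.c := by
    rw [← AffAlg.algHom_comm gX gY h hh, Category.assoc, hω, IsIso.hom_inv_id, Category.comp_id]
  have wk : AffUniv.lift gY gX ω ≫ gY = gX := AffUniv.lift_comp gY gX ω hωc
  have hk : AffAlg.algHom gY gX (AffUniv.lift gY gX ω) wk = ω := AffUniv.algHom_lift gY gX ω wk
  set k := AffUniv.lift gY gX ω with hkdef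
  have w1 : (k ≫ h) ≫ gX = gX := by rw [Category.assoc, hh, wk]
  have w2 : (h ≫ k) ≫ gY = gY := by rw [Category.assoc, wk, hh]
  have e1 : k ≫ h = 𝟙 X := by
    have h1 : AffAlg.algHom gX gX (k ≫ h) w1 = AffAlg.algHom gX gX (𝟙 X) (Category.id_comp _) := by
      rw [AffLimit.algHom_comp gX gY gX h hh k wk w1, hk, hω, IsIso.hom_inv_id, AffLimit.algHom_id]
    have h2 : (⟨k ≫ h, w1⟩ : AffAlg.over gX gX) = ⟨𝟙 X, Category.id_comp _⟩ :=
      (AffUniv.bijective gX gX).1 (Subtype.ext h1)
    exact congrArg Subtype.val h2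
  have e2 : h ≫ k = 𝟙 Y := by
    have h1 : AffAlg.algHom gY gY (h ≫ k) w2 = AffAlg.algHom gY gY (𝟙 Y) (Category.id_comp _) := by
      rw [AffLimit.algHom_comp gY gX gY k wk h hh w2, hk, hω, IsIso.inv_hom_id, AffLimit.algHom_id]
    have h2 : (⟨h ≫ k, w2⟩ : AffAlg.over gY gY) = ⟨𝟙 Y, Category.id_comp _⟩ :=
      (AffUniv.bijective gY gY).1 (Subtype.ext h1)
    exact congrArg Subtype.val h2
  exact ⟨k, e2, e1⟩

/-- an affine morphism is the relative spectrum of its direct image algebra. -/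
theorem exists_iso_spec_directImage {N Y : Scheme.{u}} (p : N ⟶ Y) [IsAffineHom p] :
    ∃ (c : N ⟶ (QCAlg.directImage p).spec), c ≫ (QCAlg.directImage p).π = p ∧ IsIso c := by
  set A := QCAlg.directImage p with hA
  have hiso : IsIso A.gammaMap := Groth.Agent.S8255.result A
  have hcomm : A.π.c ≫ A.gammaMap = p.c := A.π_c_gammaMap
  have e : AffUniv.lift A.π p A.gammaMap ≫ A.π = p := AffUniv.lift_comp A.π p A.gammaMap hcomm
  refine ⟨AffUniv.lift A.π p A.gammaMap, e, ?_⟩
  have h1 : AffAlg.algHom A.π p (AffUniv.lift A.π p A.gammaMap) e = A.gammaMap :=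
    AffUniv.algHom_lift A.π p A.gammaMap e
  haveI : IsIso (AffAlg.algHom A.π p (AffUniv.lift A.π p A.gammaMap) e) := by rw [h1]; exact hiso
  exact isIso_of_isIso_algHom A.π p _ e

end Groth.Agent.Lib.Helper50.AffSpecIso
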