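import Mathlib.AlgebraicGeometry.AffineTransitionLimit

set_option autoImplicit false
universe u
open CategoryTheory AlgebraicGeometry Limits

namespace Groth.Agent.Lib.Helper50

variable {I : Type u} [SmallCategory I] [IsCofiltered I]
    (D : I ⥤ Scheme.{u}) (c : Limits.Cone D) (hc : Limits.IsLimit c)
    [∀ (i j : I) (f : i ⟶ j), IsAffineHom (D.map f)]

include hc in
/-- Given `g : T ⟶ D i` with `T` affine such that every pullback `D j ×_{D i} T` is nonempty,
there are points `s` of the limit and `t` of `T` with the same image in `D i`. -/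
lemma exists_π_app_eq_of_forall_nonempty_pullback {i : I} {T : Scheme.{u}} [IsAffine T]
    (g : T ⟶ D.obj i) (hne : ∀ (j : I) (φ : j ⟶ i), Nonempty ↑(pullback (D.map φ) g)) :
    ∃ (s : c.pt) (t : T), c.π.app i s = g t := by
  let F := Over.post D ⋙ Over.pullback g ⋙ Over.forget _
  have (i' : _) : IsAffine (F.obj i') := by
    have h1 : IsAffineHom (D.map i'.hom) := inferInstance
    change IsAffine (pullback (D.map i'.hom) g)
    infer_instance
  have (i' : _) : Nonempty (F.obj i') := hne i'.left i'.hom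
  let e : F ⟶ (F ⋙ Scheme.Γ.rightOp) ⋙ Scheme.Spec := Functor.whiskerLeft F ΓSpec.adjunction.unit
  have (i : _) : IsIso (e.app i) := IsAffine.affine
  have : IsIso e := NatIso.isIso_of_isIso_app e
  let c' : LimitCone F := ⟨_, (IsLimit.postcomposeInvEquiv (asIso e) _).symm
    (isLimitOfPreserves Scheme.Spec (limit.isLimit (F ⋙ Scheme.Γ.rightOp)))⟩
  have hne' : Nonempty c'.1.pt := Scheme.nonempty_of_isLimit F c'.1 c'.2
  let α : F ⟶ Over.forget _ ⋙ D := Functor.whiskerRight
    (Functor.whiskerLeft (Over.post D) (Over.mapPullbackAdj g).counit) (Over.forget _)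
  let l := ((Functor.Initial.isLimitWhiskerEquiv (Over.forget i) c).symm hc).lift
    ((Cone.postcompose α).obj c'.1)
  obtain ⟨z⟩ := hne'
  refine ⟨l z, (pullback.snd (D.map (𝟙 i)) g) (c'.1.π.app (Over.mk (𝟙 i)) z), ?_⟩
  have h1 : l ≫ c.π.app i = c'.1.π.app (Over.mk (𝟙 i)) ≫ α.app (Over.mk (𝟙 i)) :=
    ((Functor.Initial.isLimitWhiskerEquiv (Over.forget i) c).symm hc).fac
      ((Cone.postcompose α).obj c'.1) (Over.mk (𝟙 i))
  have h2 : α.app (Over.mk (𝟙 i)) = pullback.fst (D.map (𝟙 i)) g := rfl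
  have h3 : pullback.fst (D.map (𝟙 i)) g = pullback.snd (D.map (𝟙 i)) g ≫ g := by
    simpa using pullback.condition (f := D.map (𝟙 i)) (g := g)
  rw [← Scheme.Hom.comp_apply, h1, h2, h3]
  rfl

end Groth.Agent.Lib.Helper50
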