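import Groth.Agent.Lib.Helper50.LimMax
import Groth.Agent.Lib.Helper50.LimFib
import Groth.Agent.Lib.Helper50.Lim
import Mathlib

set_option autoImplicit false
universe u
open CategoryTheory AlgebraicGeometry Limits

namespace Groth.Agent.Lib.Helper50.CycLim

/-- Every point of a fibre has a generization which is a generic point of that fibre. -/
lemma exists_generic_in_fibre {X Y : Scheme.{u}} (f : X ⟶ Y) (x₀ : X) :
    ∃ x : X, f x = f x₀ ∧ x ⤳ x₀ ∧ ∀ x'' : X, f x'' = f x → x'' ⤳ x → x'' = x := by
  obtain ⟨m, hm, hmz⟩ := exists_maximal_specializes (f.asFiber x₀)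
  have hfx : f (f.fiberι (f x₀) m) = f x₀ := by
    have : f.fiberι (f x₀) m ∈ Set.range (f.fiberι (f x₀)) := ⟨_, rfl⟩
    rw [f.range_fiberι] at this
    exact this
  refine ⟨f.fiberι (f x₀) m, hfx, ?_, ?_⟩
  · have := hmz.map (f.fiberι (f x₀)).continuous
    rwa [f.fiberι_asFiber] at this
  · intro x'' h1 h2
    have hx'' : x'' ∈ Set.range (f.fiberι (f x₀)) := by
      rw [f.range_fiberι]
      exact h1.trans hfx
    obtain ⟨z'', rfl⟩ := hx''
    have h3 : z'' ⤳ m := (f.fiberι (f x₀)).isEmbedding.isInducing.specializes_iff.1 h2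
    rw [hm z'' h3]

/-- At a generic point of a fibre of a morphism from a locally Noetherian scheme, the local ring of
the fibre has finite nonzero length. -/
lemma length_toNat_ne_zero {X Y : Scheme.{u}} [IsLocallyNoetherian X] (f : X ⟶ Y) (x : X)
    (hx : ∀ x'' : X, f x'' = f x → x'' ⤳ x → x'' = x) :
    (Module.length (X.presheaf.stalk x) (X.presheaf.stalk x ⧸ Ideal.map (f.stalkMap x).hom
        (IsLocalRing.maximalIdeal (Y.presheaf.stalk (f x))))).toNat ≠ 0 := by
  have hJ : Ideal.map (f.stalkMap x).hom (IsLocalRing.maximalIdeal (Y.presheaf.stalk (f x))) ≤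
      IsLocalRing.maximalIdeal (X.presheaf.stalk x) :=
    IsLocalRing.map_maximalIdeal_le (f.stalkMap x).hom
  have hprime : ∀ q : Ideal (X.presheaf.stalk x), q.IsPrime →
      Ideal.map (f.stalkMap x).hom (IsLocalRing.maximalIdeal (Y.presheaf.stalk (f x))) ≤ q →
      q = IsLocalRing.maximalIdeal (X.presheaf.stalk x) := by
    intro q hq hJq
    let P : Spec (X.presheaf.stalk x) := (⟨q, hq⟩ : PrimeSpectrum (X.presheaf.stalk x))
    have hspec : X.fromSpecStalk x P ⤳ x := by
      have : X.fromSpecStalk x P ∈ Set.range (X.fromSpecStalk x) := ⟨P, rfl⟩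
      rw [Scheme.range_fromSpecStalk] at this
      exact this
    have hcomap : Ideal.comap (f.stalkMap x).hom q =
        IsLocalRing.maximalIdeal (Y.presheaf.stalk (f x)) := by
      have h1 : IsLocalRing.maximalIdeal (Y.presheaf.stalk (f x)) ≤
          Ideal.comap (f.stalkMap x).hom q := Ideal.map_le_iff_le_comap.1 hJq
      have h2 : (Ideal.comap (f.stalkMap x).hom q).IsPrime := Ideal.comap_isPrime _ _
      exact ((IsLocalRing.maximalIdeal.isMaximal _).eq_of_le h2.ne_top h1).symm
    have hfP : f (X.fromSpecStalk x P) = f x := by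
      have h1 : f (X.fromSpecStalk x P) = (X.fromSpecStalk x ≫ f) P := rfl
      rw [h1, ← Scheme.SpecMap_stalkMap_fromSpecStalk]
      have h2 : Spec.map (f.stalkMap x) P = IsLocalRing.closedPoint (Y.presheaf.stalk (f x)) := by
        apply PrimeSpectrum.ext
        exact hcomap
      rw [Scheme.Hom.comp_apply, h2, Scheme.fromSpecStalk_closedPoint]
    have hPx : X.fromSpecStalk x P = x := hx _ hfP hspec
    have hP : P = IsLocalRing.closedPoint (X.presheaf.stalk x) := by
      apply (X.fromSpecStalk x).isEmbedding.injective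
      rw [hPx, Scheme.fromSpecStalk_closedPoint]
    exact congrArg PrimeSpectrum.asIdeal hP
  set O := X.presheaf.stalk x
  set J := Ideal.map (f.stalkMap x).hom (IsLocalRing.maximalIdeal (Y.presheaf.stalk (f x)))
  have hJtop : J ≠ ⊤ := fun h => (IsLocalRing.maximalIdeal.isMaximal O).ne_top (top_le_iff.1 (h ▸ hJ))
  haveI : Nontrivial (O ⧸ J) := Ideal.Quotient.nontrivial_iff.2 hJtop
  haveI : IsNoetherianRing O := inferInstance
  haveI : IsNoetherianRing (O ⧸ J) := inferInstance
  haveI : Ring.KrullDimLE 0 (O ⧸ J) := by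
    rw [Ring.krullDimLE_zero_iff]
    intro Q hQ
    have h1 : (Ideal.comap (Ideal.Quotient.mk J) Q).IsPrime := Ideal.comap_isPrime _ _
    have h2 : J ≤ Ideal.comap (Ideal.Quotient.mk J) Q := by
      intro a ha
      rw [Ideal.mem_comap, Ideal.Quotient.eq_zero_iff_mem.2 ha]
      exact Q.zero_mem
    have h3 := hprime _ h1 h2
    have h4 : Q = Ideal.map (Ideal.Quotient.mk J) (IsLocalRing.maximalIdeal O) := by
      rw [← h3, Ideal.map_comap_of_surjective _ Ideal.Quotient.mk_surjective]
    have h5 := Ideal.map_eq_top_or_isMaximal_of_surjective (Ideal.Quotient.mk J)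
      Ideal.Quotient.mk_surjective (IsLocalRing.maximalIdeal.isMaximal O)
    rw [← h4] at h5
    exact h5.resolve_left hQ.ne_top
  haveI : IsArtinianRing (O ⧸ J) := isArtinianRing_iff_krullDimLE_zero.2 inferInstance
  have hlen : Module.length O (O ⧸ J) = Module.length (O ⧸ J) (O ⧸ J) :=
    Module.length_eq_of_surjective (Ideal.Quotient.mk_surjective (I := J))
  have h1 : Module.length O (O ⧸ J) ≠ ⊤ := by
    rw [hlen]
    exact Module.length_ne_top
  have h2 : Module.length O (O ⧸ J) ≠ 0 := by
    rw [Ne, Module.length_eq_zero_iff]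
    exact not_subsingleton _
  intro h
  rcases (ENat.toNat_eq_zero).1 h with h | h
  · exact h2 h
  · exact h1 h

section Lim

variable {I : Type u} [SmallCategory I] [IsCofiltered I]
    (D : I ⥤ Scheme.{u}) (c : Limits.Cone D) (hc : Limits.IsLimit c)
    [∀ (i j : I) (f : i ⟶ j), IsAffineHom (D.map f)]

include hc in
/-- If no point of the limit lies over `y : D i`, then already at some stage no point lies
over `y`. -/
lemma exists_stage_fibre_empty (i : I) (y : D.obj i) (h : ∀ x' : c.pt, c.π.app i x' ≠ y) :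
    ∃ (j : I) (φ : j ⟶ i), ∀ x : D.obj j, D.map φ x ≠ y := by
  by_contra hcon
  push_neg at hcon
  have hne : ∀ (j : I) (φ : j ⟶ i),
      Nonempty ↑(pullback (D.map φ) ((D.obj i).fromSpecResidueField y)) := by
    intro j φ
    obtain ⟨x, hx⟩ := hcon j φ
    obtain ⟨z, -, -⟩ := Scheme.Pullback.exists_preimage_pullback (f := D.map φ)
      (g := (D.obj i).fromSpecResidueField y) x
      (IsLocalRing.closedPoint ((D.obj i).residueField y))
      (by rw [hx, Scheme.fromSpecResidueField_apply])
    exact ⟨z⟩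
  obtain ⟨s, t, hst⟩ := exists_π_app_eq_of_forall_nonempty_pullback D c hc
    ((D.obj i).fromSpecResidueField y) hne
  exact h s (by rw [hst, Scheme.fromSpecResidueField_apply])

end Lim

end Groth.Agent.Lib.Helper50.CycLim
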