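import Mathlib.AlgebraicGeometry.AffineTransitionLimit
import Mathlib.AlgebraicGeometry.Morphisms.ClosedImmersion
import Mathlib.AlgebraicGeometry.Morphisms.FiniteType

/-!
# Descent of closed immersions through cofiltered limits with affine transition maps

Main results (for `D : I ⥤ Scheme` cofiltered with affine transitions and limit cone `c`):
* `eventually_finset`, `eventually_finite`: finitely many eventually true properties over `i₀`.
* `exists_appLE_π_eq`: sections of the limit over the preimage of an affine open come from a stage.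
* `exists_forall_isClosedImmersion_comp_π`: if `h : Y ⟶ lim D` is a closed immersion and `Y` is
  locally of finite type over some `S` under `D i₀`, then `Y ⟶ D k` is a closed immersion for all
  sufficiently small `k`.
-/

set_option autoImplicit false
universe u
open CategoryTheory AlgebraicGeometry Limits

namespace Groth.Agent.Lib.Helper50

/-- Finitely many "eventually true" properties on a cofiltered category over `i₀` are jointly
eventually true. -/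
lemma eventually_finset {I : Type*} [Category I] [IsCofiltered I] {i₀ : I} {ι : Type*}
    (s : Finset ι) (P : ι → ∀ k : I, (k ⟶ i₀) → Prop)
    (H : ∀ x ∈ s, ∃ (j : I) (f : j ⟶ i₀), ∀ (k : I) (g : k ⟶ j) (g' : k ⟶ i₀),
      g ≫ f = g' → P x k g') :
    ∃ (j : I) (f : j ⟶ i₀), ∀ (k : I) (g : k ⟶ j) (g' : k ⟶ i₀), g ≫ f = g' →
      ∀ x ∈ s, P x k g' := by
  classical
  induction s using Finset.induction_on with
  | empty => exact ⟨i₀, 𝟙 _, by simp⟩
  | insert x s hx ih =>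
    obtain ⟨j₁, f₁, h₁⟩ := ih fun y hy ↦ H y (Finset.mem_insert_of_mem hy)
    obtain ⟨j₂, f₂, h₂⟩ := H x (Finset.mem_insert_self _ _)
    obtain ⟨j₃, a, b, -⟩ := IsCofilteredOrEmpty.cone_objs j₁ j₂
    obtain ⟨j, e, he⟩ := IsCofilteredOrEmpty.cone_maps (a ≫ f₁) (b ≫ f₂)
    refine ⟨j, e ≫ a ≫ f₁, fun k g g' hg y hy ↦ ?_⟩
    rcases Finset.mem_insert.mp hy with rfl | hy
    · exact h₂ k (g ≫ e ≫ b) g' (by rw [← hg, he]; simp)
    · exact h₁ k (g ≫ e ≫ a) g' (by rw [← hg]; simp) y hy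

/-- Finitely many "eventually true" properties on a cofiltered category over `i₀` are jointly
eventually true. -/
lemma eventually_finite {I : Type*} [Category I] [IsCofiltered I] {i₀ : I} {ι : Type*} [Finite ι]
    (P : ι → ∀ k : I, (k ⟶ i₀) → Prop)
    (H : ∀ x, ∃ (j : I) (f : j ⟶ i₀), ∀ (k : I) (g : k ⟶ j) (g' : k ⟶ i₀),
      g ≫ f = g' → P x k g') :
    ∃ (j : I) (f : j ⟶ i₀), ∀ (k : I) (g : k ⟶ j) (g' : k ⟶ i₀), g ≫ f = g' →
      ∀ x, P x k g' := by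
  cases nonempty_fintype ι
  obtain ⟨j, f, h⟩ := eventually_finset (Finset.univ : Finset ι) P fun x _ ↦ H x
  exact ⟨j, f, fun k g g' hg x ↦ h k g g' hg x (Finset.mem_univ _)⟩

/-- A finite type ring map `φ : R → C` has a finite "test set": any factorization `R → B → C`
whose second map hits the test set is surjective. -/
lemma exists_finset_forall_surjective_of_finiteType {R C : Type u} [CommRing R] [CommRing C]
    (φ : R →+* C) (hφ : φ.FiniteType) :
    ∃ s : Finset C, ∀ {B : Type u} [CommRing B] (α : R →+* B) (ψ : B →+* C),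
      ψ.comp α = φ → (∀ x ∈ s, x ∈ ψ.range) → Function.Surjective ψ := by
  algebraize [φ]
  obtain ⟨s, hs⟩ := (‹Algebra.FiniteType R C› : Algebra.FiniteType R C).out
  refine ⟨s, fun {B} _ α ψ hfac hx ↦ ?_⟩
  let A' : Subalgebra R C :=
    { ψ.range with
      algebraMap_mem' := fun r ↦ ⟨α r, by
        change (ψ.comp α) r = φ r
        rw [hfac]⟩ }
  have h1 : Algebra.adjoin R (s : Set C) ≤ A' := Algebra.adjoin_le fun x hx' ↦ hx x hx'
  rw [hs] at h1
  intro y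
  exact h1 (Algebra.mem_top (R := R) (x := y))

lemma surjective_app_of_surjective_appLE {X Y : Scheme.{u}} (f : X ⟶ Y) (U : Y.Opens)
    (V : X.Opens) (e : V ≤ f ⁻¹ᵁ U) (hV : V = f ⁻¹ᵁ U)
    (H : Function.Surjective (f.appLE U V e).hom) : Function.Surjective (f.app U).hom := by
  subst hV
  rwa [← Scheme.Hom.app_eq_appLE] at H

/-- A morphism is a closed immersion if the target is covered by affine opens with affine
preimages on which the map on sections is surjective. -/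
lemma isClosedImmersion_of_forall_affine {X Y : Scheme.{u}} (f : X ⟶ Y) {ι : Type*}
    (U : ι → Y.Opens) (hU : ⨆ i, U i = ⊤) (hU' : ∀ i, IsAffineOpen (U i))
    (h1 : ∀ i, IsAffineOpen (f ⁻¹ᵁ U i)) (h2 : ∀ i, Function.Surjective (f.app (U i)).hom) :
    IsClosedImmersion f := by
  refine (IsClosedImmersion.hasAffineProperty).of_iSup_eq_top
    (fun i ↦ ⟨U i, hU' i⟩) hU fun i ↦ ⟨h1 i, ?_⟩
  dsimp only
  rw [morphismRestrict_appTop]
  have key : ∀ (W : Y.Opens) (_ : W = U i) (V : X.Opens) (e : V = f ⁻¹ᵁ W),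
      Function.Surjective (f.app W ≫ X.presheaf.map (eqToHom e).op).hom := by
    rintro W rfl V rfl
    simpa using h2 i
  exact key _ (Scheme.Opens.ι_image_top _) _ _

variable {I : Type u} [SmallCategory I] [IsCofiltered I]
    (D : I ⥤ Scheme.{u}) (c : Limits.Cone D) (hc : Limits.IsLimit c)
    [∀ (i j : I) (f : i ⟶ j), IsAffineHom (D.map f)]

omit [IsCofiltered I] [∀ (i j : I) (f : i ⟶ j), IsAffineHom (D.map f)] in
lemma π_preimage_le {i j : I} (f : j ⟶ i) (U : (D.obj i).Opens) :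
    c.π.app i ⁻¹ᵁ U ≤ c.π.app j ⁻¹ᵁ (D.map f ⁻¹ᵁ U) := by
  rw [← Scheme.Hom.comp_preimage, c.w]

omit [IsCofiltered I] [∀ (i j : I) (f : i ⟶ j), IsAffineHom (D.map f)] in
lemma π_preimage_eq {i j : I} (f : j ⟶ i) (U : (D.obj i).Opens) :
    c.π.app j ⁻¹ᵁ (D.map f ⁻¹ᵁ U) = c.π.app i ⁻¹ᵁ U := by
  rw [← Scheme.Hom.comp_preimage, c.w]

set_option backward.defeqAttrib.useBackward true in
set_option backward.isDefEq.respectTransparency false in
include hc in
/-- Sections of the limit over the preimage of an affine open of a stage come from a later stage. -/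
lemma exists_appLE_π_eq {i : I} {U : (D.obj i).Opens} (hU : IsAffineOpen U)
    (s : Γ(c.pt, c.π.app i ⁻¹ᵁ U)) :
    ∃ (j : I) (f : j ⟶ i) (t : Γ(D.obj j, D.map f ⁻¹ᵁ U)),
      (c.π.app j).appLE (D.map f ⁻¹ᵁ U) (c.π.app i ⁻¹ᵁ U) (π_preimage_le D c f U) t = s := by
  have (j : Over i) : IsAffine ((opensDiagram D i U).obj j) := hU.preimage (D.map _)
  obtain ⟨j, t, hj⟩ := exists_appTop_π_eq_of_isAffine_of_isLimit _ _
    (isLimitOpensCone D c hc i U)
    (c.pt.presheaf.map (homOfLE (show (c.π.app i ⁻¹ᵁ U).ι ''ᵁ ⊤ ≤ c.π.app i ⁻¹ᵁ U by simp)).op s)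
  refine ⟨j.left, j.hom, (D.obj j.left).presheaf.map
    (homOfLE (show D.map j.hom ⁻¹ᵁ U ≤ (D.map j.hom ⁻¹ᵁ U).ι ''ᵁ ⊤ by simp)).op t, ?_⟩
  have := congr(c.pt.presheaf.map
    (homOfLE (show c.π.app i ⁻¹ᵁ U ≤ (c.π.app i ⁻¹ᵁ U).ι ''ᵁ ⊤ by simp)).op $hj)
  convert! this using 1
  · dsimp [Scheme.Opens.toScheme_presheaf_obj]
    rw [← ConcreteCategory.comp_apply, ← ConcreteCategory.comp_apply]
    congr 2
    simp [Scheme.Hom.app_eq_appLE, Scheme.Hom.resLE_appLE]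
  · change s = (c.pt.presheaf.map (homOfLE _).op ≫ c.pt.presheaf.map (homOfLE _).op) s
    rw [← Functor.map_comp]
    change s = (c.pt.presheaf.map (𝟙 _)) s
    simp

omit [IsCofiltered I] [∀ (i j : I) (f : i ⟶ j), IsAffineHom (D.map f)] in
lemma comp_π_preimage_le {Y : Scheme.{u}} (h : Y ⟶ c.pt) {i k : I} (g : k ⟶ i)
    (U : (D.obj i).Opens) :
    h ⁻¹ᵁ (c.π.app i ⁻¹ᵁ U) ≤ (h ≫ c.π.app k) ⁻¹ᵁ (D.map g ⁻¹ᵁ U) := by
  rw [Scheme.Hom.comp_preimage]
  exact Scheme.Hom.preimage_mono _ (π_preimage_le D c g U)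

omit [IsCofiltered I] [∀ (i j : I) (f : i ⟶ j), IsAffineHom (D.map f)] in
lemma comp_π_preimage_eq {Y : Scheme.{u}} (h : Y ⟶ c.pt) {i k : I} (g : k ⟶ i)
    (U : (D.obj i).Opens) :
    h ⁻¹ᵁ (c.π.app i ⁻¹ᵁ U) = (h ≫ c.π.app k) ⁻¹ᵁ (D.map g ⁻¹ᵁ U) := by
  rw [Scheme.Hom.comp_preimage, π_preimage_eq]

include hc in
/-- Single element version: a section of a closed subscheme of the limit over the preimage of an
affine open of a stage comes from all sufficiently small stages. -/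
lemma exists_forall_mem_range_appLE {i₀ : I} {Y : Scheme.{u}} (h : Y ⟶ c.pt)
    [IsClosedImmersion h] {U : (D.obj i₀).Opens} (hU : IsAffineOpen U)
    (x : Γ(Y, h ⁻¹ᵁ (c.π.app i₀ ⁻¹ᵁ U))) :
    ∃ (j : I) (f : j ⟶ i₀), ∀ (k : I) (g : k ⟶ j) (g' : k ⟶ i₀), g ≫ f = g' →
      x ∈ ((h ≫ c.π.app k).appLE (D.map g' ⁻¹ᵁ U) (h ⁻¹ᵁ (c.π.app i₀ ⁻¹ᵁ U))
        (comp_π_preimage_le D c h g' U)).hom.range := by
  have := isAffineHom_π_app D c hc i₀
  have hUc : IsAffineOpen (c.π.app i₀ ⁻¹ᵁ U) := hU.preimage (c.π.app i₀)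
  obtain ⟨σ, hσ⟩ := Scheme.Hom.app_surjective h _ hUc x
  obtain ⟨j, f, τ, hτ⟩ := exists_appLE_π_eq D c hc hU σ
  refine ⟨j, f, fun k g g' hg ↦ ?_⟩
  subst hg
  refine ⟨(D.map g).appLE (D.map f ⁻¹ᵁ U) (D.map (g ≫ f) ⁻¹ᵁ U)
    (by rw [Functor.map_comp, Scheme.Hom.comp_preimage]) τ, ?_⟩
  rw [← hσ, ← hτ]
  simp only [← CommRingCat.comp_apply, Scheme.Hom.appLE_comp_appLE, Scheme.Hom.app_eq_appLE]
  simp only [Category.assoc, c.w]

include hc in
/-- Surjectivity on sections over an affine open for all sufficiently small stages. -/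
lemma exists_forall_surjective_appLE {i₀ : I} {S : Scheme.{u}} (t : D.obj i₀ ⟶ S)
    {Y : Scheme.{u}} (h : Y ⟶ c.pt) [IsClosedImmersion h]
    [LocallyOfFiniteType (h ≫ c.π.app i₀ ≫ t)]
    {U : (D.obj i₀).Opens} (hU : IsAffineOpen U) {W : S.Opens} (hW : IsAffineOpen W)
    (hUW : U ≤ t ⁻¹ᵁ W) :
    ∃ (j : I) (f : j ⟶ i₀), ∀ (k : I) (g : k ⟶ j) (g' : k ⟶ i₀), g ≫ f = g' →
      Function.Surjective ((h ≫ c.π.app k).appLE (D.map g' ⁻¹ᵁ U) (h ⁻¹ᵁ (c.π.app i₀ ⁻¹ᵁ U))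
        (comp_π_preimage_le D c h g' U)).hom := by
  have := isAffineHom_π_app D c hc i₀
  have hUc : IsAffineOpen (c.π.app i₀ ⁻¹ᵁ U) := hU.preimage (c.π.app i₀)
  have hV : IsAffineOpen (h ⁻¹ᵁ (c.π.app i₀ ⁻¹ᵁ U)) := hUc.preimage h
  have e : h ⁻¹ᵁ (c.π.app i₀ ⁻¹ᵁ U) ≤ (h ≫ c.π.app i₀ ≫ t) ⁻¹ᵁ W := by
    rw [Scheme.Hom.comp_preimage, Scheme.Hom.comp_preimage]
    exact Scheme.Hom.preimage_mono _ (Scheme.Hom.preimage_mono _ hUW)
  have hφ : ((h ≫ c.π.app i₀ ≫ t).appLE W _ e).hom.FiniteType :=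
    HasRingHomProperty.appLE @LocallyOfFiniteType _ inferInstance ⟨W, hW⟩ ⟨_, hV⟩ e
  obtain ⟨s, hs⟩ := exists_finset_forall_surjective_of_finiteType _ hφ
  obtain ⟨j, f, hj⟩ := eventually_finset s
    (fun x k g' ↦ x ∈ ((h ≫ c.π.app k).appLE (D.map g' ⁻¹ᵁ U) (h ⁻¹ᵁ (c.π.app i₀ ⁻¹ᵁ U))
        (comp_π_preimage_le D c h g' U)).hom.range)
    (fun x _ ↦ exists_forall_mem_range_appLE D c hc h hU x)
  refine ⟨j, f, fun k g g' hg ↦ ?_⟩
  refine hs ((D.map g' ≫ t).appLE W (D.map g' ⁻¹ᵁ U) ?_).hom _ ?_ (hj k g g' hg)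
  · rw [Scheme.Hom.comp_preimage]
    exact Scheme.Hom.preimage_mono _ hUW
  · rw [← CommRingCat.hom_comp, Scheme.Hom.appLE_comp_appLE]
    simp only [Category.assoc, c.w_assoc]

include hc in
/-- **Descent of closed immersions into a limit.** If `h : Y ⟶ lim D` is a closed immersion and
`Y` is locally of finite type over a scheme `S` under the stage `D i₀` (quasi-compact), then
`Y ⟶ D k` is a closed immersion for all sufficiently small `k`. -/
theorem exists_forall_isClosedImmersion_comp_π (i₀ : I) [CompactSpace (D.obj i₀)]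
    {S : Scheme.{u}} (t : D.obj i₀ ⟶ S) {Y : Scheme.{u}} (h : Y ⟶ c.pt) [IsClosedImmersion h]
    [LocallyOfFiniteType (h ≫ c.π.app i₀ ≫ t)] :
    ∃ (j : I) (_ : j ⟶ i₀), ∀ (k : I) (_ : k ⟶ j), IsClosedImmersion (h ≫ c.π.app k) := by
  have key (x : D.obj i₀) : ∃ (U : (D.obj i₀).Opens) (W : S.Opens), IsAffineOpen U ∧
      IsAffineOpen W ∧ x ∈ U ∧ U ≤ t ⁻¹ᵁ W := by
    obtain ⟨_, ⟨W, hW : IsAffineOpen W, rfl⟩, hxW, -⟩ :=
      S.isBasis_affineOpens.exists_subset_of_mem_open (Set.mem_univ (t x)) isOpen_univ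
    obtain ⟨_, ⟨U, hU : IsAffineOpen U, rfl⟩, hxU, hUW⟩ :=
      (D.obj i₀).isBasis_affineOpens.exists_subset_of_mem_open
        (show x ∈ (t ⁻¹ᵁ W : Set _) from hxW) (t ⁻¹ᵁ W).isOpen
    exact ⟨U, W, hU, hW, hxU, hUW⟩
  choose U W hU hW hxU hUW using key
  obtain ⟨σ, hσ⟩ := CompactSpace.elim_nhds_subcover (fun x ↦ (U x : Set (D.obj i₀)))
    (fun x ↦ (U x).2.mem_nhds (hxU x))
  obtain ⟨j, f, hj⟩ := eventually_finset σ
    (fun x k g' ↦ Function.Surjective ((h ≫ c.π.app k).appLE (D.map g' ⁻¹ᵁ U x)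
      (h ⁻¹ᵁ (c.π.app i₀ ⁻¹ᵁ U x)) (comp_π_preimage_le D c h g' (U x))).hom)
    (fun x _ ↦ exists_forall_surjective_appLE D c hc t h (hU x) (hW x) (hUW x))
  refine ⟨j, f, fun k g ↦ ?_⟩
  have hk := isAffineHom_π_app D c hc k
  refine isClosedImmersion_of_forall_affine (h ≫ c.π.app k)
    (fun x : σ ↦ D.map (g ≫ f) ⁻¹ᵁ U x.1) ?_ (fun x ↦ (hU x.1).preimage _)
    (fun x ↦ ((hU x.1).preimage _).preimage _) (fun x ↦ ?_)
  · rw [← Scheme.Hom.preimage_iSup, ← top_le_iff]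
    rintro y -
    have : (D.map (g ≫ f)) y ∈ ⋃ x ∈ σ, (U x : Set (D.obj i₀)) := hσ.ge (Set.mem_univ _)
    obtain ⟨x, hx, hyx⟩ := Set.mem_iUnion₂.mp this
    exact TopologicalSpace.Opens.mem_iSup.mpr ⟨⟨x, hx⟩, hyx⟩
  · exact surjective_app_of_surjective_appLE _ _ _ _ (comp_π_preimage_eq D c h _ _)
      (hj k g (g ≫ f) rfl x.1 x.2)

end Groth.Agent.Lib.Helper50
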