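import Groth.Agent.Lib.Helper50.CycLim1
import Groth.Agent.Lib.Helper50.LimDesc
import Mathlib

set_option autoImplicit false
universe u
open CategoryTheory AlgebraicGeometry Limits

namespace Groth.Agent.Lib.Helper50.CycLim

/-- The ideal generated by the maximal ideal of the target only grows when the morphism is factored
through a further morphism. -/
lemma map_maximalIdeal_le_of_comp {X Y Z : Scheme.{u}} (f : X ⟶ Y) (g : Y ⟶ Z) (k : X ⟶ Z)
    (h : f ≫ g = k) (x : X) :
    Ideal.map (k.stalkMap x).hom (IsLocalRing.maximalIdeal (Z.presheaf.stalk (k x))) ≤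
      Ideal.map (f.stalkMap x).hom (IsLocalRing.maximalIdeal (Y.presheaf.stalk (f x))) := by
  subst h
  rw [Ideal.map_le_iff_le_comap]
  intro a ha
  rw [Ideal.mem_comap]
  have h1 : ((f ≫ g).stalkMap x).hom a = (g.stalkMap (f x) ≫ f.stalkMap x).hom a :=
    DFunLike.congr_fun (congrArg CommRingCat.Hom.hom (Scheme.Hom.stalkMap_comp f g x)) a
  have h2 : (g.stalkMap (f x) ≫ f.stalkMap x).hom a =
      (f.stalkMap x).hom ((g.stalkMap (f x)).hom a) := rfl
  rw [h1, h2]
  apply Ideal.mem_map_of_mem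
  exact IsLocalRing.map_maximalIdeal_le (g.stalkMap (f x)).hom (Ideal.mem_map_of_mem _ ha)

section Lim

variable {I : Type u} [SmallCategory I] [IsCofiltered I]
    (D : I ⥤ Scheme.{u}) (c : Limits.Cone D) (hc : Limits.IsLimit c)
    [∀ (i j : I) (f : i ⟶ j), IsAffineHom (D.map f)]

include hc in
/-- Every germ on the limit comes from a germ on a stage. -/
lemma exists_stalkMap_eq (x' : c.pt) (a : c.pt.presheaf.stalk x') :
    ∃ (j : I) (b : (D.obj j).presheaf.stalk (c.π.app j x')),
      ((c.π.app j).stalkMap x').hom b = a := by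
  obtain ⟨U, hxU, s, rfl⟩ := TopCat.Presheaf.exists_germ_eq c.pt.presheaf a
  obtain ⟨_, ⟨j, V, hV, rfl⟩, hxV, hVU⟩ :=
    TopologicalSpace.Opens.isBasis_iff_nbhd.1 (isBasis_preimage_isAffineOpen D c hc) hxU
  obtain ⟨l, f, t, ht⟩ := exists_appLE_π_eq D c hc hV
    (c.pt.presheaf.map (homOfLE hVU).op s)
  have hxl : c.π.app l x' ∈ D.map f ⁻¹ᵁ V := π_preimage_le D c f V hxV
  refine ⟨l, (D.obj l).presheaf.germ (D.map f ⁻¹ᵁ V) (c.π.app l x') hxl t, ?_⟩
  change (c.π.app l).stalkMap x' ((D.obj l).presheaf.germ (D.map f ⁻¹ᵁ V) (c.π.app l x') hxl t) = _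
  rw [Scheme.Hom.germ_stalkMap_apply]
  have h1 : c.pt.presheaf.germ U x' hxU s =
      c.pt.presheaf.germ (c.π.app j ⁻¹ᵁ V) x' hxV (c.pt.presheaf.map (homOfLE hVU).op s) :=
    (TopCat.Presheaf.germ_res_apply c.pt.presheaf (homOfLE hVU) x' hxV s).symm
  rw [h1, ← ht, Scheme.Hom.appLE]
  exact (TopCat.Presheaf.germ_res_apply c.pt.presheaf _ x' hxV _).symm

include hc in
/-- On a locally Noetherian limit, the maximal ideal of a local ring is generated at some stage
by the maximal ideal of the local ring of the stage, and then at all later stages. -/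
lemma exists_stage_maximalIdeal_le [IsLocallyNoetherian c.pt] (x' : c.pt) :
    ∃ j : I, ∀ (l : I) (_ : l ⟶ j),
      IsLocalRing.maximalIdeal (c.pt.presheaf.stalk x') ≤
        Ideal.map ((c.π.app l).stalkMap x').hom
          (IsLocalRing.maximalIdeal ((D.obj l).presheaf.stalk (c.π.app l x'))) := by
  classical
  obtain ⟨s, hs⟩ := (isNoetherianRing_iff_ideal_fg _).1
    (inferInstance : IsNoetherianRing (c.pt.presheaf.stalk x'))
    (IsLocalRing.maximalIdeal (c.pt.presheaf.stalk x'))
  have hmem : ∀ a : c.pt.presheaf.stalk x', ∃ j : I,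
      a ∈ IsLocalRing.maximalIdeal (c.pt.presheaf.stalk x') →
      a ∈ Ideal.map ((c.π.app j).stalkMap x').hom
          (IsLocalRing.maximalIdeal ((D.obj j).presheaf.stalk (c.π.app j x'))) := by
    intro a
    obtain ⟨j, b, hb⟩ := exists_stalkMap_eq D c hc x' a
    refine ⟨j, fun ha => ?_⟩
    rw [← hb]
    apply Ideal.mem_map_of_mem
    rw [IsLocalRing.mem_maximalIdeal, mem_nonunits_iff]
    intro hbu
    have : IsUnit a := hb ▸ hbu.map ((c.π.app j).stalkMap x').hom
    exact ((IsLocalRing.mem_maximalIdeal a).1 ha) this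
  choose J hJ using hmem
  obtain ⟨j, hj⟩ := IsCofiltered.inf_objs_exists (s.image J)
  refine ⟨j, fun l φ => ?_⟩
  rw [← hs, Ideal.span_le]
  intro a ha
  have ham : a ∈ IsLocalRing.maximalIdeal (c.pt.presheaf.stalk x') := by
    rw [← hs]; exact Ideal.subset_span ha
  obtain ⟨ψ⟩ := hj (Finset.mem_image_of_mem J ha)
  exact map_maximalIdeal_le_of_comp (c.π.app l) (D.map (φ ≫ ψ)) (c.π.app (J a)) (c.w _) x'
    (hJ a ham)

include hc in
/-- On a Noetherian limit, the closure of a point is the preimage of a closed subset of a stage: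
points with the same image as `x'` at that stage (and all later ones) are specializations
of `x'`. -/
lemma exists_stage_specializes [IsLocallyNoetherian c.pt] [CompactSpace c.pt] (x' : c.pt) :
    ∃ j : I, ∀ (l : I) (_ : l ⟶ j) (x'' : c.pt), c.π.app l x'' = c.π.app l x' → x' ⤳ x'' := by
  haveI : IsNoetherian c.pt := ⟨⟩
  let U : c.pt.Opens := ⟨(closure {x'})ᶜ, isClosed_closure.isOpen_compl⟩
  obtain ⟨j, V, -, hV⟩ := exists_preimage_eq D c hc U
    (TopologicalSpace.NoetherianSpace.isCompact _)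
  refine ⟨j, fun l φ x'' h => ?_⟩
  rw [specializes_iff_mem_closure]
  by_contra hcon
  have h1 : x'' ∈ U := hcon
  rw [← hV] at h1
  have h2 : c.π.app j x'' ∈ V := h1
  have h3 : c.π.app j x'' = c.π.app j x' := by
    rw [← c.w φ, Scheme.Hom.comp_apply, Scheme.Hom.comp_apply, h]
  rw [h3] at h2
  have h4 : x' ∈ U := by rw [← hV]; exact h2
  exact h4 (subset_closure rfl)

end Lim

end Groth.Agent.Lib.Helper50.CycLim
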