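import Mathlib

/-!
# Gluing two schemes along a common open (pushouts of open immersions) — basic facts
-/

set_option autoImplicit false
universe u
open CategoryTheory AlgebraicGeometry Limits TopologicalSpace

namespace Groth.Agent.Lib.Helper50.Descent

section Pushout

variable {W A B : Scheme.{u}} (wA : W ⟶ A) (wB : W ⟶ B) [IsOpenImmersion wA] [IsOpenImmersion wB]

instance isOpenImmersion_pushout_inl : IsOpenImmersion (pushout.inl wA wB) :=
  inferInstanceAs (IsOpenImmersion (colimit.ι (span wA wB) WalkingSpan.left))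

instance isOpenImmersion_pushout_inr : IsOpenImmersion (pushout.inr wA wB) :=
  inferInstanceAs (IsOpenImmersion (colimit.ι (span wA wB) WalkingSpan.right))

lemma pushout_jointly_surjective (x : ↑(pushout wA wB)) :
    x ∈ Set.range (pushout.inl wA wB) ∨ x ∈ Set.range (pushout.inr wA wB) := by
  obtain ⟨i, xi, h⟩ := Scheme.IsLocallyDirected.ι_jointly_surjective (span wA wB) x
  rcases i with _ | _ | _
  · left
    refine ⟨(span wA wB).map WalkingSpan.Hom.fst xi, ?_⟩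
    change (colimit.ι (span wA wB) WalkingSpan.left) _ = _
    rw [← Scheme.Hom.comp_apply, colimit.w]
    exact h
  · left; exact ⟨xi, h⟩
  · right; exact ⟨xi, h⟩

lemma pushout_inl_eq_inr {x : A} {y : B} (h : pushout.inl wA wB x = pushout.inr wA wB y) :
    ∃ w : W, wA w = x ∧ wB w = y := by
  obtain ⟨k, fi, fj, z, h1, h2⟩ := (Scheme.IsLocallyDirected.ι_eq_ι_iff (span wA wB)
    (i := WalkingSpan.left) (j := WalkingSpan.right)).mp h
  rcases k with _ | _ | _
  · obtain rfl : fi = WalkingSpan.Hom.fst := Subsingleton.elim _ _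
    obtain rfl : fj = WalkingSpan.Hom.snd := Subsingleton.elim _ _
    exact ⟨z, h1, h2⟩
  · have fj' : WidePushoutShape.Hom (some WalkingPair.left) (some WalkingPair.right) := fj
    cases fj'
  · have fi' : WidePushoutShape.Hom (some WalkingPair.right) (some WalkingPair.left) := fi
    cases fi'

end Pushout

section Cover

/-- The open cover given by two jointly surjective open immersions. -/
noncomputable def coverOfTwo {X A B : Scheme.{u}} (a : A ⟶ X) (b : B ⟶ X) [IsOpenImmersion a]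
    [IsOpenImmersion b] (hcov : ∀ x : X, x ∈ Set.range a ∨ x ∈ Set.range b) : X.OpenCover :=
  Scheme.Cover.mkOfCovers Bool (fun i ↦ Bool.rec A B i) (fun i ↦ Bool.rec a b i)
    (fun x ↦ by
      rcases hcov x with ⟨y, hy⟩ | ⟨y, hy⟩
      · exact ⟨false, y, hy⟩
      · exact ⟨true, y, hy⟩)
    (fun i ↦ by cases i <;> infer_instance)

end Cover

section QS

/-- A scheme covered by two quasi-separated opens with quasi-compact intersection is
quasi-separated. -/
lemma quasiSeparatedSpace_of_cover {X : Scheme.{u}} (U₁ U₂ : X.Opens)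
    (hcov : ∀ x : X, x ∈ U₁ ∨ x ∈ U₂) (h₁ : IsQuasiSeparated (U₁ : Set X))
    (h₂ : IsQuasiSeparated (U₂ : Set X)) (h₁₂ : IsCompact ((U₁ : Set X) ∩ U₂)) :
    QuasiSeparatedSpace X := by
  let ι := {T : X.affineOpens // T.1 ≤ U₁ ∨ T.1 ≤ U₂}
  let b : ι → Set X := fun T ↦ (T.1.1 : Set X)
  have hb : IsTopologicalBasis (Set.range b) := by
    refine isTopologicalBasis_of_isOpen_of_nhds ?_ ?_
    · rintro _ ⟨T, rfl⟩; exact T.1.1.isOpen
    · intro x U hxU hU
      rcases hcov x with hx | hx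
      · obtain ⟨_, ⟨T, hT : IsAffineOpen T, rfl⟩, hxT, hTU⟩ :=
          X.isBasis_affineOpens.exists_subset_of_mem_open
            (show x ∈ U ∩ (U₁ : Set X) from ⟨hxU, hx⟩) (hU.inter U₁.isOpen)
        exact ⟨_, ⟨⟨⟨T, hT⟩, Or.inl fun y hy ↦ (hTU hy).2⟩, rfl⟩, hxT, fun y hy ↦ (hTU hy).1⟩
      · obtain ⟨_, ⟨T, hT : IsAffineOpen T, rfl⟩, hxT, hTU⟩ :=
          X.isBasis_affineOpens.exists_subset_of_mem_open
            (show x ∈ U ∩ (U₂ : Set X) from ⟨hxU, hx⟩) (hU.inter U₂.isOpen)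
        exact ⟨_, ⟨⟨⟨T, hT⟩, Or.inr fun y hy ↦ (hTU hy).2⟩, rfl⟩, hxT, fun y hy ↦ (hTU hy).1⟩
  have hopen : IsOpen ((U₁ : Set X) ∩ U₂) := U₁.isOpen.inter U₂.isOpen
  -- mixed case
  have mixed : ∀ (T T' : Set X), IsOpen T → IsCompact T → T ⊆ U₁ → IsOpen T' → IsCompact T' →
      T' ⊆ U₂ → IsCompact (T ∩ T') := by
    intro T T' hTo hTc hT hT'o hT'c hT'
    have e : T ∩ T' = (T ∩ ((U₁ : Set X) ∩ U₂)) ∩ (T' ∩ ((U₁ : Set X) ∩ U₂)) := by
      ext y
      constructor
      · rintro ⟨h1, h2⟩; exact ⟨⟨h1, hT h1, hT' h2⟩, ⟨h2, hT h1, hT' h2⟩⟩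
      · rintro ⟨⟨h1, -⟩, ⟨h2, -⟩⟩; exact ⟨h1, h2⟩
    rw [e]
    have c1 : IsCompact (T ∩ ((U₁ : Set X) ∩ U₂)) :=
      h₁ T _ hT hTo hTc Set.inter_subset_left hopen h₁₂
    have c2 : IsCompact (T' ∩ ((U₁ : Set X) ∩ U₂)) :=
      h₂ T' _ hT' hT'o hT'c Set.inter_subset_right hopen h₁₂
    exact h₁ _ _ (fun y hy ↦ hT hy.1) (hTo.inter hopen) c1 (fun y hy ↦ hy.2.1)
      (hT'o.inter hopen) c2
  refine QuasiSeparatedSpace.of_isTopologicalBasis hb ?_
  rintro ⟨T, hT⟩ ⟨T', hT'⟩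
  rcases hT with hT | hT <;> rcases hT' with hT' | hT'
  · exact h₁ _ _ hT T.1.isOpen T.2.isCompact hT' T'.1.isOpen T'.2.isCompact
  · exact mixed _ _ T.1.isOpen T.2.isCompact hT T'.1.isOpen T'.2.isCompact hT'
  · rw [Set.inter_comm]
    exact mixed _ _ T'.1.isOpen T'.2.isCompact hT' T.1.isOpen T.2.isCompact hT
  · exact h₂ _ _ hT T.1.isOpen T.2.isCompact hT' T'.1.isOpen T'.2.isCompact

end QS

end Groth.Agent.Lib.Helper50.Descent
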