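import Groth.Agent.Lib.Helper50.Descent9

/-!
# Descent of finite families and of jointly surjective families
-/

set_option autoImplicit false
universe u
open CategoryTheory AlgebraicGeometry Limits TopologicalSpace

namespace Groth.Agent.Lib.Helper50.Descent

open Groth.Agent.Lib.Helper50.StageSetup

variable {I : Type u} [SmallCategory I] [IsCofiltered I]
    (D : I ⥤ Scheme.{u}) (c : Limits.Cone D) (hc : Limits.IsLimit c)
    [∀ (i j : I) (f : i ⟶ j), IsAffineHom (D.map f)]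

include hc in
/-- Finite families of morphisms of finite presentation with `P` descend to a common stage. -/
theorem exists_descent_with_fin [∀ i, QuasiSeparatedSpace (D.obj i)]
    (P : MorphismProperty Scheme.{u}) [P.RespectsIso] [P.IsStableUnderBaseChange]
    (HP : ∀ (i₀ : I) {X₀ X : Scheme.{u}} (f₀ : X₀ ⟶ D.obj i₀) [LocallyOfFinitePresentation f₀]
      [CompactSpace X₀] [QuasiSeparatedSpace X₀] (f : X ⟶ c.pt) (qX : X ⟶ X₀)
      (_ : IsPullback qX f f₀ (c.π.app i₀)), P f →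
      ∃ j : Over i₀, P ((τ D i₀ f₀ (𝟙 (D.obj i₀))).app j))
    {n : ℕ} (U : Fin n → Scheme.{u}) (u : ∀ j, U j ⟶ c.pt)
    [∀ j, LocallyOfFinitePresentation (u j)] [∀ j, CompactSpace (U j)]
    [∀ j, QuasiSeparatedSpace (U j)] (hu : ∀ j, P (u j)) :
    ∃ (i : I) (V : Fin n → Scheme.{u}) (v : ∀ j, V j ⟶ D.obj i) (e : ∀ j, U j ⟶ V j),
      ∀ j, LocallyOfFinitePresentation (v j) ∧ CompactSpace (V j) ∧ QuasiSeparatedSpace (V j) ∧
        P (v j) ∧ IsPullback (e j) (u j) (v j) (c.π.app i) := by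
  classical
  have H := fun j ↦ exists_descent_with D c hc P HP (u j) (hu j)
  choose i₁ V₁ v₁ e₁ h1 h2 h3 h4 h5 using H
  obtain ⟨i, hi⟩ := IsCofiltered.inf_objs_exists (Finset.univ.image i₁)
  have hi' (j : Fin n) : Nonempty (i ⟶ i₁ j) :=
    hi (Finset.mem_image_of_mem i₁ (Finset.mem_univ j))
  let ψ (j : Fin n) : i ⟶ i₁ j := (hi' j).some
  have hp (j : Fin n) := IsPullback.of_hasPullback (v₁ j) (D.map (ψ j))
  refine ⟨i, fun j ↦ pullback (v₁ j) (D.map (ψ j)), fun j ↦ pullback.snd (v₁ j) (D.map (ψ j)),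
    fun j ↦ rebaseQ (h5 j) (hp j), fun j ↦ ⟨?_, ?_, ?_, ?_, ?_⟩⟩
  · have := h1 j; exact locallyOfFinitePresentation_of_rebase (hp j)
  · have := h2 j; exact compactSpace_of_rebase (hp j)
  · have := h3 j; exact quasiSeparatedSpace_of_rebase (hp j)
  · exact MorphismProperty.of_isPullback (hp j) (h4 j)
  · exact isPullback_rebaseQ (h5 j) (hp j)

include hc in
/-- A jointly surjective family of base changes of universally open morphisms to the limit is
already jointly surjective at a stage. -/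
theorem exists_rebase_jointly_surjective [∀ i, CompactSpace (D.obj i)]
    {n : ℕ} {U V : Fin n → Scheme.{u}} {u : ∀ j, U j ⟶ c.pt} {i : I} (v : ∀ j, V j ⟶ D.obj i)
    [∀ j, UniversallyOpen (v j)] {e : ∀ j, U j ⟶ V j}
    (h : ∀ j, IsPullback (e j) (u j) (v j) (c.π.app i))
    (hcov : ∀ x : c.pt, ∃ (j : Fin n) (y : U j), u j y = x) :
    ∃ (k : I) (ψ : k ⟶ i), ∀ x : D.obj k, ∃ (j : Fin n) (y : ↥(pullback (v j) (D.map ψ))),
      pullback.snd (v j) (D.map ψ) y = x := by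
  let W : (D.obj i).Opens := ⨆ j, ⟨Set.range (v j), (v j).isOpenMap.isOpen_range⟩
  have hW : c.π.app i ⁻¹ᵁ W = ⊤ := by
    rw [eq_top_iff]
    intro x _
    obtain ⟨j, y, rfl⟩ := hcov x
    change c.π.app i (u j y) ∈ W
    rw [← Scheme.Hom.comp_apply, ← (h j).w, Scheme.Hom.comp_apply]
    exact Opens.mem_iSup.mpr ⟨j, ⟨e j y, rfl⟩⟩
  obtain ⟨k, ψ, hk⟩ := exists_map_eq_top D c hc W hW
  refine ⟨k, ψ, fun x ↦ ?_⟩
  have hx : x ∈ D.map ψ ⁻¹ᵁ W := by rw [hk]; trivial
  obtain ⟨j, z, hz⟩ := Opens.mem_iSup.mp hx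
  obtain ⟨y, -, hy⟩ := Scheme.Pullback.exists_preimage_pullback (f := v j) (g := D.map ψ) z x hz
  exact ⟨j, y, hy⟩

end Groth.Agent.Lib.Helper50.Descent
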