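import Groth.Agent.Lib.Helper50.Descent10
import Groth.Agent.Lib.Helper50.LimStageUnram

/-!
# Property providers for `exists_descent_with`
-/

set_option autoImplicit false
universe u
open CategoryTheory AlgebraicGeometry Limits TopologicalSpace

namespace Groth.Agent.Lib.Helper50.Descent

open Groth.Agent.Lib.Helper50.StageSetup

variable {I : Type u} [SmallCategory I] [IsCofiltered I]
    (D : I ⥤ Scheme.{u}) (c : Limits.Cone D) (hc : Limits.IsLimit c)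
    [∀ (i j : I) (f : i ⟶ j), IsAffineHom (D.map f)]
    [∀ i, CompactSpace (D.obj i)] [∀ i, QuasiSeparatedSpace (D.obj i)]

include hc in
lemma HP_etale (i₀ : I) {X₀ X : Scheme.{u}} (f₀ : X₀ ⟶ D.obj i₀) [LocallyOfFinitePresentation f₀]
    [CompactSpace X₀] [QuasiSeparatedSpace X₀] (f : X ⟶ c.pt) (qX : X ⟶ X₀)
    (hX : IsPullback qX f f₀ (c.π.app i₀)) (hf : Etale f) :
    ∃ j : Over i₀, Etale ((τ D i₀ f₀ (𝟙 (D.obj i₀))).app j) := by
  obtain ⟨j, hj⟩ := exists_forall_etale_τ D c hc i₀ f₀ (𝟙 _) f (𝟙 _) (c.π.app i₀) qX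
    (IsPullback.id_vert _) hX
  exact ⟨j, hj j (𝟙 j)⟩

include hc in
lemma HP_formallyUnramified (i₀ : I) {X₀ X : Scheme.{u}} (f₀ : X₀ ⟶ D.obj i₀)
    [LocallyOfFinitePresentation f₀]
    [CompactSpace X₀] [QuasiSeparatedSpace X₀] (f : X ⟶ c.pt) (qX : X ⟶ X₀)
    (hX : IsPullback qX f f₀ (c.π.app i₀)) (hf : FormallyUnramified f) :
    ∃ j : Over i₀, FormallyUnramified ((τ D i₀ f₀ (𝟙 (D.obj i₀))).app j) := by
  obtain ⟨j, hj⟩ := exists_forall_formallyUnramified_τ D c hc i₀ f₀ (𝟙 _) f (𝟙 _) (c.π.app i₀) qX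
    (IsPullback.id_vert _) hX
  exact ⟨j, hj j (𝟙 j)⟩

end Groth.Agent.Lib.Helper50.Descent
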