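import Groth.Agent.Lib.Helper50.Descent2

/-!
# Finiteness properties of the glued scheme
-/

set_option autoImplicit false
universe u
open CategoryTheory AlgebraicGeometry Limits TopologicalSpace

namespace Groth.Agent.Lib.Helper50.Descent

variable {Si Ai Bi Wi : Scheme.{u}} (gA : Ai ⟶ Si) (gB : Bi ⟶ Si) (wA : Wi ⟶ Ai) (wB : Wi ⟶ Bi)
  [IsOpenImmersion wA] [IsOpenImmersion wB] (hw : wA ≫ gA = wB ≫ gB)

lemma locallyOfFinitePresentation_desc [LocallyOfFinitePresentation gA]
    [LocallyOfFinitePresentation gB] :
    LocallyOfFinitePresentation (pushout.desc gA gB hw) := by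
  refine IsZariskiLocalAtSource.of_openCover (P := @LocallyOfFinitePresentation)
    (coverOfTwo (pushout.inl wA wB) (pushout.inr wA wB) (pushout_jointly_surjective wA wB)) ?_
  rintro (_ | _)
  · change LocallyOfFinitePresentation (pushout.inl wA wB ≫ pushout.desc gA gB hw)
    rw [pushout.inl_desc]; infer_instance
  · change LocallyOfFinitePresentation (pushout.inr wA wB ≫ pushout.desc gA gB hw)
    rw [pushout.inr_desc]; infer_instance

lemma compactSpace_pushout [CompactSpace Ai] [CompactSpace Bi] :
    CompactSpace ↥(pushout wA wB) := by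
  constructor
  have e : (Set.univ : Set ↥(pushout wA wB)) =
      Set.range (pushout.inl wA wB) ∪ Set.range (pushout.inr wA wB) := by
    ext x
    simpa using pushout_jointly_surjective wA wB x
  rw [e]
  exact (isCompact_range (pushout.inl wA wB).continuous).union
    (isCompact_range (pushout.inr wA wB).continuous)

lemma quasiSeparatedSpace_pushout [QuasiSeparatedSpace Ai] [QuasiSeparatedSpace Bi]
    [CompactSpace Wi] : QuasiSeparatedSpace ↥(pushout wA wB) := by
  refine quasiSeparatedSpace_of_cover (pushout.inl wA wB).opensRange (pushout.inr wA wB).opensRange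
    (fun x ↦ pushout_jointly_surjective wA wB x) ?_ ?_ ?_
  · rw [Scheme.Hom.coe_opensRange, ← Set.image_univ]
    exact isQuasiSeparated_univ.image_of_isEmbedding
      (pushout.inl wA wB).isOpenEmbedding.isEmbedding
  · rw [Scheme.Hom.coe_opensRange, ← Set.image_univ]
    exact isQuasiSeparated_univ.image_of_isEmbedding
      (pushout.inr wA wB).isOpenEmbedding.isEmbedding
  · have e : ((pushout.inl wA wB).opensRange : Set ↥(pushout wA wB)) ∩
        (pushout.inr wA wB).opensRange = Set.range (wA ≫ pushout.inl wA wB) := by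
      ext p
      simp only [Scheme.Hom.coe_opensRange, Set.mem_inter_iff, Set.mem_range]
      constructor
      · rintro ⟨⟨x, rfl⟩, ⟨y, hy⟩⟩
        obtain ⟨w, hw1, -⟩ := pushout_inl_eq_inr wA wB hy.symm
        exact ⟨w, by rw [Scheme.Hom.comp_apply, hw1]⟩
      · rintro ⟨w, rfl⟩
        refine ⟨⟨wA w, by rw [Scheme.Hom.comp_apply]⟩, ⟨wB w, ?_⟩⟩
        rw [← Scheme.Hom.comp_apply, ← pushout.condition]
    rw [e]
    exact isCompact_range (wA ≫ pushout.inl wA wB).continuous

end Groth.Agent.Lib.Helper50.Descent
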