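import Groth.Agent.Lib.Helper50.Descent3
import Groth.Agent.Lib.Helper50.LimStage
import Groth.Agent.Lib.Helper50.Lim

/-!
# Descent data for schemes over a cofiltered limit: re-basing lemmas
-/

set_option autoImplicit false
universe u
open CategoryTheory AlgebraicGeometry Limits TopologicalSpace

namespace Groth.Agent.Lib.Helper50.Descent

variable {I : Type u} [SmallCategory I]
    (D : I ⥤ Scheme.{u}) (c : Limits.Cone D)

section Rebase

variable {D c}
variable {i k : I} {T Ti Tk : Scheme.{u}} {q : T ⟶ Ti} {t : T ⟶ c.pt} {g : Ti ⟶ D.obj i}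
  (hT : IsPullback q t g (c.π.app i)) {ψ : k ⟶ i} {p : Tk ⟶ Ti} {gk : Tk ⟶ D.obj k}
  (hp : IsPullback p gk g (D.map ψ))

/-- The map from the limit-level object to a later stage. -/
noncomputable def rebaseQ : T ⟶ Tk :=
  hp.lift q (t ≫ c.π.app k) (by rw [hT.w, Category.assoc, c.w])

@[reassoc (attr := simp)]
lemma rebaseQ_fst : rebaseQ hT hp ≫ p = q := hp.lift_fst _ _ _

@[reassoc (attr := simp)]
lemma rebaseQ_snd : rebaseQ hT hp ≫ gk = t ≫ c.π.app k := hp.lift_snd _ _ _

lemma isPullback_rebaseQ : IsPullback (rebaseQ hT hp) t gk (c.π.app k) := by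
  refine IsPullback.of_right ?_ (rebaseQ_snd hT hp) hp
  rw [rebaseQ_fst, c.w]
  exact hT

end Rebase

section Props

variable {D}
variable [∀ (i j : I) (f : i ⟶ j), IsAffineHom (D.map f)]
variable {i k : I} {Ti Tk : Scheme.{u}} {g : Ti ⟶ D.obj i} {ψ : k ⟶ i} {p : Tk ⟶ Ti}
  {gk : Tk ⟶ D.obj k} (hp : IsPullback p gk g (D.map ψ))

include hp

lemma isAffineHom_of_rebase : IsAffineHom p :=
  MorphismProperty.of_isPullback (P := @IsAffineHom) hp.flip inferInstance

lemma compactSpace_of_rebase [CompactSpace Ti] : CompactSpace Tk :=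
  have := isAffineHom_of_rebase hp
  QuasiCompact.compactSpace_of_compactSpace p

lemma quasiSeparatedSpace_of_rebase [QuasiSeparatedSpace Ti] : QuasiSeparatedSpace Tk :=
  have := isAffineHom_of_rebase hp
  quasiSeparatedSpace_of_quasiSeparated p

lemma locallyOfFinitePresentation_of_rebase [LocallyOfFinitePresentation g] :
    LocallyOfFinitePresentation gk :=
  MorphismProperty.of_isPullback (P := @LocallyOfFinitePresentation) hp inferInstance

end Props

section RebasePair

variable {D c}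
variable {i k : I} {A W Ai Wi Ak Wk : Scheme.{u}} {qA : A ⟶ Ai} {tA : A ⟶ c.pt} {gA : Ai ⟶ D.obj i}
  (hA : IsPullback qA tA gA (c.π.app i)) {wA : Wi ⟶ Ai} [IsOpenImmersion wA]
  {qW : W ⟶ Wi} {pA : W ⟶ A} (hWA : IsPullback qW pA wA qA)
  {ψ : k ⟶ i} {pAk : Ak ⟶ Ai} {gAk : Ak ⟶ D.obj k} (hpA : IsPullback pAk gAk gA (D.map ψ))
  {r : Wk ⟶ Wi} {gWk : Wk ⟶ D.obj k} (hr : IsPullback r gWk (wA ≫ gA) (D.map ψ))

/-- The re-based open immersion. -/
noncomputable def rebaseW : Wk ⟶ Ak :=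
  hpA.lift (r ≫ wA) gWk (by rw [Category.assoc, hr.w])

@[reassoc (attr := simp)]
lemma rebaseW_fst : rebaseW hpA hr ≫ pAk = r ≫ wA := hpA.lift_fst _ _ _

@[reassoc (attr := simp)]
lemma rebaseW_snd : rebaseW hpA hr ≫ gAk = gWk := hpA.lift_snd _ _ _

lemma isPullback_rebaseW : IsPullback (rebaseW hpA hr) r pAk wA := by
  have := IsPullback.of_right (h₁₁ := rebaseW hpA hr) (h₁₂ := gAk) (h₂₁ := wA) (h₂₂ := gA)
    (v₁₁ := r) (v₁₂ := pAk) (v₁₃ := D.map ψ) (by rw [rebaseW_snd]; exact hr.flip)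
    (rebaseW_fst hpA hr) hpA.flip
  exact this

lemma isOpenImmersion_rebaseW : IsOpenImmersion (rebaseW hpA hr) :=
  MorphismProperty.of_isPullback (P := @IsOpenImmersion) (isPullback_rebaseW hpA hr).flip
    inferInstance

include hA hWA in
/-- The limit-level square for the re-based open immersion. -/
lemma isPullback_rebaseQ_rebaseW :
    IsPullback (rebaseQ (hWA.paste_vert hA) hr) pA (rebaseW hpA hr) (rebaseQ hA hpA) := by
  have hWk := isPullback_rebaseQ (hWA.paste_vert hA) hr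
  have hAk := isPullback_rebaseQ hA hpA
  have comm : pA ≫ rebaseQ hA hpA = rebaseQ (hWA.paste_vert hA) hr ≫ rebaseW hpA hr := by
    apply hpA.hom_ext
    · rw [Category.assoc, rebaseQ_fst, Category.assoc, rebaseW_fst, rebaseQ_fst_assoc, hWA.w]
    · rw [Category.assoc, rebaseQ_snd, Category.assoc, rebaseW_snd, rebaseQ_snd, Category.assoc]
  have := IsPullback.of_right (h₁₁ := pA) (h₁₂ := tA) (h₂₁ := rebaseW hpA hr) (h₂₂ := gAk)
    (v₁₁ := rebaseQ (hWA.paste_vert hA) hr) (v₁₂ := rebaseQ hA hpA) (v₁₃ := c.π.app k)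
    (by rw [rebaseW_snd]; exact hWk.flip) comm hAk.flip
  exact this.flip

end RebasePair

end Groth.Agent.Lib.Helper50.Descent
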