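import Groth.Agent.Lib.Helper50.Descent4

/-!
# Descent of opens and of morphisms to a stage
-/

set_option autoImplicit false
universe u
open CategoryTheory AlgebraicGeometry Limits TopologicalSpace

namespace Groth.Agent.Lib.Helper50.Descent

open Groth.Agent.Lib.Helper50.StageSetup

variable {I : Type u} [SmallCategory I] [IsCofiltered I]
    (D : I ⥤ Scheme.{u}) (c : Limits.Cone D) (hc : Limits.IsLimit c)
    [∀ (i j : I) (f : i ⟶ j), IsAffineHom (D.map f)]

omit [IsCofiltered I] [∀ (i j : I) (f : i ⟶ j), IsAffineHom (D.map f)] in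
lemma rebaseQ_eq_cE {i : I} {A Ai : Scheme.{u}} {qA : A ⟶ Ai} {tA : A ⟶ c.pt}
    {gA : Ai ⟶ D.obj i} (hA : IsPullback qA tA gA (c.π.app i)) (j : Over i) :
    rebaseQ hA (IsPullback.of_hasPullback gA (D.map j.hom)) =
      (cE D c i gA tA qA hA).π.app j := by
  apply pullback.hom_ext
  · rw [rebaseQ_fst]
    exact (hb' D c i gA tA qA hA j).symm
  · rw [rebaseQ_snd]
    exact (bcConeπ_snd (D₀ D i) (β D i) gA (c₀ D c i) (c.π.app i) (hb D c i) qA tA hA.w j).symm

include hc in
/-- **Step 1**: a quasi-compact open of the limit-level object descends to a later stage. -/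
theorem exists_open_descent {i : I} {A Ai : Scheme.{u}} {qA : A ⟶ Ai} {tA : A ⟶ c.pt}
    {gA : Ai ⟶ D.obj i} (hA : IsPullback qA tA gA (c.π.app i))
    (U : A.Opens) (hU : IsCompact (U : Set A)) :
    ∃ (k : I) (ψ : k ⟶ i) (V : (pullback gA (D.map ψ)).Opens),
      IsCompact (V : Set ↥(pullback gA (D.map ψ))) ∧
      (rebaseQ hA (IsPullback.of_hasPullback gA (D.map ψ))) ⁻¹ᵁ V = U := by
  obtain ⟨j, _, U₁, hU₁, h⟩ := exists_preimage_eq_over (E D i gA) (cE D c i gA tA qA hA)
    (hcE D c hc i gA tA qA hA) (Over.mk (𝟙 i)) U hU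
  refine ⟨j.left, j.hom, U₁, hU₁, ?_⟩
  rw [rebaseQ_eq_cE]
  exact h

include hc in
/-- **Step 2**: a morphism from the limit-level object to a scheme locally of finite presentation
over a stage factors through a later stage. -/
theorem exists_hom_descent {i : I} {W Wi Bi : Scheme.{u}} {qW : W ⟶ Wi} {tW : W ⟶ c.pt}
    {gW : Wi ⟶ D.obj i} (hW : IsPullback qW tW gW (c.π.app i))
    [CompactSpace Wi] [QuasiSeparatedSpace Wi]
    (gB : Bi ⟶ D.obj i) [LocallyOfFinitePresentation gB] (β : W ⟶ Bi)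
    (hβ : β ≫ gB = tW ≫ c.π.app i) :
    ∃ (k : I) (ψ : k ⟶ i) (g : pullback gW (D.map ψ) ⟶ Bi),
      rebaseQ hW (IsPullback.of_hasPullback gW (D.map ψ)) ≫ g = β ∧
      g ≫ gB = pullback.fst gW (D.map ψ) ≫ gW := by
  have h1 := compactSpace_E D i gW
  have h2 := quasiSeparatedSpace_E D i gW
  let t : E D i gW ⟶ (Functor.const (Over i)).obj (D.obj i) :=
    { app := fun j ↦ γ D i gW j ≫ gW
      naturality := fun j k φ ↦ by
        dsimp only [Functor.const_obj_obj, Functor.const_obj_map]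
        rw [Category.comp_id, ← Category.assoc, hγ] }
  obtain ⟨j, g, hg1, hg2⟩ := Scheme.exists_π_app_comp_eq_of_locallyOfFinitePresentation
    (E D i gW) t gB (cE D c i gW tW qW hW) (hcE D c hc i gW tW qW hW) β (by
      ext j
      dsimp only [NatTrans.comp_app, Functor.const_map_app, t]
      rw [← Category.assoc, hb']
      exact hW.w.trans hβ.symm)
  refine ⟨j.left, j.hom, g, ?_, hg2⟩
  rw [rebaseQ_eq_cE]
  exact hg1

end Groth.Agent.Lib.Helper50.Descent
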