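import Groth.Agent.Lib.Helper50.Descent5
import Groth.Agent.Lib.Helper50.LimDesc11
import Groth.Agent.Lib.Helper50.LimStageFP

/-!
# Gluing descent data along a two-element open cover
-/

set_option autoImplicit false
universe u
open CategoryTheory AlgebraicGeometry Limits TopologicalSpace

namespace Groth.Agent.Lib.Helper50.Descent

open Groth.Agent.Lib.Helper50.StageSetup

variable {I : Type u} [SmallCategory I]
    (D : I ⥤ Scheme.{u}) (c : Limits.Cone D)

/-- `f : X ⟶ lim D` is the base change of a morphism of finite presentation to a stage. -/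
def Descends {X : Scheme.{u}} (f : X ⟶ c.pt) : Prop :=
  ∃ (i : I) (Xi : Scheme.{u}) (gi : Xi ⟶ D.obj i) (q : X ⟶ Xi),
    LocallyOfFinitePresentation gi ∧ CompactSpace Xi ∧ QuasiSeparatedSpace Xi ∧
      IsPullback q f gi (c.π.app i)

variable {D c}

lemma Descends.of_iso {X X' : Scheme.{u}} {f : X ⟶ c.pt} (h : Descends D c f) (e : X' ≅ X) :
    Descends D c (e.hom ≫ f) := by
  obtain ⟨i, Xi, gi, q, h1, h2, h3, h4⟩ := h
  refine ⟨i, Xi, gi, e.hom ≫ q, h1, h2, h3, ?_⟩
  exact IsPullback.of_iso h4 e.symm (Iso.refl _) (Iso.refl _) (Iso.refl _) (by simp) (by simp)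
    (by simp) (by simp)

section G3

variable {X A B : Scheme.{u}} (f : X ⟶ c.pt) (a : A ⟶ X) (b : B ⟶ X) [IsOpenImmersion a]
  [IsOpenImmersion b] (hcov : ∀ x : X, x ∈ Set.range a ∨ x ∈ Set.range b)

include hcov in
/-- Final step: all the data at one stage. -/
theorem descends_of_glueData {m : I} {Am Bm Wm : Scheme.{u}} (gA : Am ⟶ D.obj m) (gB : Bm ⟶ D.obj m)
    (wA : Wm ⟶ Am) (wB : Wm ⟶ Bm) [IsOpenImmersion wA] [IsOpenImmersion wB]
    (hw : wA ≫ gA = wB ≫ gB)
    [LocallyOfFinitePresentation gA] [LocallyOfFinitePresentation gB]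
    [CompactSpace Am] [CompactSpace Bm] [QuasiSeparatedSpace Am] [QuasiSeparatedSpace Bm]
    [CompactSpace Wm]
    (qA : A ⟶ Am) (qB : B ⟶ Bm) (qW : pullback a b ⟶ Wm)
    (hA : IsPullback qA (a ≫ f) gA (c.π.app m)) (hB : IsPullback qB (b ≫ f) gB (c.π.app m))
    (hWA : IsPullback qW (pullback.fst a b) wA qA) (hWB : IsPullback qW (pullback.snd a b) wB qB) :
    Descends D c f := by
  obtain ⟨q, -, -, hq⟩ := exists_isPullback_pushout (c.π.app m) f a b hcov gA gB wA wB hw qA qB qW
    hA hB hWA hWB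
  exact ⟨m, pushout wA wB, pushout.desc gA gB hw, q, locallyOfFinitePresentation_desc gA gB wA wB hw,
    compactSpace_pushout wA wB, quasiSeparatedSpace_pushout wA wB, hq⟩

end G3

section G2

variable [IsCofiltered I] [∀ (i j : I) (f : i ⟶ j), IsAffineHom (D.map f)] (hc : IsLimit c)
variable {X A B : Scheme.{u}} (f : X ⟶ c.pt) (a : A ⟶ X) (b : B ⟶ X) [IsOpenImmersion a]
  [IsOpenImmersion b] (hcov : ∀ x : X, x ∈ Set.range a ∨ x ∈ Set.range b)

include hc hcov in
/-- Third step: the gluing map is given at a stage as a morphism; make it an open immersion. -/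
theorem descends_of_glueData₂ {k : I} {Ak Bk Wk : Scheme.{u}} (gA : Ak ⟶ D.obj k) (gB : Bk ⟶ D.obj k)
    (wA : Wk ⟶ Ak) (w : Wk ⟶ Bk) [IsOpenImmersion wA]
    (hw : wA ≫ gA = w ≫ gB)
    [LocallyOfFinitePresentation gA] [LocallyOfFinitePresentation gB]
    [CompactSpace Ak] [CompactSpace Bk] [QuasiSeparatedSpace Ak] [QuasiSeparatedSpace Bk]
    [CompactSpace Wk] [QuasiSeparatedSpace Wk]
    (qA : A ⟶ Ak) (qB : B ⟶ Bk) (qW : pullback a b ⟶ Wk)
    (hA : IsPullback qA (a ≫ f) gA (c.π.app k)) (hB : IsPullback qB (b ≫ f) gB (c.π.app k))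
    (hWA : IsPullback qW (pullback.fst a b) wA qA) (hWB : IsPullback qW (pullback.snd a b) w qB) :
    Descends D c f := by
  have : LocallyOfFinitePresentation (w ≫ gB) := by rw [← hw]; infer_instance
  have : LocallyOfFinitePresentation w := locallyOfFinitePresentation_of_comp w gB
  obtain ⟨m, ψ, Wm, Bm, fm, gm, pY, pX, h1, h2, hfm⟩ :
      ∃ (m : I) (ψ : m ⟶ k) (Wm Bm : Scheme.{u}) (fm : Wm ⟶ Bm) (gm : Bm ⟶ D.obj m)
        (pY : Bm ⟶ Bk) (pX : Wm ⟶ Wk), IsPullback pY gm gB (D.map ψ) ∧ IsPullback pX fm w pY ∧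
          IsOpenImmersion fm := by
    refine exists_stage D k w gB @IsOpenImmersion ?_
    have h1 := compactSpace_E D k gB
    have h2 := quasiSeparatedSpace_E D k gB
    have h3 := compactSpace_F D k w gB
    have h5 := locallyOfFinitePresentation_τ D k w gB
    have hf' : IsOpenImmersion (X := (cF D c k w gB (pullback.snd a b) (b ≫ f) qB qW hB hWB).pt)
        (Y := (cE D c k gB (b ≫ f) qB hB).pt) (pullback.snd a b) :=
      inferInstanceAs (IsOpenImmersion (pullback.snd a b))
    obtain ⟨j, _, hj⟩ := exists_forall_isOpenImmersion_app (τ D k w gB)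
      (cF D c k w gB (pullback.snd a b) (b ≫ f) qB qW hB hWB)
      (hcF D c hc k w gB (pullback.snd a b) (b ≫ f) qB qW hB hWB)
      (cE D c k gB (b ≫ f) qB hB) (hcE D c hc k gB (b ≫ f) qB hB) (pullback.snd a b)
      (hf D c k w gB (pullback.snd a b) (b ≫ f) qB qW hB hWB)
      (fun φ ↦ isPullback_τ D k w gB φ) (Over.mk (𝟙 k))
    exact ⟨j, hj j (𝟙 j)⟩
  have hBm := isPullback_rebaseQ hB h1
  have hr : IsPullback pX (fm ≫ gm) (wA ≫ gA) (D.map ψ) := by
    rw [hw]; exact h2.paste_vert h1
  have hpA := IsPullback.of_hasPullback gA (D.map ψ)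
  have hAm := isPullback_rebaseQ hA hpA
  have hWAm := isPullback_rebaseQ_rebaseW hA hWA hpA hr
  have : IsOpenImmersion (rebaseW hpA hr) := isOpenImmersion_rebaseW hpA hr
  have hWm := isPullback_rebaseQ (hWA.paste_vert hA) hr
  have hWBm : IsPullback (rebaseQ (hWA.paste_vert hA) hr) (pullback.snd a b) fm (rebaseQ hB h1) := by
    have comm : pullback.snd a b ≫ rebaseQ hB h1 = rebaseQ (hWA.paste_vert hA) hr ≫ fm := by
      apply h1.hom_ext
      · rw [Category.assoc, rebaseQ_fst, Category.assoc, ← h2.w, rebaseQ_fst_assoc, hWB.w]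
      · simp only [Category.assoc, rebaseQ_snd]
        rw [pullback.condition_assoc]
    have big : IsPullback (pullback.snd a b ≫ b ≫ f) (rebaseQ (hWA.paste_vert hA) hr)
        (c.π.app m) (fm ≫ gm) := by
      rw [← pullback.condition_assoc]; exact hWm.flip
    exact (IsPullback.of_right big comm hBm.flip).flip
  have i1 : LocallyOfFinitePresentation (pullback.snd gA (D.map ψ)) :=
    locallyOfFinitePresentation_of_rebase hpA
  have i2 : LocallyOfFinitePresentation gm := locallyOfFinitePresentation_of_rebase h1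
  have i3 : CompactSpace ↥(pullback gA (D.map ψ)) := compactSpace_of_rebase hpA
  have i4 : CompactSpace ↥Bm := compactSpace_of_rebase h1
  have i5 : QuasiSeparatedSpace ↥(pullback gA (D.map ψ)) := quasiSeparatedSpace_of_rebase hpA
  have i6 : QuasiSeparatedSpace ↥Bm := quasiSeparatedSpace_of_rebase h1
  have i7 : CompactSpace ↥Wm := compactSpace_of_rebase hr
  exact descends_of_glueData f a b hcov (pullback.snd gA (D.map ψ)) gm (rebaseW hpA hr) fm
    (rebaseW_snd hpA hr) (rebaseQ hA hpA) (rebaseQ hB h1) (rebaseQ (hWA.paste_vert hA) hr)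
    hAm hBm hWAm hWBm

include hc hcov in
/-- Second step: the overlap is given at a stage as an open of `A`; descend its map to `B`. -/
theorem descends_of_glueData₁ {j : I} {Aj Bj Wj : Scheme.{u}} (gA : Aj ⟶ D.obj j) (gB : Bj ⟶ D.obj j)
    (wA : Wj ⟶ Aj) [IsOpenImmersion wA]
    [LocallyOfFinitePresentation gA] [LocallyOfFinitePresentation gB]
    [CompactSpace Aj] [CompactSpace Bj] [QuasiSeparatedSpace Aj] [QuasiSeparatedSpace Bj]
    [CompactSpace Wj] [QuasiSeparatedSpace Wj]
    (qA : A ⟶ Aj) (qB : B ⟶ Bj) (qW : pullback a b ⟶ Wj)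
    (hA : IsPullback qA (a ≫ f) gA (c.π.app j)) (hB : IsPullback qB (b ≫ f) gB (c.π.app j))
    (hWA : IsPullback qW (pullback.fst a b) wA qA) :
    Descends D c f := by
  have hW := hWA.paste_vert hA
  have hβ : (pullback.snd a b ≫ qB) ≫ gB = (pullback.fst a b ≫ a ≫ f) ≫ c.π.app j := by
    rw [Category.assoc, hB.w, pullback.condition_assoc]
    simp only [Category.assoc]
  obtain ⟨k, ψ, g, hg1, hg2⟩ := exists_hom_descent D c hc hW gB (pullback.snd a b ≫ qB) hβ
  have hr := IsPullback.of_hasPullback (wA ≫ gA) (D.map ψ)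
  have hpA := IsPullback.of_hasPullback gA (D.map ψ)
  have hpB := IsPullback.of_hasPullback gB (D.map ψ)
  have hg3 : g ≫ gB = pullback.snd (wA ≫ gA) (D.map ψ) ≫ D.map ψ := by
    rw [hg2, pullback.condition]
  have hAk := isPullback_rebaseQ hA hpA
  have hBk := isPullback_rebaseQ hB hpB
  have hWk := isPullback_rebaseQ hW hr
  have hWAk := isPullback_rebaseQ_rebaseW hA hWA hpA hr
  have : IsOpenImmersion (rebaseW hpA hr) := isOpenImmersion_rebaseW hpA hr
  have hWBk : IsPullback (rebaseQ hW hr) (pullback.snd a b)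
      (hpB.lift g (pullback.snd (wA ≫ gA) (D.map ψ)) hg3) (rebaseQ hB hpB) := by
    have comm : pullback.snd a b ≫ rebaseQ hB hpB =
        rebaseQ hW hr ≫ hpB.lift g (pullback.snd (wA ≫ gA) (D.map ψ)) hg3 := by
      apply hpB.hom_ext
      · rw [Category.assoc, rebaseQ_fst, Category.assoc, IsPullback.lift_fst, hg1]
      · simp only [Category.assoc, rebaseQ_snd, IsPullback.lift_snd]
        rw [pullback.condition_assoc]
    have big : IsPullback (pullback.snd a b ≫ b ≫ f) (rebaseQ hW hr) (c.π.app k)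
        (hpB.lift g (pullback.snd (wA ≫ gA) (D.map ψ)) hg3 ≫ pullback.snd gB (D.map ψ)) := by
      rw [← pullback.condition_assoc, IsPullback.lift_snd]; exact hWk.flip
    exact (IsPullback.of_right big comm hBk.flip).flip
  have i1 : LocallyOfFinitePresentation (pullback.snd gA (D.map ψ)) :=
    locallyOfFinitePresentation_of_rebase hpA
  have i2 : LocallyOfFinitePresentation (pullback.snd gB (D.map ψ)) :=
    locallyOfFinitePresentation_of_rebase hpB
  have i3 : CompactSpace ↥(pullback gA (D.map ψ)) := compactSpace_of_rebase hpA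
  have i4 : CompactSpace ↥(pullback gB (D.map ψ)) := compactSpace_of_rebase hpB
  have i5 : QuasiSeparatedSpace ↥(pullback gA (D.map ψ)) := quasiSeparatedSpace_of_rebase hpA
  have i6 : QuasiSeparatedSpace ↥(pullback gB (D.map ψ)) := quasiSeparatedSpace_of_rebase hpB
  have i7 : CompactSpace ↥(pullback (wA ≫ gA) (D.map ψ)) := compactSpace_of_rebase hr
  have i8 : QuasiSeparatedSpace ↥(pullback (wA ≫ gA) (D.map ψ)) := quasiSeparatedSpace_of_rebase hr
  exact descends_of_glueData₂ hc f a b hcov (pullback.snd gA (D.map ψ)) (pullback.snd gB (D.map ψ))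
    (rebaseW hpA hr) (hpB.lift g (pullback.snd (wA ≫ gA) (D.map ψ)) hg3)
    (by rw [rebaseW_snd, IsPullback.lift_snd]) (rebaseQ hA hpA) (rebaseQ hB hpB) (rebaseQ hW hr)
    hAk hBk hWAk hWBk

include hc hcov in
/-- First step: descend the overlap as an open of `A`. -/
theorem descends_of_glueData₀ [CompactSpace A] [CompactSpace B] [QuasiSeparatedSpace X]
    {i : I} {Ai Bi : Scheme.{u}} (gA : Ai ⟶ D.obj i) (gB : Bi ⟶ D.obj i)
    [LocallyOfFinitePresentation gA] [LocallyOfFinitePresentation gB]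
    [CompactSpace Ai] [CompactSpace Bi] [QuasiSeparatedSpace Ai] [QuasiSeparatedSpace Bi]
    (qA : A ⟶ Ai) (qB : B ⟶ Bi)
    (hA : IsPullback qA (a ≫ f) gA (c.π.app i)) (hB : IsPullback qB (b ≫ f) gB (c.π.app i)) :
    Descends D c f := by
  have : QuasiCompact a := quasiCompact_of_compactSpace a
  have : CompactSpace ↥(pullback a b) := QuasiCompact.compactSpace_of_compactSpace (pullback.snd a b)
  have hU : IsCompact ((pullback.fst a b).opensRange : Set A) := by
    rw [Scheme.Hom.coe_opensRange]; exact isCompact_range (pullback.fst a b).continuous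
  obtain ⟨j, ψ, V, hV, hVU⟩ := exists_open_descent D c hc hA (pullback.fst a b).opensRange hU
  have hpA := IsPullback.of_hasPullback gA (D.map ψ)
  have hpB := IsPullback.of_hasPullback gB (D.map ψ)
  have hAj := isPullback_rebaseQ hA hpA
  have hBj := isPullback_rebaseQ hB hpB
  have hrange : Set.range (pullback.fst a b ≫ rebaseQ hA hpA) ⊆ Set.range V.ι := by
    rintro _ ⟨z, rfl⟩
    rw [Scheme.Opens.range_ι]
    have : pullback.fst a b z ∈ (rebaseQ hA hpA) ⁻¹ᵁ V := by
      rw [hVU]; exact ⟨z, rfl⟩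
    simpa using this
  have hWA : IsPullback (IsOpenImmersion.lift V.ι (pullback.fst a b ≫ rebaseQ hA hpA) hrange)
      (pullback.fst a b) V.ι (rebaseQ hA hpA) :=
    IsOpenImmersion.isPullback _ _ _ _ (IsOpenImmersion.lift_fac _ _ _).symm (by
      rw [Scheme.Opens.opensRange_ι, hVU])
  have i1 : LocallyOfFinitePresentation (pullback.snd gA (D.map ψ)) :=
    locallyOfFinitePresentation_of_rebase hpA
  have i2 : LocallyOfFinitePresentation (pullback.snd gB (D.map ψ)) :=
    locallyOfFinitePresentation_of_rebase hpB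
  have i3 : CompactSpace ↥(pullback gA (D.map ψ)) := compactSpace_of_rebase hpA
  have i4 : CompactSpace ↥(pullback gB (D.map ψ)) := compactSpace_of_rebase hpB
  have i5 : QuasiSeparatedSpace ↥(pullback gA (D.map ψ)) := quasiSeparatedSpace_of_rebase hpA
  have i6 : QuasiSeparatedSpace ↥(pullback gB (D.map ψ)) := quasiSeparatedSpace_of_rebase hpB
  have i7 : CompactSpace ↥V.toScheme := isCompact_iff_compactSpace.mp hV
  have i8 : QuasiSeparatedSpace ↥V.toScheme :=
    QuasiSeparatedSpace.of_isOpenEmbedding V.ι.isOpenEmbedding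
  exact descends_of_glueData₁ hc f a b hcov (pullback.snd gA (D.map ψ)) (pullback.snd gB (D.map ψ))
    V.ι (rebaseQ hA hpA) (rebaseQ hB hpB) _ hAj hBj hWA

include hc hcov in
/-- **Gluing descent data**: if `X` is covered by two quasi-compact opens over which `f` descends
to a stage, then `f` descends to a stage. -/
theorem Descends.of_cover [CompactSpace A] [CompactSpace B] [QuasiSeparatedSpace X]
    (hA : Descends D c (a ≫ f)) (hB : Descends D c (b ≫ f)) : Descends D c f := by
  obtain ⟨iA, A₁, gA₁, qA₁, _, _, _, hA₁⟩ := hA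
  obtain ⟨iB, B₁, gB₁, qB₁, _, _, _, hB₁⟩ := hB
  have hpA := IsPullback.of_hasPullback gA₁ (D.map (IsCofiltered.minToLeft iA iB))
  have hpB := IsPullback.of_hasPullback gB₁ (D.map (IsCofiltered.minToRight iA iB))
  have i1 := locallyOfFinitePresentation_of_rebase hpA
  have i2 := locallyOfFinitePresentation_of_rebase hpB
  have i3 := compactSpace_of_rebase hpA
  have i4 := compactSpace_of_rebase hpB
  have i5 := quasiSeparatedSpace_of_rebase hpA
  have i6 := quasiSeparatedSpace_of_rebase hpB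
  exact descends_of_glueData₀ hc f a b hcov _ _ (rebaseQ hA₁ hpA) (rebaseQ hB₁ hpB)
    (isPullback_rebaseQ hA₁ hpA) (isPullback_rebaseQ hB₁ hpB)

end G2

end Groth.Agent.Lib.Helper50.Descent
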