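import Groth.Agent.Lib.Helper50.Descent6

/-!
# Base case: affine source mapping into an affine open of the limit
-/

set_option autoImplicit false
set_option linter.style.haveILetI false
universe u
open CategoryTheory AlgebraicGeometry Limits TopologicalSpace TensorProduct

namespace Groth.Agent.Lib.Helper50.Descent

open Groth.Agent.Lib.Helper50.StageSetup

/-- A ring map of finite presentation is a base change of a map of finite presentation from a
finitely generated `ℤ`-algebra. -/
lemma exists_isPushout_of_finitePresentation {A B : CommRingCat.{u}} (φ : A ⟶ B)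
    (hφ : φ.hom.FinitePresentation) :
    ∃ (k₀ N : CommRingCat.{u}) (α : k₀ ⟶ A) (ν : k₀ ⟶ N) (β : N ⟶ B),
      IsPushout α ν φ β ∧ ν.hom.FinitePresentation ∧ Algebra.FiniteType ℤ k₀ := by
  letI : Algebra A B := φ.hom.toAlgebra
  haveI : Algebra.FinitePresentation A B := hφ
  let P := Algebra.Presentation.ofFinitePresentation A B
  let k₀ := P.Core
  let N := P.ModelOfHasCoeffs k₀
  let e : A ⊗[k₀] N ≃ₐ[A] B := P.tensorModelOfHasCoeffsEquiv k₀
  have h0 := CommRingCat.isPushout_tensorProduct k₀ A N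
  refine ⟨CommRingCat.of k₀, CommRingCat.of N, CommRingCat.ofHom (algebraMap k₀ A),
    CommRingCat.ofHom (algebraMap k₀ N),
    CommRingCat.ofHom ((e : A ⊗[k₀] N →+* B).comp
      (Algebra.TensorProduct.includeRight : N →ₐ[k₀] A ⊗[k₀] N).toRingHom), ?_, ?_, ?_⟩
  · refine IsPushout.of_iso h0 (Iso.refl _) (Iso.refl _) (Iso.refl _)
      (e.toRingEquiv.toCommRingCatIso) ?_ ?_ ?_ ?_
    · simp
    · simp
    · ext x
      have := e.commutes x
      rw [Algebra.TensorProduct.algebraMap_apply] at this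
      simp only [Iso.refl_hom, Category.id_comp]
      exact this
    · simp only [Iso.refl_hom, Category.id_comp]
      rfl
  · exact RingHom.finitePresentation_algebraMap.mpr inferInstance
  · infer_instance

lemma locallyOfFinitePresentation_from_terminal (k₀ : CommRingCat.{u})
    (hk₀ : Algebra.FiniteType ℤ k₀) :
    LocallyOfFinitePresentation (specULiftZIsTerminal.{u}.from (Spec k₀)) := by
  have : Algebra.FinitePresentation ℤ k₀ := Algebra.FinitePresentation.of_finiteType.mp hk₀
  let χ : CommRingCat.of (ULift.{u} ℤ) ⟶ k₀ :=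
    CommRingCat.ofHom ((algebraMap ℤ k₀).comp (ULift.ringEquiv : ULift.{u} ℤ ≃+* ℤ).toRingHom)
  have e : specULiftZIsTerminal.{u}.from (Spec k₀) = Spec.map χ := specULiftZIsTerminal.hom_ext _ _
  rw [e, HasRingHomProperty.Spec_iff (P := @LocallyOfFinitePresentation)]
  refine RingHom.FinitePresentation.comp (RingHom.finitePresentation_algebraMap.mpr inferInstance) ?_
  refine RingHom.FinitePresentation.of_surjective _
    (ULift.ringEquiv : ULift.{u} ℤ ≃+* ℤ).surjective ?_
  have : RingHom.ker (ULift.ringEquiv : ULift.{u} ℤ ≃+* ℤ).toRingHom = ⊥ :=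
    (RingHom.injective_iff_ker_eq_bot _).mp (ULift.ringEquiv : ULift.{u} ℤ ≃+* ℤ).injective
  rw [this]
  exact Submodule.fg_bot

variable {I : Type u} [SmallCategory I] [IsCofiltered I]
    (D : I ⥤ Scheme.{u}) (c : Limits.Cone D) (hc : Limits.IsLimit c)
    [∀ (i j : I) (f : i ⟶ j), IsAffineHom (D.map f)]

include hc in
/-- Variant of `exists_hom_descent` with an arbitrary base scheme for the target. -/
theorem exists_hom_descent' {i : I} {W Wi : Scheme.{u}} {qW : W ⟶ Wi} {tW : W ⟶ c.pt}
    {gW : Wi ⟶ D.obj i} (hW : IsPullback qW tW gW (c.π.app i))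
    [CompactSpace Wi] [QuasiSeparatedSpace Wi] {S' B : Scheme.{u}} (s : Wi ⟶ S')
    (gB : B ⟶ S') [LocallyOfFinitePresentation gB] (β : W ⟶ B)
    (hβ : β ≫ gB = qW ≫ s) :
    ∃ (k : I) (ψ : k ⟶ i) (g : pullback gW (D.map ψ) ⟶ B),
      rebaseQ hW (IsPullback.of_hasPullback gW (D.map ψ)) ≫ g = β ∧
      g ≫ gB = pullback.fst gW (D.map ψ) ≫ s := by
  have h1 := compactSpace_E D i gW
  have h2 := quasiSeparatedSpace_E D i gW
  let t : E D i gW ⟶ (Functor.const (Over i)).obj S' :=
    { app := fun j ↦ γ D i gW j ≫ s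
      naturality := fun j k φ ↦ by
        dsimp only [Functor.const_obj_obj, Functor.const_obj_map]
        rw [Category.comp_id, ← Category.assoc, hγ] }
  obtain ⟨j, g, hg1, hg2⟩ := Scheme.exists_π_app_comp_eq_of_locallyOfFinitePresentation
    (E D i gW) t gB (cE D c i gW tW qW hW) (hcE D c hc i gW tW qW hW) β (by
      ext j
      dsimp only [NatTrans.comp_app, Functor.const_map_app, t]
      rw [← Category.assoc, hb']
      exact hβ.symm)
  refine ⟨j.left, j.hom, g, ?_, hg2⟩
  rw [rebaseQ_eq_cE]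
  exact hg1

include hc in
/-- **Base case**: an affine scheme of finite presentation over an affine open of the limit. -/
theorem descends_of_affine [∀ i, QuasiSeparatedSpace (D.obj i)] {A B : CommRingCat.{u}}
    (φ : A ⟶ B) (hφ : φ.hom.FinitePresentation) (v : Spec A ⟶ c.pt) [IsOpenImmersion v] :
    Descends D c (Spec.map φ ≫ v) := by
  obtain ⟨k₀, N, α, ν, β, hpo, hν, hk₀⟩ := exists_isPushout_of_finitePresentation φ hφ
  have hVc : IsCompact (v.opensRange : Set c.pt) := by
    rw [Scheme.Hom.coe_opensRange]; exact isCompact_range v.continuous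
  obtain ⟨i, Vi, hVi, hV⟩ := exists_preimage_eq D c hc v.opensRange hVc
  have hrange : Set.range (v ≫ c.π.app i) ⊆ Set.range Vi.ι := by
    rintro _ ⟨z, rfl⟩
    rw [Scheme.Opens.range_ι]
    have : v z ∈ c.π.app i ⁻¹ᵁ Vi := by rw [hV]; exact ⟨z, rfl⟩
    simpa using this
  have hW : IsPullback (IsOpenImmersion.lift Vi.ι (v ≫ c.π.app i) hrange) v Vi.ι (c.π.app i) :=
    IsOpenImmersion.isPullback _ _ _ _ (IsOpenImmersion.lift_fac _ _ _).symm (by
      rw [Scheme.Opens.opensRange_ι, hV])
  have i7 : CompactSpace ↥Vi.toScheme := isCompact_iff_compactSpace.mp hVi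
  have i8 : QuasiSeparatedSpace ↥Vi.toScheme :=
    QuasiSeparatedSpace.of_isOpenEmbedding Vi.ι.isOpenEmbedding
  -- the base `Spec ℤ`
  have hfpZ := locallyOfFinitePresentation_from_terminal k₀ hk₀
  obtain ⟨k, ψ, g, hg1, hg2⟩ := exists_hom_descent' D c hc hW (specULiftZIsTerminal.{u}.from _)
    (specULiftZIsTerminal.{u}.from (Spec k₀)) (Spec.map α) (specULiftZIsTerminal.hom_ext _ _)
  have hp := IsPullback.of_hasPullback Vi.ι (D.map ψ)
  have hWk := isPullback_rebaseQ hW hp
  have i1 : CompactSpace ↥(pullback Vi.ι (D.map ψ)) := compactSpace_of_rebase hp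
  have i2 : QuasiSeparatedSpace ↥(pullback Vi.ι (D.map ψ)) := quasiSeparatedSpace_of_rebase hp
  have i3 : LocallyOfFinitePresentation (Spec.map ν) :=
    (HasRingHomProperty.Spec_iff (P := @LocallyOfFinitePresentation)).mpr hν
  have comm : Spec.map β ≫ Spec.map ν = (Spec.map φ ≫ rebaseQ hW hp) ≫ g := by
    rw [Category.assoc, hg1, ← Spec.map_comp, ← Spec.map_comp, hpo.w]
  have htop : IsPullback (pullback.lift (Spec.map β) (Spec.map φ ≫ rebaseQ hW hp) comm)
      (Spec.map φ) (pullback.snd (Spec.map ν) g) (rebaseQ hW hp) := by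
    refine IsPullback.of_right ?_ (pullback.lift_snd _ _ _) (IsPullback.of_hasPullback _ _)
    rw [pullback.lift_fst, hg1]
    exact (isPullback_SpecMap_of_isPushout _ _ _ _ hpo).flip
  have i4 : CompactSpace ↥(pullback (Spec.map ν) g) :=
    QuasiCompact.compactSpace_of_compactSpace (pullback.snd (Spec.map ν) g)
  have i5 : QuasiSeparatedSpace ↥(pullback (Spec.map ν) g) :=
    quasiSeparatedSpace_of_quasiSeparated (pullback.snd (Spec.map ν) g)
  have i6 : IsOpenImmersion (pullback.snd Vi.ι (D.map ψ)) :=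
    MorphismProperty.of_isPullback (P := @IsOpenImmersion) hp inferInstance
  exact ⟨k, pullback (Spec.map ν) g, pullback.snd (Spec.map ν) g ≫ pullback.snd Vi.ι (D.map ψ),
    pullback.lift (Spec.map β) (Spec.map φ ≫ rebaseQ hW hp) comm, inferInstance, i4, i5,
    htop.paste_vert hWk⟩

end Groth.Agent.Lib.Helper50.Descent
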