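import Groth.Agent.Lib.Helper50.FTFactor2
import Mathlib.Algebra.Category.Ring.FilteredColimits

set_option autoImplicit false
universe u
open CategoryTheory Limits AlgebraicGeometry Opposite

namespace Groth.Agent.Lib.Helper50.DirSubLim

/-- `Spec` of an injective ring map is scheme theoretically dominant. -/
lemma isSchemeTheoreticallyDominant_Spec_map {R R' : CommRingCat.{u}} (φ : R ⟶ R')
    (h : Function.Injective φ.hom) : IsSchemeTheoreticallyDominant (Spec.map φ) := by
  have hfinj : Function.Injective (Spec.map φ).appTop := by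
    have e : (Spec.map φ).appTop =
        (Scheme.ΓSpecIso R).hom ≫ φ ≫ (Scheme.ΓSpecIso R').inv := by
      rw [← Scheme.ΓSpecIso_naturality_assoc, Iso.hom_inv_id, Category.comp_id]
    rw [e]
    have h1 : Function.Injective (Scheme.ΓSpecIso R).hom :=
      ((ConcreteCategory.isIso_iff_bijective _).mp inferInstance).1
    have h2 : Function.Injective (Scheme.ΓSpecIso R').inv :=
      ((ConcreteCategory.isIso_iff_bijective _).mp inferInstance).1
    have : ⇑(ConcreteCategory.hom ((Scheme.ΓSpecIso R).hom ≫ φ ≫ (Scheme.ΓSpecIso R').inv)) =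
        (Scheme.ΓSpecIso R').inv ∘ φ ∘ (Scheme.ΓSpecIso R).hom := by
      ext x; rfl
    rw [this]
    exact h2.comp (h.comp h1)
  rw [isSchemeTheoreticallyDominant_iff]
  exact Scheme.IdealSheafData.ext_of_isAffine
    (by simpa [(Spec.map φ).ker_apply ⟨⊤, isAffineOpen_top _⟩,
      ← RingHom.injective_iff_ker_eq_bot])

section

variable {ι : Type u} (A C : Type u) [CommRing A] [CommRing C] [Algebra A C]
  (S : ι → Subalgebra A C)

/-- The set of members of a family of subalgebras, ordered by inclusion. -/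
abbrev SubJ : Type u := {T : Subalgebra A C // ∃ i, T = S i}

/-- The diagram of the subalgebras in the family. -/
def subDiagram : SubJ A C S ⥤ CommRingCat.{u} where
  obj T := CommRingCat.of T.1
  map {T T'} h := CommRingCat.ofHom (Subalgebra.inclusion (leOfHom h)).toRingHom
  map_id _ := rfl
  map_comp _ _ := rfl

/-- The cocone of inclusions. -/
def subCocone : Cocone (subDiagram A C S) where
  pt := CommRingCat.of C
  ι :=
    { app := fun T => CommRingCat.ofHom T.1.val.toRingHom
      naturality := fun _ _ _ => rfl }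

/-- A ring is the filtered colimit of a directed covering family of subalgebras. -/
noncomputable def isColimitSubCocone [IsDirected (SubJ A C S) (· ≤ ·)] [Nonempty (SubJ A C S)]
    (hcov : ∀ c : C, ∃ i, c ∈ S i) : IsColimit (subCocone A C S) := by
  have h2 : ReflectsColimitsOfShape (SubJ A C S) (forget CommRingCat.{u}) :=
    reflectsColimitsOfShape_of_reflectsIsomorphisms
  apply isColimitOfReflects (forget CommRingCat)
  apply Types.FilteredColimit.isColimitOf'
  · intro x
    change C at x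
    obtain ⟨i, hi⟩ := hcov x
    exact ⟨⟨S i, i, rfl⟩, ⟨x, hi⟩, rfl⟩
  · intro j y y' e
    refine ⟨j, 𝟙 j, ?_⟩
    change j.1 at y y'
    have : (y : C) = y' := e
    have h3 : y = y' := Subtype.ext this
    rw [h3]

end


theorem exists_factor {ι : Type u} (A C : Type u) [CommRing A] [CommRing C] [Algebra A C]
    (S : ι → Subalgebra A C) (hdir : Directed (· ≤ ·) S) (hcov : ∀ c : C, ∃ i, c ∈ S i)
    (X : Scheme.{u}) (f : X ⟶ Spec (CommRingCat.of A)) [LocallyOfFiniteType f]
    (g : Spec (CommRingCat.of C) ⟶ X)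
    (hg : g ≫ f = Spec.map (CommRingCat.ofHom (algebraMap A C))) :
    ∃ (i : ι) (g' : Spec (CommRingCat.of (S i)) ⟶ X),
      g' ≫ f = Spec.map (CommRingCat.ofHom (algebraMap A (S i))) ∧
      Spec.map (CommRingCat.ofHom (S i).val.toRingHom) ≫ g' = g := by
  obtain ⟨i₀, -⟩ := hcov 0
  have : Nonempty (SubJ A C S) := ⟨⟨S i₀, i₀, rfl⟩⟩
  have : IsDirected (SubJ A C S) (· ≤ ·) := ⟨by
    rintro ⟨_, i, rfl⟩ ⟨_, j, rfl⟩
    obtain ⟨k, hik, hjk⟩ := hdir i j
    exact ⟨⟨S k, k, rfl⟩, hik, hjk⟩⟩
  let D : (SubJ A C S)ᵒᵖ ⥤ Scheme.{u} := (subDiagram A C S).op ⋙ Scheme.Spec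
  let c : Cone D := Scheme.Spec.mapCone (subCocone A C S).op
  have hc : IsLimit c := isLimitOfPreserves Scheme.Spec (isColimitSubCocone A C S hcov).op
  have hDaff : ∀ T, IsAffine (D.obj T) := fun T ↦ inferInstanceAs (IsAffine (Spec _))
  have : ∀ {T T' : (SubJ A C S)ᵒᵖ} (φ : T ⟶ T'), IsAffineHom (D.map φ) := fun φ ↦ inferInstance
  have : ∀ T, CompactSpace (D.obj T) := fun T ↦ inferInstance
  have : ∀ T, QuasiSeparatedSpace (D.obj T) := fun T ↦ inferInstance
  have : ∀ T, IsSchemeTheoreticallyDominant (c.π.app T) := fun T ↦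
    isSchemeTheoreticallyDominant_Spec_map (CommRingCat.ofHom T.unop.1.val.toRingHom)
      Subtype.val_injective
  let t : D ⟶ (Functor.const _).obj (Spec (CommRingCat.of A)) :=
    { app := fun T ↦ Spec.map (CommRingCat.ofHom (algebraMap A T.unop.1))
      naturality := fun T T' φ ↦ by
        change Spec.map _ ≫ Spec.map _ = Spec.map _ ≫ 𝟙 _
        rw [Category.comp_id, ← Spec.map_comp]
        rfl }
  have ha : c.π ≫ t = (Functor.const _).map (g ≫ f) := by
    ext T : 2
    change Spec.map _ ≫ Spec.map _ = g ≫ f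
    rw [hg, ← Spec.map_comp]
    rfl
  obtain ⟨T, g', h1, h2⟩ := FTFactor.exists_π_app_comp_eq_of_locallyOfFiniteType_of_dominant
    D t f c hc g ha
  obtain ⟨⟨_, i, rfl⟩⟩ := T
  exact ⟨i, g', h2, h1⟩

end Groth.Agent.Lib.Helper50.DirSubLim
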