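import Mathlib.Algebra.Category.Ring.FinitePresentation
import Mathlib.CategoryTheory.Limits.Constructions.Over.Connected
import Mathlib.Algebra.Category.Ring.Colimits

set_option autoImplicit false
universe u
open CategoryTheory Limits

namespace Groth.Agent.Lib.Helper50

variable {A : CommRingCat.{u}} {J : Type u} [Preorder J] [IsDirected J (· ≤ ·)] [Nonempty J]

attribute [local instance] IsFiltered.isConnected

/-- A cocone over a directed system in `Under A` which is jointly surjective and separates
elements only when they become equal later is a colimit cocone. -/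
noncomputable def isColimitUnderOfTypes (F : J ⥤ Under A) (c : Cocone F)
    (hsurj : ∀ x : c.pt.right, ∃ (j : J) (y : (F.obj j).right), (c.ι.app j).right y = x)
    (hinj : ∀ (j : J) (y y' : (F.obj j).right), (c.ι.app j).right y = (c.ι.app j).right y' →
       ∃ (k : J) (hjk : j ≤ k), (F.map (homOfLE hjk)).right y = (F.map (homOfLE hjk)).right y') :
    IsColimit c := by
  have h1 : ReflectsColimitsOfShape J (Under.forget A) := inferInstance
  have h2 : ReflectsColimitsOfShape J (forget CommRingCat.{u}) :=
    reflectsColimitsOfShape_of_reflectsIsomorphisms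
  apply isColimitOfReflects (Under.forget A ⋙ forget CommRingCat)
  apply Types.FilteredColimit.isColimitOf'
  · intro x
    obtain ⟨j, y, rfl⟩ := hsurj x
    exact ⟨j, y, rfl⟩
  · intro j y y' e
    obtain ⟨k, hjk, h⟩ := hinj j y y' e
    exact ⟨k, homOfLE hjk, h⟩

end Groth.Agent.Lib.Helper50
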