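import Mathlib.RingTheory.FinitePresentation

set_option autoImplicit false

namespace Groth.Agent.Lib.Helper50

/-- The kernel of a split surjection from an algebra of finite type is finitely generated. -/
lemma ker_fg_of_section {A Q B : Type*} [CommRing A] [CommRing Q] [CommRing B] [Algebra A Q]
    [Algebra A B] [Algebra.FiniteType A Q] (q : Q →ₐ[A] B) (g : B →ₐ[A] Q)
    (hqg : ∀ b, q (g b) = b) : (RingHom.ker q.toRingHom).FG := by
  classical
  obtain ⟨T, hT⟩ := (Algebra.FiniteType.out : (⊤ : Subalgebra A Q).FG)
  let K' : Ideal Q := Ideal.span ((fun t ↦ t - g (q t)) '' (T : Set Q))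
  have key : ∀ x ∈ Algebra.adjoin A (T : Set Q), x - g (q x) ∈ K' := by
    intro x hx
    induction hx using Algebra.adjoin_induction with
    | mem t ht => exact Ideal.subset_span ⟨t, ht, rfl⟩
    | algebraMap a =>
      have : (algebraMap A Q a) - g (q (algebraMap A Q a)) = 0 := by
        rw [AlgHom.commutes, AlgHom.commutes, sub_self]
      rw [this]
      exact K'.zero_mem
    | add x y _ _ hx hy =>
      have : x + y - g (q (x + y)) = (x - g (q x)) + (y - g (q y)) := by
        rw [map_add, map_add]; ring
      rw [this]
      exact K'.add_mem hx hy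
    | mul x y _ _ hx hy =>
      have : x * y - g (q (x * y)) = x * (y - g (q y)) + (x - g (q x)) * g (q y) := by
        rw [map_mul, map_mul]; ring
      rw [this]
      exact K'.add_mem (K'.mul_mem_left _ hy) (K'.mul_mem_right _ hx)
  have heq : RingHom.ker q.toRingHom = K' := by
    apply le_antisymm
    · intro x hx
      have hx0 : q x = 0 := hx
      have := key x (by rw [hT]; trivial)
      rwa [hx0, map_zero, sub_zero] at this
    · rw [Ideal.span_le]
      rintro _ ⟨t, -, rfl⟩
      change q (t - g (q t)) = 0
      rw [map_sub, hqg, sub_self]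
  rw [heq]
  exact Submodule.fg_span ((T.finite_toSet).image _)

/-- A retract of a finitely presented algebra is finitely presented. -/
lemma finitePresentation_of_retract {A Q B : Type*} [CommRing A] [CommRing Q] [CommRing B]
    [Algebra A Q] [Algebra A B] [Algebra.FinitePresentation A Q] (q : Q →ₐ[A] B) (g : B →ₐ[A] Q)
    (hqg : ∀ b, q (g b) = b) : Algebra.FinitePresentation A B :=
  Algebra.FinitePresentation.of_surjective (f := q) (fun b ↦ ⟨g b, hqg b⟩)
    (ker_fg_of_section q g hqg)

end Groth.Agent.Lib.Helper50
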