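import Groth.Agent.Lib.Helper50.FPStep1
import Groth.Agent.Lib.Helper50.FPRetract
import Mathlib.RingTheory.Ideal.Quotient.Operations

set_option autoImplicit false
universe u
open CategoryTheory Limits

namespace Groth.Agent.Lib.Helper50

section step1

variable (A B : Type u) [CommRing A] [CommRing B] [Algebra A B]

lemma finiteType_of_preservesColimit
    (h : PreservesColimit (fgSubFunctor A B)
      (coyoneda.obj (Opposite.op (Under.mk (CommRingCat.ofHom (algebraMap A B)))))) :
    Algebra.FiniteType A B := by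
  haveI := h
  obtain ⟨S, g, hg⟩ := exists_lift_of_preservesColimit
    (Under.mk (CommRingCat.ofHom (algebraMap A B))) (fgSubFunctor A B) (fgSubCocone A B)
    (fgSubIsColimit A B) (𝟙 _)
  have htop : S.1 = ⊤ := by
    rw [eq_top_iff]
    intro b _
    have h1 : (g ≫ (fgSubCocone A B).ι.app S).right.hom b = b := by rw [hg]; rfl
    let y : S.1 := g.right.hom b
    have hb : (y : B) = b := h1
    rw [← hb]
    exact y.2
  exact ⟨htop ▸ S.2⟩

end step1

section step2

variable {A B : Type u} [CommRing A] [CommRing B] [Algebra A B] {n : ℕ}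
  (π : MvPolynomial (Fin n) A →ₐ[A] B)

/-- Finitely generated ideals inside the kernel of a presentation. -/
abbrev FGIdeal : Type u :=
  {I : Ideal (MvPolynomial (Fin n) A) // I.FG ∧ I ≤ RingHom.ker π.toRingHom}

instance : IsDirected (FGIdeal π) (· ≤ ·) :=
  ⟨fun I I' ↦ ⟨⟨I.1 ⊔ I'.1, Submodule.FG.sup I.2.1 I'.2.1, sup_le I.2.2 I'.2.2⟩,
    (le_sup_left : I.1 ≤ I.1 ⊔ I'.1), (le_sup_right : I'.1 ≤ I.1 ⊔ I'.1)⟩⟩

instance : Nonempty (FGIdeal π) := ⟨⟨⊥, Submodule.fg_bot, bot_le⟩⟩

noncomputable def fgIdealFunctor : FGIdeal π ⥤ Under (CommRingCat.of A) where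
  obj I := Under.mk (CommRingCat.ofHom (algebraMap A (MvPolynomial (Fin n) A ⧸ I.1)))
  map {I I'} g := Under.homMk (CommRingCat.ofHom (Ideal.Quotient.factor (leOfHom g)))
    (by ext; rfl)
  map_id I := by
    ext x
    obtain ⟨p, rfl⟩ := Ideal.Quotient.mk_surjective x
    rfl
  map_comp g g' := by
    ext x
    obtain ⟨p, rfl⟩ := Ideal.Quotient.mk_surjective x
    rfl

noncomputable def fgIdealCocone : Cocone (fgIdealFunctor π) where
  pt := Under.mk (CommRingCat.ofHom (algebraMap A B))
  ι :=
    { app := fun I ↦ Under.homMk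
        (CommRingCat.ofHom (Ideal.Quotient.lift I.1 π.toRingHom (fun a ha ↦ I.2.2 ha)))
        (by
          ext a
          exact π.commutes a)
      naturality := fun I I' g ↦ by
        ext x
        obtain ⟨p, rfl⟩ := Ideal.Quotient.mk_surjective x
        rfl }

noncomputable def fgIdealIsColimit (hπ : Function.Surjective π) :
    IsColimit (fgIdealCocone π) := by
  refine isColimitUnderOfTypes _ _ ?_ ?_
  · intro (x : B)
    obtain ⟨p, rfl⟩ := hπ x
    exact ⟨⟨⊥, Submodule.fg_bot, bot_le⟩, Ideal.Quotient.mk ⊥ p, rfl⟩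
  · intro I y y' e
    obtain ⟨p, rfl⟩ := Ideal.Quotient.mk_surjective y
    obtain ⟨q, rfl⟩ := Ideal.Quotient.mk_surjective y'
    have hpq : π p = π q := e
    have hker : p - q ∈ RingHom.ker π.toRingHom := by
      change π (p - q) = 0
      rw [map_sub, hpq, sub_self]
    refine ⟨⟨I.1 ⊔ Ideal.span {p - q}, Submodule.FG.sup I.2.1 (Submodule.fg_span_singleton _),
      sup_le I.2.2 ((Ideal.span_singleton_le_iff_mem _).mpr hker)⟩,
      (le_sup_left : I.1 ≤ I.1 ⊔ Ideal.span {p - q}), ?_⟩
    change Ideal.Quotient.mk _ p = Ideal.Quotient.mk _ q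
    rw [Ideal.Quotient.eq]
    exact Ideal.mem_sup_right (Ideal.subset_span rfl)

lemma finitePresentation_of_preservesColimit (hπ : Function.Surjective π)
    (h : PreservesColimit (fgIdealFunctor π)
      (coyoneda.obj (Opposite.op (Under.mk (CommRingCat.ofHom (algebraMap A B)))))) :
    Algebra.FinitePresentation A B := by
  haveI := h
  obtain ⟨I, g, hg⟩ := exists_lift_of_preservesColimit
    (Under.mk (CommRingCat.ofHom (algebraMap A B))) (fgIdealFunctor π) (fgIdealCocone π)
    (fgIdealIsColimit π hπ) (𝟙 _)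
  haveI : Algebra.FinitePresentation A (MvPolynomial (Fin n) A ⧸ I.1) :=
    Algebra.FinitePresentation.quotient I.2.1
  let q : (MvPolynomial (Fin n) A ⧸ I.1) →ₐ[A] B :=
    Ideal.Quotient.liftₐ I.1 π (fun a ha ↦ I.2.2 ha)
  let g' : B →ₐ[A] (MvPolynomial (Fin n) A ⧸ I.1) :=
    { g.right.hom with
      commutes' := fun a ↦ by
        have := congr($(Under.w g).hom a)
        exact this }
  refine finitePresentation_of_retract q g' (fun b ↦ ?_)
  have h1 : (g ≫ (fgIdealCocone π).ι.app I).right.hom b = b := by rw [hg]; rfl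
  exact h1

end step2

end Groth.Agent.Lib.Helper50
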