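import Groth.Agent.Lib.Helper50.FPStep2

set_option autoImplicit false
universe u
open CategoryTheory Limits

namespace Groth.Agent.Lib.Helper50

section step1

variable (A B : Type u) [CommRing A] [CommRing B] [Algebra A B]

lemma finiteType_of_lift
    (h : ∃ (S : FGSub A B) (g : Under.mk (CommRingCat.ofHom (algebraMap A B)) ⟶
      (fgSubFunctor A B).obj S), g ≫ (fgSubCocone A B).ι.app S = 𝟙 _) :
    Algebra.FiniteType A B := by
  obtain ⟨S, g, hg⟩ := h
  have htop : S.1 = ⊤ := by
    rw [eq_top_iff]
    intro b _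
    have h1 : (g ≫ (fgSubCocone A B).ι.app S).right.hom b = b := by rw [hg]; rfl
    let y : S.1 := g.right.hom b
    have hb : (y : B) = b := h1
    rw [← hb]
    exact y.2
  exact ⟨htop ▸ S.2⟩

end step1

section step2

variable {A B : Type u} [CommRing A] [CommRing B] [Algebra A B] {n : ℕ}
  (π : MvPolynomial (Fin n) A →ₐ[A] B)

lemma finitePresentation_of_lift
    (h : ∃ (I : FGIdeal π) (g : Under.mk (CommRingCat.ofHom (algebraMap A B)) ⟶
      (fgIdealFunctor π).obj I), g ≫ (fgIdealCocone π).ι.app I = 𝟙 _) :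
    Algebra.FinitePresentation A B := by
  obtain ⟨I, g, hg⟩ := h
  haveI : Algebra.FinitePresentation A (MvPolynomial (Fin n) A ⧸ I.1) :=
    Algebra.FinitePresentation.quotient I.2.1
  let q : (MvPolynomial (Fin n) A ⧸ I.1) →ₐ[A] B :=
    Ideal.Quotient.liftₐ I.1 π (fun a ha ↦ I.2.2 ha)
  let g' : B →ₐ[A] (MvPolynomial (Fin n) A ⧸ I.1) :=
    { g.right.hom with
      commutes' := fun a ↦ by
        have := congr($(Under.w g).hom a)
        exact this }
  refine finitePresentation_of_retract q g' (fun b ↦ ?_)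
  have h1 : (g ≫ (fgIdealCocone π).ι.app I).right.hom b = b := by rw [hg]; rfl
  exact h1

end step2

/-- An algebra `B` over `A` such that every map from `B` to a directed colimit of `A`-algebras
lifts to some stage is of finite presentation. -/
theorem finitePresentation_of_forall_lift {A B : CommRingCat.{u}} (f : A ⟶ B)
    (h : ∀ (J : Type u) [Preorder J] [IsDirected J (· ≤ ·)] [Nonempty J] (F : J ⥤ Under A)
      (c : Cocone F) (_ : IsColimit c) (φ : Under.mk f ⟶ c.pt),
      ∃ (j : J) (g : Under.mk f ⟶ F.obj j), g ≫ c.ι.app j = φ) :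
    f.hom.FinitePresentation := by
  algebraize [f.hom]
  have h1 : Algebra.FiniteType A B :=
    finiteType_of_lift A B
      (h (FGSub A B) (fgSubFunctor A B) (fgSubCocone A B) (fgSubIsColimit A B) (𝟙 _))
  obtain ⟨n, π, hπ⟩ := Algebra.FiniteType.iff_quotient_mvPolynomial''.mp h1
  exact finitePresentation_of_lift π
    (h (FGIdeal π) (fgIdealFunctor π) (fgIdealCocone π) (fgIdealIsColimit π hπ) (𝟙 _))

end Groth.Agent.Lib.Helper50
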