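import Mathlib.Algebra.Category.Ring.FinitePresentation
import Mathlib.AlgebraicGeometry.AffineTransitionLimit
import Mathlib.AlgebraicGeometry.Morphisms.SchemeTheoreticallyDominant

set_option autoImplicit false
universe vJ uJ u
open CategoryTheory Limits

namespace Groth.Agent.Lib.Helper50.FTFactor

section Ring

variable {J : Type uJ} [Category.{vJ} J] [IsFiltered J]
variable (R : CommRingCat.{u}) (F : J ⥤ CommRingCat.{u}) (α : (Functor.const _).obj R ⟶ F)
variable {S : CommRingCat.{u}} (f : R ⟶ S) (c : Cocone F) (hc : IsColimit c)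
variable [PreservesColimit F (forget CommRingCat)]

set_option backward.defeqAttrib.useBackward true in
set_option backward.isDefEq.respectTransparency false in
include hc in
/-- Given a filtered diagram `F` of rings over `R` whose colimit maps `Fᵢ ⟶ colim F` are injective,
`S` an `R`-algebra of finite type and a ring hom `g : S ⟶ colimit F` over `R`, there exists `i` such
that `g` factors through `Fᵢ`. -/
lemma exists_eq_comp_ι_app_of_finiteType_of_injective (hf : f.hom.FiniteType)
    (hinj : ∀ i, Function.Injective (c.ι.app i).hom)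
    (g : S ⟶ c.pt) (hg : ∀ i, f ≫ g = α.app i ≫ c.ι.app i) :
    ∃ (i : J) (g' : S ⟶ F.obj i), f ≫ g' = α.app i ∧ g = g' ≫ c.ι.app i := by
  classical
  have hc' := isColimitOfPreserves (forget _) hc
  let := f.hom.toAlgebra
  obtain ⟨n, π₀, hπ₀⟩ := (Algebra.FiniteType.iff_quotient_mvPolynomial''
    (R := R) (S := S)).mp hf
  let P := CommRingCat.of (MvPolynomial (Fin n) R)
  let iP : R ⟶ P := CommRingCat.ofHom MvPolynomial.C
  obtain ⟨π, rfl, hπ⟩ :
      ∃ π : P ⟶ S, iP ≫ π = f ∧ Function.Surjective π :=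
    ⟨CommRingCat.ofHom π₀, by ext1; exact π₀.comp_algebraMap, hπ₀⟩
  obtain ⟨i, g', hg', hg''⟩ : ∃ (i : J) (g' : P ⟶ F.obj i),
      π ≫ g = g' ≫ c.ι.app i ∧ iP ≫ g' = α.app i := by
    choose j x h using fun i ↦ Types.jointly_surjective_of_isColimit hc' ((π ≫ g) (.X i))
    obtain ⟨i, ⟨hi⟩⟩ : ∃ i, Nonempty (∀ a, (j a ⟶ i)) := by
      have : ∃ i, ∀ a, Nonempty (j a ⟶ i) := by
        simpa using! IsFiltered.sup_objs_exists (Finset.univ.image j)
      simpa [← exists_true_iff_nonempty, Classical.skolem, -exists_const_iff] using! this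
    refine ⟨i, CommRingCat.ofHom (MvPolynomial.eval₂Hom
      (α.app i).hom (F.map (hi _) <| x ·)), ?_, ?_⟩
    · ext1
      apply MvPolynomial.ringHom_ext
      · simpa using! fun x ↦ congr($(hg i).hom x)
      · intro i
        simp only [CommRingCat.hom_comp, RingHom.coe_comp, Function.comp_apply,
          Functor.const_obj_obj, CommRingCat.hom_ofHom, MvPolynomial.coe_eval₂Hom,
          MvPolynomial.eval₂_X]
        exact (congr($(c.w (hi i)).hom (x i)).trans (h i)).symm
    · ext x
      simp [P, iP]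
  have hker : RingHom.ker π.hom ≤ RingHom.ker g'.hom := by
    intro r hr
    rw [RingHom.mem_ker] at hr ⊢
    apply hinj i
    rw [map_zero]
    have := congr($(hg').hom r)
    simp only [CommRingCat.hom_comp, RingHom.coe_comp, Function.comp_apply] at this
    rw [← this, hr, map_zero]
  refine ⟨i, CommRingCat.ofHom (RingHom.liftOfSurjective π.hom hπ ⟨g'.hom, hker⟩), ?_, ?_⟩
  · ext x
    suffices (iP ≫ g') x = α.app i x by
      simpa [RingHom.liftOfRightInverse_comp_apply] using! this
    rw [hg'']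
    rfl
  · ext x
    obtain ⟨x, rfl⟩ := hπ x
    have := congr($(hg').hom x)
    simp only [CommRingCat.hom_comp, RingHom.coe_comp, Function.comp_apply] at this
    simpa [RingHom.liftOfRightInverse_comp_apply] using! this

end Ring

end Groth.Agent.Lib.Helper50.FTFactor

namespace Groth.Agent.Lib.Helper50.FTFactor

open AlgebraicGeometry

section Affine

variable {I : Type u} [Category.{u} I] {S X : Scheme.{u}} (D : I ⥤ Scheme.{u})
  (t : D ⟶ (Functor.const I).obj S) (f : X ⟶ S) (c : Cone D) (hc : IsLimit c)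

include hc in
/-- Affine case: a cofiltered limit of affine schemes whose projections are injective on global
sections; morphisms to an affine scheme of finite type over an affine base factor through a
stage. -/
lemma exists_π_app_comp_eq_of_isAffine_of_injective [IsCofiltered I] [LocallyOfFiniteType f]
    [IsAffine S] [IsAffine X] [∀ i, IsAffine (D.obj i)]
    (hinj : ∀ i, Function.Injective (c.π.app i).appTop.hom)
    (a : c.pt ⟶ X) (ha : c.π ≫ t = (Functor.const _).map (a ≫ f)) :
    ∃ (i : I) (g : D.obj i ⟶ X), c.π.app i ≫ g = a ∧ g ≫ f = t.app i := by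
  obtain ⟨hcΓ⟩ := nonempty_isColimit_Γ_mapCocone D c hc
  let α : (Functor.const Iᵒᵖ).obj Γ(S, ⊤) ⟶ D.op ⋙ Scheme.Γ :=
    { app := fun i ↦ (t.app i.unop).appTop
      naturality := fun i j φ ↦ by
        have := t.naturality φ.unop
        simp only [Functor.const_obj_obj, Functor.const_obj_map, Category.comp_id] at this
        change 𝟙 _ ≫ (t.app j.unop).appTop = (t.app i.unop).appTop ≫ (D.map φ.unop).appTop
        rw [Category.id_comp, ← this, Scheme.Hom.comp_appTop] }
  have hf : f.appTop.hom.FiniteType :=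
    (HasRingHomProperty.iff_of_isAffine (P := @LocallyOfFiniteType)).mp ‹_›
  have hai : ∀ i : I, c.π.app i ≫ t.app i = a ≫ f := fun i ↦ by
    have := congr(($ha).app i)
    simpa using this
  obtain ⟨i, g', hg1, hg2⟩ := exists_eq_comp_ι_app_of_finiteType_of_injective Γ(S, ⊤)
    (D.op ⋙ Scheme.Γ) α f.appTop (Scheme.Γ.mapCocone c.op) hcΓ hf (fun i ↦ hinj i.unop) a.appTop
    (fun i ↦ by
      change f.appTop ≫ a.appTop = (t.app i.unop).appTop ≫ (c.π.app i.unop).appTop
      rw [← Scheme.Hom.comp_appTop, ← Scheme.Hom.comp_appTop, hai])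
  obtain ⟨i⟩ := i
  change Γ(X, ⊤) ⟶ Γ(D.obj i, ⊤) at g'
  change f.appTop ≫ g' = (t.app i).appTop at hg1
  change a.appTop = g' ≫ (c.π.app i).appTop at hg2
  have e1 : X.isoSpec.inv ≫ X.toSpecΓ = 𝟙 _ := by
    rw [← Scheme.isoSpec_hom, Iso.inv_hom_id]
  refine ⟨i, (D.obj i).toSpecΓ ≫ Spec.map g' ≫ X.isoSpec.inv, ?_, ?_⟩
  · have : IsIso X.toSpecΓ := IsAffine.affine
    rw [← cancel_mono X.toSpecΓ]
    simp only [Category.assoc, e1, Category.comp_id]
    have n1 : c.π.app i ≫ (D.obj i).toSpecΓ =
        c.pt.toSpecΓ ≫ Spec.map (c.π.app i).appTop := Scheme.toSpecΓ_naturality (c.π.app i)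
    have n2 := Scheme.toSpecΓ_naturality a
    rw [reassoc_of% n1, n2, ← Spec.map_comp, ← hg2]
  · have : IsIso S.toSpecΓ := IsAffine.affine
    rw [← cancel_mono S.toSpecΓ]
    simp only [Category.assoc]
    have n1 := Scheme.toSpecΓ_naturality f
    have n2 : t.app i ≫ S.toSpecΓ = (D.obj i).toSpecΓ ≫ Spec.map (t.app i).appTop :=
      Scheme.toSpecΓ_naturality (t.app i)
    rw [n1, reassoc_of% e1, n2, ← Spec.map_comp, hg1]

end Affine

end Groth.Agent.Lib.Helper50.FTFactor
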