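import Groth.Agent.Lib.Helper40.FTIdeal
import Groth.Agent.Lib.Helper40.SubSh10

/-!
# Ideal sheaves of finite type inside a given ideal sheaf, containing prescribed sections
-/

set_option autoImplicit false
universe u

open AlgebraicGeometry CategoryTheory Opposite TopologicalSpace Limits

namespace Groth.Agent.Lib.Helper50.FTIdealSub

set_option backward.isDefEq.respectTransparency.types false

open Groth.Agent.Lib.Lead.QCohAff Groth.Agent.Lib.Helper22.IdealModAff
  Groth.Agent.Lib.Helper40.SSh Groth.Agent.S4408 Groth.Agent.Lib.Helper40.FTIdeal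

/-- On a qcqs scheme, finitely many finite sets of sections of an ideal sheaf over affine opens lie in an ideal
subsheaf of finite type. -/
theorem exists_ft_ideal_le {V : Scheme.{u}} [CompactSpace V] [QuasiSeparatedSpace V]
    (I0 : V.IdealSheafData) (n : ℕ) (W : Fin n → V.Opens) (hW : ∀ l, IsAffineOpen (W l))
    (s : ∀ l, Finset Γ(V, W l)) (hs : ∀ l, ∀ x ∈ s l, x ∈ I0.ideal ⟨W l, hW l⟩) :
    ∃ J : V.IdealSheafData, J ≤ I0 ∧ (∀ U : V.affineOpens, (J.ideal U).FG) ∧
      ∀ l, ∀ x ∈ s l, x ∈ J.ideal ⟨W l, hW l⟩ := by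
  classical
  have hpre : ∀ l, ∀ x : Γ(V, W l), x ∈ s l →
      ∃ t : Γ(ClSub.idealMod I0, W l), incl I0 (W l) t = x := fun l x hx =>
    (mem_ideal_iff I0 ⟨W l, hW l⟩ x).mp (hs l x hx)
  have key : ∀ l, ∃ (G : V.Modules) (i : G ⟶ ClSub.idealMod I0), Mono i ∧ G.IsQuasicoherent ∧
      SheafOfModules.IsFiniteType (R := V.ringCatSheaf) G ∧
      ∀ x ∈ s l, ∃ g : Γ(G, W l), incl I0 (W l) (i.app (W l) g) = x := by
    intro l
    let T : Set Γ(ClSub.idealMod I0, W l) := {t | incl I0 (W l) t ∈ s l}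
    have hTfin : T.Finite := by
      apply Set.Finite.preimage (f := incl I0 (W l)) ((incl_injective I0 (W l)).injOn)
      exact (s l).finite_toSet
    obtain ⟨G, i, hm, hq, hft, hmem⟩ := exists_ft_sub_of_fg_qcqs (ClSub.idealMod I0) (hW l)
      (Submodule.span Γ(V, W l) T) (Submodule.fg_span hTfin)
    refine ⟨G, i, hm, hq, hft, ?_⟩
    intro x hx
    obtain ⟨t, ht⟩ := hpre l x hx
    obtain ⟨g, hg⟩ := hmem t (Submodule.subset_span (show t ∈ T by simpa [T, ht] using hx))
    exact ⟨g, by rw [hg, ht]⟩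
  choose G i hm hq hft hmem using key
  obtain ⟨E, j, -, hqE, hftE, hcont⟩ := exists_finsup n G i hm hq hft
  haveI := hqE
  refine ⟨ofSub I0 j, ofSub_le I0 j, isFiniteTypeIdeal_ofSub I0 j hftE, ?_⟩
  intro l x hx
  obtain ⟨g, hg⟩ := hmem l x hx
  obtain ⟨e, he⟩ := hcont l (W l) g
  rw [ofSub_ideal]
  exact ⟨e, by rw [ii_apply, he, hg]⟩

end Groth.Agent.Lib.Helper50.FTIdealSub
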