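import Groth.Agent.Lib.Helper40.QCAlgSub2

/-!
# Finite type quasi-coherent subalgebras through finitely many local sections
-/

set_option autoImplicit false
universe u
open CategoryTheory AlgebraicGeometry TopologicalSpace Opposite

namespace Groth.Agent.Lib.Helper50.FTSubAlg

open Groth.Agent.Lib.Helper40.QCAlgGen Groth.Agent.Lib.Helper40.SSh Groth.Agent.Lib.Lead.CohAff
open Groth.Agent.Lib.Helper40.QCohLim

/-- on a qcqs scheme, finitely many finite sets of sections of a quasi-coherent algebra over affine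
opens lie in a quasi-coherent subalgebra of finite type. -/
theorem exists_ft_subalgebra {X : Scheme.{u}} [CompactSpace X] [QuasiSeparatedSpace X]
    (B : RelSpec.QCAlg X) (n : ℕ) (V : Fin n → X.Opens) (hV : ∀ k, IsAffineOpen (V k))
    (F : ∀ k, Finset (B.presheaf.obj (op (V k)))) :
    ∃ (B' : RelSpec.QCAlg X) (φ : B' ⟶ B),
      (∀ T : X.Opens, Function.Injective (φ.hom.app (op T)).hom) ∧
      (∀ T : X.affineOpens, (B'.str.app (op (T : X.Opens))).hom.FiniteType) ∧
      ∀ k, ∀ b ∈ F k, b ∈ Set.range (φ.hom.app (op (V k))).hom := by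
  haveI := Groth.Agent.Lib.Helper2.QCAlgMod.toModule_isQuasicoherent B
  have key : ∀ k, ∃ (G : X.Modules) (i : G ⟶ B.toModule), Mono i ∧ G.IsQuasicoherent ∧
      SheafOfModules.IsFiniteType (R := X.ringCatSheaf) G ∧
      ∀ b ∈ F k, ∃ g : Γ(G, V k), i.app (V k) g = (show Γ(B.toModule, V k) from b) := by
    intro k
    obtain ⟨G, i, hm, hq, hft, hmem⟩ := exists_ft_sub_of_fg_qcqs B.toModule (hV k)
      (Submodule.span Γ(X, V k)
        (show Set Γ(B.toModule, V k) from ((F k : Finset _) : Set (B.presheaf.obj (op (V k))))))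
      (Submodule.fg_span (F k).finite_toSet)
    exact ⟨G, i, hm, hq, hft, fun b hb => hmem _ (Submodule.subset_span hb)⟩
  choose G i hm hq hft hgen using key
  obtain ⟨E, j, hmono, hqE, hftE, hcont⟩ := exists_finsup n G i hm hq hft
  haveI := hqE
  refine ⟨subAlg B j, subAlgι B j, fun T => subAlgι_injective B j T,
    fun T => subAlg_finiteType B j T.2 (finite_sections_of_isFiniteType E hftE T.2), ?_⟩
  intro k b hb
  obtain ⟨g, hg⟩ := hgen k b hb
  obtain ⟨e, he⟩ := hcont k (V k) g
  have := mem_range_subAlgι B j e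
  rwa [he, hg] at this

end Groth.Agent.Lib.Helper50.FTSubAlg
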