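import Groth.Agent.Lib.Helper50.SymFP
import Groth.Agent.Lib.Helper50.FTIdealSub
import Groth.Agent.Lib.Helper40.ExtFP3
import Groth.Agent.Lib.Helper74.SymQCAlgProps
import Groth.Agent.Lib.Helper50.AffSpecIso
import Groth.Agent.Lib.Helper48.PrFP
import Groth.Agent.Lib.Helper2.QCAlgMod
import Groth.Agent.Lib.Helper2.FinPresAff
import Groth.Agent.Lib.Helper21.QCohSections
import Groth.Agent.Lib.Lead.CohAff3

/-!
# A finite morphism over a qcqs base is a closed subscheme of a finite morphism of finite presentation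
-/

set_option autoImplicit false
universe u

open AlgebraicGeometry CategoryTheory Opposite TopologicalSpace Limits

namespace Groth.Agent.Lib.Helper50.FinFP

open RelSpec Groth.Agent.Lib.Helper74.SymQ

/-- variant of `SymFP.exists_finset_finite` with the ideal given as a kernel. -/
theorem exists_finset_finite' {k R T₀ : Type u} [CommRing k] [CommRing R] [CommRing T₀]
    (φ : k →+* R) (hφ : φ.FiniteType) (g₀ : R →+* T₀) (hg₀ : Function.Surjective g₀)
    (h : (g₀.comp φ).Finite) :
    ∃ s : Finset R, (∀ x ∈ s, g₀ x = 0) ∧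
      ∀ {T : Type u} [CommRing T] (g : R →+* T), Function.Surjective g → (∀ x ∈ s, g x = 0) →
        (g.comp φ).Finite := by
  have hI : ((Ideal.Quotient.mk (RingHom.ker g₀)).comp φ).Finite := by
    let e := RingHom.quotientKerEquivOfSurjective hg₀
    have he : (Ideal.Quotient.mk (RingHom.ker g₀)).comp φ =
        (e.symm : T₀ →+* R ⧸ RingHom.ker g₀).comp (g₀.comp φ) := by
      ext x
      change _ = e.symm (g₀ (φ x))
      rw [RingEquiv.eq_symm_apply]
      rfl
    rw [he]
    exact RingHom.Finite.comp (RingHom.Finite.of_surjective _ e.symm.surjective) h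
  obtain ⟨s, hs, H⟩ := SymFP.exists_finset_finite φ hφ _ hI
  exact ⟨s, fun x hx => hs x hx, H⟩

/-- a finite morphism over a qcqs base is a closed subscheme of the relative spectrum of the symmetric algebra of a
finitely presented module. -/
theorem exists_closedImmersion_affine_fp {X S : Scheme.{u}} (f : X ⟶ S) [IsFinite f]
    [CompactSpace S] [QuasiSeparatedSpace S] :
    ∃ (A : QCAlg S) (i : X ⟶ A.spec), IsClosedImmersion i ∧ i ≫ A.π = f ∧
      LocallyOfFinitePresentation A.π := by
  classical
  set B := QCAlg.directImage f with hB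
  haveI := Groth.Agent.Lib.Helper2.QCAlgMod.toModule_isQuasicoherent B
  have hBft : SheafOfModules.IsFiniteType (R := S.ringCatSheaf) B.toModule := by
    refine (Groth.Agent.Lib.Lead.CohAff.isFiniteType_iff_finite_sections B.toModule).2 ?_
    intro U hU
    have h1 : (f.app U).hom.Finite := IsFinite.finite_app f U hU
    exact h1
  obtain ⟨P, φ, hqP, hfpP, hepi⟩ := Groth.Agent.Lib.Helper40.ExtFP.exists_fp_epi B.toModule hBft
  haveI := hqP
  haveI := hepi
  obtain ⟨ψ, hψ, -⟩ := isSymAlg_symAlg P B φ
  have hsurj : ∀ (U : S.Opens) (_ : IsAffineOpen U),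
      Function.Surjective (ψ.hom.app (op U)).hom := by
    intro U hU b
    obtain ⟨m, hm⟩ := Groth.Agent.Lib.Helper21.QCohSections.app_surjective_of_epi φ hU b
    refine ⟨((symJ P).app U).hom m, ?_⟩
    rw [← hψ] at hm
    exact hm
  have hcl : IsClosedImmersion (QCAlg.specMap ψ) :=
    specMap_of_forall @IsClosedImmersion ψ fun U hU =>
      IsClosedImmersion.spec_of_surjective _ (hsurj U hU)
  obtain ⟨c, hc1, hc2⟩ := Groth.Agent.Lib.Helper50.AffSpecIso.exists_iso_spec_directImage f
  haveI := hc2
  haveI := hcl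
  refine ⟨symAlg P, c ≫ QCAlg.specMap ψ, inferInstance, ?_, ?_⟩
  · rw [Category.assoc, QCAlg.specMap_π, hc1]
  · refine spec_π_of_forall @LocallyOfFinitePresentation _ fun U hU => ?_
    rw [HasRingHomProperty.Spec_iff (P := @LocallyOfFinitePresentation)]
    haveI := hfpP
    haveI : Module.FinitePresentation Γ(S, U) Γ(P, U) :=
      Groth.Agent.Lib.Helper2.FinTypeAff.finitePresentation_sections P hU
    have h := isSymmetricAlgebra_symJ P U hU
    exact SymFP.finitePresentation_of_isSymmetricAlgebra h

/-- **Stacks 09YZ**: a finite morphism over a qcqs base is a closed subscheme of a finite morphism of finite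
presentation. -/
theorem exists_closedImmersion_finite_fp {X S : Scheme.{u}} (f : X ⟶ S) [IsFinite f]
    [CompactSpace S] [QuasiSeparatedSpace S] :
    ∃ (X' : Scheme.{u}) (f' : X' ⟶ S) (j : X ⟶ X'), IsFinite f' ∧ LocallyOfFinitePresentation f' ∧
      IsClosedImmersion j ∧ j ≫ f' = f := by
  classical
  obtain ⟨A, i, hi, hif, hAfp⟩ := exists_closedImmersion_affine_fp f
  subst hif
  haveI : CompactSpace A.spec := QuasiCompact.compactSpace_of_compactSpace A.π
  haveI : QuasiSeparatedSpace A.spec := quasiSeparatedSpace_of_quasiSeparated A.π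
  obtain ⟨n, U, hU, hcov, -⟩ :=
    Groth.Agent.Lib.Helper40.SSh.exists_fin_cover_qcqs S ⊥ (by simp)
  let W : Fin n → A.spec.Opens := fun l => A.π ⁻¹ᵁ U l
  have hW : ∀ l, IsAffineOpen (W l) := fun l => (hU l).preimage A.π
  have key : ∀ l, ∃ s : Finset Γ(A.spec, W l), (∀ x ∈ s, (i.app (W l)).hom x = 0) ∧
      ∀ {T : Type u} [CommRing T] (g : Γ(A.spec, W l) →+* T), Function.Surjective g →
        (∀ x ∈ s, g x = 0) → (g.comp (A.π.app (U l)).hom).Finite := by
    intro l
    have hφ : (A.π.app (U l)).hom.FiniteType := by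
      have h1 := HasRingHomProperty.appLE (P := @LocallyOfFiniteType) A.π inferInstance
        ⟨U l, hU l⟩ ⟨A.π ⁻¹ᵁ U l, hW l⟩ le_rfl
      rw [← Scheme.Hom.app_eq_appLE] at h1
      exact h1
    have hfin : ((i.app (W l)).hom.comp (A.π.app (U l)).hom).Finite := by
      have h1 : ((i ≫ A.π).app (U l)).hom.Finite := IsFinite.finite_app (i ≫ A.π) (U l) (hU l)
      exact h1
    exact exists_finset_finite' _ hφ _ (i.app_surjective (W l) (hW l)) hfin
  choose s hs0 hsfin using key
  obtain ⟨J, hJle, hJfg, hJs⟩ := FTIdealSub.exists_ft_ideal_le i.ker n W hW s (by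
    intro l x hx
    rw [Scheme.Hom.ker_apply, RingHom.mem_ker]
    exact hs0 l x hx)
  haveI : LocallyOfFinitePresentation J.subschemeι :=
    Groth.Agent.Lib.Helper48.PrFP.lfp_subschemeι J hJfg
  have hle : J.subschemeι.ker ≤ i.ker := by rw [J.ker_subschemeι]; exact hJle
  have hfac : IsClosedImmersion.lift J.subschemeι i hle ≫ J.subschemeι = i :=
    IsClosedImmersion.lift_fac _ _ _
  haveI : IsClosedImmersion (IsClosedImmersion.lift J.subschemeι i hle ≫ J.subschemeι) := by
    rw [hfac]; exact hi
  refine ⟨J.subscheme, J.subschemeι ≫ A.π, IsClosedImmersion.lift J.subschemeι i hle, ?_,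
    inferInstance, IsClosedImmersion.of_comp _ J.subschemeι, ?_⟩
  · have hcov' : ⨆ l : Fin n, ((⟨U l, hU l⟩ : S.affineOpens) : S.Opens) = ⊤ := hcov
    rw [HasAffineProperty.iff_of_iSup_eq_top (P := @IsFinite)
      (fun l : Fin n => (⟨U l, hU l⟩ : S.affineOpens)) hcov']
    intro l
    refine ⟨(hU l).preimage (J.subschemeι ≫ A.π), ?_⟩
    simp only [morphismRestrict_app]
    erw [RingHom.finite_respectsIso.cancel_right_isIso]
    have hgoal : ∀ (T : S.Opens), T = U l →
        ((J.subschemeι ≫ A.π).app T).hom.Finite := by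
      rintro T rfl
      change ((J.subschemeι.app (W l)).hom.comp (A.π.app (U l)).hom).Finite
      refine hsfin l _ (J.subschemeι.app_surjective (W l) (hW l)) ?_
      intro x hx
      have h1 := hJs l x hx
      rw [← J.ker_subschemeι_app ⟨W l, hW l⟩, RingHom.mem_ker] at h1
      exact h1
    exact hgoal _ (Scheme.Opens.ι_image_top _)
  · rw [← Category.assoc, hfac]

end Groth.Agent.Lib.Helper50.FinFP
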