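import Groth.Agent.Lib.Helper50.FinFP

/-!
# A finite morphism over a qcqs base is a directed limit of finite morphisms of finite presentation with closed
immersions as transition maps
-/

set_option autoImplicit false
universe u

open AlgebraicGeometry CategoryTheory Opposite TopologicalSpace Limits

noncomputable section

namespace Groth.Agent.Lib.Helper50.FinLim

open RelSpec Groth.Agent.Lib.Helper74.SymQ Groth.Agent.Lib.Helper50.FinFP

/-- inside the ideal of a finite closed subscheme of a relative spectrum of finite type there is an ideal of finite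
type whose closed subscheme is already finite over the base. -/
theorem exists_ft_ideal_finite {X S : Scheme.{u}} [CompactSpace S] [QuasiSeparatedSpace S]
    (A : QCAlg S) [LocallyOfFiniteType A.π] (i : X ⟶ A.spec) [IsClosedImmersion i]
    [IsFinite (i ≫ A.π)] :
    ∃ J : A.spec.IdealSheafData, J ≤ i.ker ∧ (∀ U : A.spec.affineOpens, (J.ideal U).FG) ∧
      IsFinite (J.subschemeι ≫ A.π) := by
  classical
  haveI : CompactSpace A.spec := QuasiCompact.compactSpace_of_compactSpace A.π
  haveI : QuasiSeparatedSpace A.spec := quasiSeparatedSpace_of_quasiSeparated A.π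
  obtain ⟨n, U, hU, hcov, -⟩ :=
    Groth.Agent.Lib.Helper40.SSh.exists_fin_cover_qcqs S ⊥ (by simp)
  let W : Fin n → A.spec.Opens := fun l => A.π ⁻¹ᵁ U l
  have hW : ∀ l, IsAffineOpen (W l) := fun l => (hU l).preimage A.π
  have key : ∀ l, ∃ s : Finset Γ(A.spec, W l), (∀ x ∈ s, (i.app (W l)).hom x = 0) ∧
      ∀ {T : Type u} [CommRing T] (g : Γ(A.spec, W l) →+* T), Function.Surjective g →
        (∀ x ∈ s, g x = 0) → (g.comp (A.π.app (U l)).hom).Finite := by
    intro l
    have hφ : (A.π.app (U l)).hom.FiniteType := by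
      have h1 := HasRingHomProperty.appLE (P := @LocallyOfFiniteType) A.π inferInstance
        ⟨U l, hU l⟩ ⟨A.π ⁻¹ᵁ U l, hW l⟩ le_rfl
      rw [← Scheme.Hom.app_eq_appLE] at h1
      exact h1
    have hfin : ((i.app (W l)).hom.comp (A.π.app (U l)).hom).Finite := by
      have h1 : ((i ≫ A.π).app (U l)).hom.Finite := IsFinite.finite_app (i ≫ A.π) (U l) (hU l)
      exact h1
    exact exists_finset_finite' _ hφ _ (i.app_surjective (W l) (hW l)) hfin
  choose s hs0 hsfin using key
  obtain ⟨J, hJle, hJfg, hJs⟩ := FTIdealSub.exists_ft_ideal_le i.ker n W hW s (by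
    intro l x hx
    rw [Scheme.Hom.ker_apply, RingHom.mem_ker]
    exact hs0 l x hx)
  refine ⟨J, hJle, hJfg, ?_⟩
  have hcov' : ⨆ l : Fin n, ((⟨U l, hU l⟩ : S.affineOpens) : S.Opens) = ⊤ := hcov
  rw [HasAffineProperty.iff_of_iSup_eq_top (P := @IsFinite)
    (fun l : Fin n => (⟨U l, hU l⟩ : S.affineOpens)) hcov']
  intro l
  refine ⟨(hU l).preimage (J.subschemeι ≫ A.π), ?_⟩
  simp only [morphismRestrict_app]
  erw [RingHom.finite_respectsIso.cancel_right_isIso]
  have hgoal : ∀ (T : S.Opens), T = U l →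
      ((J.subschemeι ≫ A.π).app T).hom.Finite := by
    rintro T rfl
    change ((J.subschemeι.app (W l)).hom.comp (A.π.app (U l)).hom).Finite
    refine hsfin l _ (J.subschemeι.app_surjective (W l) (hW l)) ?_
    intro x hx
    have h1 := hJs l x hx
    rw [← J.ker_subschemeι_app ⟨W l, hW l⟩, RingHom.mem_ker] at h1
    exact h1
  exact hgoal _ (Scheme.Opens.ι_image_top _)

section limit

variable {X S : Scheme.{u}}
  (A : QCAlg S) (i : X ⟶ A.spec) (J₀ : A.spec.IdealSheafData)

/-- the index set: ideals of finite type between `J₀` and the ideal of `X`. -/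
def Idx : Type u :=
  {J : A.spec.IdealSheafData // J₀ ≤ J ∧ J ≤ i.ker ∧ ∀ U : A.spec.affineOpens, (J.ideal U).FG}

instance : Preorder (Idx A i J₀) := Subtype.preorder _

theorem isDirected_idx : IsDirected (Idx A i J₀) (fun a b => a ≤ b) := by
  refine ⟨fun a b => ?_⟩
  refine ⟨⟨a.1 ⊔ b.1, le_sup_of_le_left a.2.1, sup_le a.2.2.1 b.2.2.1, fun U => ?_⟩, ?_, ?_⟩
  · rw [Scheme.IdealSheafData.ideal_sup]
    exact Submodule.FG.sup (a.2.2.2 U) (b.2.2.2 U)
  · exact (le_sup_left : a.1 ≤ a.1 ⊔ b.1)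
  · exact (le_sup_right : b.1 ≤ a.1 ⊔ b.1)

/-- the diagram of closed subschemes. -/
noncomputable def D : (Idx A i J₀)ᵒᵖ ⥤ Over S :=
  (Subtype.mono_coe _).functor.op ⋙ Scheme.IdealSheafData.subschemeFunctor A.spec ⋙ Over.map A.π

theorem D_obj_hom (J : (Idx A i J₀)ᵒᵖ) :
    ((D A i J₀).obj J).hom = J.unop.1.subschemeι ≫ A.π := rfl

theorem D_obj_left (J : (Idx A i J₀)ᵒᵖ) :
    ((D A i J₀).obj J).left = J.unop.1.subscheme := rfl

theorem D_map_left {J J' : (Idx A i J₀)ᵒᵖ} (a : J ⟶ J') :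
    ((D A i J₀).map a).left = Scheme.IdealSheafData.inclusion (leOfHom a.unop) := rfl

variable [IsClosedImmersion i]

/-- the canonical closed immersion of `X` into the closed subscheme cut out by a smaller ideal. -/
noncomputable def toSub (J : Idx A i J₀) : X ⟶ J.1.subscheme :=
  IsClosedImmersion.lift J.1.subschemeι i (by rw [J.1.ker_subschemeι]; exact J.2.2.1)

@[reassoc]
theorem toSub_ι (J : Idx A i J₀) : toSub A i J₀ J ≫ J.1.subschemeι = i :=
  IsClosedImmersion.lift_fac _ _ _

/-- the cone with vertex `X`. -/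
noncomputable def cone : Cone (D A i J₀) where
  pt := Over.mk (i ≫ A.π)
  π :=
    { app := fun J => Over.homMk (toSub A i J₀ J.unop) (by
        rw [D_obj_hom]
        change toSub A i J₀ J.unop ≫ J.unop.1.subschemeι ≫ A.π = i ≫ A.π
        rw [toSub_ι_assoc])
      naturality := by
        intro J J' a
        apply Over.OverMorphism.ext
        change 𝟙 X ≫ toSub A i J₀ J'.unop =
          toSub A i J₀ J.unop ≫ Scheme.IdealSheafData.inclusion (leOfHom a.unop)
        rw [Category.id_comp, ← cancel_mono J'.unop.1.subschemeι, Category.assoc,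
          Scheme.IdealSheafData.inclusion_subschemeι, toSub_ι, toSub_ι] }

end limit

section isLimit

variable {X S : Scheme.{u}} [CompactSpace S] [QuasiSeparatedSpace S]
  (A : QCAlg S) (i : X ⟶ A.spec) (J₀ : A.spec.IdealSheafData)
  (hJ₀ : J₀ ≤ i.ker) (hJ₀fg : ∀ U : A.spec.affineOpens, (J₀.ideal U).FG)

include hJ₀ hJ₀fg in
theorem exists_idx_mem (U : A.spec.affineOpens) (x : Γ(A.spec, U.1)) (hx : x ∈ i.ker.ideal U) :
    ∃ J : Idx A i J₀, x ∈ J.1.ideal U := by
  classical
  haveI : CompactSpace A.spec := QuasiCompact.compactSpace_of_compactSpace A.π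
  haveI : QuasiSeparatedSpace A.spec := quasiSeparatedSpace_of_quasiSeparated A.π
  obtain ⟨J', hle, hfg, hmem⟩ := FTIdealSub.exists_ft_ideal_le i.ker 1 (fun _ => U.1)
    (fun _ => U.2) (fun _ => {x}) (by
      intro l y hy
      rw [Finset.mem_singleton] at hy
      subst hy
      exact hx)
  refine ⟨⟨J₀ ⊔ J', le_sup_left, sup_le hJ₀ hle, fun V => ?_⟩, ?_⟩
  · rw [Scheme.IdealSheafData.ideal_sup]
    exact Submodule.FG.sup (hJ₀fg V) (hfg V)
  · have h1 : x ∈ J'.ideal U := hmem 0 x (Finset.mem_singleton_self x)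
    change x ∈ (J₀ ⊔ J').ideal U
    rw [Scheme.IdealSheafData.ideal_sup]
    exact Ideal.mem_sup_right h1

variable [IsClosedImmersion i]

include hJ₀ hJ₀fg in
theorem existsUnique_lift (t : Cone (D A i J₀)) :
    ∃! l : t.pt ⟶ (cone A i J₀).pt, ∀ J, l ≫ (cone A i J₀).π.app J = t.π.app J := by
  set j0 : Idx A i J₀ := ⟨J₀, le_rfl, hJ₀, hJ₀fg⟩ with hj0
  let tl : ∀ J : Idx A i J₀, t.pt.left ⟶ J.1.subscheme := fun J => (t.π.app (op J)).left
  let τ : t.pt.left ⟶ A.spec := tl j0 ≫ J₀.subschemeι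
  have hτ : ∀ J : Idx A i J₀, tl J ≫ J.1.subschemeι = τ := by
    intro J
    have hle : j0 ≤ J := J.2.1
    have hnat := t.w (homOfLE hle).op
    have h1 : tl J ≫ Scheme.IdealSheafData.inclusion (show j0.1 ≤ J.1 from hle) = tl j0 :=
      congrArg (fun m => m.left) hnat
    change tl J ≫ J.1.subschemeι = tl j0 ≫ j0.1.subschemeι
    rw [← h1, Category.assoc, Scheme.IdealSheafData.inclusion_subschemeι]
  have hker : i.ker ≤ τ.ker := by
    refine (Scheme.IdealSheafData.le_ofIdeals_iff
      (J := fun U => RingHom.ker (τ.app U).hom)).mpr fun U x hx => ?_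
    obtain ⟨J, hJ⟩ := exists_idx_mem A i J₀ hJ₀ hJ₀fg U x hx
    have h0 : (J.1.subschemeι.app U).hom x = 0 := by
      rw [← RingHom.mem_ker, J.1.ker_subschemeι_app]; exact hJ
    have h2 : ∀ (σ : t.pt.left ⟶ A.spec), σ = tl J ≫ J.1.subschemeι → (σ.app U).hom x = 0 := by
      rintro σ rfl
      change ((tl J).app (J.1.subschemeι ⁻¹ᵁ U)).hom ((J.1.subschemeι.app U).hom x) = 0
      rw [h0, map_zero]
    exact h2 τ (hτ J).symm
  let ℓ : t.pt.left ⟶ X := IsClosedImmersion.lift i τ hker
  have hℓ : ℓ ≫ i = τ := IsClosedImmersion.lift_fac _ _ _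
  have hw : ℓ ≫ (i ≫ A.π) = t.pt.hom := by
    rw [← Category.assoc, hℓ]
    have h1 := Over.w (t.π.app (op j0))
    rw [D_obj_hom] at h1
    change (tl j0 ≫ J₀.subschemeι) ≫ A.π = t.pt.hom
    rw [Category.assoc]
    exact h1
  refine ⟨Over.homMk ℓ hw, ?_, ?_⟩
  · intro J
    apply Over.OverMorphism.ext
    change ℓ ≫ toSub A i J₀ J.unop = tl J.unop
    rw [← cancel_mono J.unop.1.subschemeι, Category.assoc, toSub_ι, hℓ, hτ]
  · intro m hm
    apply Over.OverMorphism.ext
    let ml : t.pt.left ⟶ X := m.left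
    have h1 : ml ≫ toSub A i J₀ j0 = tl j0 := congrArg (fun m => m.left) (hm (op j0))
    have h2 : ml ≫ i = ℓ ≫ i := by
      rw [hℓ]
      calc ml ≫ i = ml ≫ (toSub A i J₀ j0 ≫ j0.1.subschemeι) := by rw [toSub_ι]
        _ = (ml ≫ toSub A i J₀ j0) ≫ j0.1.subschemeι := (Category.assoc _ _ _).symm
        _ = tl j0 ≫ j0.1.subschemeι := by rw [h1]
    exact (cancel_mono i).mp h2

/-- `X` is the limit of the closed subschemes cut out by the ideals of finite type. -/
def isLimit : IsLimit (cone A i J₀) :=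
  IsLimit.ofExistsUnique (existsUnique_lift A i J₀ hJ₀ hJ₀fg)

end isLimit

theorem isClosedImmersion_inclusion {V : Scheme.{u}} {I J : V.IdealSheafData} (h : I ≤ J) :
    IsClosedImmersion (Scheme.IdealSheafData.inclusion h) := by
  haveI : IsClosedImmersion (Scheme.IdealSheafData.inclusion h ≫ I.subschemeι) := by
    rw [Scheme.IdealSheafData.inclusion_subschemeι]; infer_instance
  exact IsClosedImmersion.of_comp _ I.subschemeι

/-- **Stacks 09YY (finite case)**. -/
theorem main {X S : Scheme.{u}} (f : X ⟶ S) [IsFinite f]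
    [CompactSpace S] [QuasiSeparatedSpace S] :
    ∃ (I : Type u) (_ : Preorder I) (_ : IsDirected I (fun a b => a ≤ b)) (_ : Nonempty I)
      (D : Iᵒᵖ ⥤ Over S) (c : Limits.Cone D) (_ : Limits.IsLimit c),
      (∀ i, IsFinite (D.obj i).hom ∧ LocallyOfFinitePresentation (D.obj i).hom) ∧
      (∀ (i j : Iᵒᵖ) (a : i ⟶ j), IsClosedImmersion (D.map a).left) ∧
      Nonempty (c.pt ≅ Over.mk f) := by
  obtain ⟨A, i, hi, hif, hAfp⟩ := exists_closedImmersion_affine_fp f
  subst hif
  haveI : LocallyOfFiniteType A.π := inferInstance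
  obtain ⟨J₀, hJ₀, hJ₀fg, hfin⟩ := exists_ft_ideal_finite A i
  haveI := hfin
  haveI := hAfp
  refine ⟨Idx A i J₀, inferInstance, isDirected_idx A i J₀, ⟨⟨J₀, le_rfl, hJ₀, hJ₀fg⟩⟩,
    D A i J₀, cone A i J₀, isLimit A i J₀ hJ₀ hJ₀fg, ?_, ?_, ⟨Iso.refl _⟩⟩
  · intro J
    rw [D_obj_hom]
    constructor
    · have h1 : J.unop.1.subschemeι ≫ A.π =
          Scheme.IdealSheafData.inclusion J.unop.2.1 ≫ (J₀.subschemeι ≫ A.π) := by
        rw [Scheme.IdealSheafData.inclusion_subschemeι_assoc]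
      rw [h1]
      have h2 : IsFinite (Scheme.IdealSheafData.inclusion J.unop.2.1) := by
        haveI := isClosedImmersion_inclusion J.unop.2.1
        infer_instance
      exact MorphismProperty.comp_mem @IsFinite _ _ h2 hfin
    · have h2 := Groth.Agent.Lib.Helper48.PrFP.lfp_subschemeι J.unop.1 J.unop.2.2.2
      exact MorphismProperty.comp_mem @LocallyOfFinitePresentation _ _ h2 hAfp
  · intro J J' a
    rw [D_map_left]
    exact isClosedImmersion_inclusion _

end Groth.Agent.Lib.Helper50.FinLim
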