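import Groth.Agent.Lib.Helper50.FinSubLim
import Groth.Agent.Lib.Helper50.Descent8
import Groth.Agent.Lib.Helper33.ZetaPts

/-!
# Orbits of rational points under endomorphisms over algebraic extensions of finite fields

Let `k` be an algebraic extension of a finite field, `X` a `k`-scheme of finite type, `r` a
`k`-endomorphism of `X` and `a` a `k`-rational point. Then the orbit `a, r(a), r²(a), …` is finite:
everything is defined over a finite field.
-/

set_option autoImplicit false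
universe u
open CategoryTheory CategoryTheory.Limits AlgebraicGeometry Opposite

namespace Groth.Agent.Lib.Helper50.FinOrbit

open Groth.Agent.Lib.Helper50 Groth.Agent.Lib.Helper50.Descent

theorem exists_ne_iterate_eq (k₀ k : Type u) [Field k₀] [Finite k₀] [Field k] [Algebra k₀ k]
    [Algebra.IsAlgebraic k₀ k] {X : Scheme.{u}} (f : X ⟶ Spec (CommRingCat.of k))
    [LocallyOfFiniteType f] [QuasiCompact f] [QuasiSeparatedSpace X]
    (r : X ⟶ X) (hr : r ≫ f = f) (pts : ℕ → (Spec (CommRingCat.of k) ⟶ X))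
    (h0 : pts 0 ≫ f = 𝟙 _) (hpts : ∀ n, pts (n + 1) = pts n ≫ r) :
    ∃ n m : ℕ, n ≠ m ∧ pts n = pts m := by
  let D := finSpecDiagram k₀ k
  let c := finSpecCone k₀ k
  have hc : IsLimit c := isLimitFinSpecCone k₀ k
  haveI : CompactSpace X := QuasiCompact.compactSpace_of_compactSpace f
  haveI : LocallyOfFinitePresentation (Y := c.pt) f :=
    (LocallyOfFinitePresentation.iff_locallyOfFiniteType (f := f)).mpr inferInstance
  obtain ⟨i, Xi, gi, q, h1, h2, h3, hpb⟩ := descends_of_finitePresentation D c hc (f : X ⟶ c.pt)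
  -- descend `r`
  obtain ⟨i₁, ψ₁, g, hg1, hg2⟩ := exists_hom_descent D c hc hpb gi (r ≫ q) (by
    rw [Category.assoc, hpb.w, ← Category.assoc]
    exact congrArg (· ≫ c.π.app i) hr)
  have hp₁ := IsPullback.of_hasPullback gi (D.map ψ₁)
  obtain ⟨q₁, hq₁⟩ : ∃ q₁ : X ⟶ pullback gi (D.map ψ₁), q₁ = rebaseQ (D := D) (c := c) hpb hp₁ := ⟨rebaseQ (D := D) (c := c) hpb hp₁, rfl⟩
  have hq₁f : q₁ ≫ pullback.fst gi (D.map ψ₁) = q := by rw [hq₁]; exact rebaseQ_fst (D := D) (c := c) hpb hp₁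
  have hq₁s : q₁ ≫ pullback.snd gi (D.map ψ₁) = f ≫ c.π.app i₁ := by
    rw [hq₁]; exact rebaseQ_snd (D := D) (c := c) hpb hp₁
  have hpb₁ : IsPullback q₁ f (pullback.snd gi (D.map ψ₁)) (c.π.app i₁) := by
    rw [hq₁]; exact isPullback_rebaseQ (D := D) (c := c) hpb hp₁
  have hq₁g : q₁ ≫ g = r ≫ q := by rw [hq₁]; exact hg1
  obtain ⟨r₁, hr₁f, hr₁s⟩ : ∃ r₁ : pullback gi (D.map ψ₁) ⟶ pullback gi (D.map ψ₁),
      r₁ ≫ pullback.fst gi (D.map ψ₁) = g ∧
      r₁ ≫ pullback.snd gi (D.map ψ₁) = pullback.snd gi (D.map ψ₁) :=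
    ⟨pullback.lift g (pullback.snd gi (D.map ψ₁)) (hg2.trans pullback.condition),
      pullback.lift_fst _ _ _, pullback.lift_snd _ _ _⟩
  have hqr : q₁ ≫ r₁ = r ≫ q₁ := by
    apply pullback.hom_ext
    · rw [Category.assoc, hr₁f, hq₁g, Category.assoc, hq₁f]
    · rw [Category.assoc, hr₁s, hq₁s, Category.assoc, hq₁s, ← Category.assoc]
      exact (congrArg (· ≫ c.π.app i₁) hr).symm
  -- descend the point
  haveI : LocallyOfFinitePresentation gi := h1
  haveI : LocallyOfFinitePresentation (pullback.snd gi (D.map ψ₁)) :=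
    locallyOfFinitePresentation_of_rebase hp₁
  haveI : CompactSpace ↥(pullback gi (D.map ψ₁)) := compactSpace_of_rebase hp₁
  have hW₀ : IsPullback (c.π.app i₁) (𝟙 c.pt) (𝟙 (D.obj i₁)) (c.π.app i₁) :=
    IsPullback.id_vert (c.π.app i₁)
  obtain ⟨i₂, ψ₂, s, hs1, hs2⟩ := exists_hom_descent D c hc hW₀ (pullback.snd gi (D.map ψ₁))
    (pts 0 ≫ q₁) (by
      rw [Category.assoc, hq₁s, ← Category.assoc]
      exact congrArg (· ≫ c.π.app i₁) h0)
  have hpT := IsPullback.of_hasPullback (𝟙 (D.obj i₁)) (D.map ψ₂)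
  obtain ⟨π, hπ⟩ : ∃ π : Spec (CommRingCat.of k) ⟶ pullback (𝟙 (D.obj i₁)) (D.map ψ₂),
      π = rebaseQ (D := D) (c := c) hW₀ hpT := ⟨rebaseQ (D := D) (c := c) hW₀ hpT, rfl⟩
  have hπs : π ≫ s = pts 0 ≫ q₁ := by rw [hπ]; exact hs1
  have hs2' : s ≫ pullback.snd gi (D.map ψ₁) = pullback.fst (𝟙 (D.obj i₁)) (D.map ψ₂) := by
    rw [hs2]; exact Category.comp_id _
  obtain ⟨b, hb0, hbS⟩ : ∃ b : ℕ → (pullback (𝟙 (D.obj i₁)) (D.map ψ₂) ⟶ pullback gi (D.map ψ₁)),
      b 0 = s ∧ ∀ n, b (n + 1) = b n ≫ r₁ :=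
    ⟨fun n => Nat.rec s (fun _ x => x ≫ r₁) n, rfl, fun _ => rfl⟩
  have hbg : ∀ n, b n ≫ pullback.snd gi (D.map ψ₁) = pullback.fst (𝟙 (D.obj i₁)) (D.map ψ₂) := by
    intro n
    induction n with
    | zero => rw [hb0]; exact hs2'
    | succ n ih => rw [hbS, Category.assoc, hr₁s, ih]
  have hπb : ∀ n, π ≫ b n = pts n ≫ q₁ := by
    intro n
    induction n with
    | zero => rw [hb0]; exact hπs
    | succ n ih => rw [hbS, ← Category.assoc, ih, Category.assoc, hqr, hpts, Category.assoc]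
  have hptsf : ∀ n, pts n ≫ f = 𝟙 _ := by
    intro n
    induction n with
    | zero => exact h0
    | succ n ih => rw [hpts, Category.assoc, hr, ih]
  -- finiteness of the set of points over the finite field
  haveI : FiniteDimensional k₀ i₁.unop.1 := i₁.unop.2
  haveI : Finite i₁.unop.1 := Module.finite_of_finite k₀
  haveI : FiniteDimensional k₀ i₂.unop.1 := i₂.unop.2
  haveI : Finite i₂.unop.1 := Module.finite_of_finite k₀
  letI : Algebra i₁.unop.1 i₂.unop.1 :=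
    (IntermediateField.inclusion (leOfHom ψ₂.unop)).toRingHom.toAlgebra
  have hqc : QuasiCompact (pullback.snd gi (D.map ψ₁)) := by
    rw [quasiCompact_iff_compactSpace]; infer_instance
  have hlft : LocallyOfFiniteType (pullback.snd gi (D.map ψ₁)) := inferInstance
  have hfin : Finite {g' : D.obj i₂ ⟶ pullback gi (D.map ψ₁) //
      g' ≫ pullback.snd gi (D.map ψ₁) = D.map ψ₂} :=
    @Groth.Agent.Lib.Helper33.ZetaPts.finite_points i₁.unop.1 _ _ (pullback gi (D.map ψ₁))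
      (pullback.snd gi (D.map ψ₁)) i₂.unop.1 _ _ _ hlft hqc
  haveI : IsIso (pullback.snd (𝟙 (D.obj i₁)) (D.map ψ₂)) := hpT.isIso_snd_of_isIso
  have hcT : pullback.fst (𝟙 (D.obj i₁)) (D.map ψ₂) =
      pullback.snd (𝟙 (D.obj i₁)) (D.map ψ₂) ≫ D.map ψ₂ := by
    have := pullback.condition (f := 𝟙 (D.obj i₁)) (g := D.map ψ₂)
    rwa [Category.comp_id] at this
  obtain ⟨e, he1, he2⟩ : ∃ e : D.obj i₂ ⟶ pullback (𝟙 (D.obj i₁)) (D.map ψ₂),
      e ≫ pullback.fst (𝟙 (D.obj i₁)) (D.map ψ₂) = D.map ψ₂ ∧ Epi e :=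
    ⟨inv (pullback.snd (𝟙 (D.obj i₁)) (D.map ψ₂)), by
      rw [hcT, IsIso.inv_hom_id_assoc], inferInstance⟩
  let Φ : ℕ → {g' : D.obj i₂ ⟶ pullback gi (D.map ψ₁) //
      g' ≫ pullback.snd gi (D.map ψ₁) = D.map ψ₂} := fun n =>
    ⟨e ≫ b n, by rw [Category.assoc, hbg, he1]⟩
  obtain ⟨n, m, hnm, hΦ⟩ := Finite.exists_ne_map_eq_of_infinite Φ
  have hbnm : b n = b m := by
    have := congrArg Subtype.val hΦ
    exact (cancel_epi e).mp this
  refine ⟨n, m, hnm, ?_⟩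
  apply hpb₁.hom_ext
  · rw [← hπb, ← hπb, hbnm]
  · rw [hptsf, hptsf]

end Groth.Agent.Lib.Helper50.FinOrbit
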