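import Groth.Agent.Lib.Helper40.ExtFP1
import Groth.Agent.Lib.Helper40.SubSh4
import Groth.Agent.Lib.Helper21.QCohSections
import Groth.Agent.Lib.Lead.CohAff3

/-!
# An epimorphism from a coproduct onto a finite-type quasi-coherent module on a quasi-compact scheme
restricts to an epimorphism from a finite sub-coproduct
-/

set_option autoImplicit false
universe u
open CategoryTheory CategoryTheory.Limits AlgebraicGeometry TopologicalSpace Opposite

namespace Groth.Agent.Lib.Helper50.FinSubCoprod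

open Groth.Agent.Lib.Helper40.SSh Groth.Agent.Lib.Helper40.SSh.SubSh Groth.Agent.Lib.Lead.QCohAff
  Groth.Agent.Lib.Helper21.QCohSections

variable {X : Scheme.{u}} {κ : Type u} {F : κ → X.Modules} {G : X.Modules} (ψ : ∀ k, F k ⟶ G)

/-- The sum of the images of the `ψ k` on sections. -/
noncomputable def sumObj (U : X.Opens) : Submodule Γ(X, U) Γ(G, U) :=
  ⨆ k, LinearMap.range (appL (ψ k) U)

theorem sumObj_res {U U' : X.Opens} (h : U' ≤ U) {g : Γ(G, U)} (hg : g ∈ sumObj ψ U) :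
    G.presheaf.map (homOfLE h).op g ∈ sumObj ψ U' := by
  induction hg using Submodule.iSup_induction' with
  | mem k g hg =>
    obtain ⟨z, rfl⟩ := hg
    refine Submodule.mem_iSup_of_mem k ⟨(F k).presheaf.map (homOfLE h).op z, ?_⟩
    exact congr($((ψ k).mapPresheaf.naturality (homOfLE h).op).hom z)
  | zero => rw [map_zero]; exact Submodule.zero_mem _
  | add a b _ _ ha hb => rw [map_add]; exact Submodule.add_mem _ ha hb

/-- The subsheaf of sections locally in the sum of the images. -/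
noncomputable def locSub : SubSh G where
  obj U :=
    { carrier := {g | ∀ x ∈ U, ∃ (U' : X.Opens) (h : U' ≤ U), x ∈ U' ∧
        G.presheaf.map (homOfLE h).op g ∈ sumObj ψ U'}
      add_mem' := by
        intro a b ha hb x hx
        obtain ⟨Ta, h1a, hxa, hma⟩ := ha x hx
        obtain ⟨Tb, h1b, hxb, hmb⟩ := hb x hx
        refine ⟨Ta ⊓ Tb, inf_le_left.trans h1a, ⟨hxa, hxb⟩, ?_⟩
        rw [map_add]
        apply Submodule.add_mem
        · have := sumObj_res ψ (inf_le_left : Ta ⊓ Tb ≤ Ta) hma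
          rwa [res_res] at this
        · have := sumObj_res ψ (inf_le_right : Ta ⊓ Tb ≤ Tb) hmb
          rwa [res_res] at this
      zero_mem' := by
        intro x hx
        exact ⟨U, le_rfl, hx, by rw [map_zero]; exact Submodule.zero_mem _⟩
      smul_mem' := by
        intro r a ha x hx
        obtain ⟨Ta, h1a, hxa, hma⟩ := ha x hx
        refine ⟨Ta, h1a, hxa, ?_⟩
        rw [res_smul]
        exact Submodule.smul_mem _ _ hma }
  res_mem := by
    intro T T' h s hs x hx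
    obtain ⟨Ta, h1a, hxa, hma⟩ := hs x (h hx)
    refine ⟨Ta ⊓ T', inf_le_right, ⟨hxa, hx⟩, ?_⟩
    rw [res_res]
    have := sumObj_res ψ (inf_le_left : Ta ⊓ T' ≤ Ta) hma
    rwa [res_res] at this

theorem locSub_isLocal : (locSub ψ).IsLocal := by
  intro T s hs x hx
  obtain ⟨T', h, hxT', hm⟩ := hs x hx
  obtain ⟨T'', h', hxT'', hm'⟩ := hm x hxT'
  refine ⟨T'', h'.trans h, hxT'', ?_⟩
  rwa [res_res] at hm'

theorem mem_locSub_of_epi (hπ : Epi (Sigma.desc ψ)) (U : X.Opens) (g : Γ(G, U)) :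
    g ∈ (locSub ψ).obj U := by
  have hloc := locSub_isLocal ψ
  have hfac : ∀ k, ∃ r : F k ⟶ (locSub ψ).toMod hloc, r ≫ (locSub ψ).ι hloc = ψ k := by
    intro k
    refine exists_factor_of_range_le (ψ k) ((locSub ψ).ι hloc) fun T a => ?_
    have hmem : (ψ k).app T a ∈ (locSub ψ).obj T := by
      intro x hx
      refine ⟨T, le_rfl, hx, ?_⟩
      rw [res_self]
      exact Submodule.mem_iSup_of_mem k ⟨a, rfl⟩
    exact ⟨(locSub ψ).sec hloc ⟨_, hmem⟩, rfl⟩
  choose r hr using hfac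
  have h1 : Sigma.desc r ≫ (locSub ψ).ι hloc = Sigma.desc ψ := by
    apply Sigma.hom_ext
    intro k
    rw [Sigma.ι_desc_assoc, Sigma.ι_desc, hr]
  haveI : Epi (Sigma.desc r ≫ (locSub ψ).ι hloc) := by rw [h1]; exact hπ
  haveI : Epi ((locSub ψ).ι hloc) := epi_of_epi (Sigma.desc r) _
  haveI : IsIso ((locSub ψ).ι hloc) := isIso_of_mono_of_epi _
  have h2 : (locSub ψ).ι hloc ≫ inv ((locSub ψ).ι hloc) = 𝟙 _ := IsIso.hom_inv_id _
  have h3 : inv ((locSub ψ).ι hloc) ≫ (locSub ψ).ι hloc = 𝟙 _ := IsIso.inv_hom_id _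
  have h4 : ((locSub ψ).ι hloc).app U ((inv ((locSub ψ).ι hloc)).app U g) = g := by
    have := congr(($h3).app U g)
    exact this
  rw [← h4, ι_app_apply]
  exact val_mem _ _ _

theorem exists_affine_nbhd_finset [G.IsQuasicoherent]
    (hft : SheafOfModules.IsFiniteType (R := X.ringCatSheaf) G) (hπ : Epi (Sigma.desc ψ)) (x : X) :
    ∃ (W : X.Opens), IsAffineOpen W ∧ x ∈ W ∧ ∃ s : Finset κ,
      (⊤ : Submodule Γ(X, W) Γ(G, W)) ≤ ⨆ k ∈ s, LinearMap.range (appL (ψ k) W) := by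
  classical
  obtain ⟨U, hU, hxU, -⟩ :=
    Opens.isBasis_iff_nbhd.mp X.isBasis_affineOpens (U := ⊤) (Opens.mem_top x)
  haveI : Module.Finite Γ(X, U) Γ(G, U) :=
    Groth.Agent.Lib.Lead.CohAff.finite_sections_of_isFiniteType G hft hU
  obtain ⟨t, ht⟩ : (⊤ : Submodule Γ(X, U) Γ(G, U)).FG := Module.Finite.fg_top
  have key : ∀ t' : Finset Γ(G, U), ∃ h : Γ(X, U), x ∈ X.basicOpen h ∧ ∀ g ∈ t',
      G.presheaf.map (homOfLE (X.basicOpen_le h)).op g ∈ sumObj ψ (X.basicOpen h) := by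
    intro t'
    induction t' using Finset.induction_on with
    | empty =>
      refine ⟨1, ?_, fun g hg => (Finset.notMem_empty g hg).elim⟩
      rw [Scheme.basicOpen_of_isUnit _ isUnit_one]; exact hxU
    | insert a t' ha ih =>
      obtain ⟨h₁, hx₁, hm₁⟩ := ih
      obtain ⟨U', hU'U, hxU', hmem⟩ := mem_locSub_of_epi ψ hπ U a x hxU
      obtain ⟨h₂, hh₂, hx₂⟩ := hU.exists_basicOpen_le (V := U') ⟨x, hxU'⟩ hxU
      refine ⟨h₁ * h₂, ?_, ?_⟩
      · rw [Scheme.basicOpen_mul]; exact ⟨hx₁, hx₂⟩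
      · intro g hg
        rcases Finset.mem_insert.mp hg with rfl | hg
        · have hle : X.basicOpen (h₁ * h₂) ≤ U' := by
            rw [Scheme.basicOpen_mul]; exact inf_le_right.trans hh₂
          have := sumObj_res ψ hle hmem
          rwa [res_res] at this
        · have hle : X.basicOpen (h₁ * h₂) ≤ X.basicOpen h₁ := by
            rw [Scheme.basicOpen_mul]; exact inf_le_left
          have := sumObj_res ψ hle (hm₁ g hg)
          rwa [res_res] at this
  obtain ⟨h, hxh, hm⟩ := key t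
  refine ⟨X.basicOpen h, hU.basicOpen h, hxh, ?_⟩
  have hspan := Groth.Agent.Lib.Helper40.ExtFP.span_res_eq_top G hU (hU.basicOpen h)
    (X.basicOpen_le h) (t : Set Γ(G, U)) ht
  have hle : (⊤ : Submodule Γ(X, X.basicOpen h) Γ(G, X.basicOpen h)) ≤
      sumObj ψ (X.basicOpen h) := by
    rw [← hspan]
    refine Submodule.span_le.mpr ?_
    rintro _ ⟨g, hg, rfl⟩
    exact hm g hg
  haveI : Module.Finite Γ(X, X.basicOpen h) Γ(G, X.basicOpen h) :=
    Groth.Agent.Lib.Lead.CohAff.finite_sections_of_isFiniteType G hft (hU.basicOpen h)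
  have hc : IsCompactElement (⊤ : Submodule Γ(X, X.basicOpen h) Γ(G, X.basicOpen h)) :=
    (Submodule.fg_iff_compact _).mp Module.Finite.fg_top
  exact CompleteLattice.IsCompactElement.exists_finset_of_le_iSup _ hc _ hle

/-- An epimorphism from a coproduct onto a quasi-coherent module of finite type on a quasi-compact scheme restricts
to an epimorphism from a finite sub-coproduct. -/
theorem exists_finset_epi [CompactSpace X] [G.IsQuasicoherent]
    (hft : SheafOfModules.IsFiniteType (R := X.ringCatSheaf) G) (hπ : Epi (Sigma.desc ψ)) :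
    ∃ s : Finset κ, Epi (Sigma.desc (fun k : s => ψ k.1)) := by
  classical
  choose W hW hxW s hs using exists_affine_nbhd_finset ψ hft hπ
  obtain ⟨t, ht⟩ := isCompact_univ.elim_finite_subcover (fun x => (W x : Set X))
    (fun x => (W x).isOpen) (fun x _ => Set.mem_iUnion.mpr ⟨x, hxW x⟩)
  refine ⟨t.biUnion s, ?_⟩
  refine Groth.Agent.Lib.Helper40.ExtFP.epi_of_affine_cover _ {V | ∃ x ∈ t, V = W x} ?_ ?_ ?_
  · rintro V ⟨x, -, rfl⟩; exact hW x
  · intro y
    obtain ⟨x, hx⟩ := Set.mem_iUnion.mp (ht (Set.mem_univ y))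
    obtain ⟨hxt, hy⟩ := Set.mem_iUnion.mp hx
    exact ⟨W x, ⟨x, hxt, rfl⟩, hy⟩
  · rintro V ⟨x, hxt, rfl⟩ g
    have h1 : g ∈ ⨆ k ∈ s x, LinearMap.range (appL (ψ k) (W x)) := hs x Submodule.mem_top
    have h2 : (⨆ k ∈ s x, LinearMap.range (appL (ψ k) (W x))) ≤
        LinearMap.range (appL (Sigma.desc (fun k : ↥(t.biUnion s) => ψ k.1)) (W x)) := by
      refine iSup₂_le fun k hk => ?_
      rintro _ ⟨z, rfl⟩
      have hk' : k ∈ t.biUnion s := Finset.mem_biUnion.mpr ⟨x, hxt, hk⟩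
      refine ⟨(Sigma.ι (fun k : ↥(t.biUnion s) => F k.1) ⟨k, hk'⟩).app (W x) z, ?_⟩
      have := Sigma.ι_desc (fun k : ↥(t.biUnion s) => ψ k.1) ⟨k, hk'⟩
      exact congr(($this).app (W x) z)
    obtain ⟨z, hz⟩ := h2 h1
    exact ⟨z, hz⟩

end Groth.Agent.Lib.Helper50.FinSubCoprod
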