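import Groth.Agent.Lib.Helper50.Descent1

/-!
# Gluing morphisms along a cover by two open immersions
-/

set_option autoImplicit false
universe u
open CategoryTheory CategoryTheory.Limits AlgebraicGeometry

namespace Groth.Agent.Lib.Helper50.Descent

variable {X A B Y : Scheme.{u}} (a : A ⟶ X) (b : B ⟶ X) [IsOpenImmersion a] [IsOpenImmersion b]
  (hcov : ∀ x : X, x ∈ Set.range a ∨ x ∈ Set.range b)

include hcov in
/-- Morphisms out of `X` are determined by their restrictions to two covering opens. -/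
lemma hom_ext_of_two {g g' : X ⟶ Y} (h1 : a ≫ g = a ≫ g') (h2 : b ≫ g = b ≫ g') : g = g' := by
  refine (coverOfTwo a b hcov).hom_ext _ _ ?_
  rintro (_ | _)
  · exact h1
  · exact h2

include hcov in
/-- Gluing two morphisms which agree on the intersection. -/
lemma exists_glue_hom (fa : A ⟶ Y) (fb : B ⟶ Y)
    (hab : pullback.fst a b ≫ fa = pullback.snd a b ≫ fb) :
    ∃ g : X ⟶ Y, a ≫ g = fa ∧ b ≫ g = fb := by
  let 𝒰 := coverOfTwo a b hcov
  have hba : pullback.fst b a ≫ fb = pullback.snd b a ≫ fa := by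
    rw [← pullbackSymmetry_hom_comp_snd_assoc, ← pullbackSymmetry_hom_comp_fst_assoc b a, hab]
  have haa : pullback.fst a a = pullback.snd a a := (cancel_mono a).mp pullback.condition
  have hbb : pullback.fst b b = pullback.snd b b := (cancel_mono b).mp pullback.condition
  let g : ∀ i : 𝒰.I₀, 𝒰.X i ⟶ Y := fun i ↦
    Bool.rec (motive := fun i ↦ (𝒰.X i ⟶ Y)) fa fb i
  have hg : ∀ x y, pullback.fst (𝒰.f x) (𝒰.f y) ≫ g x = pullback.snd _ _ ≫ g y := by
    rintro (_ | _) (_ | _)
    · change pullback.fst a a ≫ _ = pullback.snd a a ≫ _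
      rw [haa]
    · exact hab
    · exact hba
    · change pullback.fst b b ≫ _ = pullback.snd b b ≫ _
      rw [hbb]
  exact ⟨𝒰.glueMorphisms g hg, 𝒰.ι_glueMorphisms g hg false, 𝒰.ι_glueMorphisms g hg true⟩

end Groth.Agent.Lib.Helper50.Descent
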