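import Mathlib

/-!
# Immersions from local closed immersions
-/

set_option autoImplicit false
universe u
open CategoryTheory CategoryTheory.Limits AlgebraicGeometry TopologicalSpace Opposite

namespace Groth.Agent.Lib.Helper50.ImmLoc

/-- a morphism whose restriction over an affine open with affine preimage is surjective on sections is a
closed immersion over this open. -/
theorem isClosedImmersion_morphismRestrict_of_surjective {X Z : Scheme.{u}} (g : X ⟶ Z) (D : Z.Opens)
    (hD : IsAffineOpen D) (hX : IsAffineOpen (g ⁻¹ᵁ D)) (hs : Function.Surjective (g.app D).hom) :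
    IsClosedImmersion (g ∣_ D) := by
  have : IsAffine D.toScheme := hD
  have : IsAffine (g ⁻¹ᵁ D).toScheme := hX
  apply IsClosedImmersion.of_surjective_of_isAffine
  rw [morphismRestrict_appTop]
  have key : ∀ (D' : Z.Opens) (e : D' = D) (W : X.Opens) (hW : W = g ⁻¹ᵁ D'),
      Function.Surjective (g.app D' ≫ X.presheaf.map (eqToHom hW).op).hom := by
    rintro D' rfl W rfl
    simpa using hs
  exact key _ D.ι_image_top _ _

/-- a morphism which is, locally on a family of opens of the target whose preimages cover the source,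
a closed immersion, is an immersion. -/
theorem isImmersion_of_locally_isClosedImmersion {X Z : Scheme.{u}} (g : X ⟶ Z) {ι : Type*}
    (D : ι → Z.Opens) (hcov : ∀ x : X, ∃ k, g x ∈ D k) (h : ∀ k, IsClosedImmersion (g ∣_ D k)) :
    IsImmersion g := by
  set W : Z.Opens := ⨆ k, D k with hWdef
  have hW : g ⁻¹ᵁ W = ⊤ := by
    rw [eq_top_iff]
    intro x _
    obtain ⟨k, hk⟩ := hcov x
    exact Opens.mem_iSup.mpr ⟨k, hk⟩
  have hsup : ⨆ k, W.ι ⁻¹ᵁ D k = ⊤ := by
    rw [eq_top_iff]
    rintro ⟨z, hz⟩ _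
    obtain ⟨k, hk⟩ := Opens.mem_iSup.mp hz
    exact Opens.mem_iSup.mpr ⟨k, hk⟩
  have hcl : IsClosedImmersion (g ∣_ W) := by
    refine IsZariskiLocalAtTarget.of_iSup_eq_top (P := @IsClosedImmersion)
      (fun k => W.ι ⁻¹ᵁ D k) hsup fun k => ?_
    have e : W.ι ''ᵁ (W.ι ⁻¹ᵁ D k) = D k := by
      rw [Scheme.Hom.image_preimage_eq_opensRange_inf, Scheme.Opens.opensRange_ι]
      exact inf_eq_right.mpr (le_iSup D k)
    exact (MorphismProperty.arrow_mk_iso_iff @IsClosedImmersion
      (morphismRestrictRestrict g W (W.ι ⁻¹ᵁ D k) ≪≫ morphismRestrictEq g e)).mpr (h k)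
  have hiso : IsIso (g ⁻¹ᵁ W).ι := by
    rw [hW]
    exact ⟨X.topIso.inv, X.topIso.hom_inv_id, X.topIso.inv_hom_id⟩
  have hfac : g = inv (g ⁻¹ᵁ W).ι ≫ (g ∣_ W) ≫ W.ι := by
    rw [morphismRestrict_ι, IsIso.inv_hom_id_assoc]
  rw [hfac]
  infer_instance

end Groth.Agent.Lib.Helper50.ImmLoc
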