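import Groth.Agent.Lib.Helper50.QCAlgSpecLim
import Groth.Agent.Lib.Helper50.ImmLoc
import Groth.Agent.Lib.Helper50.FTSubAlg

/-!
# Immersions into a relative spectrum factor through a subalgebra of finite type
-/

set_option autoImplicit false
universe u
open CategoryTheory CategoryTheory.Limits AlgebraicGeometry TopologicalSpace Opposite

noncomputable section

namespace Groth.Agent.Lib.Helper50.ImmSub

open RelSpec Groth.Agent.Lib.Helper6 Groth.Agent.Lib.Helper50.QCAlgSpecLim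

variable {Y : Scheme.{u}}

section sec

variable (C : QCAlg Y) (V : Y.Opens) (hV : IsAffineOpen V)

/-- the section of `Spec C` over `π⁻¹ V` attached to a section of `C` over an affine `V`. -/
def sec (a : C.presheaf.obj (op V)) : Γ(C.spec, C.π ⁻¹ᵁ V) :=
  haveI := Groth.Agent.S8255.isIso_gammaAff C V hV
  (inv (C.gammaAff V hV)).hom a

theorem gammaAff_sec (a : C.presheaf.obj (op V)) : (C.gammaAff V hV).hom (sec C V hV a) = a := by
  haveI := Groth.Agent.S8255.isIso_gammaAff C V hV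
  unfold sec
  rw [← CommRingCat.comp_apply, IsIso.inv_hom_id]
  rfl

theorem sec_gammaAff (t : Γ(C.spec, C.π ⁻¹ᵁ V)) : sec C V hV ((C.gammaAff V hV).hom t) = t := by
  haveI := Groth.Agent.S8255.isIso_gammaAff C V hV
  unfold sec
  rw [← CommRingCat.comp_apply, IsIso.hom_inv_id]
  rfl

theorem sec_injective_aux {s t : Γ(C.spec, C.π ⁻¹ᵁ V)}
    (h : (C.gammaAff V hV).hom s = (C.gammaAff V hV).hom t) : s = t := by
  rw [← sec_gammaAff C V hV s, ← sec_gammaAff C V hV t, h]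

/-- the basic open of `Spec C` attached to `h ∈ C(V)`. -/
def dop (h : C.presheaf.obj (op V)) : C.spec.Opens := C.spec.basicOpen (sec C V hV h)

theorem dop_le (h : C.presheaf.obj (op V)) : dop C V hV h ≤ C.π ⁻¹ᵁ V := C.spec.basicOpen_le _

theorem isAffineOpen_dop (h : C.presheaf.obj (op V)) : IsAffineOpen (dop C V hV h) :=
  (hV.preimage C.π).basicOpen _

end sec

section specMap

variable {C' C : QCAlg Y} (φ : C' ⟶ C) (V : Y.Opens) (hV : IsAffineOpen V)

theorem specMap_appLE_sec (a' : C'.presheaf.obj (op V)) :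
    ((QCAlg.specMap φ).appLE (C'.π ⁻¹ᵁ V) (C.π ⁻¹ᵁ V)
      (AffUniv.preimage_le C'.π C.π (QCAlg.specMap φ) (QCAlg.specMap_π φ) V)).hom (sec C' V hV a') =
    sec C V hV ((φ.hom.app (op V)).hom a') := by
  apply sec_injective_aux C V hV
  rw [gammaAff_sec]
  have h := specMap_appLE_gammaAff φ V hV
  have h2 := congrArg (fun ψ => ψ.hom (sec C' V hV a')) h
  simp only [CommRingCat.comp_apply] at h2
  rw [h2, gammaAff_sec]

theorem specMap_preimage_dop (h' : C'.presheaf.obj (op V)) :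
    QCAlg.specMap φ ⁻¹ᵁ dop C' V hV h' = dop C V hV ((φ.hom.app (op V)).hom h') := by
  unfold dop
  rw [Scheme.preimage_basicOpen, ← specMap_appLE_sec φ V hV h']
  unfold Scheme.Hom.appLE
  rw [CommRingCat.comp_apply, Scheme.basicOpen_res]
  refine (inf_eq_right.mpr ?_).symm
  refine (Scheme.basicOpen_le _ _).trans ?_
  rw [← Scheme.Hom.comp_preimage, QCAlg.specMap_π]

end specMap

section gen

variable (C : QCAlg Y) {X : Scheme.{u}} (g : X ⟶ C.spec) (V : Y.Opens) (hV : IsAffineOpen V)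

theorem le1 (h : C.presheaf.obj (op V)) : g ⁻¹ᵁ dop C V hV h ≤ (g ≫ C.π) ⁻¹ᵁ V :=
  g.preimage_mono (dop_le C V hV h)

theorem le2 (h : C.presheaf.obj (op V)) : g ⁻¹ᵁ dop C V hV h ≤ g ⁻¹ᵁ (C.π ⁻¹ᵁ V) :=
  g.preimage_mono (dop_le C V hV h)

/-- the function on `g⁻¹ D(h)` induced by a section of `C` over `V`. -/
def ρ (h a : C.presheaf.obj (op V)) : Γ(X, g ⁻¹ᵁ dop C V hV h) :=
  (g.appLE (C.π ⁻¹ᵁ V) (g ⁻¹ᵁ dop C V hV h) (le2 C g V hV h)).hom (sec C V hV a)

/-- the functions on `g⁻¹ D(h)` are generated by the functions of `V`, the sections `F` and the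
inverse of `h`. -/
def Gen (h : C.presheaf.obj (op V)) (F : Finset (C.presheaf.obj (op V))) : Prop :=
  ∀ Sub : Subring Γ(X, g ⁻¹ᵁ dop C V hV h),
    (∀ r : Γ(Y, V), ((g ≫ C.π).appLE V (g ⁻¹ᵁ dop C V hV h) (le1 C g V hV h)).hom r ∈ Sub) →
    (∀ a ∈ F, ρ C g V hV h a ∈ Sub) →
    (∀ t, ρ C g V hV h h * t = 1 → t ∈ Sub) → Sub = ⊤

end gen

section verify

variable {C' C : QCAlg Y} (φ : C' ⟶ C) {X : Scheme.{u}} (g : X ⟶ C.spec) (V : Y.Opens)
  (hV : IsAffineOpen V)

theorem injective_map_of_eq (W₁ W₂ : X.Opens) (e : W₁ = W₂) :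
    Function.Injective (X.presheaf.map (homOfLE e.ge).op).hom := by
  subst e
  intro a b hab
  have h : X.presheaf.map (homOfLE (le_refl W₁)).op = 𝟙 _ := X.presheaf.map_id _
  rw [h] at hab
  exact hab

theorem isClosedImmersion_of_gen (h' : C'.presheaf.obj (op V)) (F : Finset (C.presheaf.obj (op V)))
    (hF : ∀ a ∈ F, ∃ a', (φ.hom.app (op V)).hom a' = a)
    (hAff : IsAffineOpen (g ⁻¹ᵁ dop C V hV ((φ.hom.app (op V)).hom h')))
    (hgen : Gen C g V hV ((φ.hom.app (op V)).hom h') F) :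
    IsClosedImmersion ((g ≫ QCAlg.specMap φ) ∣_ dop C' V hV h') := by
  have hW : (g ≫ QCAlg.specMap φ) ⁻¹ᵁ dop C' V hV h' =
      g ⁻¹ᵁ dop C V hV ((φ.hom.app (op V)).hom h') := by
    rw [Scheme.Hom.comp_preimage, specMap_preimage_dop]
  have hAff' : IsAffineOpen ((g ≫ QCAlg.specMap φ) ⁻¹ᵁ dop C' V hV h') := by
    rw [hW]; exact hAff
  apply ImmLoc.isClosedImmersion_morphismRestrict_of_surjective _ _ (isAffineOpen_dop C' V hV h') hAff'
  -- the comparison map
  set W := g ⁻¹ᵁ dop C V hV ((φ.hom.app (op V)).hom h') with hWdef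
  set ψ' := (g ≫ QCAlg.specMap φ).appLE (dop C' V hV h') W hW.ge with hψ'
  -- sections of `C'` give elements of the range
  have hρ : ∀ a' : C'.presheaf.obj (op V), ρ C g V hV ((φ.hom.app (op V)).hom h')
      ((φ.hom.app (op V)).hom a') = ψ'.hom ((C'.spec.presheaf.map
        (homOfLE (dop_le C' V hV h')).op).hom (sec C' V hV a')) := by
    intro a'
    unfold ρ
    rw [← specMap_appLE_sec φ V hV a', ← CommRingCat.comp_apply, Scheme.Hom.appLE_comp_appLE,
      ← CommRingCat.comp_apply, hψ', Scheme.Hom.map_appLE]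
  have key : ψ'.hom.range = ⊤ := by
    apply hgen
    · intro r
      have e : (g ≫ QCAlg.specMap φ) ≫ C'.π = g ≫ C.π := by
        rw [Category.assoc, QCAlg.specMap_π]
      have h1 := Scheme.Hom.appLE_comp_appLE (g ≫ QCAlg.specMap φ) C'.π V (dop C' V hV h') W
        (dop_le C' V hV h') hW.ge
      simp only [e] at h1
      refine ⟨(C'.π.appLE V (dop C' V hV h') (dop_le C' V hV h')).hom r, ?_⟩
      rw [← CommRingCat.comp_apply, hψ', h1]
    · intro a ha
      obtain ⟨a', rfl⟩ := hF a ha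
      exact ⟨_, (hρ a').symm⟩
    · intro t ht
      have hu : IsUnit ((C'.spec.presheaf.map (homOfLE (dop_le C' V hV h')).op).hom
          (sec C' V hV h')) := C'.spec.toRingedSpace.isUnit_res_basicOpen (sec C' V hV h')
      obtain ⟨u, hu⟩ := hu
      have h1 : ρ C g V hV ((φ.hom.app (op V)).hom h') ((φ.hom.app (op V)).hom h') = ψ'.hom u := by
        rw [hρ h', hu]
      refine ⟨(↑u⁻¹ : Γ(C'.spec, dop C' V hV h')), ?_⟩
      have h2 : ψ'.hom u * ψ'.hom (↑u⁻¹ : Γ(C'.spec, dop C' V hV h')) = 1 := by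
        rw [← map_mul, Units.mul_inv, map_one]
      calc ψ'.hom (↑u⁻¹ : Γ(C'.spec, dop C' V hV h'))
          = (ψ'.hom u * t) * ψ'.hom (↑u⁻¹ : Γ(C'.spec, dop C' V hV h')) := by
            rw [← h1, ht, one_mul]
        _ = t := by
            rw [mul_comm (ψ'.hom u) t, mul_assoc, h2, mul_one]
  intro t
  have ht : (X.presheaf.map (homOfLE hW.ge).op).hom t ∈ ψ'.hom.range := by
    rw [key]; trivial
  obtain ⟨z, hz⟩ := ht
  refine ⟨z, ?_⟩
  apply injective_map_of_eq _ _ hW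
  rw [← hz, hψ']
  rfl

end verify

section localData

/-- converse of `isClosedImmersion_morphismRestrict_of_surjective`. -/
theorem surjective_app_of_isClosedImmersion {X Z : Scheme.{u}} (g : X ⟶ Z) (D : Z.Opens)
    (hD : IsAffineOpen D) [IsClosedImmersion (g ∣_ D)] : Function.Surjective (g.app D).hom := by
  have : IsAffine D.toScheme := hD
  have h1 := (IsClosedImmersion.isAffine_surjective_of_isAffine (f := g ∣_ D)).2
  rw [morphismRestrict_appTop] at h1
  have key : ∀ (D' : Z.Opens) (e : D' = D) (W : X.Opens) (hW : W = g ⁻¹ᵁ D'),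
      Function.Surjective (g.app D' ≫ X.presheaf.map (eqToHom hW).op).hom →
      Function.Surjective (g.app D).hom := by
    rintro D' rfl W rfl h
    simpa using h
  exact key _ D.ι_image_top _ _ h1

theorem isClosedImmersion_morphismRestrict_of_le_coborder {X Z : Scheme.{u}} (g : X ⟶ Z)
    [IsImmersion g] (D : Z.Opens) (hD : D ≤ g.coborderRange) : IsClosedImmersion (g ∣_ D) := by
  apply IsClosedImmersion.of_isPreimmersion
  have h3 : coborder (Set.range g) ∩ closure (Set.range g) = Set.range g := coborder_inter_closure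
  have heq : Set.range ⇑(g ∣_ D) = (Subtype.val : D → Z) ⁻¹' closure (Set.range g) := by
    ext ⟨z, hz⟩
    constructor
    · rintro ⟨x, hx⟩
      have h1 : g x.1 = z := by
        rw [← morphismRestrict_base_coe g D x, hx]
      exact subset_closure ⟨x.1, h1⟩
    · intro hzc
      have h1 : z ∈ Set.range g := by
        rw [← h3]
        exact ⟨hD hz, hzc⟩
      obtain ⟨x, rfl⟩ := h1
      refine ⟨⟨x, hz⟩, Subtype.ext ?_⟩
      exact morphismRestrict_base_coe g D ⟨x, hz⟩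
  rw [heq]
  exact isClosed_closure.preimage continuous_subtype_val

variable (C : QCAlg Y) {X : Scheme.{u}} (g : X ⟶ C.spec)

theorem exists_local_data [IsImmersion g] [LocallyOfFiniteType (g ≫ C.π)] (x : X) :
    ∃ (V : Y.Opens) (hV : IsAffineOpen V) (h : C.presheaf.obj (op V))
      (F : Finset (C.presheaf.obj (op V))),
      g x ∈ dop C V hV h ∧ IsAffineOpen (g ⁻¹ᵁ dop C V hV h) ∧ Gen C g V hV h F := by
  classical
  obtain ⟨V, hV, hxV, -⟩ := exists_isAffineOpen_mem_and_subset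
    (x := C.π (g x)) (U := ⊤) trivial
  have hP : IsAffineOpen (C.π ⁻¹ᵁ V) := hV.preimage C.π
  have hxP : g x ∈ C.π ⁻¹ᵁ V := hxV
  have hxU : g x ∈ g.coborderRange ⊓ C.π ⁻¹ᵁ V := ⟨subset_coborder ⟨x, rfl⟩, hxP⟩
  obtain ⟨hs, hle, hxs⟩ := hP.exists_basicOpen_le ⟨g x, hxU⟩ hxP
  set h := (C.gammaAff V hV).hom hs with hh
  have hsec : sec C V hV h = hs := sec_gammaAff C V hV hs
  have hdop : dop C V hV h = C.spec.basicOpen hs := by
    unfold dop; rw [hsec]
  have hD : IsAffineOpen (dop C V hV h) := isAffineOpen_dop C V hV h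
  have hcl : IsClosedImmersion (g ∣_ dop C V hV h) :=
    isClosedImmersion_morphismRestrict_of_le_coborder g _ (by rw [hdop]; exact hle.trans inf_le_left)
  have hWaff : IsAffineOpen (g ⁻¹ᵁ dop C V hV h) := by
    have : IsAffine (dop C V hV h).toScheme := hD
    exact isAffine_of_isAffineHom (g ∣_ dop C V hV h)
  have hsurj : Function.Surjective (g.app (dop C V hV h)).hom :=
    surjective_app_of_isClosedImmersion g _ hD
  -- finite type
  let fV : Γ(Y, V) ⟶ Γ(X, g ⁻¹ᵁ dop C V hV h) :=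
    (g ≫ C.π).appLE V (g ⁻¹ᵁ dop C V hV h) (le1 C g V hV h)
  have hft : fV.hom.FiniteType :=
    HasRingHomProperty.appLE (P := @LocallyOfFiniteType) (g ≫ C.π) inferInstance ⟨V, hV⟩
      ⟨g ⁻¹ᵁ dop C V hV h, hWaff⟩ _
  letI := fV.hom.toAlgebra
  obtain ⟨ts, hts⟩ := (show Algebra.FiniteType Γ(Y, V) Γ(X, g ⁻¹ᵁ dop C V hV h) from hft).out
  let ψ : Γ(C.spec, dop C V hV h) ⟶ Γ(X, g ⁻¹ᵁ dop C V hV h) :=
    g.appLE (dop C V hV h) (g ⁻¹ᵁ dop C V hV h) le_rfl
  have hψs : Function.Surjective ψ.hom := by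
    have : ψ = g.app (dop C V hV h) := (Scheme.Hom.app_eq_appLE g).symm
    rw [this]; exact hsurj
  let ρ' : Γ(C.spec, C.π ⁻¹ᵁ V) ⟶ Γ(X, g ⁻¹ᵁ dop C V hV h) :=
    g.appLE (C.π ⁻¹ᵁ V) (g ⁻¹ᵁ dop C V hV h) (le2 C g V hV h)
  have hρ' : ∀ a, ψ.hom ((C.spec.presheaf.map (homOfLE (dop_le C V hV h)).op).hom a) = ρ'.hom a := by
    intro a
    rw [← CommRingCat.comp_apply]
    exact congrArg (fun k => k.hom a) (Scheme.Hom.map_appLE g (U := dop C V hV h)
      (V := g ⁻¹ᵁ dop C V hV h) le_rfl (homOfLE (dop_le C V hV h)).op)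
  have hfrac : ∀ t : Γ(X, g ⁻¹ᵁ dop C V hV h), ∃ (n : ℕ) (a : Γ(C.spec, C.π ⁻¹ᵁ V)),
      t * (ρ'.hom (sec C V hV h)) ^ n = ρ'.hom a := by
    intro t
    obtain ⟨z, rfl⟩ := hψs t
    haveI := hP.isLocalization_basicOpen (sec C V hV h)
    obtain ⟨n, a, hna⟩ := IsLocalization.Away.surj (R := Γ(C.spec, C.π ⁻¹ᵁ V))
      (S := Γ(C.spec, C.spec.basicOpen (sec C V hV h))) (sec C V hV h) z
    refine ⟨n, a, ?_⟩
    have h5 : ψ.hom z * (ψ.hom ((C.spec.presheaf.map (homOfLE (dop_le C V hV h)).op).hom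
        (sec C V hV h))) ^ n =
        ψ.hom ((C.spec.presheaf.map (homOfLE (dop_le C V hV h)).op).hom a) := by
      rw [← map_pow, ← map_mul]
      exact congrArg ψ.hom hna
    rw [← hρ', ← hρ']
    exact h5
  choose nn aa haa using hfrac
  refine ⟨V, hV, h, ts.image (fun t => (C.gammaAff V hV).hom (aa t)), by rw [hdop]; exact hxs,
    hWaff, ?_⟩
  intro Sub h1 h2 h3
  have hunit : IsUnit (ρ'.hom (sec C V hV h)) := by
    rw [← hρ']
    exact (C.spec.toRingedSpace.isUnit_res_basicOpen (sec C V hV h)).map ψ.hom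
  obtain ⟨u, hu⟩ := hunit
  have hv : (↑u⁻¹ : Γ(X, g ⁻¹ᵁ dop C V hV h)) ∈ Sub := by
    apply h3
    change ρ'.hom (sec C V hV h) * _ = 1
    rw [← hu]
    exact Units.mul_inv u
  have hts' : ∀ t ∈ ts, t ∈ Sub := by
    intro t ht
    have e1 : t * (ρ'.hom (sec C V hV h)) ^ nn t = ρ'.hom (aa t) := haa t
    have e2 : ρ'.hom (aa t) ∈ Sub := by
      have h6 := h2 ((C.gammaAff V hV).hom (aa t)) (Finset.mem_image_of_mem _ ht)
      unfold ρ at h6
      rwa [sec_gammaAff] at h6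
    have e3 : t = ρ'.hom (aa t) * (↑u⁻¹ : Γ(X, g ⁻¹ᵁ dop C V hV h)) ^ nn t := by
      rw [← e1, ← hu, mul_assoc, ← mul_pow, Units.mul_inv, one_pow, mul_one]
    rw [e3]
    exact Sub.mul_mem e2 (Sub.pow_mem hv _)
  rw [eq_top_iff]
  have h4 : (Algebra.adjoin Γ(Y, V) (ts : Set Γ(X, g ⁻¹ᵁ dop C V hV h))).toSubring = ⊤ := by
    rw [hts]; rfl
  rw [← h4, Algebra.adjoin_eq_ring_closure, Subring.closure_le]
  rintro b (⟨r, rfl⟩ | hb)
  · exact h1 r
  · exact hts' b hb

end localData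

section main

/-- **EGA-type descent of immersions to a subalgebra of finite type.** -/
theorem exists_ft_subalgebra_isImmersion [CompactSpace Y] [QuasiSeparatedSpace Y] (C : QCAlg Y)
    {X : Scheme.{u}} (g : X ⟶ C.spec) [IsImmersion g] [LocallyOfFiniteType (g ≫ C.π)]
    [CompactSpace X] :
    ∃ (C' : QCAlg Y) (φ : C' ⟶ C),
      (∀ U : Y.Opens, Function.Injective (φ.hom.app (op U)).hom) ∧
      (∀ U : Y.affineOpens, (C'.str.app (op (U : Y.Opens))).hom.FiniteType) ∧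
      IsImmersion (g ≫ QCAlg.specMap φ) := by
  classical
  choose V hV h F hx hAff hGen using exists_local_data C g
  obtain ⟨t, ht⟩ := isCompact_univ.elim_finite_subcover
    (fun x : X => ((g ⁻¹ᵁ dop C (V x) (hV x) (h x) : X.Opens) : Set X))
    (fun x => (g ⁻¹ᵁ dop C (V x) (hV x) (h x)).isOpen)
    (fun x _ => Set.mem_iUnion.mpr ⟨x, hx x⟩)
  let xs : Fin t.card → X := fun k => (t.equivFin.symm k).1
  obtain ⟨C', φ, hinj, hft, hmem⟩ := FTSubAlg.exists_ft_subalgebra C t.card (fun k => V (xs k))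
    (fun k => hV (xs k)) (fun k => insert (h (xs k)) (F (xs k)))
  refine ⟨C', φ, hinj, hft, ?_⟩
  have hex : ∀ k, ∃ h' : C'.presheaf.obj (op (V (xs k))),
      (φ.hom.app (op (V (xs k)))).hom h' = h (xs k) := fun k =>
    hmem k _ (Finset.mem_insert_self _ _)
  choose h' hh' using hex
  apply ImmLoc.isImmersion_of_locally_isClosedImmersion (g ≫ QCAlg.specMap φ)
    (fun k => dop C' (V (xs k)) (hV (xs k)) (h' k))
  · intro x
    have hxU := ht (Set.mem_univ x)
    simp only [Set.mem_iUnion] at hxU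
    obtain ⟨x₀, hx₀, hxx₀⟩ := hxU
    refine ⟨t.equivFin ⟨x₀, hx₀⟩, ?_⟩
    have e1 : xs (t.equivFin ⟨x₀, hx₀⟩) = x₀ := by
      simp only [xs, Equiv.symm_apply_apply]
    change x ∈ (g ≫ QCAlg.specMap φ) ⁻¹ᵁ dop C' _ _ (h' (t.equivFin ⟨x₀, hx₀⟩))
    rw [Scheme.Hom.comp_preimage, specMap_preimage_dop, hh']
    have key : ∀ y, y = x₀ → x ∈ g ⁻¹ᵁ dop C (V y) (hV y) (h y) := by
      rintro y rfl; exact hxx₀
    exact key _ e1
  · intro k
    refine isClosedImmersion_of_gen φ g (V (xs k)) (hV (xs k)) (h' k) (F (xs k)) ?_ ?_ ?_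
    · intro a ha
      exact hmem k a (Finset.mem_insert_of_mem ha)
    · rw [hh']; exact hAff (xs k)
    · rw [hh']; exact hGen (xs k)

end main

end Groth.Agent.Lib.Helper50.ImmSub
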