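import Groth.Agent.Lib.Helper50.LimDesc4
import Groth.Agent.Lib.Helper50.LimStage
import Groth.Agent.Lib.Helper25.QFinBC

set_option autoImplicit false
universe u
open CategoryTheory AlgebraicGeometry Limits

namespace Groth.Agent.Lib.Helper50

section Cart

variable {J : Type u} [SmallCategory J] [IsCofiltered J] {F E : J ⥤ Scheme.{u}} (τ : F ⟶ E)
    [∀ (i j : J) (f : i ⟶ j), IsAffineHom (F.map f)]
    (cF : Cone F) (hcF : IsLimit cF) (cE : Cone E)
    (f : cF.pt ⟶ cE.pt)
    (hlim : ∀ j, IsPullback (cF.π.app j) f (τ.app j) (cE.π.app j))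
    (hτ : ∀ {j k : J} (φ : j ⟶ k), IsPullback (F.map φ) (τ.app j) (τ.app k) (E.map φ))

include hcF hlim hτ in
/-- **Descent of local quasi-finiteness**. For a cartesian natural transformation
between cofiltered systems of quasi-compact schemes with affine transition maps, locally of finite
type, whose limit is locally quasi-finite: eventually the components are locally quasi-finite. -/
theorem exists_forall_locallyQuasiFinite_app
    [∀ j, CompactSpace (F.obj j)]
    [∀ j, LocallyOfFiniteType (τ.app j)] [LocallyQuasiFinite f] (j₀ : J) :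
    ∃ (j : J) (_ : j ⟶ j₀), ∀ (k : J) (_ : k ⟶ j), LocallyQuasiFinite (τ.app k) := by
  have hlft : LocallyOfFiniteType f :=
    MorphismProperty.of_isPullback (P := @LocallyOfFiniteType) (hlim j₀) inferInstance
  obtain ⟨j, φ, hj⟩ := exists_map_eq_top F cF hcF (τ.app j₀).quasiFiniteLocus (by
    rw [← top_le_iff]
    intro x _
    exact Groth.Agent.Lib.Helper25.quasiFiniteAt_of_quasiFiniteAt_of_isPullback (τ.app j₀)
      (cE.π.app j₀) (cF.π.app j₀) f (hlim j₀) x (f.quasiFiniteAt x))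
  have key : LocallyQuasiFinite (τ.app j) := by
    rw [← Scheme.Hom.quasiFiniteLocus_eq_top_iff, ← top_le_iff]
    intro x _
    exact Groth.Agent.Lib.Helper25.quasiFiniteAt_of_isPullback (τ.app j₀) (E.map φ) (F.map φ)
      (τ.app j) (hτ φ) x (hj.ge (Set.mem_univ x))
  exact ⟨j, φ, fun k ψ ↦ MorphismProperty.of_isPullback (P := @LocallyQuasiFinite) (hτ ψ) key⟩

end Cart

namespace StageSetup

variable {I : Type u} [SmallCategory I]
    (D : I ⥤ Scheme.{u}) (c : Limits.Cone D) (i₀ : I)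
    {X₀ Y₀ : Scheme.{u}} (f₀ : X₀ ⟶ Y₀) (g₀ : Y₀ ⟶ D.obj i₀)
    {X Y : Scheme.{u}} (f : X ⟶ Y) (g : Y ⟶ c.pt) (qY : Y ⟶ Y₀) (qX : X ⟶ X₀)
    (hY : IsPullback qY g g₀ (c.π.app i₀)) (hX : IsPullback qX f f₀ qY)

/-- The limit square of the stage setup is cartesian. -/
lemma isPullback_cF_π (j : Over i₀) :
    IsPullback ((cF D c i₀ f₀ g₀ f g qY qX hY hX).π.app j) f ((τ D i₀ f₀ g₀).app j)
      ((cE D c i₀ g₀ g qY hY).π.app j) :=
  isPullback_bcConeπ (E D i₀ g₀) (γ D i₀ g₀) f₀ (cE D c i₀ g₀ g qY hY) qY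
    (hb' D c i₀ g₀ g qY hY) qX f hX j

end StageSetup

end Groth.Agent.Lib.Helper50
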