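import Groth.Agent.Lib.Helper50.LimDesc

set_option autoImplicit false
universe u
open CategoryTheory AlgebraicGeometry Limits

namespace Groth.Agent.Lib.Helper50

lemma exists_finset_forall_surjective_comp_of_finiteType {R C : Type u} [CommRing R] [CommRing C]
    (φ : R →+* C) (hφ : φ.FiniteType) :
    ∃ s : Finset C, ∀ {C' : Type u} [CommRing C'] (ρ : C →+* C'), Function.Surjective ρ →
      (∀ x ∈ s, ρ x ∈ (ρ.comp φ).range) → Function.Surjective (ρ.comp φ) := by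
  algebraize [φ]
  obtain ⟨s, hs⟩ := (‹Algebra.FiniteType R C› : Algebra.FiniteType R C).out
  refine ⟨s, fun {C'} _ ρ hρ hx ↦ ?_⟩
  let A' : Subalgebra R C :=
    { (ρ.comp φ).range.comap ρ with
      algebraMap_mem' := fun r ↦ ⟨r, rfl⟩ }
  have h1 : Algebra.adjoin R (s : Set C) ≤ A' := Algebra.adjoin_le fun x hx' ↦ hx x hx'
  rw [hs] at h1
  intro y
  obtain ⟨z, rfl⟩ := hρ y
  exact h1 (Algebra.mem_top (R := R) (x := z))

lemma surjective_app_congr {X Y : Scheme.{u}} {f f' : X ⟶ Y} (e : f = f') (W : Y.Opens)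
    (H : Function.Surjective (f.app W).hom) : Function.Surjective (f'.app W).hom := by
  subst e; exact H

variable {I : Type u} [SmallCategory I] [IsCofiltered I]
    (D : I ⥤ Scheme.{u}) (c : Limits.Cone D) (hc : Limits.IsLimit c)
    {S : Scheme.{u}} (t : ∀ i, D.obj i ⟶ S) (ht : ∀ {i j : I} (f : j ⟶ i), D.map f ≫ t i = t j)

include ht in
lemma π_comp_t_eq (i j : I) : c.π.app i ≫ t i = c.π.app j ≫ t j := by
  obtain ⟨l, a, b, -⟩ := IsCofilteredOrEmpty.cone_objs i j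
  rw [← c.w a, ← c.w b, Category.assoc, Category.assoc, ht, ht]

omit [IsCofiltered I] in
lemma map_app_comp {i j k : I} (f : j ⟶ i) (g : k ⟶ j) (U : (D.obj i).Opens)
    (y : Γ(D.obj i, U)) :
    (D.map (g ≫ f)).app U y = (D.map g).appLE (D.map f ⁻¹ᵁ U) (D.map (g ≫ f) ⁻¹ᵁ U)
      (by rw [Functor.map_comp, Scheme.Hom.comp_preimage]) ((D.map f).app U y) := by
  simp only [Scheme.Hom.app_eq_appLE, ← CommRingCat.comp_apply, Scheme.Hom.appLE_comp_appLE,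
    ← D.map_comp]

include hc in
lemma exists_forall_map_app_mem_range [∀ (i j : I) (f : i ⟶ j), IsAffineHom (D.map f)]
    (k₁ : I) {W : S.Opens} (hW : IsAffineOpen W)
    (hU : IsCompact (t k₁ ⁻¹ᵁ W : Set (D.obj k₁)))
    [IsClosedImmersion (c.π.app k₁ ≫ t k₁)]
    (x : Γ(D.obj k₁, t k₁ ⁻¹ᵁ W)) :
    ∃ (j : I) (f : j ⟶ k₁), ∀ (k : I) (g : k ⟶ j) (g' : k ⟶ k₁), g ≫ f = g' →
      (D.map g').app (t k₁ ⁻¹ᵁ W) x ∈
        (((D.map g').app (t k₁ ⁻¹ᵁ W)).hom.comp ((t k₁).app W).hom).range := by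
  obtain ⟨r, hr⟩ := Scheme.Hom.app_surjective (c.π.app k₁ ≫ t k₁) W hW
    ((c.π.app k₁).app (t k₁ ⁻¹ᵁ W) x)
  have hr' : (c.π.app k₁).app (t k₁ ⁻¹ᵁ W) ((t k₁).app W r) =
      (c.π.app k₁).app (t k₁ ⁻¹ᵁ W) x := by
    rw [← hr, Scheme.Hom.comp_app]
    rfl
  obtain ⟨l, f, hl⟩ := exists_app_map_eq_map_of_isLimit D c hc hU _ _ hr'
  refine ⟨l, f, fun k g g' hg ↦ ?_⟩
  subst hg
  refine ⟨r, ?_⟩
  rw [RingHom.comp_apply]
  erw [map_app_comp, map_app_comp, hl]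

end Groth.Agent.Lib.Helper50

namespace Groth.Agent.Lib.Helper50

variable {I : Type u} [SmallCategory I] [IsCofiltered I]
    (D : I ⥤ Scheme.{u}) (c : Limits.Cone D) (hc : Limits.IsLimit c)
    {S : Scheme.{u}} (t : ∀ i, D.obj i ⟶ S) (ht : ∀ {i j : I} (f : j ⟶ i), D.map f ≫ t i = t j)

include ht in
omit [IsCofiltered I] in
lemma map_preimage_t {i j : I} (f : j ⟶ i) (W : S.Opens) :
    D.map f ⁻¹ᵁ (t i ⁻¹ᵁ W) = t j ⁻¹ᵁ W := by
  rw [← Scheme.Hom.comp_preimage, ht]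

include hc ht in
/-- Eventually the preimage of an affine open of `S` is affine. -/
lemma exists_forall_isAffineOpen_t_preimage [∀ (i j : I) (f : i ⟶ j), IsAffineHom (D.map f)]
    [∀ i, CompactSpace (D.obj i)] [∀ i, QuasiSeparatedSpace (D.obj i)] [QuasiSeparatedSpace S]
    (i₀ : I) [IsAffineHom (c.π.app i₀ ≫ t i₀)] {W : S.Opens} (hW : IsAffineOpen W) :
    ∃ (j : I) (_ : j ⟶ i₀), ∀ (k : I) (_ : k ⟶ j), IsAffineOpen (t k ⁻¹ᵁ W) := by
  have hU₀ : IsCompact (t i₀ ⁻¹ᵁ W : Set (D.obj i₀)) :=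
    QuasiCompact.isCompact_preimage (f := t i₀) _ W.2 hW.isCompact
  have h1 (j : Over i₀) : CompactSpace ((opensDiagram D i₀ (t i₀ ⁻¹ᵁ W)).obj j) :=
    isCompact_iff_compactSpace.mp (QuasiCompact.isCompact_preimage _ (t i₀ ⁻¹ᵁ W).2 hU₀)
  have h2 (j : Over i₀) : QuasiSeparatedSpace ((opensDiagram D i₀ (t i₀ ⁻¹ᵁ W)).obj j) :=
    (isQuasiSeparated_iff_quasiSeparatedSpace _ (D.map _ ⁻¹ᵁ _).2).mp
      (.of_quasiSeparatedSpace _)
  have h3 : IsAffine (opensCone D c i₀ (t i₀ ⁻¹ᵁ W)).pt :=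
    hW.preimage (c.π.app i₀ ≫ t i₀)
  obtain ⟨j, hj⟩ := Scheme.exists_isAffine_of_isLimit _ _
    (isLimitOpensCone D c hc i₀ (t i₀ ⁻¹ᵁ W))
  refine ⟨j.left, j.hom, fun k g ↦ ?_⟩
  have hj' : IsAffineOpen (D.map j.hom ⁻¹ᵁ (t i₀ ⁻¹ᵁ W)) := hj
  rw [map_preimage_t D t ht] at hj'
  rw [← map_preimage_t D t ht g]
  exact hj'.preimage (D.map g)

end Groth.Agent.Lib.Helper50

namespace Groth.Agent.Lib.Helper50

variable {I : Type u} [SmallCategory I] [IsCofiltered I]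
    (D : I ⥤ Scheme.{u}) (c : Limits.Cone D) (hc : Limits.IsLimit c)
    {S : Scheme.{u}} (t : ∀ i, D.obj i ⟶ S) (ht : ∀ {i j : I} (f : j ⟶ i), D.map f ≫ t i = t j)

include hc ht in
lemma exists_forall_surjective_t_app [∀ (i j : I) (f : i ⟶ j), IsClosedImmersion (D.map f)]
    [∀ i, CompactSpace (D.obj i)] [∀ i, QuasiSeparatedSpace (D.obj i)] [QuasiSeparatedSpace S]
    [∀ i, LocallyOfFiniteType (t i)] [∀ k, IsClosedImmersion (c.π.app k ≫ t k)] (i₀ : I)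
    {W : S.Opens} (hW : IsAffineOpen W) :
    ∃ (j : I) (_ : j ⟶ i₀), ∀ (k : I) (_ : k ⟶ j),
      IsAffineOpen (t k ⁻¹ᵁ W) ∧ Function.Surjective ((t k).app W).hom := by
  obtain ⟨k₁, f₁, h₁⟩ := exists_forall_isAffineOpen_t_preimage D c hc t ht i₀ hW
  have hU₁ : IsAffineOpen (t k₁ ⁻¹ᵁ W) := h₁ k₁ (𝟙 _)
  have hφ : ((t k₁).app W).hom.FiniteType := by
    rw [Scheme.Hom.app_eq_appLE]
    exact HasRingHomProperty.appLE @LocallyOfFiniteType _ inferInstance ⟨W, hW⟩ ⟨_, hU₁⟩ _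
  obtain ⟨s, hs⟩ := exists_finset_forall_surjective_comp_of_finiteType _ hφ
  obtain ⟨j, f, hj⟩ := eventually_finset s
    (fun x k g' ↦ (D.map g').app (t k₁ ⁻¹ᵁ W) x ∈
        (((D.map g').app (t k₁ ⁻¹ᵁ W)).hom.comp ((t k₁).app W).hom).range)
    (fun x _ ↦ exists_forall_map_app_mem_range D c hc t k₁ hW hU₁.isCompact x)
  refine ⟨j, f ≫ f₁, fun k g ↦ ⟨h₁ k (g ≫ f), ?_⟩⟩
  have := hs ((D.map (g ≫ f)).app (t k₁ ⁻¹ᵁ W)).hom
    (Scheme.Hom.app_surjective (D.map (g ≫ f)) _ hU₁) (hj k g (g ≫ f) rfl)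
  rw [← CommRingCat.hom_comp, ← Scheme.Hom.comp_app] at this
  exact surjective_app_congr (ht (g ≫ f)) W this

include hc ht in
/-- **Stacks 0CNG-type**: a cofiltered system of qcqs schemes locally of finite type over a qcqs
base `S` with closed immersions as transition maps whose limit is a closed subscheme of `S`:
eventually the stages are closed subschemes of `S`. -/
theorem exists_forall_isClosedImmersion_t [∀ (i j : I) (f : i ⟶ j), IsClosedImmersion (D.map f)]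
    [∀ i, CompactSpace (D.obj i)] [∀ i, QuasiSeparatedSpace (D.obj i)]
    [CompactSpace S] [QuasiSeparatedSpace S]
    [∀ i, LocallyOfFiniteType (t i)] (i₀ : I) [IsClosedImmersion (c.π.app i₀ ≫ t i₀)] :
    ∃ (j : I) (_ : j ⟶ i₀), ∀ (k : I) (_ : k ⟶ j), IsClosedImmersion (t k) := by
  have hτ (k : I) : IsClosedImmersion (c.π.app k ≫ t k) := by
    rw [π_comp_t_eq D c t ht k i₀]; infer_instance
  obtain ⟨j, f, hj⟩ := eventually_finite (ι := S.affineCover.finiteSubcover.I₀)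
    (fun a k _ ↦ IsAffineOpen (t k ⁻¹ᵁ (S.affineCover.finiteSubcover.f a).opensRange) ∧
      Function.Surjective ((t k).app (S.affineCover.finiteSubcover.f a).opensRange).hom)
    (fun a ↦ by
      obtain ⟨j, f, hj⟩ := exists_forall_surjective_t_app D c hc t ht i₀
        (isAffineOpen_opensRange (S.affineCover.finiteSubcover.f a))
      exact ⟨j, f, fun k g g' _ ↦ hj k g⟩)
  refine ⟨j, f, fun k g ↦ ?_⟩
  exact isClosedImmersion_of_forall_affine (t k)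
    (fun a ↦ (S.affineCover.finiteSubcover.f a).opensRange)
    S.affineCover.finiteSubcover.iSup_opensRange
    (fun a ↦ isAffineOpen_opensRange _)
    (fun a ↦ (hj k g (g ≫ f) rfl a).1) (fun a ↦ (hj k g (g ≫ f) rfl a).2)

end Groth.Agent.Lib.Helper50
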