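import Groth.Agent.Lib.Helper50.LimDesc2

set_option autoImplicit false
universe u
open CategoryTheory AlgebraicGeometry Limits

namespace Groth.Agent.Lib.Helper50

section AffOpen

variable {I : Type u} [SmallCategory I] [IsCofiltered I]
    (D : I ⥤ Scheme.{u}) (c : Limits.Cone D) (hc : Limits.IsLimit c)
    [∀ (i j : I) (f : i ⟶ j), IsAffineHom (D.map f)]

include hc in
/-- If the preimage in the limit of a compact open `U` of a (quasi-separated) stage is affine,
then eventually the preimage of `U` is affine. -/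
lemma exists_forall_isAffineOpen_map_preimage (i₀ : I) [QuasiSeparatedSpace (D.obj i₀)]
    {U : (D.obj i₀).Opens} (hU : IsCompact (U : Set (D.obj i₀)))
    (hUc : IsAffineOpen (c.π.app i₀ ⁻¹ᵁ U)) :
    ∃ (j : I) (f : j ⟶ i₀), ∀ (k : I) (g : k ⟶ j) (g' : k ⟶ i₀), g ≫ f = g' →
      IsAffineOpen (D.map g' ⁻¹ᵁ U) := by
  have h1 (j : Over i₀) : CompactSpace ((opensDiagram D i₀ U).obj j) :=
    isCompact_iff_compactSpace.mp (QuasiCompact.isCompact_preimage _ U.2 hU)
  have h2 (j : Over i₀) : QuasiSeparatedSpace ((opensDiagram D i₀ U).obj j) :=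
    have := quasiSeparatedSpace_of_quasiSeparated (D.map j.hom)
    (isQuasiSeparated_iff_quasiSeparatedSpace _ (D.map _ ⁻¹ᵁ _).2).mp
      (.of_quasiSeparatedSpace _)
  have h3 : IsAffine (opensCone D c i₀ U).pt := hUc
  obtain ⟨j, hj⟩ := Scheme.exists_isAffine_of_isLimit _ _ (isLimitOpensCone D c hc i₀ U)
  refine ⟨j.left, j.hom, fun k g g' hg ↦ ?_⟩
  subst hg
  have hj' : IsAffineOpen (D.map j.hom ⁻¹ᵁ U) := hj
  rw [Functor.map_comp, Scheme.Hom.comp_preimage]
  exact hj'.preimage (D.map g)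

end AffOpen

section NatTrans

variable {J : Type u} [SmallCategory J] [IsCofiltered J] {F E : J ⥤ Scheme.{u}} (τ : F ⟶ E)
    [∀ (i j : J) (f : i ⟶ j), IsAffineHom (F.map f)]
    [∀ (i j : J) (f : i ⟶ j), IsAffineHom (E.map f)]
    (cF : Cone F) (hcF : IsLimit cF) (cE : Cone E) (hcE : IsLimit cE)
    (f : cF.pt ⟶ cE.pt) (hf : ∀ j, cF.π.app j ≫ τ.app j = f ≫ cE.π.app j)

omit [IsCofiltered J] [∀ (i j : J) (f : i ⟶ j), IsAffineHom (F.map f)]
  [∀ (i j : J) (f : i ⟶ j), IsAffineHom (E.map f)] in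
lemma map_preimage_app_preimage {j k : J} (g : k ⟶ j) (V : (E.obj j).Opens) :
    F.map g ⁻¹ᵁ (τ.app j ⁻¹ᵁ V) = τ.app k ⁻¹ᵁ (E.map g ⁻¹ᵁ V) := by
  rw [← Scheme.Hom.comp_preimage, ← Scheme.Hom.comp_preimage, τ.naturality]

include hcF hcE hf in
/-- **Descent of affineness** (Stacks 01ZN-type). If the limit of a natural transformation between
cofiltered systems of qcqs schemes with affine transition maps is affine, then eventually the
components are affine. -/
theorem exists_forall_isAffineHom_app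
    [∀ j, CompactSpace (E.obj j)] [∀ j, QuasiSeparatedSpace (E.obj j)]
    [∀ j, CompactSpace (F.obj j)] [∀ j, QuasiSeparatedSpace (F.obj j)]
    [IsAffineHom f] (j₀ : J) :
    ∃ (j : J) (_ : j ⟶ j₀), ∀ (k : J) (_ : k ⟶ j), IsAffineHom (τ.app k) := by
  have hπ := isAffineHom_π_app E cE hcE j₀
  obtain ⟨j, φ, hj⟩ := eventually_finite (ι := (E.obj j₀).affineCover.finiteSubcover.I₀)
    (fun a k g' ↦ IsAffineOpen (τ.app k ⁻¹ᵁ
      (E.map g' ⁻¹ᵁ ((E.obj j₀).affineCover.finiteSubcover.f a).opensRange)))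
    (fun a ↦ by
      have hV : IsAffineOpen ((E.obj j₀).affineCover.finiteSubcover.f a).opensRange :=
        isAffineOpen_opensRange _
      have h1 : IsCompact (τ.app j₀ ⁻¹ᵁ ((E.obj j₀).affineCover.finiteSubcover.f a).opensRange :
          Set (F.obj j₀)) :=
        QuasiCompact.isCompact_preimage (f := τ.app j₀) _ (TopologicalSpace.Opens.isOpen _) hV.isCompact
      have h2 : IsAffineOpen (cF.π.app j₀ ⁻¹ᵁ
          (τ.app j₀ ⁻¹ᵁ ((E.obj j₀).affineCover.finiteSubcover.f a).opensRange)) := by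
        rw [← Scheme.Hom.comp_preimage, hf, Scheme.Hom.comp_preimage]
        exact (hV.preimage (cE.π.app j₀)).preimage f
      obtain ⟨j, φ, hj⟩ := exists_forall_isAffineOpen_map_preimage F cF hcF j₀ h1 h2
      refine ⟨j, φ, fun k g g' hg ↦ ?_⟩
      rw [← map_preimage_app_preimage]
      exact hj k g g' hg)
  refine ⟨j, φ, fun k g ↦ isAffineHom_of_forall_exists_isAffineOpen _ fun y ↦ ?_⟩
  obtain ⟨a, z, hz⟩ := (E.obj j₀).affineCover.finiteSubcover.exists_eq ((E.map (g ≫ φ)) y)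
  exact ⟨E.map (g ≫ φ) ⁻¹ᵁ ((E.obj j₀).affineCover.finiteSubcover.f a).opensRange, ⟨z, hz⟩,
    (isAffineOpen_opensRange _).preimage _, hj k g (g ≫ φ) rfl a⟩

end NatTrans

end Groth.Agent.Lib.Helper50
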