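import Groth.Agent.Lib.Helper50.LimDesc5
import Mathlib.CategoryTheory.Limits.Connected

set_option autoImplicit false
universe u
open CategoryTheory AlgebraicGeometry Limits

namespace Groth.Agent.Lib.Helper50

/-- A finite type ring map `φ : R → C` has a finite "test set" for finiteness of `R → C → C'`
for finite `ρ : C → C'`. -/
lemma exists_finset_forall_finite_comp_of_finite {R C : Type u} [CommRing R] [CommRing C]
    (φ : R →+* C) (hφ : φ.FiniteType) :
    ∃ s : Finset C, ∀ {C' : Type u} [CommRing C'] (ρ : C →+* C'), ρ.Finite →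
      (∀ x ∈ s, (ρ.comp φ).IsIntegralElem (ρ x)) → (ρ.comp φ).Finite := by
  classical
  algebraize [φ]
  obtain ⟨s, hs⟩ := (‹Algebra.FiniteType R C› : Algebra.FiniteType R C).out
  refine ⟨s, fun {C'} _ ρ hρ hx ↦ ?_⟩
  refine RingHom.IsIntegral.to_finite ?_ (hρ.finiteType.comp hφ)
  let _ : Algebra R C' := (ρ.comp φ).toAlgebra
  let B : Subalgebra R C' := Algebra.adjoin R (ρ '' (s : Set C))
  have hBint : ∀ b ∈ B, (ρ.comp φ).IsIntegralElem b := fun b hb ↦
    IsIntegral.of_mem_of_fg B (fg_adjoin_of_finite (s.finite_toSet.image ρ) (by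
      rintro _ ⟨x, hx', rfl⟩
      exact hx x hx')) b hb
  let A' : Subalgebra R C :=
    { B.toSubring.comap ρ with
      algebraMap_mem' := fun r ↦ B.algebraMap_mem r }
  have h1 : Algebra.adjoin R (s : Set C) ≤ A' := Algebra.adjoin_le fun x hx' ↦
    Algebra.subset_adjoin (R := R) ⟨x, hx', rfl⟩
  rw [hs] at h1
  have h2 : ∀ z : C, ρ z ∈ B := fun z ↦ h1 (Algebra.mem_top (R := R) (x := z))
  -- every element is integral over `B`, and `B` is integral over `R`
  intro c'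
  have hc' : IsIntegral B c' := by
    obtain ⟨p, hp, hpc⟩ := hρ.to_isIntegral c'
    refine ⟨p.map (ρ.codRestrict B.toSubring h2), hp.map _, ?_⟩
    rw [Polynomial.eval₂_map]
    exact hpc
  have hBR : Algebra.IsIntegral R B := ⟨fun b ↦ by
    have := hBint b.1 b.2
    exact (isIntegral_algebraMap_iff (A := B) (B := C') Subtype.val_injective).mp this⟩
  exact isIntegral_trans (R := R) (A := B) c' hc'

end Groth.Agent.Lib.Helper50

namespace Groth.Agent.Lib.Helper50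

section ConstTarget

variable {I : Type u} [SmallCategory I] [IsCofiltered I]
    (D : I ⥤ Scheme.{u}) (c : Limits.Cone D) (hc : Limits.IsLimit c)
    {S : Scheme.{u}} (t : ∀ i, D.obj i ⟶ S) (ht : ∀ {i j : I} (f : j ⟶ i), D.map f ≫ t i = t j)

/-- A compatible family of maps to `S` as a natural transformation to the constant functor. -/
def tNat : D ⟶ (Functor.const I).obj S where
  app i := t i
  naturality i j f := by
    simp only [Functor.const_obj_obj, Functor.const_obj_map, Category.comp_id]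
    exact ht f

instance (i j : I) (f : i ⟶ j) : IsAffineHom (((Functor.const I).obj S).map f) :=
  inferInstanceAs (IsAffineHom (𝟙 S))

include hc ht in
lemma exists_forall_isIntegralElem_t [∀ (i j : I) (f : i ⟶ j), IsAffineHom (D.map f)]
    (k₁ : I) {W : S.Opens} (hW : IsAffineOpen W)
    (hU : IsCompact (t k₁ ⁻¹ᵁ W : Set (D.obj k₁)))
    [IsIntegralHom (c.π.app k₁ ≫ t k₁)] (x : Γ(D.obj k₁, t k₁ ⁻¹ᵁ W)) :
    ∃ (j : I) (f : j ⟶ k₁), ∀ (k : I) (g : k ⟶ j) (g' : k ⟶ k₁), g ≫ f = g' →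
      (((D.map g').app (t k₁ ⁻¹ᵁ W)).hom.comp ((t k₁).app W).hom).IsIntegralElem
        ((D.map g').app (t k₁ ⁻¹ᵁ W) x) := by
  have := IsCofiltered.isConnected I
  have hinst : @IsIntegralHom c.pt (constCone I S).pt (c.π.app k₁ ≫ t k₁) :=
    ‹IsIntegralHom (c.π.app k₁ ≫ t k₁)›
  obtain ⟨j, f, hj⟩ := exists_forall_isIntegralElem (tNat D t ht) c hc (constCone I S)
    (isLimitConstCone I S) (c.π.app k₁ ≫ t k₁)
    (fun j ↦ by
      change c.π.app j ≫ t j = (c.π.app k₁ ≫ t k₁) ≫ 𝟙 S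
      rw [Category.comp_id]
      exact π_comp_t_eq D c t ht j k₁) k₁ (V := W) hW hU x
  refine ⟨j, f, fun k g g' hg ↦ ?_⟩
  have hle : D.map g' ⁻¹ᵁ (t k₁ ⁻¹ᵁ W) ≤ t k ⁻¹ᵁ W := by
    rw [← Scheme.Hom.comp_preimage, ht]
  have hj' : ((t k).appLE W (D.map g' ⁻¹ᵁ (t k₁ ⁻¹ᵁ W)) hle).hom.IsIntegralElem
      ((D.map g').app (t k₁ ⁻¹ᵁ W) x) := hj k g g' hg
  have heq : ((t k).appLE W (D.map g' ⁻¹ᵁ (t k₁ ⁻¹ᵁ W)) hle).hom =
      ((D.map g').app (t k₁ ⁻¹ᵁ W)).hom.comp ((t k₁).app W).hom := by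
    rw [← CommRingCat.hom_comp]
    congr 1
    simp only [Scheme.Hom.app_eq_appLE, Scheme.Hom.appLE_comp_appLE, ht]
  rw [heq] at hj'
  exact hj'

lemma finite_app_congr {X Y : Scheme.{u}} {f f' : X ⟶ Y} (e : f = f') (W : Y.Opens)
    (H : (f.app W).hom.Finite) : (f'.app W).hom.Finite := by
  subst e; exact H

include hc ht in
lemma exists_forall_finite_t_app [∀ (i j : I) (f : i ⟶ j), IsFinite (D.map f)]
    [∀ i, CompactSpace (D.obj i)] [∀ i, QuasiSeparatedSpace (D.obj i)] [QuasiSeparatedSpace S]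
    [∀ i, LocallyOfFiniteType (t i)] [∀ k, IsIntegralHom (c.π.app k ≫ t k)] (i₀ : I)
    {W : S.Opens} (hW : IsAffineOpen W) :
    ∃ (j : I) (_ : j ⟶ i₀), ∀ (k : I) (_ : k ⟶ j),
      IsAffineOpen (t k ⁻¹ᵁ W) ∧ ((t k).app W).hom.Finite := by
  obtain ⟨k₁, f₁, h₁⟩ := exists_forall_isAffineOpen_t_preimage D c hc t ht i₀ hW
  have hU₁ : IsAffineOpen (t k₁ ⁻¹ᵁ W) := h₁ k₁ (𝟙 _)
  have hφ : ((t k₁).app W).hom.FiniteType := by
    rw [Scheme.Hom.app_eq_appLE]
    exact HasRingHomProperty.appLE @LocallyOfFiniteType _ inferInstance ⟨W, hW⟩ ⟨_, hU₁⟩ _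
  obtain ⟨s, hs⟩ := exists_finset_forall_finite_comp_of_finite _ hφ
  obtain ⟨j, f, hj⟩ := eventually_finset s
    (fun x k g' ↦ (((D.map g').app (t k₁ ⁻¹ᵁ W)).hom.comp ((t k₁).app W).hom).IsIntegralElem
        ((D.map g').app (t k₁ ⁻¹ᵁ W) x))
    (fun x _ ↦ exists_forall_isIntegralElem_t D c hc t ht k₁ hW hU₁.isCompact x)
  refine ⟨j, f ≫ f₁, fun k g ↦ ⟨h₁ k (g ≫ f), ?_⟩⟩
  have := hs ((D.map (g ≫ f)).app (t k₁ ⁻¹ᵁ W)).hom
    (Scheme.Hom.finite_app (D.map (g ≫ f)) _ hU₁) (hj k g (g ≫ f) rfl)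
  rw [← CommRingCat.hom_comp, ← Scheme.Hom.comp_app] at this
  exact finite_app_congr (ht (g ≫ f)) W this

include hc ht in
/-- **Stacks 0A0S-type**: a cofiltered system of qcqs schemes locally of finite type over a qcqs
base `S` with finite transition maps whose limit is integral over `S`: eventually the stages
are finite over `S`. -/
theorem exists_forall_isFinite_t [∀ (i j : I) (f : i ⟶ j), IsFinite (D.map f)]
    [∀ i, CompactSpace (D.obj i)] [∀ i, QuasiSeparatedSpace (D.obj i)]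
    [CompactSpace S] [QuasiSeparatedSpace S]
    [∀ i, LocallyOfFiniteType (t i)] (i₀ : I) [IsIntegralHom (c.π.app i₀ ≫ t i₀)] :
    ∃ (j : I) (_ : j ⟶ i₀), ∀ (k : I) (_ : k ⟶ j), IsFinite (t k) := by
  have hτ (k : I) : IsIntegralHom (c.π.app k ≫ t k) := by
    rw [π_comp_t_eq D c t ht k i₀]; infer_instance
  obtain ⟨j, f, hj⟩ := eventually_finite (ι := S.affineCover.finiteSubcover.I₀)
    (fun a k _ ↦ IsAffineOpen (t k ⁻¹ᵁ (S.affineCover.finiteSubcover.f a).opensRange) ∧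
      ((t k).app (S.affineCover.finiteSubcover.f a).opensRange).hom.Finite)
    (fun a ↦ by
      obtain ⟨j, f, hj⟩ := exists_forall_finite_t_app D c hc t ht i₀
        (isAffineOpen_opensRange (S.affineCover.finiteSubcover.f a))
      exact ⟨j, f, fun k g g' _ ↦ hj k g⟩)
  refine ⟨j, f, fun k g ↦ ?_⟩
  exact isFinite_of_forall_affine (t k)
    (fun a ↦ (S.affineCover.finiteSubcover.f a).opensRange)
    S.affineCover.finiteSubcover.iSup_opensRange
    (fun a ↦ isAffineOpen_opensRange _)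
    (fun a ↦ (hj k g (g ≫ f) rfl a).1) (fun a ↦ (hj k g (g ≫ f) rfl a).2)

end ConstTarget

end Groth.Agent.Lib.Helper50
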