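import Groth.Agent.Lib.Helper50.LimDesc4

set_option autoImplicit false
universe u
open CategoryTheory AlgebraicGeometry Limits

namespace Groth.Agent.Lib.Helper50

section Gen

variable {J : Type u} [SmallCategory J] {F E : J ⥤ Scheme.{u}} (τ : F ⟶ E)

/-- The canonical map `F_k ⟶ F_j ×_{E_j} E_k`. -/
noncomputable abbrev cartLift {j k : J} (g' : k ⟶ j) : F.obj k ⟶ pullback (τ.app j) (E.map g') :=
  pullback.lift (F.map g') (τ.app k) (τ.naturality g')

set_option backward.isDefEq.respectTransparency.types false in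
/-- If `F_k ⟶ F_j ×_{E_j} E_k` is a closed immersion, then sections of `F_k` over (the preimage
of) an affine open are generated by sections of `F_j` and of `E_k`. -/
lemma range_sup_range_eq_top_of_isClosedImmersion_cartLift {j k : J} (g' : k ⟶ j)
    [IsAffineHom (E.map g')]
    {V : (E.obj j).Opens} (hV : IsAffineOpen V) (hU : IsAffineOpen (τ.app j ⁻¹ᵁ V))
    [IsClosedImmersion (cartLift τ g')] :
    ((τ.app k).appLE (E.map g' ⁻¹ᵁ V) (F.map g' ⁻¹ᵁ (τ.app j ⁻¹ᵁ V))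
      (map_preimage_le_app_preimage τ g' V)).hom.range ⊔
      ((F.map g').app (τ.app j ⁻¹ᵁ V)).hom.range = ⊤ := by
  have H := IsPullback.of_hasPullback (τ.app j) (E.map g')
  have hV' : IsAffineOpen (E.map g' ⁻¹ᵁ V) := hV.preimage _
  -- the open of the fibre product
  let UY : (pullback (τ.app j) (E.map g')).Opens :=
    pullback.fst (τ.app j) (E.map g') ⁻¹ᵁ (τ.app j ⁻¹ᵁ V) ⊓
      pullback.snd (τ.app j) (E.map g') ⁻¹ᵁ (E.map g' ⁻¹ᵁ V)
  have hUY : UY = pullback.fst (τ.app j) (E.map g') ⁻¹ᵁ (τ.app j ⁻¹ᵁ V) ⊓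
      pullback.snd (τ.app j) (E.map g') ⁻¹ᵁ (E.map g' ⁻¹ᵁ V) := rfl
  have hUYaff : IsAffineOpen UY := by
    have : IsAffine V.toScheme := hV
    have : IsAffine (E.map g' ⁻¹ᵁ V).toScheme := hV'
    have : IsAffine (τ.app j ⁻¹ᵁ V).toScheme := hU
    exact .of_isIso (Scheme.Hom.isPullback_resLE H (US := V) (UT := E.map g' ⁻¹ᵁ V)
      (UX := τ.app j ⁻¹ᵁ V) le_rfl le_rfl hUY).isoPullback.hom
  have hpo := (isIso_pushoutSection_iff H (US := V) (UT := E.map g' ⁻¹ᵁ V)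
      (UX := τ.app j ⁻¹ᵁ V) le_rfl le_rfl hUY).mp
      (isIso_pushoutSection_of_isAffineOpen H le_rfl le_rfl hUY hV hV' hU)
  have hgenR := range_sup_range_eq_top_of_isPushout hpo
  -- preimage of `UY` in `F_k`
  have hpre : cartLift τ g' ⁻¹ᵁ UY = F.map g' ⁻¹ᵁ (τ.app j ⁻¹ᵁ V) := by
    have e1 : cartLift τ g' ⁻¹ᵁ (pullback.fst (τ.app j) (E.map g') ⁻¹ᵁ (τ.app j ⁻¹ᵁ V)) =
        F.map g' ⁻¹ᵁ (τ.app j ⁻¹ᵁ V) := by
      rw [← Scheme.Hom.comp_preimage, pullback.lift_fst]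
    have e2 : cartLift τ g' ⁻¹ᵁ (pullback.snd (τ.app j) (E.map g') ⁻¹ᵁ (E.map g' ⁻¹ᵁ V)) =
        τ.app k ⁻¹ᵁ (E.map g' ⁻¹ᵁ V) := by
      rw [← Scheme.Hom.comp_preimage, pullback.lift_snd]
    rw [hUY, Scheme.Hom.preimage_inf, e1, e2]
    exact inf_eq_left.mpr (map_preimage_le_app_preimage τ g' V)
  have hsurj : Function.Surjective ((cartLift τ g').appLE UY (F.map g' ⁻¹ᵁ (τ.app j ⁻¹ᵁ V))
      hpre.ge).hom :=
    surjective_appLE_of_eq _ _ _ _ hpre.symm (Scheme.Hom.app_surjective _ _ hUYaff)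
  have h1 := congr(Subring.map ((cartLift τ g').appLE UY (F.map g' ⁻¹ᵁ (τ.app j ⁻¹ᵁ V))
      hpre.ge).hom $hgenR)
  rw [Subring.map_sup, RingHom.map_range, RingHom.map_range, ← RingHom.range_eq_map,
    RingHom.range_eq_top.mpr hsurj, ← CommRingCat.hom_comp, ← CommRingCat.hom_comp] at h1
  simp only [Scheme.Hom.appLE_comp_appLE, cartLift, pullback.lift_fst, pullback.lift_snd] at h1
  rw [sup_comm, Scheme.Hom.app_eq_appLE]
  exact h1

end Gen

end Groth.Agent.Lib.Helper50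

namespace Groth.Agent.Lib.Helper50

section Cart'

variable {J : Type u} [SmallCategory J] [IsCofiltered J] {F E : J ⥤ Scheme.{u}} (τ : F ⟶ E)
    [∀ (i j : J) (f : i ⟶ j), IsAffineHom (F.map f)]
    [∀ (i j : J) (f : i ⟶ j), IsAffineHom (E.map f)]
    (cF : Cone F) (hcF : IsLimit cF) (cE : Cone E) (hcE : IsLimit cE)
    (f : cF.pt ⟶ cE.pt) (hf : ∀ j, cF.π.app j ≫ τ.app j = f ≫ cE.π.app j)
    (hcl : ∀ {j k : J} (φ : k ⟶ j), IsClosedImmersion (cartLift τ φ))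

include hcF hcE hf hcl in
lemma exists_forall_surjective_app_appLE' (j₁ : J) {V : (E.obj j₁).Opens}
    (hV : IsAffineOpen V) (hU : IsAffineOpen (τ.app j₁ ⁻¹ᵁ V))
    (hφ : ((τ.app j₁).app V).hom.FiniteType) [IsClosedImmersion f] :
    ∃ (j : J) (φ : j ⟶ j₁), ∀ (k : J) (g : k ⟶ j) (g' : k ⟶ j₁), g ≫ φ = g' →
      Function.Surjective ((τ.app k).appLE (E.map g' ⁻¹ᵁ V)
        (F.map g' ⁻¹ᵁ (τ.app j₁ ⁻¹ᵁ V)) (map_preimage_le_app_preimage τ g' V)).hom := by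
  obtain ⟨s, hs⟩ := exists_finset_forall_surjective_of_generate _ hφ
  obtain ⟨j, φ, hj⟩ := eventually_finset s
    (fun x k g' ↦ (F.map g').app (τ.app j₁ ⁻¹ᵁ V) x ∈ ((τ.app k).appLE (E.map g' ⁻¹ᵁ V)
        (F.map g' ⁻¹ᵁ (τ.app j₁ ⁻¹ᵁ V)) (map_preimage_le_app_preimage τ g' V)).hom.range)
    (fun x _ ↦ exists_forall_map_app_mem_range_appLE τ cF hcF cE hcE f hf j₁ hV hU.isCompact x)
  refine ⟨j, φ, fun k g g' hg ↦ ?_⟩
  refine hs ((E.map g').app V).hom ((F.map g').app (τ.app j₁ ⁻¹ᵁ V)).hom _ ?_ ?_ (hj k g g' hg)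
  · rw [← CommRingCat.hom_comp, ← CommRingCat.hom_comp]
    congr 1
    simp only [Scheme.Hom.app_eq_appLE, Scheme.Hom.appLE_comp_appLE, τ.naturality]
  · have := hcl g'
    exact range_sup_range_eq_top_of_isClosedImmersion_cartLift τ g' hV hU

include hcF hcE hf hcl in
/-- **Descent of closed immersions**, "closed-cartesian" version: instead of `τ` cartesian we
only assume that the canonical maps `F_k ⟶ F_j ×_{E_j} E_k` are closed immersions. -/
theorem exists_forall_isClosedImmersion_app'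
    [∀ j, CompactSpace (E.obj j)] [∀ j, QuasiSeparatedSpace (E.obj j)]
    [∀ j, CompactSpace (F.obj j)] [∀ j, QuasiSeparatedSpace (F.obj j)]
    [∀ j, LocallyOfFiniteType (τ.app j)] [IsClosedImmersion f] (j₀ : J) :
    ∃ (j : J) (_ : j ⟶ j₀), ∀ (k : J) (_ : k ⟶ j), IsClosedImmersion (τ.app k) := by
  obtain ⟨j₁, φ₁, h₁⟩ := exists_forall_isAffineHom_app τ cF hcF cE hcE f hf j₀
  have hτ₁ : IsAffineHom (τ.app j₁) := h₁ j₁ (𝟙 _)
  obtain ⟨j, φ, hj⟩ := eventually_finite (ι := (E.obj j₁).affineCover.finiteSubcover.I₀)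
    (fun a k g' ↦ Function.Surjective ((τ.app k).appLE
      (E.map g' ⁻¹ᵁ ((E.obj j₁).affineCover.finiteSubcover.f a).opensRange)
      (F.map g' ⁻¹ᵁ (τ.app j₁ ⁻¹ᵁ ((E.obj j₁).affineCover.finiteSubcover.f a).opensRange))
      (map_preimage_le_app_preimage τ g' _)).hom)
    (fun a ↦ exists_forall_surjective_app_appLE' τ cF hcF cE hcE f hf hcl j₁
      (isAffineOpen_opensRange _) ((isAffineOpen_opensRange _).preimage _) (by
        rw [Scheme.Hom.app_eq_appLE]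
        exact HasRingHomProperty.appLE @LocallyOfFiniteType _ inferInstance
          ⟨_, isAffineOpen_opensRange _⟩ ⟨_, (isAffineOpen_opensRange _).preimage _⟩ _))
  refine ⟨j, φ ≫ φ₁, fun k g ↦ ?_⟩
  have : IsAffineHom (τ.app k) := h₁ k (g ≫ φ)
  refine isClosedImmersion_of_forall_affine (τ.app k)
    (fun a ↦ E.map (g ≫ φ) ⁻¹ᵁ ((E.obj j₁).affineCover.finiteSubcover.f a).opensRange) ?_
    (fun a ↦ (isAffineOpen_opensRange _).preimage _)
    (fun a ↦ ((isAffineOpen_opensRange _).preimage _).preimage _) (fun a ↦ ?_)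
  · rw [← Scheme.Hom.preimage_iSup, (E.obj j₁).affineCover.finiteSubcover.iSup_opensRange]
    rfl
  · exact surjective_app_of_surjective_appLE _ _ _ _ (map_preimage_app_preimage τ (g ≫ φ) _)
      (hj k g (g ≫ φ) rfl a)

end Cart'

end Groth.Agent.Lib.Helper50
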