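import Groth.Agent.Lib.Helper50.LimDesc2
import Groth.Agent.Lib.Helper50.Lim
import Mathlib.AlgebraicGeometry.Morphisms.Immersion

set_option autoImplicit false
universe u
open CategoryTheory AlgebraicGeometry Limits

namespace Groth.Agent.Lib.Helper50

/-- An immersion from a quasi-compact scheme factors as a closed immersion into a quasi-compact
open subscheme. -/
lemma exists_isCompact_opens_isClosedImmersion_lift {X S : Scheme.{u}} (τ : X ⟶ S)
    [IsImmersion τ] [CompactSpace X] :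
    ∃ (U : S.Opens) (hU : Set.range τ ⊆ (U : Set S)), IsCompact (U : Set S) ∧
      IsClosedImmersion (IsOpenImmersion.lift U.ι τ (by simpa using hU)) := by
  have key (x : X) : ∃ W : S.Opens, IsAffineOpen W ∧ τ x ∈ W ∧ W ≤ τ.coborderRange := by
    obtain ⟨_, ⟨W, hW : IsAffineOpen W, rfl⟩, hxW, hWO⟩ :=
      S.isBasis_affineOpens.exists_subset_of_mem_open
        (show τ x ∈ (τ.coborderRange : Set S) from subset_coborder ⟨x, rfl⟩)
        τ.coborderRange.isOpen
    exact ⟨W, hW, hxW, hWO⟩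
  choose W hW hxW hWO using key
  obtain ⟨σ, hσ⟩ := CompactSpace.elim_nhds_subcover (fun x ↦ (τ ⁻¹ᵁ W x : Set X))
    (fun x ↦ (τ ⁻¹ᵁ W x).2.mem_nhds (hxW x))
  let U : S.Opens := ⨆ x ∈ σ, W x
  have hUO : U ≤ τ.coborderRange := iSup₂_le fun x _ ↦ hWO x
  have hU : Set.range τ ⊆ (U : Set S) := by
    rintro _ ⟨y, rfl⟩
    have : y ∈ ⋃ x ∈ σ, (τ ⁻¹ᵁ W x : Set X) := hσ.ge (Set.mem_univ y)
    obtain ⟨x, hx, hyx⟩ := Set.mem_iUnion₂.mp this
    exact TopologicalSpace.Opens.mem_iSup.mpr ⟨x, TopologicalSpace.Opens.mem_iSup.mpr ⟨hx, hyx⟩⟩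
  refine ⟨U, hU, ?_, ?_⟩
  · have : (U : Set S) = ⋃ x ∈ σ, (W x : Set S) := by simp [U]
    rw [this]
    exact σ.isCompact_biUnion fun x _ ↦ (hW x).isCompact
  · have h1 : IsPreimmersion (IsOpenImmersion.lift U.ι τ (by simpa using hU) ≫ U.ι) := by
      rw [IsOpenImmersion.lift_fac]; infer_instance
    have : IsPreimmersion (IsOpenImmersion.lift U.ι τ (by simpa using hU)) := .of_comp _ U.ι
    refine .of_isPreimmersion _ ?_
    have : Set.range (IsOpenImmersion.lift U.ι τ (by simpa using hU)) =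
        U.ι ⁻¹' closure (Set.range τ) := by
      ext u
      constructor
      · rintro ⟨x, rfl⟩
        apply subset_closure
        refine ⟨x, ?_⟩
        rw [← Scheme.Hom.comp_apply, IsOpenImmersion.lift_fac]
      · intro hu
        have h2 : U.ι u ∈ closure (Set.range τ) ∩ coborder (Set.range τ) :=
          ⟨hu, hUO u.2⟩
        rw [closure_inter_coborder] at h2
        obtain ⟨x, hx⟩ := h2
        refine ⟨x, U.ι.isEmbedding.injective ?_⟩
        rw [← Scheme.Hom.comp_apply, IsOpenImmersion.lift_fac, hx]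
    rw [this]
    exact isClosed_closure.preimage U.ι.continuous


variable {I : Type u} [SmallCategory I] [IsCofiltered I]
    (D : I ⥤ Scheme.{u}) (c : Limits.Cone D) (hc : Limits.IsLimit c)
    {S : Scheme.{u}} (t : ∀ i, D.obj i ⟶ S) (ht : ∀ {i j : I} (f : j ⟶ i), D.map f ≫ t i = t j)

include hc ht in
/-- A cofiltered system of qcqs schemes locally of finite type over a quasi-separated
base `S` with closed immersions as transition maps whose limit is a subscheme of `S`:
eventually the stages are subschemes of `S`. -/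
theorem exists_forall_isImmersion_t [∀ (i j : I) (f : i ⟶ j), IsClosedImmersion (D.map f)]
    [∀ i, CompactSpace (D.obj i)] [∀ i, QuasiSeparatedSpace (D.obj i)]
    [QuasiSeparatedSpace S]
    [∀ i, LocallyOfFiniteType (t i)] (i₀ : I) [IsImmersion (c.π.app i₀ ≫ t i₀)] :
    ∃ (j : I) (_ : j ⟶ i₀), ∀ (k : I) (_ : k ⟶ j), IsImmersion (t k) := by
  have : CompactSpace c.pt := compactSpace_pt D c hc i₀
  obtain ⟨U, hU, hUc, hcl⟩ := exists_isCompact_opens_isClosedImmersion_lift (X := c.pt)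
    (c.π.app i₀ ≫ t i₀)
  obtain ⟨j₀, f₀, hj₀⟩ := exists_map_eq_top D c hc (t i₀ ⁻¹ᵁ U) (by
    rw [← Scheme.Hom.comp_preimage]
    ext x
    simp only [TopologicalSpace.Opens.coe_top, Set.mem_univ, iff_true]
    exact hU ⟨x, rfl⟩)
  have hj₀' : t j₀ ⁻¹ᵁ U = ⊤ := by
    rw [← ht f₀, Scheme.Hom.comp_preimage]; exact hj₀
  have hrange (k : Over j₀) : Set.range (t k.left) ⊆ (U : Set S) := by
    rintro _ ⟨x, rfl⟩
    have h1 : D.map k.hom x ∈ t j₀ ⁻¹ᵁ U := by rw [hj₀']; trivial
    have h2 : t k.left x = t j₀ (D.map k.hom x) := by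
      rw [← Scheme.Hom.comp_apply, ht]
    rw [h2]; exact h1
  let D' : Over j₀ ⥤ Scheme.{u} := Over.forget j₀ ⋙ D
  let c' : Cone D' := c.whisker (Over.forget j₀)
  have hc' : IsLimit c' := (Functor.Initial.isLimitWhiskerEquiv (Over.forget j₀) c).symm hc
  let t' : ∀ k : Over j₀, D'.obj k ⟶ U.toScheme := fun k ↦
    IsOpenImmersion.lift U.ι (t k.left) (by rw [Scheme.Opens.range_ι]; exact hrange k)
  have ht'ι (k : Over j₀) : t' k ≫ U.ι = t k.left := IsOpenImmersion.lift_fac ..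
  have ht' : ∀ {k l : Over j₀} (f : l ⟶ k), D'.map f ≫ t' k = t' l := by
    intro k l f
    rw [← cancel_mono U.ι, Category.assoc, ht'ι, ht'ι]
    exact ht f.left
  have : ∀ (k l : Over j₀) (f : k ⟶ l), IsClosedImmersion (D'.map f) := fun k l f ↦
    inferInstanceAs (IsClosedImmersion (D.map f.left))
  have : ∀ k : Over j₀, CompactSpace (D'.obj k) := fun k ↦
    inferInstanceAs (CompactSpace (D.obj k.left))
  have : ∀ k : Over j₀, QuasiSeparatedSpace (D'.obj k) := fun k ↦
    inferInstanceAs (QuasiSeparatedSpace (D.obj k.left))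
  have : CompactSpace U.toScheme := isCompact_iff_compactSpace.mp hUc
  have : QuasiSeparatedSpace U.toScheme := quasiSeparatedSpace_of_quasiSeparated U.ι
  have : ∀ k : Over j₀, LocallyOfFiniteType (t' k) := fun k ↦ by
    have : LocallyOfFiniteType (t' k ≫ U.ι) := by
      rw [ht'ι]; exact inferInstanceAs (LocallyOfFiniteType (t k.left))
    exact locallyOfFiniteType_of_comp (t' k) U.ι
  have : IsClosedImmersion (c'.π.app (Over.mk (𝟙 j₀)) ≫ t' (Over.mk (𝟙 j₀))) := by
    have e : c'.π.app (Over.mk (𝟙 j₀)) ≫ t' (Over.mk (𝟙 j₀)) =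
        IsOpenImmersion.lift U.ι (c.π.app i₀ ≫ t i₀) (by simpa using hU) := by
      rw [← cancel_mono U.ι, Category.assoc, ht'ι, IsOpenImmersion.lift_fac]
      exact π_comp_t_eq D c t ht j₀ i₀
    rw [e]; exact hcl
  obtain ⟨j, f, hj⟩ := exists_forall_isClosedImmersion_t D' c' hc' t' ht' (Over.mk (𝟙 j₀))
  refine ⟨j.left, j.hom ≫ f₀, fun k g ↦ ?_⟩
  have h1 := hj (Over.mk (g ≫ j.hom)) (Over.homMk g)
  have h2 : t k = t' (Over.mk (g ≫ j.hom)) ≫ U.ι := (ht'ι (Over.mk (g ≫ j.hom))).symm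
  rw [h2]
  have h3 : IsImmersion (t' (Over.mk (g ≫ j.hom))) := inferInstance
  exact @IsImmersion.comp _ _ _ (t' (Over.mk (g ≫ j.hom))) U.ι h3 inferInstance

end Groth.Agent.Lib.Helper50
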