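import Groth.Agent.Lib.Helper50.LimDesc4
import Groth.Agent.Lib.Helper50.LimDesc8

set_option autoImplicit false
universe u
open CategoryTheory AlgebraicGeometry Limits

namespace Groth.Agent.Lib.Helper50

lemma surjective_comp_app {X Y Z : Scheme.{u}} (f : X ⟶ Y) (g : Y ⟶ Z) (W : Z.Opens)
    (h1 : Function.Surjective (g.app W).hom) (h2 : Function.Surjective (f.app (g ⁻¹ᵁ W)).hom) :
    Function.Surjective ((f ≫ g).app W).hom := h2.comp h1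

lemma surjective_app_of_surjective_comp_app {X Y Z : Scheme.{u}} (f : X ⟶ Y) (g : Y ⟶ Z)
    (W : Z.Opens) (h : Function.Surjective ((f ≫ g).app W).hom) :
    Function.Surjective (f.app (g ⁻¹ᵁ W)).hom :=
  Function.Surjective.of_comp (g := (g.app W).hom) h

lemma isAffineOpen_preimage_and_surjective_app_of_lift {X Y : Scheme.{u}} (f : X ⟶ Y)
    (U : Y.Opens) (hU : Set.range f ⊆ (U : Set Y))
    (hcl : IsClosedImmersion (IsOpenImmersion.lift U.ι f (by simpa using hU)))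
    {W : Y.Opens} (hW : IsAffineOpen W) (hWU : W ≤ U) :
    IsAffineOpen (f ⁻¹ᵁ W) ∧ Function.Surjective (f.app W).hom := by
  have hW' : IsAffineOpen (U.ι ⁻¹ᵁ W) :=
    hW.preimage_of_isOpenImmersion U.ι (by simpa [Scheme.Opens.opensRange_ι] using hWU)
  have key : ∀ (g : X ⟶ Y) (_ : g = IsOpenImmersion.lift U.ι f (by simpa using hU) ≫ U.ι),
      IsAffineOpen (g ⁻¹ᵁ W) ∧ Function.Surjective (g.app W).hom := by
    rintro g rfl
    refine ⟨?_, ?_⟩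
    · rw [Scheme.Hom.comp_preimage]
      exact hW'.preimage _
    · have := U.ι.isIso_app W (by simpa [Scheme.Opens.opensRange_ι] using hWU)
      exact surjective_comp_app _ _ _
        (ConcreteCategory.bijective_of_isIso (U.ι.app W)).surjective
        (Scheme.Hom.app_surjective _ _ hW')
  exact key f (IsOpenImmersion.lift_fac ..).symm

/-- A morphism is an immersion if there are affine opens covering its image with affine preimages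
on which the map on sections is surjective. -/
lemma isImmersion_of_forall_affine {X Y : Scheme.{u}} (f : X ⟶ Y) {ι : Type*}
    (V : ι → Y.Opens) (hV : ∀ a, IsAffineOpen (V a))
    (hrange : Set.range f ⊆ ((⨆ a, V a : Y.Opens) : Set Y))
    (h1 : ∀ a, IsAffineOpen (f ⁻¹ᵁ V a)) (h2 : ∀ a, Function.Surjective (f.app (V a)).hom) :
    IsImmersion f := by
  set U : Y.Opens := ⨆ a, V a with hUdef
  have hVU (a) : V a ≤ U := le_iSup V a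
  have hW (a) : IsAffineOpen (U.ι ⁻¹ᵁ V a) :=
    (hV a).preimage_of_isOpenImmersion U.ι (by simpa [Scheme.Opens.opensRange_ι] using hVU a)
  have key : ∀ (g : X ⟶ Y) (_ : g = IsOpenImmersion.lift U.ι f (by simpa using hrange) ≫ U.ι),
      (∀ a, IsAffineOpen (g ⁻¹ᵁ V a)) → (∀ a, Function.Surjective (g.app (V a)).hom) →
      IsClosedImmersion (IsOpenImmersion.lift U.ι f (by simpa using hrange)) := by
    rintro g rfl h1 h2
    refine isClosedImmersion_of_forall_affine _ (fun a ↦ U.ι ⁻¹ᵁ V a) ?_ hW h1 fun a ↦ ?_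
    · rw [← Scheme.Hom.preimage_iSup]
      simp [U]
    · exact surjective_app_of_surjective_comp_app _ _ _ (h2 a)
  have hcl := key f (IsOpenImmersion.lift_fac ..).symm h1 h2
  rw [← IsOpenImmersion.lift_fac U.ι f (by simpa using hrange)]
  infer_instance


lemma surjective_app_of_eq {X Y : Scheme.{u}} (f : X ⟶ Y) {W W' : Y.Opens} (e : W = W')
    (h : Function.Surjective (f.app W).hom) : Function.Surjective (f.app W').hom := by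
  subst e; exact h

section Cart

variable {J : Type u} [SmallCategory J] [IsCofiltered J] {F E : J ⥤ Scheme.{u}} (τ : F ⟶ E)
    [∀ (i j : J) (f : i ⟶ j), IsAffineHom (F.map f)]
    [∀ (i j : J) (f : i ⟶ j), IsAffineHom (E.map f)]
    (cF : Cone F) (hcF : IsLimit cF) (cE : Cone E) (hcE : IsLimit cE)
    (f : cF.pt ⟶ cE.pt) (hf : ∀ j, cF.π.app j ≫ τ.app j = f ≫ cE.π.app j)

include hcF hcE hf in
lemma exists_forall_map_app_mem_range_appLE_of_surjective (j₁ : J) {V : (E.obj j₁).Opens}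
    (hV : IsAffineOpen V) (hU : IsCompact (τ.app j₁ ⁻¹ᵁ V : Set (F.obj j₁)))
    (hS : Function.Surjective (f.app (cE.π.app j₁ ⁻¹ᵁ V)).hom)
    (x : Γ(F.obj j₁, τ.app j₁ ⁻¹ᵁ V)) :
    ∃ (j : J) (φ : j ⟶ j₁), ∀ (k : J) (g : k ⟶ j) (g' : k ⟶ j₁), g ≫ φ = g' →
      (F.map g').app (τ.app j₁ ⁻¹ᵁ V) x ∈ ((τ.app k).appLE (E.map g' ⁻¹ᵁ V)
        (F.map g' ⁻¹ᵁ (τ.app j₁ ⁻¹ᵁ V)) (map_preimage_le_app_preimage τ g' V)).hom.range := by
  have hπ := isAffineHom_π_app E cE hcE j₁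
  have hW : IsAffineOpen (cE.π.app j₁ ⁻¹ᵁ V) := hV.preimage _
  have hO := π_preimage_app_preimage τ cF cE f hf j₁ V
  obtain ⟨σ, hσ⟩ := surjective_appLE_of_eq f (cE.π.app j₁ ⁻¹ᵁ V)
    (cF.π.app j₁ ⁻¹ᵁ (τ.app j₁ ⁻¹ᵁ V)) hO.le hO hS
    ((cF.π.app j₁).app (τ.app j₁ ⁻¹ᵁ V) x)
  obtain ⟨k₁, g₁, t₁, ht₁⟩ := exists_appLE_π_eq E cE hcE hV σ
  have hU₁ : IsCompact (F.map g₁ ⁻¹ᵁ (τ.app j₁ ⁻¹ᵁ V) : Set (F.obj k₁)) :=
    QuasiCompact.isCompact_preimage (f := F.map g₁) _ (TopologicalSpace.Opens.isOpen _) hU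
  have key : (cF.π.app k₁).app (F.map g₁ ⁻¹ᵁ (τ.app j₁ ⁻¹ᵁ V))
        ((F.map g₁).app (τ.app j₁ ⁻¹ᵁ V) x) =
      (cF.π.app k₁).app (F.map g₁ ⁻¹ᵁ (τ.app j₁ ⁻¹ᵁ V))
        ((τ.app k₁).appLE (E.map g₁ ⁻¹ᵁ V) (F.map g₁ ⁻¹ᵁ (τ.app j₁ ⁻¹ᵁ V))
          (map_preimage_le_app_preimage τ g₁ V) t₁) := by
    refine app_eq_of_appLE_eq _ _ (cF.π.app j₁ ⁻¹ᵁ (τ.app j₁ ⁻¹ᵁ V))
      (π_preimage_le F cF g₁ _) (π_preimage_eq F cF g₁ _).symm _ _ ?_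
    rw [← ht₁] at hσ
    simp only [← CommRingCat.comp_apply, Scheme.Hom.app_eq_appLE, Scheme.Hom.appLE_comp_appLE,
      cF.w, hf] at hσ ⊢
    exact hσ.symm
  obtain ⟨l, u, hl⟩ := exists_app_map_eq_map_of_isLimit F cF hcF hU₁ _ _ key
  refine ⟨l, u ≫ g₁, fun k g g' hg ↦ ?_⟩
  subst hg
  refine ⟨(E.map (g ≫ u)).appLE (E.map g₁ ⁻¹ᵁ V) (E.map (g ≫ u ≫ g₁) ⁻¹ᵁ V)
    (by rw [← Scheme.Hom.comp_preimage, ← E.map_comp, Category.assoc]) t₁, ?_⟩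
  have := congr((F.map g).appLE (F.map u ⁻¹ᵁ (F.map g₁ ⁻¹ᵁ (τ.app j₁ ⁻¹ᵁ V)))
    (F.map (g ≫ u ≫ g₁) ⁻¹ᵁ (τ.app j₁ ⁻¹ᵁ V))
    (by simp only [Functor.map_comp, Scheme.Hom.comp_preimage]; exact le_rfl) $hl)
  have hnat : F.map g ≫ F.map u ≫ τ.app k₁ = τ.app k ≫ E.map (g ≫ u) := by
    rw [← Category.assoc, ← F.map_comp, τ.naturality]
  simp only [← CommRingCat.comp_apply, Scheme.Hom.app_eq_appLE, Scheme.Hom.appLE_comp_appLE,
    ← Functor.map_comp] at this ⊢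
  simp only [hnat] at this
  exact this.symm

variable (hτ : ∀ {j k : J} (φ : j ⟶ k), IsPullback (F.map φ) (τ.app j) (τ.app k) (E.map φ))

include hcF hcE hf hτ in
lemma exists_forall_surjective_app_appLE_of_surjective (j₁ : J) {V : (E.obj j₁).Opens}
    (hV : IsAffineOpen V) (hU : IsAffineOpen (τ.app j₁ ⁻¹ᵁ V))
    (hφ : ((τ.app j₁).app V).hom.FiniteType)
    (hS : Function.Surjective (f.app (cE.π.app j₁ ⁻¹ᵁ V)).hom) :
    ∃ (j : J) (φ : j ⟶ j₁), ∀ (k : J) (g : k ⟶ j) (g' : k ⟶ j₁), g ≫ φ = g' →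
      Function.Surjective ((τ.app k).appLE (E.map g' ⁻¹ᵁ V)
        (F.map g' ⁻¹ᵁ (τ.app j₁ ⁻¹ᵁ V)) (map_preimage_le_app_preimage τ g' V)).hom := by
  obtain ⟨s, hs⟩ := exists_finset_forall_surjective_of_generate _ hφ
  obtain ⟨j, φ, hj⟩ := eventually_finset s
    (fun x k g' ↦ (F.map g').app (τ.app j₁ ⁻¹ᵁ V) x ∈ ((τ.app k).appLE (E.map g' ⁻¹ᵁ V)
        (F.map g' ⁻¹ᵁ (τ.app j₁ ⁻¹ᵁ V)) (map_preimage_le_app_preimage τ g' V)).hom.range)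
    (fun x _ ↦ exists_forall_map_app_mem_range_appLE_of_surjective τ cF hcF cE hcE f hf j₁ hV
      hU.isCompact hS x)
  refine ⟨j, φ, fun k g g' hg ↦ ?_⟩
  refine hs ((E.map g').app V).hom ((F.map g').app (τ.app j₁ ⁻¹ᵁ V)).hom _ ?_ ?_ (hj k g g' hg)
  · rw [← CommRingCat.hom_comp, ← CommRingCat.hom_comp]
    congr 1
    simp only [Scheme.Hom.app_eq_appLE, Scheme.Hom.appLE_comp_appLE, τ.naturality]
  · have hUY : F.map g' ⁻¹ᵁ (τ.app j₁ ⁻¹ᵁ V) =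
        F.map g' ⁻¹ᵁ (τ.app j₁ ⁻¹ᵁ V) ⊓ τ.app k ⁻¹ᵁ (E.map g' ⁻¹ᵁ V) :=
      (inf_eq_left.mpr (map_preimage_le_app_preimage τ g' V)).symm
    have hpo := (isIso_pushoutSection_iff (hτ g') (US := V) (UT := E.map g' ⁻¹ᵁ V)
      (UX := τ.app j₁ ⁻¹ᵁ V) le_rfl le_rfl hUY).mp
      (isIso_pushoutSection_of_isAffineOpen (hτ g') le_rfl le_rfl hUY hV (hV.preimage _) hU)
    have := range_sup_range_eq_top_of_isPushout hpo
    rw [sup_comm]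
    rw [Scheme.Hom.app_eq_appLE]
    exact this

include hcF hcE hf hτ in
/-- Local descent of "closed immersion over an affine open". -/
lemma exists_forall_isAffineOpen_and_surjective_app [∀ j, QuasiSeparatedSpace (F.obj j)]
    [∀ j, LocallyOfFiniteType (τ.app j)] (j₁ : J)
    {V : (E.obj j₁).Opens} (hV : IsAffineOpen V)
    (hc : IsCompact (τ.app j₁ ⁻¹ᵁ V : Set (F.obj j₁)))
    (hA : IsAffineOpen (f ⁻¹ᵁ (cE.π.app j₁ ⁻¹ᵁ V)))
    (hS : Function.Surjective (f.app (cE.π.app j₁ ⁻¹ᵁ V)).hom) :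
    ∃ (j : J) (φ : j ⟶ j₁), ∀ (k : J) (g : k ⟶ j) (g' : k ⟶ j₁), g ≫ φ = g' →
      ∀ W : (E.obj k).Opens, W = E.map g' ⁻¹ᵁ V →
        IsAffineOpen (τ.app k ⁻¹ᵁ W) ∧ Function.Surjective ((τ.app k).app W).hom := by
  have hA' : IsAffineOpen (cF.π.app j₁ ⁻¹ᵁ (τ.app j₁ ⁻¹ᵁ V)) := by
    rw [π_preimage_app_preimage τ cF cE f hf]; exact hA
  obtain ⟨j₂, φ₂, h₂⟩ := exists_forall_isAffineOpen_map_preimage F cF hcF j₁ hc hA'
  have hV₂ : IsAffineOpen (E.map φ₂ ⁻¹ᵁ V) := hV.preimage _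
  have hU₂ : IsAffineOpen (τ.app j₂ ⁻¹ᵁ (E.map φ₂ ⁻¹ᵁ V)) := by
    rw [← map_preimage_app_preimage]; exact h₂ j₂ (𝟙 _) φ₂ (Category.id_comp _)
  have hφ₂ : ((τ.app j₂).app (E.map φ₂ ⁻¹ᵁ V)).hom.FiniteType := by
    rw [Scheme.Hom.app_eq_appLE]
    exact HasRingHomProperty.appLE @LocallyOfFiniteType _ inferInstance ⟨_, hV₂⟩ ⟨_, hU₂⟩ _
  have hS₂ : Function.Surjective (f.app (cE.π.app j₂ ⁻¹ᵁ (E.map φ₂ ⁻¹ᵁ V))).hom := by
    have e : cE.π.app j₁ ⁻¹ᵁ V = cE.π.app j₂ ⁻¹ᵁ (E.map φ₂ ⁻¹ᵁ V) := by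
      rw [← Scheme.Hom.comp_preimage, cE.w]
    exact surjective_app_of_eq f e hS
  obtain ⟨j₃, φ₃, h₃⟩ := exists_forall_surjective_app_appLE_of_surjective τ cF hcF cE hcE f hf hτ
    j₂ hV₂ hU₂ hφ₂ hS₂
  refine ⟨j₃, φ₃ ≫ φ₂, fun k g g' hg W hW ↦ ?_⟩
  subst hg
  have e1 : E.map (g ≫ φ₃ ≫ φ₂) ⁻¹ᵁ V = E.map (g ≫ φ₃) ⁻¹ᵁ (E.map φ₂ ⁻¹ᵁ V) := by
    rw [← Scheme.Hom.comp_preimage, ← E.map_comp, Category.assoc]
  rw [e1] at hW
  subst hW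
  refine ⟨?_, ?_⟩
  · have := h₂ k (g ≫ φ₃) ((g ≫ φ₃) ≫ φ₂) rfl
    rw [map_preimage_app_preimage, E.map_comp, Scheme.Hom.comp_preimage] at this
    exact this
  · exact surjective_app_of_surjective_appLE _ _ _ _ (map_preimage_app_preimage τ (g ≫ φ₃) _)
      (h₃ k g (g ≫ φ₃) rfl)

include hcF hcE hf hτ in
/-- **Descent of immersions**. For a cartesian natural transformation
between cofiltered systems of qcqs schemes with affine transition maps, locally of finite type,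
whose limit is an immersion: eventually the components are immersions. -/
theorem exists_forall_isImmersion_app
    [∀ j, CompactSpace (E.obj j)] [∀ j, QuasiSeparatedSpace (E.obj j)]
    [∀ j, CompactSpace (F.obj j)] [∀ j, QuasiSeparatedSpace (F.obj j)]
    [∀ j, LocallyOfFiniteType (τ.app j)] [IsImmersion f] (j₀ : J) :
    ∃ (j : J) (_ : j ⟶ j₀), ∀ (k : J) (_ : k ⟶ j), IsImmersion (τ.app k) := by
  have : CompactSpace cF.pt := compactSpace_pt F cF hcF j₀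
  obtain ⟨U, hU, hUc, hcl⟩ := exists_isCompact_opens_isClosedImmersion_lift f
  obtain ⟨j₁, φ₁, U₁, hU₁c, hU₁⟩ := exists_preimage_eq_over E cE hcE j₀ U hUc
  obtain ⟨j₂, φ₂, h₂⟩ := exists_map_eq_top F cF hcF (τ.app j₁ ⁻¹ᵁ U₁) (by
    rw [π_preimage_app_preimage τ cF cE f hf, hU₁]
    ext x
    simp only [TopologicalSpace.Opens.coe_top, Set.mem_univ, iff_true]
    exact hU ⟨x, rfl⟩)
  have hU₂c : IsCompact (E.map φ₂ ⁻¹ᵁ U₁ : Set (E.obj j₂)) :=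
    QuasiCompact.isCompact_preimage (f := E.map φ₂) _ U₁.isOpen hU₁c
  have hU₂top : τ.app j₂ ⁻¹ᵁ (E.map φ₂ ⁻¹ᵁ U₁) = ⊤ := by
    rw [← map_preimage_app_preimage]; exact h₂
  have hU₂π : cE.π.app j₂ ⁻¹ᵁ (E.map φ₂ ⁻¹ᵁ U₁) = U := by
    rw [← Scheme.Hom.comp_preimage, cE.w, hU₁]
  obtain ⟨s, hs, hsU⟩ := isCompact_iff_finite_and_eq_biUnion_affineOpens.mp hU₂c
  have := hs.to_subtype
  have hπ := isAffineHom_π_app E cE hcE j₂
  obtain ⟨j, φ, hj⟩ := eventually_finite (ι := s)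
    (fun V k g' ↦ ∀ W : (E.obj k).Opens, W = E.map g' ⁻¹ᵁ (V.1 : (E.obj j₂).Opens) →
       IsAffineOpen (τ.app k ⁻¹ᵁ W) ∧ Function.Surjective ((τ.app k).app W).hom)
    (fun V ↦ by
      have hVU : (V.1 : (E.obj j₂).Opens) ≤ E.map φ₂ ⁻¹ᵁ U₁ := by
        rw [hsU]
        exact le_iSup₂ (f := fun (i : (E.obj j₂).affineOpens) (_ : i ∈ s) ↦
          (i : (E.obj j₂).Opens)) V.1 V.2
      have hW : IsAffineOpen (cE.π.app j₂ ⁻¹ᵁ V.1.1) := V.1.2.preimage _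
      have hWU : cE.π.app j₂ ⁻¹ᵁ V.1.1 ≤ U := by
        rw [← hU₂π]; exact Scheme.Hom.preimage_mono _ hVU
      obtain ⟨hA, hS⟩ := isAffineOpen_preimage_and_surjective_app_of_lift f U hU hcl hW hWU
      exact exists_forall_isAffineOpen_and_surjective_app τ cF hcF cE hcE f hf hτ j₂ V.1.2
        (QuasiCompact.isCompact_preimage (f := τ.app j₂) _ V.1.1.isOpen V.1.2.isCompact) hA hS)
  refine ⟨j, φ ≫ φ₂ ≫ φ₁, fun k g ↦ ?_⟩
  refine isImmersion_of_forall_affine (τ.app k)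
    (fun V : s ↦ E.map (g ≫ φ) ⁻¹ᵁ V.1.1) (fun V ↦ V.1.2.preimage _) ?_
    (fun V ↦ (hj k g (g ≫ φ) rfl V _ rfl).1) (fun V ↦ (hj k g (g ≫ φ) rfl V _ rfl).2)
  rintro _ ⟨x, rfl⟩
  have e1 : (⨆ V : s, E.map (g ≫ φ) ⁻¹ᵁ V.1.1) = E.map (g ≫ φ) ⁻¹ᵁ (E.map φ₂ ⁻¹ᵁ U₁) := by
    rw [hsU, ← Scheme.Hom.preimage_iSup, iSup_subtype']
  rw [e1]
  have e2 : τ.app k ⁻¹ᵁ (E.map (g ≫ φ) ⁻¹ᵁ (E.map φ₂ ⁻¹ᵁ U₁)) = ⊤ := by
    rw [← map_preimage_app_preimage, hU₂top]; rfl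
  exact e2.ge (Set.mem_univ x)

end Cart

end Groth.Agent.Lib.Helper50
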