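import Groth.Agent.Lib.Helper50.LimDesc7
import Mathlib.AlgebraicGeometry.Morphisms.Separated

set_option autoImplicit false
universe u
open CategoryTheory AlgebraicGeometry Limits

namespace Groth.Agent.Lib.Helper50

section Diag

variable {I : Type u} [SmallCategory I] (D : I ⥤ Scheme.{u}) {S : Scheme.{u}}
  (t : ∀ i, D.obj i ⟶ S) (ht : ∀ {i j : I} (f : j ⟶ i), D.map f ≫ t i = t j)

set_option backward.isDefEq.respectTransparency false in
/-- The system `X_k ×_S X_k`. -/
noncomputable def diagSys : I ⥤ Scheme.{u} where
  obj k := pullback (t k) (t k)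
  map {j k} φ := pullback.map (t j) (t j) (t k) (t k) (D.map φ) (D.map φ) (𝟙 S)
    (by rw [Category.comp_id, ht]) (by rw [Category.comp_id, ht])
  map_id j := by
    apply pullback.hom_ext <;> simp [pullback.map]
  map_comp φ ψ := by
    apply pullback.hom_ext <;> simp [pullback.map]

@[simp] lemma diagSys_obj (k : I) : (diagSys D t ht).obj k = pullback (t k) (t k) := rfl

set_option backward.isDefEq.respectTransparency false in
@[reassoc (attr := simp)]
lemma diagSys_map_fst {j k : I} (φ : j ⟶ k) :
    (diagSys D t ht).map φ ≫ pullback.fst (t k) (t k) = pullback.fst (t j) (t j) ≫ D.map φ := by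
  simp [diagSys, pullback.map]

set_option backward.isDefEq.respectTransparency false in
@[reassoc (attr := simp)]
lemma diagSys_map_snd {j k : I} (φ : j ⟶ k) :
    (diagSys D t ht).map φ ≫ pullback.snd (t k) (t k) = pullback.snd (t j) (t j) ≫ D.map φ := by
  simp [diagSys, pullback.map]

set_option backward.isDefEq.respectTransparency false in
/-- The diagonal natural transformation `X_k ⟶ X_k ×_S X_k`. -/
noncomputable def diagNat : D ⟶ diagSys D t ht where
  app k := pullback.diagonal (t k)
  naturality j k φ := by
    apply pullback.hom_ext <;> simp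

@[simp] lemma diagNat_app (k : I) : (diagNat D t ht).app k = pullback.diagonal (t k) := rfl

variable (c : Cone D) (tc : c.pt ⟶ S) (htc : ∀ k, c.π.app k ≫ t k = tc)

set_option backward.isDefEq.respectTransparency false in
/-- The cone `X ×_S X` over the system `X_k ×_S X_k`. -/
noncomputable def diagCone : Cone (diagSys D t ht) where
  pt := pullback tc tc
  π :=
    { app := fun k ↦ pullback.map tc tc (t k) (t k) (c.π.app k) (c.π.app k) (𝟙 S)
        (by rw [Category.comp_id, htc]) (by rw [Category.comp_id, htc])
      naturality := fun j k φ ↦ by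
        apply pullback.hom_ext <;> simp [pullback.map] }

@[simp] lemma diagCone_pt : (diagCone D t ht c tc htc).pt = pullback tc tc := rfl

set_option backward.isDefEq.respectTransparency false in
@[reassoc (attr := simp)]
lemma diagCone_π_fst (k : I) :
    (diagCone D t ht c tc htc).π.app k ≫ pullback.fst (t k) (t k) =
      pullback.fst tc tc ≫ c.π.app k := by
  simp [diagCone, pullback.map]

set_option backward.isDefEq.respectTransparency false in
@[reassoc (attr := simp)]
lemma diagCone_π_snd (k : I) :
    (diagCone D t ht c tc htc).π.app k ≫ pullback.snd (t k) (t k) =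
      pullback.snd tc tc ≫ c.π.app k := by
  simp [diagCone, pullback.map]

set_option backward.isDefEq.respectTransparency false in
/-- `X ×_S X` is the limit of the `X_k ×_S X_k`. -/
noncomputable def isLimitDiagCone [Nonempty I] (hc : IsLimit c) :
    IsLimit (diagCone D t ht c tc htc) where
  lift s := pullback.lift
    (hc.lift ⟨s.pt, { app := fun k ↦ s.π.app k ≫ pullback.fst (t k) (t k)
                      naturality := fun j k φ ↦ by
                        simp only [Functor.const_obj_obj, Functor.const_obj_map, Category.id_comp]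
                        rw [← s.w φ, Category.assoc, diagSys_map_fst, Category.assoc] }⟩)
    (hc.lift ⟨s.pt, { app := fun k ↦ s.π.app k ≫ pullback.snd (t k) (t k)
                      naturality := fun j k φ ↦ by
                        simp only [Functor.const_obj_obj, Functor.const_obj_map, Category.id_comp]
                        rw [← s.w φ, Category.assoc, diagSys_map_snd, Category.assoc] }⟩)
    (by
      obtain ⟨k⟩ := ‹Nonempty I›
      rw [← htc k, ← Category.assoc, ← Category.assoc, hc.fac, hc.fac]
      simp [pullback.condition])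
  fac s k := by
    apply pullback.hom_ext
    · simp
    · simp
  uniq s m hm := by
    apply pullback.hom_ext
    · refine hc.hom_ext fun k ↦ ?_
      simp [← hm]
    · refine hc.hom_ext fun k ↦ ?_
      simp [← hm]

set_option backward.isDefEq.respectTransparency false in
lemma diagonal_comp_diagCone_π (k : I) :
    c.π.app k ≫ (diagNat D t ht).app k =
      pullback.diagonal tc ≫ (diagCone D t ht c tc htc).π.app k := by
  apply pullback.hom_ext <;> simp

end Diag

end Groth.Agent.Lib.Helper50

namespace Groth.Agent.Lib.Helper50

set_option backward.isDefEq.respectTransparency false in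
/-- For `f : X ⟶ T` separated over `S`, the canonical map `X ⟶ T ×_{T ×_S T} (X ×_S X)` is a
closed immersion (it is a base change of the diagonal of `f`). -/
lemma isClosedImmersion_lift_diagonal {X T S : Scheme.{u}} (f : X ⟶ T) [IsSeparated f]
    (i : T ⟶ S) (tX : X ⟶ S) (h : f ≫ i = tX)
    (w : f ≫ pullback.diagonal i = pullback.diagonal tX ≫
      pullback.map tX tX i i f f (𝟙 S) (by rw [Category.comp_id, h]) (by rw [Category.comp_id, h])) :
    IsClosedImmersion (pullback.lift f (pullback.diagonal tX) w) := by
  subst h
  have H := pullback_map_diagonal_isPullback f f i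
  have : pullback.lift f (pullback.diagonal (f ≫ i)) w =
      pullback.diagonal f ≫ H.isoPullback.hom := by
    apply pullback.hom_ext
    · simp
    · rw [pullback.lift_snd, Category.assoc, H.isoPullback_hom_snd]
      apply pullback.hom_ext <;> simp
  rw [this]
  infer_instance

section Diag

variable {I : Type u} [SmallCategory I] (D : I ⥤ Scheme.{u}) {S : Scheme.{u}}
  (t : ∀ i, D.obj i ⟶ S) (ht : ∀ {i j : I} (f : j ⟶ i), D.map f ≫ t i = t j)

instance [∀ (i j : I) (f : i ⟶ j), IsAffineHom (D.map f)] (j k : I) (φ : j ⟶ k) :
    IsAffineHom ((diagSys D t ht).map φ) :=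
  have : MorphismProperty.IsStableUnderComposition @IsAffineHom.{u} :=
    (inferInstance : MorphismProperty.IsMultiplicative @IsAffineHom.{u}).toIsStableUnderComposition
  MorphismProperty.pullbackMap (P := @IsAffineHom) inferInstance inferInstance (ht φ).symm
    (ht φ).symm

lemma isClosedImmersion_cartLift_diagNat [∀ (i j : I) (f : i ⟶ j), IsAffineHom (D.map f)]
    {j k : I} (φ : k ⟶ j) : IsClosedImmersion (cartLift (diagNat D t ht) φ) :=
  isClosedImmersion_lift_diagonal (D.map φ) (t j) (t k) (ht φ) _

end Diag

end Groth.Agent.Lib.Helper50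

namespace Groth.Agent.Lib.Helper50

section Sep

variable {I : Type u} [SmallCategory I] [IsCofiltered I] (D : I ⥤ Scheme.{u}) {S : Scheme.{u}}
  (t : ∀ i, D.obj i ⟶ S) (ht : ∀ {i j : I} (f : j ⟶ i), D.map f ≫ t i = t j)
  (c : Cone D) (hc : IsLimit c)

include hc ht in
/-- **Stacks 086Q**: if the limit of a cofiltered system of qcqs `S`-schemes with affine
transition maps (`S` quasi-separated) is separated over `S`, then so are the stages eventually. -/
theorem exists_forall_isSeparated_t [∀ (i j : I) (f : i ⟶ j), IsAffineHom (D.map f)]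
    [∀ i, CompactSpace (D.obj i)] [∀ i, QuasiSeparatedSpace (D.obj i)] [QuasiSeparatedSpace S]
    (i₀ : I) [IsSeparated (c.π.app i₀ ≫ t i₀)] :
    ∃ (j : I) (_ : j ⟶ i₀), ∀ (k : I) (_ : k ⟶ j), IsSeparated (t k) := by
  have htc (k : I) : c.π.app k ≫ t k = c.π.app i₀ ≫ t i₀ := π_comp_t_eq D c t ht k i₀
  have : Nonempty I := ⟨i₀⟩
  have h1 (k : I) : CompactSpace ((diagSys D t ht).obj k) :=
    have : QuasiCompact (pullback.fst (t k) (t k)) :=
      MorphismProperty.of_isPullback (P := @QuasiCompact)
        (IsPullback.of_hasPullback (t k) (t k)).flip (inferInstance : QuasiCompact (t k))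
    (QuasiCompact.compactSpace_of_compactSpace (pullback.fst (t k) (t k)) :
      CompactSpace ↥(pullback (t k) (t k)))
  have h2 (k : I) : QuasiSeparatedSpace ((diagSys D t ht).obj k) :=
    have : QuasiSeparated (pullback.fst (t k) (t k)) :=
      MorphismProperty.of_isPullback (P := @QuasiSeparated)
        (IsPullback.of_hasPullback (t k) (t k)).flip (inferInstance : QuasiSeparated (t k))
    (quasiSeparatedSpace_of_quasiSeparated (pullback.fst (t k) (t k)) :
      QuasiSeparatedSpace ↥(pullback (t k) (t k)))
  have h3 (k : I) : LocallyOfFiniteType ((diagNat D t ht).app k) :=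
    inferInstanceAs (LocallyOfFiniteType (pullback.diagonal (t k)))
  have h4 : IsClosedImmersion (X := c.pt) (Y := (diagCone D t ht c _ htc).pt)
      (pullback.diagonal (c.π.app i₀ ≫ t i₀)) :=
    IsSeparated.isClosedImmersion_diagonal
  obtain ⟨j, φ, hj⟩ := exists_forall_isClosedImmersion_app' (diagNat D t ht) c hc
    (diagCone D t ht c _ htc) (isLimitDiagCone D t ht c _ htc hc)
    (pullback.diagonal (c.π.app i₀ ≫ t i₀))
    (fun k ↦ diagonal_comp_diagCone_π D t ht c _ htc k)
    (fun φ ↦ isClosedImmersion_cartLift_diagNat D t ht φ) i₀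
  exact ⟨j, φ, fun k g ↦ ⟨hj k g⟩⟩

end Sep

end Groth.Agent.Lib.Helper50
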