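import Mathlib.AlgebraicGeometry.AffineTransitionLimit
import Mathlib.Topology.NoetherianSpace

set_option autoImplicit false
universe u
open CategoryTheory AlgebraicGeometry Limits TopologicalSpace

namespace Groth.Agent.Lib.Helper50

variable {I : Type u} [SmallCategory I] [IsCofiltered I] (D : I ⥤ Scheme.{u})

/-- In a cofiltered system of schemes with embeddings as transition maps and a Noetherian stage,
the transition maps are eventually dominant. -/
lemma exists_forall_isDominant_of_isEmbedding (i₀ : I) [NoetherianSpace (D.obj i₀)]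
    (he : ∀ (i j : I) (φ : i ⟶ j), Topology.IsEmbedding ⇑(D.map φ)) :
    ∃ (i₁ : I) (_ : i₁ ⟶ i₀), ∀ (j j' : I) (_ : j ⟶ i₁) (φ : j' ⟶ j), IsDominant (D.map φ) := by
  let 𝒯 : Set (Closeds (D.obj i₀)) :=
    {T | ∃ (j : I) (f : j ⟶ i₀), (T : Set (D.obj i₀)) = closure (Set.range ⇑(D.map f))}
  have hne : 𝒯.Nonempty := ⟨⟨closure (Set.range ⇑(D.map (𝟙 i₀))), isClosed_closure⟩, i₀, 𝟙 i₀, rfl⟩
  obtain ⟨T₁, ⟨i₁, f₁, hT₁⟩, hmin⟩ := WellFounded.has_min (wellFounded_lt (α := Closeds (D.obj i₀)))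
    𝒯 hne
  have key : ∀ (j : I) (g : j ⟶ i₁),
      closure (Set.range ⇑(D.map (g ≫ f₁))) = (T₁ : Set (D.obj i₀)) := by
    intro j g
    have hle : closure (Set.range ⇑(D.map (g ≫ f₁))) ⊆ (T₁ : Set (D.obj i₀)) := by
      rw [hT₁]
      apply closure_mono
      rintro _ ⟨x, rfl⟩
      exact ⟨D.map g x, by rw [← Scheme.Hom.comp_apply, ← D.map_comp]⟩
    by_contra hne'
    have hlt : (⟨closure (Set.range ⇑(D.map (g ≫ f₁))), isClosed_closure⟩ : Closeds (D.obj i₀)) <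
        T₁ := lt_of_le_of_ne hle (fun h ↦ hne' (by rw [← h]; rfl))
    exact hmin _ ⟨j, g ≫ f₁, rfl⟩ hlt
  refine ⟨i₁, f₁, fun j j' g φ ↦ ⟨?_⟩⟩
  rw [DenseRange, dense_iff_closure_eq,
    (he j i₀ (g ≫ f₁)).isInducing.closure_eq_preimage_closure_image, ← Set.range_comp]
  have h1 : ⇑(D.map (g ≫ f₁)) ∘ ⇑(D.map φ) = ⇑(D.map ((φ ≫ g) ≫ f₁)) := by
    ext x
    simp only [Function.comp_apply]
    rw [← Scheme.Hom.comp_apply, ← D.map_comp, Category.assoc]
  rw [h1, key j' (φ ≫ g), ← key j g]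
  exact Set.eq_univ_of_forall fun x ↦ subset_closure ⟨x, rfl⟩

end Groth.Agent.Lib.Helper50
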