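import Mathlib.CategoryTheory.Filtered.Basic
import Mathlib.Data.Set.Finite.Basic

set_option autoImplicit false
universe u
open CategoryTheory

namespace Groth.Agent.Lib.Helper50

/-- Finitely many properties that each hold eventually in a cofiltered category hold eventually
simultaneously, below a given object. -/
lemma exists_forall_of_finite {I : Type u} [SmallCategory I] [IsCofiltered I] (i₀ : I)
    {ι : Type*} (s : Set ι) (hs : s.Finite) (P : ι → I → Prop)
    (hP : ∀ a ∈ s, ∃ i : I, ∀ (j : I) (_ : j ⟶ i), P a j) :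
    ∃ (i : I) (_ : i ⟶ i₀), ∀ (j : I) (_ : j ⟶ i), ∀ a ∈ s, P a j := by
  induction s, hs using Set.Finite.induction_on with
  | empty => exact ⟨i₀, 𝟙 _, fun j _ a ha ↦ ha.elim⟩
  | @insert a s ha hs ih =>
    obtain ⟨i₁, f₁, h₁⟩ := ih (fun a ha' ↦ hP a (Set.mem_insert_of_mem _ ha'))
    obtain ⟨i₂, h₂⟩ := hP _ (Set.mem_insert _ _)
    refine ⟨IsCofiltered.min i₁ i₂, IsCofiltered.minToLeft _ _ ≫ f₁, fun j fj b hb ↦ ?_⟩
    rcases hb with rfl | hb
    · exact h₂ j (fj ≫ IsCofiltered.minToRight _ _)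
    · exact h₁ j (fj ≫ IsCofiltered.minToLeft _ _) b hb

end Groth.Agent.Lib.Helper50
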