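import Groth.Agent.Lib.Helper50.Lim

set_option autoImplicit false
universe u
open CategoryTheory AlgebraicGeometry Limits

namespace Groth.Agent.Lib.Helper50

variable {I : Type u} [SmallCategory I] [IsCofiltered I]
    (D : I ⥤ Scheme.{u}) (c : Limits.Cone D) (hc : Limits.IsLimit c)
    [∀ (i j : I) (f : i ⟶ j), IsAffineHom (D.map f)]

include hc in
/-- Finitely many compact opens of the limit descend to compact opens at a common stage. -/
lemma exists_preimage_eq_of_finite (i₀ : I) (s : Set c.pt.Opens) (hs : s.Finite)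
    (hsc : ∀ U ∈ s, IsCompact (U : Set c.pt)) :
    ∃ (i : I) (_ : i ⟶ i₀) (W : c.pt.Opens → (D.obj i).Opens),
      ∀ U ∈ s, IsCompact (W U : Set (D.obj i)) ∧ c.π.app i ⁻¹ᵁ (W U) = U := by
  classical
  induction s, hs using Set.Finite.induction_on with
  | empty => exact ⟨i₀, 𝟙 _, fun _ ↦ ⊥, fun U hU ↦ hU.elim⟩
  | @insert U s hU hs ih =>
    obtain ⟨i₁, f₁, W₁, hW₁⟩ := ih (fun U' hU' ↦ hsc U' (Set.mem_insert_of_mem _ hU'))
    obtain ⟨i₂, f₂, V₂, hV₂c, hV₂⟩ := exists_preimage_eq_over D c hc i₀ U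
      (hsc U (Set.mem_insert _ _))
    refine ⟨IsCofiltered.min i₁ i₂, IsCofiltered.minToLeft _ _ ≫ f₁,
      fun U' ↦ if U' = U then D.map (IsCofiltered.minToRight i₁ i₂) ⁻¹ᵁ V₂
        else D.map (IsCofiltered.minToLeft i₁ i₂) ⁻¹ᵁ (W₁ U'), fun U' hU' ↦ ?_⟩
    by_cases h : U' = U
    · subst h
      simp only [if_true]
      refine ⟨isCompact_map_preimage D _ hV₂c, ?_⟩
      rw [← Scheme.Hom.comp_preimage, c.w, hV₂]
    · simp only [if_neg h]
      have hU's : U' ∈ s := by
        rcases hU' with h' | h'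
        · exact absurd h' h
        · exact h'
      refine ⟨isCompact_map_preimage D _ (hW₁ U' hU's).1, ?_⟩
      rw [← Scheme.Hom.comp_preimage, c.w, (hW₁ U' hU's).2]

end Groth.Agent.Lib.Helper50
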