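import Groth.Agent.Lib.Helper50.LimTop
import Mathlib.CategoryTheory.CofilteredSystem
import Mathlib.Topology.Sober

set_option autoImplicit false
universe u
open CategoryTheory AlgebraicGeometry Limits

namespace Groth.Agent.Lib.Helper50

/-- Every point of a quasi-sober T0 space has a maximal generization. -/
lemma exists_maximal_specializes {X : Type*} [TopologicalSpace X] [QuasiSober X] [T0Space X]
    (x : X) : ∃ m : X, (∀ z : X, z ⤳ m → z = m) ∧ m ⤳ x := by
  obtain ⟨m, hm⟩ := QuasiSober.sober (isIrreducible_irreducibleComponent (x := x))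
    isClosed_irreducibleComponent
  refine ⟨m, fun z hz ↦ ?_, ?_⟩
  · have h1 : closure {m} ⊆ closure {z} := hz.closure_subset
    rw [hm.def] at h1
    have h2 : closure {z} = irreducibleComponent x :=
      eq_irreducibleComponent isIrreducible_singleton.closure.isPreirreducible h1
    have h3 : m ⤳ z := by
      rw [specializes_iff_mem_closure, hm.def, ← h2]
      exact subset_closure rfl
    exact (hz.antisymm h3).eq
  · rw [specializes_iff_mem_closure, hm.def]
    exact mem_irreducibleComponent

/-- An open subset containing all maximal points is dense. -/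
lemma dense_of_forall_maximal_mem {X : Type*} [TopologicalSpace X] [QuasiSober X] [T0Space X]
    (V : Set X) (hV : IsOpen V) (h : ∀ m : X, (∀ z : X, z ⤳ m → z = m) → m ∈ V) : Dense V := by
  rw [dense_iff_inter_open]
  rintro U hU ⟨x, hx⟩
  obtain ⟨m, hm, hmx⟩ := exists_maximal_specializes x
  exact ⟨m, hmx.mem_open hU hx, h m hm⟩

/-- In a space with finitely many maximal points, a dense open subset contains all of them. -/
lemma maximal_mem_of_dense {X : Type*} [TopologicalSpace X] [QuasiSober X] [T0Space X]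
    (hfin : {s : X | ∀ z : X, z ⤳ s → z = s}.Finite) (V : Set X) (hVo : IsOpen V)
    (hV : Dense V) (m : X) (hm : ∀ z : X, z ⤳ m → z = m) : m ∈ V := by
  classical
  let M := {s : X | ∀ z : X, z ⤳ s → z = s}
  let C : Set X := ⋃ m' ∈ M \ {m}, closure {m'}
  have hC : IsClosed C := (hfin.subset Set.diff_subset).isClosed_biUnion fun _ _ ↦ isClosed_closure
  have hmC : m ∉ C := by
    simp only [C, Set.mem_iUnion, not_exists]
    rintro m' ⟨hm'M, hm'ne⟩ hmem
    have : m' ⤳ m := specializes_iff_mem_closure.mpr hmem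
    exact hm'ne (hm m' this)
  obtain ⟨y, hyC, hyV⟩ := (dense_iff_inter_open.mp hV) Cᶜ hC.isOpen_compl ⟨m, hmC⟩
  obtain ⟨m', hm', hm'y⟩ := exists_maximal_specializes y
  have : m' = m := by
    by_contra hne
    apply hyC
    simp only [C, Set.mem_iUnion]
    exact ⟨m', ⟨hm', hne⟩, specializes_iff_mem_closure.mp hm'y⟩
  subst this
  exact hm'y.mem_open hVo hyV

variable {I : Type u} [SmallCategory I] [IsCofiltered I]
    (D : I ⥤ Scheme.{u}) (c : Limits.Cone D) (hc : Limits.IsLimit c)
    [∀ (i j : I) (f : i ⟶ j), IsAffineHom (D.map f)]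

include hc in
lemma specializes_iff_forall_π_app (z s : c.pt) :
    z ⤳ s ↔ ∀ i, c.π.app i z ⤳ c.π.app i s := by
  rw [← (isInducing_pi_π_app D c hc).specializes_iff, specializes_pi]

include hc in
lemma eq_of_forall_π_app_eq (z s : c.pt) (h : ∀ i, c.π.app i z = c.π.app i s) : z = s :=
  (isInducing_pi_π_app D c hc).injective (funext h)

include hc in
/-- A compatible system of finite nonempty subsets of the stages contains the images of a point
of the limit. -/
lemma exists_of_finite_nonempty_system (B : ∀ i, Set (D.obj i)) (hfin : ∀ i, (B i).Finite)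
    (hne : ∀ i, (B i).Nonempty) (hmaps : ∀ {i j : I} (φ : i ⟶ j), Set.MapsTo (D.map φ) (B i) (B j)) :
    ∃ s : c.pt, ∀ i, c.π.app i s ∈ B i := by
  let Bf : I ⥤ Type u :=
    { obj := fun i ↦ ↥(B i)
      map := fun {i j} φ ↦ TypeCat.ofHom (fun b ↦ ⟨D.map φ b.1, hmaps φ b.2⟩)
      map_id := fun i ↦ by
        ext b
        simp
      map_comp := fun {i j k} φ ψ ↦ by
        ext b
        simp }
  have h1 : ∀ i, Finite (Bf.obj i) := fun i ↦ (hfin i).to_subtype
  have h2 : ∀ i, Nonempty (Bf.obj i) := fun i ↦ (hne i).to_subtype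
  obtain ⟨u, hu⟩ := nonempty_sections_of_finite_cofiltered_system Bf
  obtain ⟨s, hs⟩ := exists_π_app_eq_of_compatible D c hc (fun i ↦ (u i).1)
    (fun {i j} φ ↦ congr_arg Subtype.val (hu φ))
  exact ⟨s, fun i ↦ (hs i) ▸ (u i).2⟩

end Groth.Agent.Lib.Helper50
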