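import Mathlib.AlgebraicGeometry.AffineTransitionLimit
import Mathlib.AlgebraicGeometry.Stalk

set_option autoImplicit false
universe u
open CategoryTheory AlgebraicGeometry Limits

namespace Groth.Agent.Lib.Helper50

variable {I : Type u} [SmallCategory I] [IsCofiltered I]
    (D : I ⥤ Scheme.{u}) (c : Limits.Cone D) (hc : Limits.IsLimit c)
    [∀ (i j : I) (f : i ⟶ j), IsAffineHom (D.map f)]
    (hoi : ∀ (i j : I) (φ : i ⟶ j), IsOpenImmersion (D.map φ))

omit [∀ (i j : I) (f : i ⟶ j), IsAffineHom (D.map f)] in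
include hc hoi in
/-- If the transition maps are monomorphisms (e.g. open immersions), so are the projections. -/
lemma mono_π_app_of_isOpenImmersion (i : I) : Mono (c.π.app i) := by
  refine ⟨fun {T} a b hab ↦ hc.hom_ext fun j ↦ ?_⟩
  have := hoi (IsCofiltered.min j i) i (IsCofiltered.minToRight j i)
  have h1 : a ≫ c.π.app (IsCofiltered.min j i) = b ≫ c.π.app (IsCofiltered.min j i) := by
    rw [← cancel_mono (D.map (IsCofiltered.minToRight j i)), Category.assoc, Category.assoc,
      c.w, hab]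
  rw [← c.w (IsCofiltered.minToLeft j i), ← Category.assoc, h1, Category.assoc]

omit [∀ (i j : I) (f : i ⟶ j), IsAffineHom (D.map f)] in
include hoi in
lemma π_app_eq_of_π_app_eq (i : I) {x y : c.pt} (h : c.π.app i x = c.π.app i y) (j : I) :
    c.π.app j x = c.π.app j y := by
  have := hoi (IsCofiltered.min j i) i (IsCofiltered.minToRight j i)
  have h1 : c.π.app (IsCofiltered.min j i) x = c.π.app (IsCofiltered.min j i) y := by
    apply (D.map (IsCofiltered.minToRight j i)).isOpenEmbedding.injective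
    rw [← Scheme.Hom.comp_apply, ← Scheme.Hom.comp_apply, c.w, h]
  rw [← c.w (IsCofiltered.minToLeft j i), Scheme.Hom.comp_apply, Scheme.Hom.comp_apply, h1]

include hc hoi in
lemma injective_π_app_of_isOpenImmersion (i : I) : Function.Injective (c.π.app i) := by
  intro x y h
  apply Inseparable.eq
  rw [(isBasis_preimage_isAffineOpen D c hc).inseparable_iff]
  rintro _ ⟨_, ⟨j, V, hV, rfl⟩, rfl⟩
  change c.π.app j x ∈ V ↔ c.π.app j y ∈ V
  rw [π_app_eq_of_π_app_eq D c hoi i h j]

include hc hoi in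
lemma isInducing_π_app_of_isOpenImmersion (i : I) : Topology.IsInducing (c.π.app i) := by
  rw [Topology.isInducing_iff]
  refine le_antisymm (c.π.app i).continuous.le_induced fun U hU ↦ ?_
  rw [isOpen_induced_iff]
  refine ⟨⋃₀ {V : Set (D.obj i) | IsOpen V ∧ ⇑(c.π.app i) ⁻¹' V ⊆ U},
    isOpen_sUnion fun V hV ↦ hV.1, ?_⟩
  apply subset_antisymm
  · rintro x ⟨V, ⟨-, hVU⟩, hxV⟩
    exact hVU hxV
  · intro x hxU
    obtain ⟨_, ⟨_, ⟨j, V, hV, rfl⟩, rfl⟩, hxV, hVU⟩ :=
      (isBasis_preimage_isAffineOpen D c hc).exists_subset_of_mem_open hxU hU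
    have := hoi (IsCofiltered.min j i) i (IsCofiltered.minToRight j i)
    set k := IsCofiltered.min j i
    set u : k ⟶ j := IsCofiltered.minToLeft j i
    set v : k ⟶ i := IsCofiltered.minToRight j i
    have hpre : ⇑(c.π.app i) ⁻¹' (⇑(D.map v) '' (⇑(D.map u) ⁻¹' (V : Set (D.obj j)))) =
        ⇑(c.π.app j) ⁻¹' (V : Set (D.obj j)) := by
      ext y
      simp only [Set.mem_preimage, Set.mem_image]
      constructor
      · rintro ⟨z, hz, hzy⟩
        rw [← c.w v, Scheme.Hom.comp_apply] at hzy
        have := (D.map v).isOpenEmbedding.injective hzy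
        rw [← c.w u, Scheme.Hom.comp_apply, ← this]
        exact hz
      · intro hy
        refine ⟨c.π.app k y, ?_, ?_⟩
        · rw [← Scheme.Hom.comp_apply, c.w]
          exact hy
        · rw [← Scheme.Hom.comp_apply, c.w]
    have hopen : IsOpen (⇑(D.map u) ⁻¹' (V : Set (D.obj j))) := V.2.preimage (D.map u).continuous
    refine ⟨⇑(D.map v) '' (⇑(D.map u) ⁻¹' (V : Set (D.obj j))),
      ⟨(D.map v).isOpenEmbedding.isOpenMap _ hopen, ?_⟩, ?_⟩
    · rw [hpre]
      exact hVU
    · have : x ∈ ⇑(c.π.app i) ⁻¹' (⇑(D.map v) '' (⇑(D.map u) ⁻¹' (V : Set (D.obj j)))) := by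
        rw [hpre]
        exact hxV
      exact this

omit [IsCofiltered I] [∀ (i j : I) (f : i ⟶ j), IsAffineHom (D.map f)] in
lemma exists_factor_of_eq {X : Scheme.{u}} {R : CommRingCat.{u}} {s s' : X} (e : s' = s)
    (ρ' : X.presheaf.stalk s' ⟶ R) :
    ∃ ρ : X.presheaf.stalk s ⟶ R,
      Spec.map ρ ≫ X.fromSpecStalk s = Spec.map ρ' ≫ X.fromSpecStalk s' := by
  subst e
  exact ⟨ρ', rfl⟩

omit [IsCofiltered I] [∀ (i j : I) (f : i ⟶ j), IsAffineHom (D.map f)] in
/-- A monomorphism `f` admitting a section over the local scheme at `f s` has an isomorphism as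
stalk map at `s`. -/
lemma isIso_stalkMap_of_mono_of_section {X Y : Scheme.{u}} (f : X ⟶ Y) [Mono f] (s : X)
    (σ : Spec (Y.presheaf.stalk (f s)) ⟶ X) (hσ : σ ≫ f = Y.fromSpecStalk (f s)) :
    IsIso (f.stalkMap s) := by
  have e : Spec.map (f.stalkMap s) ≫ Y.fromSpecStalk (f s) = X.fromSpecStalk s ≫ f :=
    Scheme.SpecMap_stalkMap_fromSpecStalk f (x := s)
  have hstar : Spec.map (f.stalkMap s) ≫ σ = X.fromSpecStalk s := by
    rw [← cancel_mono f, Category.assoc, hσ, e]
  have hcl : σ (IsLocalRing.closedPoint _) = s := by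
    have := congr(($hstar) (IsLocalRing.closedPoint _))
    rw [Scheme.Hom.comp_apply, Spec_closedPoint, Scheme.fromSpecStalk_closedPoint] at this
    exact this
  obtain ⟨ρ, hρ⟩ := exists_factor_of_eq hcl (Scheme.stalkClosedPointTo σ)
  rw [Scheme.Spec_stalkClosedPointTo_fromSpecStalk] at hρ
  have h1 : Spec.map (f.stalkMap s) ≫ Spec.map ρ = 𝟙 _ := by
    rw [← cancel_mono (X.fromSpecStalk s), Category.assoc, hρ, hstar, Category.id_comp]
  have h2 : Spec.map ρ ≫ Spec.map (f.stalkMap s) = 𝟙 _ := by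
    rw [← cancel_mono (Y.fromSpecStalk (f s)), Category.assoc, e, ← Category.assoc, hρ, hσ,
      Category.id_comp]
  rw [← Spec.map_comp, ← Spec.map_id, Spec.map_inj] at h1 h2
  exact ⟨⟨ρ, h2, h1⟩⟩

include hc hoi in
/-- The local scheme of a stage at the image of a point of the limit maps to the limit. -/
lemma exists_section_fromSpecStalk (i : I) (s : c.pt) :
    ∃ σ : Spec ((D.obj i).presheaf.stalk (c.π.app i s)) ⟶ c.pt,
      σ ≫ c.π.app i = (D.obj i).fromSpecStalk (c.π.app i s) := by
  have hrange : ∀ j : Over i, Set.range ((D.obj i).fromSpecStalk (c.π.app i s)) ⊆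
      Set.range (D.map j.hom) := by
    intro j
    rw [Scheme.range_fromSpecStalk]
    intro y (hy : y ⤳ c.π.app i s)
    have := hoi j.left i j.hom
    exact hy.mem_open (D.map j.hom).isOpenEmbedding.isOpen_range
      ⟨c.π.app j.left s, by rw [← Scheme.Hom.comp_apply, c.w]⟩
  have hoi' (j : Over i) : IsOpenImmersion (D.map j.hom) := hoi j.left i j.hom
  let t : Cone (Over.forget i ⋙ D) :=
    { pt := Spec ((D.obj i).presheaf.stalk (c.π.app i s))
      π :=
        { app := fun j ↦ IsOpenImmersion.lift (D.map j.hom)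
            ((D.obj i).fromSpecStalk (c.π.app i s)) (hrange j)
          naturality := by
            intro j k f
            dsimp
            rw [Category.id_comp, ← cancel_mono (D.map k.hom), IsOpenImmersion.lift_fac,
              Category.assoc, ← D.map_comp, Over.w f, IsOpenImmersion.lift_fac] } }
  refine ⟨((Functor.Initial.isLimitWhiskerEquiv (Over.forget i) c).symm hc).lift t, ?_⟩
  have h1 := ((Functor.Initial.isLimitWhiskerEquiv (Over.forget i) c).symm hc).fac t (Over.mk (𝟙 i))
  have h2 : IsOpenImmersion.lift (D.map (𝟙 i)) ((D.obj i).fromSpecStalk (c.π.app i s))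
      (hrange (Over.mk (𝟙 i))) = (D.obj i).fromSpecStalk (c.π.app i s) := by
    have := hoi i i (𝟙 i)
    rw [← cancel_mono (D.map (𝟙 i)), IsOpenImmersion.lift_fac, D.map_id, Category.comp_id]
  exact h1.trans h2

include hc hoi in
/-- The stalk maps of the projections are isomorphisms. -/
lemma isIso_stalkMap_π_app_of_isOpenImmersion (i : I) (s : c.pt) :
    IsIso ((c.π.app i).stalkMap s) := by
  obtain ⟨σ, hσ⟩ := exists_section_fromSpecStalk D c hc hoi i s
  have hmono := mono_π_app_of_isOpenImmersion D c hc hoi i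
  exact isIso_stalkMap_of_mono_of_section (c.π.app i) s σ hσ

end Groth.Agent.Lib.Helper50
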