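import Mathlib.AlgebraicGeometry.AffineTransitionLimit
import Mathlib.AlgebraicGeometry.Morphisms.Flat

set_option autoImplicit false
universe u
open CategoryTheory AlgebraicGeometry Limits

namespace Groth.Agent.Lib.Helper50

section flat

/-- Sections pull back injectively along a flat surjective morphism. -/
lemma app_injective_of_flat_of_surjective {X Y : Scheme.{u}} (f : X ⟶ Y) [Flat f] [Surjective f]
    (V : Y.Opens) : Function.Injective (f.app V) := by
  rw [injective_iff_map_eq_zero]
  intro s hs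
  refine TopCat.Presheaf.section_ext Y.sheaf V s 0 fun y hy ↦ ?_
  change Y.presheaf.germ V y hy s = Y.presheaf.germ V y hy 0
  obtain ⟨x, rfl⟩ := f.surjective y
  have hinj : Function.Injective (f.stalkMap x) := by
    algebraize [(f.stalkMap x).hom]
    have : Module.FaithfullyFlat (Y.presheaf.stalk (f x)) (X.presheaf.stalk x) :=
      @Module.FaithfullyFlat.of_flat_of_isLocalHom _ _ _ _ _ _ _
        (Flat.stalkMap f x) (f.toLRSHom.prop x)
    exact ‹RingHom.FaithfullyFlat _›.injective
  apply hinj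
  rw [map_zero, Scheme.Hom.germ_stalkMap_apply, hs, map_zero, map_zero]

/-- A scheme all of whose affine opens have reduced rings of sections is reduced. -/
lemma isReduced_of_forall_affineOpens (X : Scheme.{u})
    (h : ∀ V : X.affineOpens, _root_.IsReduced Γ(X, V.1)) : IsReduced X := by
  have hcov : TopologicalSpace.IsOpenCover (fun V : X.affineOpens ↦ V.1) :=
    X.isBasis_affineOpens.isOpenCover
  have : ∀ V, IsReduced ((X.openCoverOfIsOpenCover _ hcov).X V) := by
    intro V
    have : IsAffine (V.1 : Scheme) := V.2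
    have := h V
    have : _root_.IsReduced Γ(V.1, ⊤) :=
      isReduced_of_injective V.1.topIso.hom.hom
        (ConcreteCategory.bijective_of_isIso V.1.topIso.hom).injective
    exact isReduced_of_isAffine_isReduced V.1
  exact IsReduced.of_openCover _ (X.openCoverOfIsOpenCover _ hcov)

end flat

section affine

variable {J : Type u} [SmallCategory J] [IsCofiltered J]
    (F : J ⥤ Scheme.{u}) (c : Limits.Cone F) (hc : Limits.IsLimit c)

include hc in
lemma exists_forall_not_isReduced_of_isAffine [∀ j, IsAffine (F.obj j)] (h : ¬ IsReduced c.pt) :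
    ∃ j : J, ∀ (k : J) (_ : k ⟶ j), ¬ IsReduced (F.obj k) := by
  have : IsAffine c.pt := Scheme.isAffine_of_isLimit c hc
  have hΓ : ¬ _root_.IsReduced Γ(c.pt, ⊤) := fun hr ↦ h (isReduced_of_isAffine_isReduced c.pt)
  rw [isReduced_iff] at hΓ
  push Not at hΓ
  obtain ⟨s, ⟨n, hn⟩, hs0⟩ := hΓ
  obtain ⟨i, t, ht⟩ := exists_appTop_π_eq_of_isAffine_of_isLimit F c hc s
  have h0 : (c.π.app i).appTop (t ^ n) = 0 := by rw [map_pow, ht, hn]
  obtain ⟨j, f, hj⟩ := exists_appTop_map_eq_zero_of_isAffine_of_isLimit F c hc i (t ^ n) h0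
  refine ⟨j, fun k g hk ↦ hs0 ?_⟩
  have h1 : ((F.map (g ≫ f)).appTop t) ^ n = 0 := by
    rw [← map_pow, F.map_comp, Scheme.Hom.comp_appTop, CommRingCat.comp_apply, hj, map_zero]
  have h2 : (F.map (g ≫ f)).appTop t = 0 := IsReduced.eq_zero _ ⟨n, h1⟩
  rw [← ht, ← c.w (g ≫ f), Scheme.Hom.comp_appTop, CommRingCat.comp_apply, h2, map_zero]

end affine

variable {I : Type u} [SmallCategory I] [IsCofiltered I]
    (D : I ⥤ Scheme.{u}) (c : Limits.Cone D) (hc : Limits.IsLimit c)
    [∀ (i j : I) (f : i ⟶ j), IsAffineHom (D.map f)]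

include hc in
/-- If the limit is not reduced, then all sufficiently late stages are not reduced. -/
lemma exists_forall_not_isReduced (h : ¬ IsReduced c.pt) :
    ∃ (i : I), ∀ (j : I) (_ : j ⟶ i), ¬ IsReduced (D.obj j) := by
  obtain ⟨i⟩ := IsCofiltered.nonempty (C := I)
  have hcov : TopologicalSpace.IsOpenCover
      (fun V : (D.obj i).affineOpens ↦ c.π.app i ⁻¹ᵁ V.1) := by
    refine top_le_iff.mp fun x _ ↦ ?_
    obtain ⟨_, ⟨V, hV : IsAffineOpen V, rfl⟩, hxV, -⟩ :=
      (D.obj i).isBasis_affineOpens.exists_subset_of_mem_open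
        (Set.mem_univ (c.π.app i x)) isOpen_univ
    simp only [TopologicalSpace.Opens.mem_iSup]
    exact ⟨⟨V, hV⟩, hxV⟩
  have hex : ∃ V : (D.obj i).affineOpens, ¬ IsReduced (c.π.app i ⁻¹ᵁ V.1 : c.pt.Opens) := by
    by_contra hcon
    push Not at hcon
    have : ∀ V, IsReduced ((c.pt.openCoverOfIsOpenCover _ hcov).X V) := hcon
    exact h (IsReduced.of_openCover _ (c.pt.openCoverOfIsOpenCover _ hcov))
  obtain ⟨⟨V, hV⟩, hVred⟩ := hex
  have haff (j : Over i) : IsAffine ((opensDiagram D i V).obj j) := hV.preimage _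
  obtain ⟨j, hj⟩ := exists_forall_not_isReduced_of_isAffine (opensDiagram D i V)
    (opensCone D c i V) (isLimitOpensCone D c hc i V) hVred
  refine ⟨j.left, fun k g hk ↦ ?_⟩
  have : IsReduced (D.map (g ≫ j.hom) ⁻¹ᵁ V : (D.obj k).Opens) := inferInstance
  exact hj (Over.mk (g ≫ j.hom)) (Over.homMk g) this

end Groth.Agent.Lib.Helper50
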