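import Mathlib.AlgebraicGeometry.AffineScheme
import Mathlib.AlgebraicGeometry.Properties
import Mathlib.RingTheory.Localization.AtPrime.Basic
import Mathlib.RingTheory.Nilpotent.Lemmas

set_option autoImplicit false
universe u
open CategoryTheory AlgebraicGeometry

namespace Groth.Agent.Lib.Helper50

/-- A localization of `A` in which the nilradical of `A` dies is reduced. -/
lemma isReduced_of_isLocalization_of_nilradical_le_ker {A B : Type*} [CommRing A] [CommRing B]
    [Algebra A B] (M : Submonoid A) [IsLocalization M B]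
    (h : ∀ n ∈ nilradical A, algebraMap A B n = 0) : IsReduced B := by
  rw [isReduced_iff]
  rintro b ⟨m, hm⟩
  obtain ⟨a, s, rfl⟩ := IsLocalization.exists_mk'_eq M b
  rw [← IsLocalization.mk'_pow, IsLocalization.mk'_eq_zero_iff] at hm
  obtain ⟨u, hu⟩ := hm
  have hnil : IsNilpotent ((u : A) * a) := by
    refine ⟨m + 1, ?_⟩
    rw [mul_pow, pow_succ, mul_assoc, mul_comm (u : A) (a ^ (m + 1)), pow_succ, mul_assoc,
      mul_comm a (u : A), ← mul_assoc (a ^ m), mul_comm (a ^ m) (u : A), hu, zero_mul, mul_zero]
  have h0 := h _ (mem_nilradical.mpr hnil)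
  rw [map_mul] at h0
  have hunit : IsUnit (algebraMap A B u) := IsLocalization.map_units B u
  have ha : algebraMap A B a = 0 := hunit.mul_right_eq_zero.mp h0
  rw [IsLocalization.mk'_eq_zero_iff]
  exact (IsLocalization.map_eq_zero_iff M B a).mp ha

end Groth.Agent.Lib.Helper50
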