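import Groth.Agent.Lib.Helper50.LimEv
import Groth.Agent.Lib.Helper50.RedStalk
import Mathlib.AlgebraicGeometry.AffineTransitionLimit

set_option autoImplicit false
universe u
open CategoryTheory AlgebraicGeometry Limits

namespace Groth.Agent.Lib.Helper50

lemma isReduced_stalk_of_germ_nilradical_eq_zero {X : Scheme.{u}} {U : X.Opens}
    (hU : IsAffineOpen U) (x : X) (hx : x ∈ U)
    (h : ∀ n ∈ nilradical Γ(X, U), X.presheaf.germ U x hx n = 0) :
    _root_.IsReduced (X.presheaf.stalk x) := by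
  have := hU.isLocalization_stalk ⟨x, hx⟩
  exact @isReduced_of_isLocalization_of_nilradical_le_ker _ _ _ _
    (TopCat.Presheaf.algebra_section_stalk X.presheaf ⟨x, hx⟩)
    (hU.primeIdealOf ⟨x, hx⟩).asIdeal.primeCompl this h

lemma app_eq_zero_of_eq_comp {X Y Z : Scheme.{u}} (a : X ⟶ Y) (b : Y ⟶ Z) (ψ : X ⟶ Z)
    (e : ψ = a ≫ b) (U : Z.Opens) (n : Γ(Z, U)) (h : b.app U n = 0) : ψ.app U n = 0 := by
  subst e
  change a.app _ (b.app U n) = 0
  rw [h, map_zero]

lemma isReduced_of_isOpenImmersion_of_app_nilradical_eq_zero {X Y : Scheme.{u}} (f : X ⟶ Y)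
    [IsOpenImmersion f]
    (h : ∀ x : X, ∃ (U : Y.Opens) (_ : IsAffineOpen U) (_ : f x ∈ U),
      ∀ n ∈ nilradical Γ(Y, U), f.app U n = 0) : IsReduced X := by
  have : ∀ x : X, _root_.IsReduced (X.presheaf.stalk x) := by
    intro x
    obtain ⟨U, hU, hxU, hn⟩ := h x
    have hred : _root_.IsReduced (Y.presheaf.stalk (f x)) := by
      apply isReduced_stalk_of_germ_nilradical_eq_zero hU (f x) hxU
      intro n hnil
      have hinj : Function.Injective (f.stalkMap x) :=
        (ConcreteCategory.bijective_of_isIso (f.stalkMap x)).injective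
      apply hinj
      rw [Scheme.Hom.germ_stalkMap_apply, hn n hnil, map_zero, map_zero]
    exact isReduced_of_injective (inv (f.stalkMap x)).hom
      (ConcreteCategory.bijective_of_isIso (inv (f.stalkMap x))).injective
  exact isReduced_of_isReduced_stalk X

variable {I : Type u} [SmallCategory I] [IsCofiltered I]
    (D : I ⥤ Scheme.{u}) (c : Limits.Cone D) (hc : Limits.IsLimit c)
    [∀ (i j : I) (f : i ⟶ j), IsAffineHom (D.map f)]

include hc in
/-- For a limit of open immersions with a quasi-compact stage whose nilradical is of finite type,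
if the limit is reduced then so are all sufficiently late stages. -/
lemma exists_forall_isReduced_of_isOpenImmersion (i₀ : I) [CompactSpace (D.obj i₀)]
    (hoi : ∀ (i j : I) (φ : i ⟶ j), IsOpenImmersion (D.map φ))
    (hN : ∀ U : (D.obj i₀).affineOpens, (nilradical Γ(D.obj i₀, U)).FG) [IsReduced c.pt] :
    ∃ (i : I) (_ : i ⟶ i₀), ∀ (j : I) (_ : j ⟶ i), IsReduced (D.obj j) := by
  classical
  have step1 : ∀ (U : (D.obj i₀).Opens) (hU : IsAffineOpen U) (n : Γ(D.obj i₀, U)),
      IsNilpotent n →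
      ∃ j : Over i₀, ∀ k : Over i₀, (k ⟶ j) → (D.map k.hom).app U n = 0 := by
    intro U hU n hn
    have h0 : (c.π.app i₀).app U n = 0 := by
      have hr : _root_.IsReduced Γ(c.pt, c.π.app i₀ ⁻¹ᵁ U) := inferInstance
      exact hr.eq_zero _ (hn.map _)
    obtain ⟨j, f, hj⟩ := exists_app_map_eq_zero_of_isLimit D c hc hU.isCompact n h0
    refine ⟨Over.mk f, fun k g ↦ ?_⟩
    exact app_eq_zero_of_eq_comp (D.map g.left) (D.map f) (D.map k.hom)
      (by rw [← D.map_comp]; exact congrArg D.map (Over.w g).symm) U n hj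
  have hex : ∀ x : D.obj i₀, ∃ V : (D.obj i₀).Opens, IsAffineOpen V ∧ x ∈ V := by
    intro x
    obtain ⟨_, ⟨V, hV : IsAffineOpen V, rfl⟩, hxV, -⟩ :=
      (D.obj i₀).isBasis_affineOpens.exists_subset_of_mem_open (Set.mem_univ x) isOpen_univ
    exact ⟨V, hV, hxV⟩
  choose V hV hxV using hex
  obtain ⟨t, ht⟩ := CompactSpace.elim_nhds_subcover (fun x ↦ (V x : Set (D.obj i₀)))
    (fun x ↦ (V x).2.mem_nhds (hxV x))
  choose G hG using fun x ↦ hN ⟨V x, hV x⟩
  have inner : ∀ x ∈ (t : Set (D.obj i₀)), ∃ i : Over i₀, ∀ j : Over i₀, (j ⟶ i) →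
      ∀ n ∈ (G x : Set Γ(D.obj i₀, V x)), (D.map j.hom).app (V x) n = 0 := by
    intro x _
    obtain ⟨i, -, hi⟩ := exists_forall_of_finite (I := Over i₀) (Over.mk (𝟙 i₀))
      (G x : Set Γ(D.obj i₀, V x)) (G x).finite_toSet
      (fun n j ↦ (D.map j.hom).app (V x) n = 0) (fun n hn ↦ step1 (V x) (hV x) n (by
        have : n ∈ nilradical Γ(D.obj i₀, V x) := by
          rw [← hG x]
          exact Ideal.subset_span hn
        exact mem_nilradical.mp this))
    exact ⟨i, hi⟩
  obtain ⟨i₁, -, hi₁⟩ := exists_forall_of_finite (I := Over i₀) (Over.mk (𝟙 i₀))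
    (t : Set (D.obj i₀)) t.finite_toSet
    (fun x j ↦ ∀ n ∈ (G x : Set Γ(D.obj i₀, V x)), (D.map j.hom).app (V x) n = 0) inner
  refine ⟨i₁.left, i₁.hom, fun j g ↦ ?_⟩
  have := hoi j i₀ (g ≫ i₁.hom)
  apply isReduced_of_isOpenImmersion_of_app_nilradical_eq_zero (D.map (g ≫ i₁.hom))
  intro y
  obtain ⟨x, hxt, hyx⟩ : ∃ x ∈ t, D.map (g ≫ i₁.hom) y ∈ V x := by
    have := ht.ge (Set.mem_univ (D.map (g ≫ i₁.hom) y))
    simpa using this
  refine ⟨V x, hV x, hyx, fun n hn ↦ ?_⟩
  have hker : nilradical Γ(D.obj i₀, V x) ≤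
      RingHom.ker ((D.map (g ≫ i₁.hom)).app (V x)).hom := by
    rw [← hG x, Ideal.span_le]
    intro n hn
    exact hi₁ (Over.mk (g ≫ i₁.hom)) (Over.homMk g) x hxt n hn
  exact hker hn

end Groth.Agent.Lib.Helper50
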