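import Groth.Agent.Lib.Helper50.LimStage
import Mathlib.CategoryTheory.Limits.Shapes.Diagonal
import Mathlib.AlgebraicGeometry.Morphisms.Separated

set_option autoImplicit false
universe v u
open CategoryTheory AlgebraicGeometry Limits

namespace Groth.Agent.Lib.Helper50

section

variable {C : Type u} [Category.{v} C] [HasPullbacks C] {X Y X₀ Y₀ : C}
  {f : X ⟶ Y} {f₀ : X₀ ⟶ Y₀} {qX : X ⟶ X₀} {qY : Y ⟶ Y₀}

/-- For a cartesian square `X = X₀ ×_{Y₀} Y`, the square `X ×_Y X → X₀ ×_{Y₀} X₀` over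
`X → X₀` (first projections) is cartesian. -/
lemma isPullback_map_fst (hX : IsPullback qX f f₀ qY) :
    IsPullback (pullback.map f f f₀ f₀ qX qX qY hX.w.symm hX.w.symm) (pullback.fst f f)
      (pullback.fst f₀ f₀) qX := by
  have h1 : IsPullback (pullback.snd f f ≫ qX) (pullback.fst f f) f₀ (f ≫ qY) :=
    (IsPullback.of_hasPullback f f).flip.paste_horiz hX
  have h2 : IsPullback (pullback.snd f₀ f₀) (pullback.fst f₀ f₀) f₀ f₀ :=
    (IsPullback.of_hasPullback f₀ f₀).flip
  have p : pullback.map f f f₀ f₀ qX qX qY hX.w.symm hX.w.symm ≫ pullback.fst f₀ f₀ =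
      pullback.fst f f ≫ qX := pullback.lift_fst _ _ _
  refine IsPullback.of_right ?_ p h2
  rw [← hX.w] at h1
  have e : pullback.map f f f₀ f₀ qX qX qY hX.w.symm hX.w.symm ≫ pullback.snd f₀ f₀ =
      pullback.snd f f ≫ qX := pullback.lift_snd _ _ _
  rw [e]
  exact h1

lemma isPullback_map_comp (hX : IsPullback qX f f₀ qY) :
    IsPullback (pullback.map f f f₀ f₀ qX qX qY hX.w.symm hX.w.symm) (pullback.fst f f ≫ f)
      (pullback.fst f₀ f₀ ≫ f₀) qY :=
  (isPullback_map_fst hX).paste_vert hX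

set_option backward.isDefEq.respectTransparency false in
lemma isPullback_diagonal (hX : IsPullback qX f f₀ qY) :
    IsPullback qX (pullback.diagonal f) (pullback.diagonal f₀)
      (pullback.map f f f₀ f₀ qX qX qY hX.w.symm hX.w.symm) := by
  have p : qX ≫ pullback.diagonal f₀ = pullback.diagonal f ≫
      pullback.map f f f₀ f₀ qX qX qY hX.w.symm hX.w.symm := by
    ext
    · simp
    · simp
  refine IsPullback.of_bot ?_ p (isPullback_map_fst hX)
  simp only [pullback.diagonal_fst]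
  exact IsPullback.of_vert_isIso ⟨by simp⟩

end


namespace StageSetup

variable {I : Type u} [SmallCategory I]
    (D : I ⥤ Scheme.{u}) (c : Limits.Cone D)
    (i₀ : I)
    {X₀ Y₀ : Scheme.{u}} (f₀ : X₀ ⟶ Y₀) (g₀ : Y₀ ⟶ D.obj i₀)
    {X Y : Scheme.{u}} (f : X ⟶ Y) (g : Y ⟶ c.pt) (qY : Y ⟶ Y₀) (qX : X ⟶ X₀)
    (hY : IsPullback qY g g₀ (c.π.app i₀)) (hX : IsPullback qX f f₀ qY)

/-- The structure map of `X₀ ×_{Y₀} X₀` to the base stage. -/
noncomputable abbrev gΔ₀ : pullback f₀ f₀ ⟶ D.obj i₀ := (pullback.fst f₀ f₀ ≫ f₀) ≫ g₀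

/-- The structure map of `X ×_Y X` to the limit. -/
noncomputable abbrev gΔ : pullback f f ⟶ c.pt := (pullback.fst f f ≫ f) ≫ g

/-- The projection `X ×_Y X ⟶ X₀ ×_{Y₀} X₀`. -/
noncomputable abbrev qΔ : pullback f f ⟶ pullback f₀ f₀ :=
  pullback.map f f f₀ f₀ qX qX qY hX.w.symm hX.w.symm

include hY in
lemma hYΔ : IsPullback (qΔ f₀ f qY qX hX) (gΔ D c f g) (gΔ₀ D i₀ f₀ g₀) (c.π.app i₀) :=
  (isPullback_map_comp hX).paste_vert hY

lemma hXΔ : IsPullback qX (pullback.diagonal f) (pullback.diagonal f₀) (qΔ f₀ f qY qX hX) :=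
  isPullback_diagonal hX

lemma compactSpace_diagonalObj [CompactSpace X₀] [QuasiSeparatedSpace Y₀] :
    CompactSpace ↥(pullback f₀ f₀) :=
  have : QuasiCompact (pullback.fst f₀ f₀) :=
    MorphismProperty.of_isPullback (P := @QuasiCompact)
      (IsPullback.of_hasPullback f₀ f₀).flip (inferInstance : QuasiCompact f₀)
  QuasiCompact.compactSpace_of_compactSpace (pullback.fst f₀ f₀)

lemma quasiSeparatedSpace_diagonalObj [QuasiSeparatedSpace X₀] :
    QuasiSeparatedSpace ↥(pullback f₀ f₀) :=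
  have : QuasiSeparated (pullback.fst f₀ f₀) :=
    MorphismProperty.of_isPullback (P := @QuasiSeparated)
      (IsPullback.of_hasPullback f₀ f₀).flip (inferInstance : QuasiSeparated f₀)
  quasiSeparatedSpace_of_quasiSeparated (pullback.fst f₀ f₀)

/-- Packaging the conclusion of the "descent to a stage" statements for diagonal properties:
if the base change of the diagonal of `f₀` to a stage has `P`, then so has the diagonal of the
base change of `f₀` to this stage. -/
lemma exists_stage_diagonal (P : MorphismProperty Scheme.{u}) [P.IsStableUnderBaseChange]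
    (H : ∃ j : Over i₀, P ((τ D i₀ (pullback.diagonal f₀) (gΔ₀ D i₀ f₀ g₀)).app j)) :
    ∃ (i : I) (φ : i ⟶ i₀) (Xi Yi : Scheme.{u}) (fi : Xi ⟶ Yi) (gi : Yi ⟶ D.obj i)
      (pY : Yi ⟶ Y₀) (pX : Xi ⟶ X₀), IsPullback pY gi g₀ (D.map φ) ∧ IsPullback pX fi f₀ pY ∧
        P (pullback.diagonal fi) := by
  obtain ⟨j, hj⟩ := H
  refine ⟨j.left, j.hom, _, _, pullback.snd f₀ (pullback.fst g₀ (D.map j.hom)),
    pullback.snd g₀ (D.map j.hom), pullback.fst g₀ (D.map j.hom), pullback.fst f₀ _,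
    IsPullback.of_hasPullback _ _, IsPullback.of_hasPullback _ _, ?_⟩
  have hYj := IsPullback.of_hasPullback g₀ (D.map j.hom)
  have hXj := IsPullback.of_hasPullback f₀ (pullback.fst g₀ (D.map j.hom))
  have hZj := (isPullback_map_comp hXj).paste_vert hYj
  have hΔj := isPullback_diagonal hXj
  have e1 : hZj.isoPullback.hom ≫ pullback.fst (gΔ₀ D i₀ f₀ g₀) (D.map j.hom) = _ :=
    hZj.isoPullback_hom_fst
  have p : pullback.fst f₀ (pullback.fst g₀ (D.map j.hom)) ≫ pullback.diagonal f₀ =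
      (pullback.diagonal (pullback.snd f₀ (pullback.fst g₀ (D.map j.hom))) ≫
        hZj.isoPullback.hom) ≫ pullback.fst (gΔ₀ D i₀ f₀ g₀) (D.map j.hom) := by
    rw [Category.assoc, e1, hΔj.w]
  have sq : IsPullback (pullback.lift _ _ p)
      (pullback.diagonal (pullback.snd f₀ (pullback.fst g₀ (D.map j.hom))))
      (pullback.snd (pullback.diagonal f₀) (pullback.fst (gΔ₀ D i₀ f₀ g₀) (D.map j.hom)))
      hZj.isoPullback.hom := by
    refine IsPullback.of_right ?_ (pullback.lift_snd _ _ p)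
      (IsPullback.of_hasPullback (pullback.diagonal f₀)
        (pullback.fst (gΔ₀ D i₀ f₀ g₀) (D.map j.hom)))
    rw [pullback.lift_fst, e1]
    exact hΔj
  exact MorphismProperty.of_isPullback sq hj

end StageSetup

end Groth.Agent.Lib.Helper50
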