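import Groth.Agent.Lib.Helper50.LimStageDiag
import Groth.Agent.Lib.Helper50.LimDesc4

set_option autoImplicit false
universe u
open CategoryTheory AlgebraicGeometry Limits

namespace Groth.Agent.Lib.Helper50

namespace StageSetup

variable {I : Type u} [SmallCategory I]
    (D : I ⥤ Scheme.{u}) (c : Limits.Cone D) (hc : Limits.IsLimit c) (i₀ : I)
    {X₀ Y₀ : Scheme.{u}} (f₀ : X₀ ⟶ Y₀) (g₀ : Y₀ ⟶ D.obj i₀)
    {X Y : Scheme.{u}} (f : X ⟶ Y) (g : Y ⟶ c.pt) (qY : Y ⟶ Y₀) (qX : X ⟶ X₀)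
    (hY : IsPullback qY g g₀ (c.π.app i₀)) (hX : IsPullback qX f f₀ qY)

/-- If the base change of the diagonal of `f₀` to a stage has `P`, then so has the diagonal of the
base change of `f₀` to this stage. -/
lemma diagonal_τ (P : MorphismProperty Scheme.{u}) [P.IsStableUnderBaseChange] (j : Over i₀)
    (hj : P ((τ D i₀ (pullback.diagonal f₀) (gΔ₀ D i₀ f₀ g₀)).app j)) :
    P (pullback.diagonal ((τ D i₀ f₀ g₀).app j)) := by
  have hYj := IsPullback.of_hasPullback g₀ (D.map j.hom)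
  have hXj := IsPullback.of_hasPullback f₀ (pullback.fst g₀ (D.map j.hom))
  have hZj := (isPullback_map_comp hXj).paste_vert hYj
  have hΔj := isPullback_diagonal hXj
  have e1 : hZj.isoPullback.hom ≫ pullback.fst (gΔ₀ D i₀ f₀ g₀) (D.map j.hom) = _ :=
    hZj.isoPullback_hom_fst
  have p : pullback.fst f₀ (pullback.fst g₀ (D.map j.hom)) ≫ pullback.diagonal f₀ =
      (pullback.diagonal (pullback.snd f₀ (pullback.fst g₀ (D.map j.hom))) ≫
        hZj.isoPullback.hom) ≫ pullback.fst (gΔ₀ D i₀ f₀ g₀) (D.map j.hom) := by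
    rw [Category.assoc, e1, hΔj.w]
  have sq : IsPullback (pullback.lift _ _ p)
      (pullback.diagonal (pullback.snd f₀ (pullback.fst g₀ (D.map j.hom))))
      (pullback.snd (pullback.diagonal f₀) (pullback.fst (gΔ₀ D i₀ f₀ g₀) (D.map j.hom)))
      hZj.isoPullback.hom := by
    refine IsPullback.of_right ?_ (pullback.lift_snd _ _ p)
      (IsPullback.of_hasPullback (pullback.diagonal f₀)
        (pullback.fst (gΔ₀ D i₀ f₀ g₀) (D.map j.hom)))
    rw [pullback.lift_fst, e1]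
    exact hΔj
  exact MorphismProperty.of_isPullback sq hj

/-- A property stable under base change passes to all later stages. -/
lemma forall_of_τ (P : MorphismProperty Scheme.{u}) [P.IsStableUnderBaseChange] (j : Over i₀)
    (hj : P ((τ D i₀ f₀ g₀).app j)) (k : Over i₀) (ψ : k ⟶ j) : P ((τ D i₀ f₀ g₀).app k) :=
  MorphismProperty.of_isPullback (isPullback_τ D i₀ f₀ g₀ ψ) hj

include hY hX in
/-- A property stable under base change passes from any stage to the limit. -/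
lemma of_stage (P : MorphismProperty Scheme.{u}) [P.IsStableUnderBaseChange] {j : I} (φ : j ⟶ i₀)
    {Xj Yj : Scheme.{u}} {fj : Xj ⟶ Yj} {gj : Yj ⟶ D.obj j} {pY : Yj ⟶ Y₀} {pX : Xj ⟶ X₀}
    (h1 : IsPullback pY gj g₀ (D.map φ)) (h2 : IsPullback pX fj f₀ pY) (hP : P fj) : P f := by
  have w1 : qY ≫ g₀ = (g ≫ c.π.app j) ≫ D.map φ := by
    rw [Category.assoc, c.w, hY.w]
  have w2 : qX ≫ f₀ = (f ≫ h1.lift qY (g ≫ c.π.app j) w1) ≫ pY := by
    rw [Category.assoc, h1.lift_fst, hX.w]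
  have sq : IsPullback (h2.lift qX (f ≫ h1.lift qY (g ≫ c.π.app j) w1) w2) f fj
      (h1.lift qY (g ≫ c.π.app j) w1) := by
    refine IsPullback.of_right ?_ (h2.lift_snd _ _ _) h2
    rw [h2.lift_fst, h1.lift_fst]
    exact hX
  exact MorphismProperty.of_isPullback sq hP

include hc hY hX in
/-- **Descent of separatedness** in the stage setting (arbitrary base, `X₀`, `Y₀` qcqs). -/
theorem exists_forall_isSeparated_τ [IsCofiltered I]
    [∀ (i j : I) (f : i ⟶ j), IsAffineHom (D.map f)]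
    [CompactSpace X₀] [QuasiSeparatedSpace X₀] [CompactSpace Y₀] [QuasiSeparatedSpace Y₀]
    [IsSeparated f] :
    ∃ j : Over i₀, ∀ (k : Over i₀) (_ : k ⟶ j), IsSeparated ((τ D i₀ f₀ g₀).app k) := by
  have hZ := hYΔ D c i₀ f₀ g₀ f g qY qX hY hX
  have hΔ := hXΔ f₀ f qY qX hX
  have : CompactSpace ↥(pullback f₀ f₀) := compactSpace_diagonalObj f₀
  have : QuasiSeparatedSpace ↥(pullback f₀ f₀) := quasiSeparatedSpace_diagonalObj f₀
  have h1 := compactSpace_E D i₀ (gΔ₀ D i₀ f₀ g₀)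
  have h2 := quasiSeparatedSpace_E D i₀ (gΔ₀ D i₀ f₀ g₀)
  have h3 := compactSpace_F D i₀ (pullback.diagonal f₀) (gΔ₀ D i₀ f₀ g₀)
  have h4 := quasiSeparatedSpace_F D i₀ (pullback.diagonal f₀) (gΔ₀ D i₀ f₀ g₀)
  have h5 := locallyOfFiniteType_τ D i₀ (pullback.diagonal f₀) (gΔ₀ D i₀ f₀ g₀)
  have hf0 : IsClosedImmersion (pullback.diagonal f) := IsSeparated.isClosedImmersion_diagonal
  have hf' : IsClosedImmersion
      (X := (cF D c i₀ (pullback.diagonal f₀) (gΔ₀ D i₀ f₀ g₀) (pullback.diagonal f)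
        (gΔ D c f g) (qΔ f₀ f qY qX hX) qX hZ hΔ).pt)
      (Y := (cE D c i₀ (gΔ₀ D i₀ f₀ g₀) (gΔ D c f g) (qΔ f₀ f qY qX hX) hZ).pt)
      (pullback.diagonal f) := hf0
  obtain ⟨j, _, hj⟩ := exists_forall_isClosedImmersion_app
    (τ D i₀ (pullback.diagonal f₀) (gΔ₀ D i₀ f₀ g₀))
    (cF D c i₀ (pullback.diagonal f₀) (gΔ₀ D i₀ f₀ g₀) (pullback.diagonal f)
        (gΔ D c f g) (qΔ f₀ f qY qX hX) qX hZ hΔ)
    (hcF D c hc i₀ (pullback.diagonal f₀) (gΔ₀ D i₀ f₀ g₀) (pullback.diagonal f)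
        (gΔ D c f g) (qΔ f₀ f qY qX hX) qX hZ hΔ)
    (cE D c i₀ (gΔ₀ D i₀ f₀ g₀) (gΔ D c f g) (qΔ f₀ f qY qX hX) hZ)
    (hcE D c hc i₀ (gΔ₀ D i₀ f₀ g₀) (gΔ D c f g) (qΔ f₀ f qY qX hX) hZ) (pullback.diagonal f)
    (hf D c i₀ (pullback.diagonal f₀) (gΔ₀ D i₀ f₀ g₀) (pullback.diagonal f)
        (gΔ D c f g) (qΔ f₀ f qY qX hX) qX hZ hΔ)
    (fun φ ↦ isPullback_τ D i₀ (pullback.diagonal f₀) (gΔ₀ D i₀ f₀ g₀) φ) (Over.mk (𝟙 i₀))
  have key : IsSeparated ((τ D i₀ f₀ g₀).app j) :=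
    ⟨diagonal_τ D i₀ f₀ g₀ @IsClosedImmersion j (hj j (𝟙 j))⟩
  exact ⟨j, fun k ψ ↦ forall_of_τ D i₀ f₀ g₀ @IsSeparated j key k ψ⟩

end StageSetup

end Groth.Agent.Lib.Helper50
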