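import Groth.Agent.Lib.Helper50.MonoRes
import Mathlib.AlgebraicGeometry.ValuativeCriterion

set_option autoImplicit false
universe u
open CategoryTheory CategoryTheory.Limits AlgebraicGeometry IsLocalRing

namespace Groth.Agent.Lib.Helper50

/-- valuative lifting (with residue point) implies reflecting specializations after base change -/
theorem reflects_of_lifting {X Y : Scheme.{u}} (f : Y ⟶ X) [Mono f]
    (H : ∀ S : ValuativeCommSq f,
        (∃ l₀ : Spec (CommRingCat.of (IsLocalRing.ResidueField S.R)) ⟶ Y,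
            l₀ ≫ f = Spec.map (CommRingCat.ofHom (IsLocalRing.residue S.R)) ≫ S.i₂) →
          S.commSq.HasLift)
    {X' P : Scheme.{u}} (g : X' ⟶ X) (q : P ⟶ Y) (f' : P ⟶ X') (hpb : IsPullback q f' f g)
    (y₀ y₁ : P) (hs : f'.base y₁ ⤳ f'.base y₀) : y₁ ⤳ y₀ := by
  haveI : Mono f' := hpb.mono_snd_of_mono
  let ρ : X'.presheaf.stalk (f'.base y₀) ⟶ P.residueField y₁ :=
    X'.presheaf.stalkSpecializes hs ≫ f'.stalkMap y₁ ≫ P.residue y₁
  obtain ⟨A, hA, hA_local⟩ := exists_factor_valuationRing ρ.hom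
  let toA : X'.presheaf.stalk (f'.base y₀) ⟶ .of A :=
    CommRingCat.ofHom (ρ.hom.codRestrict _ hA)
  let i₂' : Spec (.of A) ⟶ X' := Spec.map toA ≫ X'.fromSpecStalk (f'.base y₀)
  have w' : P.fromSpecResidueField y₁ ≫ f' =
      Spec.map (CommRingCat.ofHom (algebraMap A (P.residueField y₁))) ≫ i₂' := by
    rw [Scheme.fromSpecResidueField, Category.assoc, ← Scheme.SpecMap_stalkMap_fromSpecStalk,
      ← Scheme.SpecMap_stalkSpecializes_fromSpecStalk hs]
    simp_rw [i₂', ← Spec.map_comp_assoc]
    rfl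
  have w : (P.fromSpecResidueField y₁ ≫ q) ≫ f =
      Spec.map (CommRingCat.ofHom (algebraMap A (P.residueField y₁))) ≫ (i₂' ≫ g) := by
    rw [Category.assoc, hpb.w, ← Category.assoc, w', Category.assoc]
  -- the residue point
  have hbij := Groth.Agent.Lib.Helper50.residueFieldMap_bijective_of_mono f' y₀
  haveI : IsIso (f'.residueFieldMap y₀) := (ConcreteCategory.isIso_iff_bijective _).mpr hbij
  haveI : IsLocalHom toA.hom := hA_local
  let r : X'.residueField (f'.base y₀) ⟶ CommRingCat.of (IsLocalRing.ResidueField A) :=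
    CommRingCat.ofHom (IsLocalRing.ResidueField.map toA.hom)
  let l₀' : Spec (CommRingCat.of (IsLocalRing.ResidueField A)) ⟶ P :=
    Spec.map r ≫ Spec.map (inv (f'.residueFieldMap y₀)) ≫ P.fromSpecResidueField y₀
  have hr : X'.residue (f'.base y₀) ≫ r = toA ≫ CommRingCat.ofHom (IsLocalRing.residue A) := by
    ext a
    rfl
  have hl₀' : l₀' ≫ f' = Spec.map (CommRingCat.ofHom (IsLocalRing.residue A)) ≫ i₂' := by
    simp only [l₀', i₂', Category.assoc]
    rw [← Scheme.Hom.SpecMap_residueFieldMap_fromSpecResidueField, ← Spec.map_comp_assoc _ (inv _),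
      IsIso.hom_inv_id, Spec.map_id, Category.id_comp, Scheme.fromSpecResidueField,
      ← Spec.map_comp_assoc, ← Spec.map_comp_assoc, hr]
  let S : ValuativeCommSq f := { R := A, K := P.residueField y₁, commSq := ⟨w⟩, .. }
  obtain ⟨⟨l, hl₁, hl₂⟩⟩ := (H S ⟨l₀' ≫ q, by
    rw [Category.assoc, hpb.w, ← Category.assoc, hl₀', Category.assoc]⟩).exists_lift
  change Spec (CommRingCat.of A) ⟶ Y at l
  change Spec.map (CommRingCat.ofHom (algebraMap A (P.residueField y₁))) ≫ l =
    P.fromSpecResidueField y₁ ≫ q at hl₁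
  change l ≫ f = i₂' ≫ g at hl₂
  let l' : Spec (CommRingCat.of A) ⟶ P := hpb.lift l i₂' hl₂
  have hl'q : l' ≫ q = l := hpb.lift_fst _ _ _
  have hl'f : l' ≫ f' = i₂' := hpb.lift_snd _ _ _
  have hgen : Spec.map (CommRingCat.ofHom (algebraMap A (P.residueField y₁))) ≫ l' =
      P.fromSpecResidueField y₁ := by
    apply hpb.hom_ext
    · rw [Category.assoc, hl'q, hl₁]
    · rw [Category.assoc, hl'f, w']
  have hclosed : l'.base (closedPoint A) = y₀ := by
    apply f'.injective
    have h1 : (l' ≫ f').base (closedPoint A) = i₂'.base (closedPoint A) := by rw [hl'f]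
    have h2 : (Spec.map toA).base (closedPoint A) = closedPoint (X'.presheaf.stalk (f'.base y₀)) :=
      comap_closedPoint (S := A) (ρ.hom.codRestrict A.toSubring hA)
    change f'.base (l'.base (closedPoint A)) = f'.base y₀
    refine h1.trans ?_
    change (X'.fromSpecStalk (f'.base y₀)).base ((Spec.map toA).base (closedPoint A)) = _
    rw [h2]
    exact Scheme.fromSpecStalk_closedPoint
  have hy₁ : l'.base ((Spec.map (CommRingCat.ofHom (algebraMap A (P.residueField y₁)))).base
      (closedPoint (P.residueField y₁))) = y₁ := by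
    have := congrArg (fun m => m.base (closedPoint (P.residueField y₁))) hgen
    exact this.trans (Scheme.fromSpecResidueField_apply y₁ _)
  rw [← hy₁, ← hclosed]
  exact (specializes_closedPoint _).map l'.continuous

set_option backward.isDefEq.respectTransparency false in
/-- reflecting specializations after base change gives valuative lifting -/
theorem lifting_of_reflects {X Y : Scheme.{u}} (f : Y ⟶ X)
    (h : ∀ (X' : Scheme.{u}) (g : X' ⟶ X) (y₀ y₁ : ↥(pullback f g)),
        (pullback.snd f g).base y₁ ⤳ (pullback.snd f g).base y₀ → y₁ ⤳ y₀)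
    (S : ValuativeCommSq f)
    (hS : ∃ l₀ : Spec (CommRingCat.of (IsLocalRing.ResidueField S.R)) ⟶ Y,
            l₀ ≫ f = Spec.map (CommRingCat.ofHom (IsLocalRing.residue S.R)) ≫ S.i₂) :
    S.commSq.HasLift := by
  obtain ⟨R, K, i₁, i₂, ⟨w⟩⟩ := S
  obtain ⟨l₀, hl₀⟩ := hS
  dsimp only at l₀ hl₀
  have : IsDomain (CommRingCat.of R) := ‹_›
  have : ValuationRing (CommRingCat.of R) := ‹_›
  let : Field (CommRingCat.of K) := ‹_›
  let lft := pullback.lift i₁ (Spec.map (CommRingCat.ofHom (algebraMap R K))) w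
  let lft₀ := pullback.lift l₀ (Spec.map (CommRingCat.ofHom (IsLocalRing.residue R))) hl₀
  obtain ⟨x, hx⟩ : ∃ x : ↥(pullback f i₂), x = lft₀.base (closedPoint (IsLocalRing.ResidueField R)) :=
    ⟨_, rfl⟩
  have h₂ : (pullback.snd f i₂).base x = closedPoint R := by
    rw [hx]
    have h3 : (lft₀ ≫ pullback.snd f i₂).base (closedPoint (IsLocalRing.ResidueField R)) =
        (Spec.map (CommRingCat.ofHom (IsLocalRing.residue R))).base
          (closedPoint (IsLocalRing.ResidueField R)) := by
      rw [pullback.lift_snd]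
    refine h3.trans ?_
    exact comap_closedPoint (IsLocalRing.residue R)
  have h₁ : lft.base (closedPoint K) ⤳ x := by
    apply h _ i₂
    rw [h₂]
    exact specializes_closedPoint (R := R) _
  let e : CommRingCat.of R ≅ (Spec <| .of R).presheaf.stalk ((pullback.snd f i₂).base x) :=
    (stalkClosedPointIso (.of R)).symm ≪≫
      (Spec <| .of R).presheaf.stalkCongr (.of_eq h₂.symm)
  let α := e.hom ≫ (pullback.snd f i₂).stalkMap x
  have : IsLocalHom e.hom.hom := isLocalHom_of_isIso e.hom
  have : IsLocalHom α.hom := inferInstanceAs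
    (IsLocalHom (((pullback.snd f i₂).stalkMap x).hom.comp e.hom.hom))
  let β := (pullback f i₂).presheaf.stalkSpecializes h₁ ≫ Scheme.stalkClosedPointTo lft
  have hαβ : α ≫ β = CommRingCat.ofHom (algebraMap R K) := by
    simp only [CommRingCat.coe_of, Iso.trans_hom, Iso.symm_hom, TopCat.Presheaf.stalkCongr_hom,
      Category.assoc, α, e, β, stalkClosedPointIso_inv, StructureSheaf.toStalk]
    change (Scheme.ΓSpecIso (.of R)).inv ≫ (Spec <| .of R).presheaf.germ _ _ _ ≫ _ = _
    simp only [TopCat.Presheaf.germ_stalkSpecializes_assoc, Scheme.Hom.germ_stalkMap_assoc]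
    simp only [TopologicalSpace.Opens.map_top]
    rw [Scheme.germ_stalkClosedPointTo lft ⊤ trivial]
    erw [← Scheme.Hom.comp_app_assoc lft (pullback.snd f i₂)]
    rw [pullback.lift_snd]
    simp
  have hbij := (bijective_rangeRestrict_comp_of_valuationRing (R := R) (K := K) α.hom β.hom
    (CommRingCat.hom_ext_iff.mp hαβ))
  let φ : (pullback f i₂).presheaf.stalk x ⟶ CommRingCat.of R := CommRingCat.ofHom <|
    (RingEquiv.ofBijective _ hbij).symm.toRingHom.comp β.hom.rangeRestrict
  have hαφ : α ≫ φ = 𝟙 _ := by ext x; exact (RingEquiv.ofBijective _ hbij).symm_apply_apply x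
  have hαφ' : (pullback.snd f i₂).stalkMap x ≫ φ = e.inv := by
    rw [← cancel_epi e.hom, ← Category.assoc, hαφ, e.hom_inv_id]
  have hφβ : φ ≫ CommRingCat.ofHom (algebraMap R K) = β :=
    hαβ ▸ CommRingCat.hom_ext (RingHom.ext fun x ↦ congr_arg Subtype.val
      ((RingEquiv.ofBijective _ hbij).apply_symm_apply (β.hom.rangeRestrict x)))
  refine ⟨⟨⟨Spec.map ((pullback.fst f i₂).stalkMap x ≫ φ) ≫ Y.fromSpecStalk _, ?_, ?_⟩⟩⟩
  · simp only [← Spec.map_comp_assoc, Category.assoc, hφβ]
    simp only [Spec.map_comp, Category.assoc, Scheme.SpecMap_stalkMap_fromSpecStalk,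
      Scheme.SpecMap_stalkSpecializes_fromSpecStalk_assoc, β]
    rw [Scheme.Spec_stalkClosedPointTo_fromSpecStalk_assoc]
    simp [lft]
  · simp only [Spec.map_comp, Category.assoc, Scheme.SpecMap_stalkMap_fromSpecStalk,
      pullback.condition]
    rw [← Scheme.SpecMap_stalkMap_fromSpecStalk_assoc, ← Spec.map_comp_assoc, hαφ']
    simp only [Iso.trans_inv, TopCat.Presheaf.stalkCongr_inv, Iso.symm_inv, Spec.map_comp,
      Category.assoc, Scheme.SpecMap_stalkSpecializes_fromSpecStalk_assoc, e]
    rw [← Spec_stalkClosedPointIso, ← Spec.map_comp_assoc,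
      Iso.inv_hom_id, Spec.map_id, Category.id_comp]


end Groth.Agent.Lib.Helper50
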