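import Groth.Agent.Lib.Helper50.FGLim
import Groth.Agent.Lib.Helper50.MonoVal
import Groth.Agent.Lib.Helper50.DvrSpec
import Mathlib.AlgebraicGeometry.Morphisms.FlatMono

set_option autoImplicit false
universe u
open CategoryTheory CategoryTheory.Limits AlgebraicGeometry IsLocalRing

namespace Groth.Agent.Lib.Helper50

/-- Field-valued points lift along a monomorphism as soon as their image point lifts. -/
theorem exists_lift_of_mono_of_field {P X' : Scheme.{u}} (f' : P ⟶ X') [Mono f'] (y₀ : P)
    (L : Type u) [Field L] (m : Spec (CommRingCat.of L) ⟶ X')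
    (hm : m.base (closedPoint L) = f'.base y₀) :
    ∃ l : Spec (CommRingCat.of L) ⟶ P, l ≫ f' = m := by
  haveI : Subsingleton ↥(Spec (CommRingCat.of L)) :=
    inferInstanceAs (Subsingleton (PrimeSpectrum L))
  obtain ⟨z, hz₁, hz₂⟩ := Scheme.Pullback.exists_preimage_pullback (f := f') (g := m) y₀
    (closedPoint L) hm.symm
  haveI : Surjective (pullback.snd f' m) := ⟨fun w => ⟨z, Subsingleton.elim _ _⟩⟩
  haveI : Subsingleton ↥(pullback f' m) := (pullback.snd f' m).injective.subsingleton
  haveI : CompactSpace ↥(pullback f' m) := inferInstance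
  haveI : QuasiCompact (pullback.snd f' m) := inferInstance
  haveI : IsIso (pullback.snd f' m) := Flat.isIso_of_surjective_of_mono _
  refine ⟨inv (pullback.snd f' m) ≫ pullback.fst f' m, ?_⟩
  rw [Category.assoc, pullback.condition, IsIso.inv_hom_id_assoc]

/-- DVR lifting (with residue point) for a monomorphism `f` implies that every base change to a
locally Noetherian scheme reflects specializations. -/
theorem specializes_of_dvr_lifting {X Y : Scheme.{u}} (f : Y ⟶ X) [Mono f]
    (h : ∀ S : ValuativeCommSq f, IsDiscreteValuationRing S.R →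
        (∃ l₀ : Spec (CommRingCat.of (IsLocalRing.ResidueField S.R)) ⟶ Y,
            l₀ ≫ f = Spec.map (CommRingCat.ofHom (IsLocalRing.residue S.R)) ≫ S.i₂) →
          S.commSq.HasLift)
    {X' P : Scheme.{u}} [IsLocallyNoetherian X'] (g : X' ⟶ X) (q : P ⟶ Y) (f' : P ⟶ X')
    (hpb : IsPullback q f' f g) (y₀ y₁ : P) (hs : f'.base y₁ ⤳ f'.base y₀) : y₁ ⤳ y₀ := by
  haveI : Mono f' := hpb.mono_snd_of_mono
  by_cases hne : f'.base y₀ = f'.base y₁
  · rw [f'.injective hne]
  have hs' : (𝟙 X' : X' ⟶ X').base (f'.base y₁) ⤳ f'.base y₀ := hs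
  obtain ⟨A, hA, hDVR, hcl, hcomp⟩ :=
    Groth.Agent.Lib.Helper50.exists_dvr_through_specialization (𝟙 X') (f'.base y₁) (f'.base y₀)
      hs' hne
  rw [Category.comp_id] at hcomp
  -- the generic point
  obtain ⟨i₁', hi₁'⟩ := exists_lift_of_mono_of_field f' y₁ (X'.residueField (f'.base y₁))
    (X'.fromSpecResidueField (f'.base y₁)) (Scheme.fromSpecResidueField_apply _ _)
  -- the residue point
  have hm₀ : (Spec.map (CommRingCat.ofHom (IsLocalRing.residue A)) ≫ hA).base
      (closedPoint (IsLocalRing.ResidueField A)) = f'.base y₀ := by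
    rw [← hcl]
    change hA.base ((Spec.map (CommRingCat.ofHom (IsLocalRing.residue A))).base _) = _
    congr 1
    exact comap_closedPoint (IsLocalRing.residue A)
  obtain ⟨l₀', hl₀'⟩ := exists_lift_of_mono_of_field f' y₀ (IsLocalRing.ResidueField A)
    (Spec.map (CommRingCat.ofHom (IsLocalRing.residue A)) ≫ hA) hm₀
  have w : (i₁' ≫ q) ≫ f =
      Spec.map (CommRingCat.ofHom (algebraMap A (X'.residueField (f'.base y₁)))) ≫ (hA ≫ g) := by
    rw [Category.assoc, hpb.w, ← Category.assoc, hi₁', ← hcomp, Category.assoc]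
    rfl
  let S : ValuativeCommSq f :=
    { R := A, K := X'.residueField (f'.base y₁), commSq := ⟨w⟩, .. }
  obtain ⟨⟨l, hl₁, hl₂⟩⟩ := (h S hDVR ⟨l₀' ≫ q, by
    rw [Category.assoc, hpb.w, ← Category.assoc, hl₀', Category.assoc]⟩).exists_lift
  change Spec (CommRingCat.of A) ⟶ Y at l
  change Spec.map (CommRingCat.ofHom (algebraMap A (X'.residueField (f'.base y₁)))) ≫ l =
    i₁' ≫ q at hl₁
  change l ≫ f = hA ≫ g at hl₂
  let l' : Spec (CommRingCat.of A) ⟶ P := hpb.lift l hA hl₂
  have hl'f : l' ≫ f' = hA := hpb.lift_snd _ _ _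
  have hclosed : l'.base (closedPoint A) = y₀ := by
    apply f'.injective
    change (l' ≫ f').base (closedPoint A) = f'.base y₀
    rw [hl'f, hcl]
  have hgen : l'.base ((Spec.map (CommRingCat.ofHom
      (algebraMap A (X'.residueField (f'.base y₁))))).base
      (closedPoint (X'.residueField (f'.base y₁)))) = y₁ := by
    apply f'.injective
    change (Spec.map (CommRingCat.ofHom (algebraMap A (X'.residueField (f'.base y₁)))) ≫
      l' ≫ f').base (closedPoint (X'.residueField (f'.base y₁))) = f'.base y₁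
    rw [hl'f]
    have : Spec.map (CommRingCat.ofHom (algebraMap A (X'.residueField (f'.base y₁)))) ≫ hA =
        X'.fromSpecResidueField (f'.base y₁) := hcomp
    rw [this]
    exact Scheme.fromSpecResidueField_apply _ _
  rw [← hgen, ← hclosed]
  exact (specializes_closedPoint _).map l'.continuous

end Groth.Agent.Lib.Helper50
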