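import Groth.Agent.Lib.Helper50.RelGlue2

/-!
# The Néron mapping property with respect to an arbitrary morphism `V ⟶ S`: plain form and
translation to `Over` categories
-/

set_option autoImplicit false
universe u
open CategoryTheory CategoryTheory.Limits AlgebraicGeometry

namespace Groth.Agent.Lib.Helper50.NeronGen

/-- The Néron mapping property of `N/S` with respect to `v : V ⟶ S` for the test object `Y/S`:
restriction along `Y ×_S V ⟶ Y` is a bijection on `S`-morphisms to `N`. -/
def NMPg {S N V Y : Scheme.{u}} (n : N ⟶ S) (v : V ⟶ S) (y : Y ⟶ S) : Prop :=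
  ∀ (P : Scheme.{u}) (p : P ⟶ V) (q : P ⟶ Y), IsPullback p q v y →
    (∀ f g : Y ⟶ N, f ≫ n = y → g ≫ n = y → q ≫ f = q ≫ g → f = g) ∧
    (∀ h : P ⟶ N, h ≫ n = q ≫ y → ∃ f : Y ⟶ N, f ≫ n = y ∧ q ≫ f = h)

/-- From the `Over`-categorical form of the mapping property to the plain form. -/
theorem nmpg_of_bijective {S V : Scheme.{u}} (v : V ⟶ S) (N Y : Over S)
    (hb : Function.Bijective (fun f : Y ⟶ N => (Over.pullback v).map f)) :
    NMPg N.hom v Y.hom := by
  intro P p q hP
  let e : P ≅ pullback Y.hom v := hP.flip.isoPullback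
  have e1 : e.hom ≫ pullback.fst Y.hom v = q := hP.flip.isoPullback_hom_fst
  have e2 : e.hom ≫ pullback.snd Y.hom v = p := hP.flip.isoPullback_hom_snd
  refine ⟨?_, ?_⟩
  · intro f g hf hg hfg
    have h1 : pullback.fst Y.hom v ≫ f = pullback.fst Y.hom v ≫ g := by
      rw [← cancel_epi e.hom, ← Category.assoc, ← Category.assoc, e1, hfg]
    have h2 : (Over.pullback v).map (Over.homMk f hf : Y ⟶ N) =
        (Over.pullback v).map (Over.homMk g hg : Y ⟶ N) := by
      ext
      simp only [Over.pullback_map_left, Over.homMk_left]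
      congr 1
    have h3 := hb.1 h2
    exact congrArg (fun t => t.left) h3
  · intro h hh
    let h₀ : pullback Y.hom v ⟶ N.left := e.inv ≫ h
    have hh₀ : h₀ ≫ N.hom = pullback.fst Y.hom v ≫ Y.hom := by
      dsimp only [h₀]
      rw [Category.assoc, hh, ← e1, Category.assoc, Iso.inv_hom_id_assoc]
    let g : (Over.pullback v).obj Y ⟶ (Over.pullback v).obj N :=
      Over.homMk (pullback.lift h₀ (pullback.snd Y.hom v) (by rw [hh₀, pullback.condition]))
        (pullback.lift_snd _ _ _)
    obtain ⟨f, hf⟩ := hb.2 g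
    have hf' : ((Over.pullback v).map f).left = g.left := congrArg (fun t => t.left) hf
    simp only [Over.pullback_map_left, g, Over.homMk_left] at hf'
    have hf'' := congrArg (· ≫ pullback.fst N.hom v) hf'
    simp only [pullback.lift_fst] at hf''
    refine ⟨f.left, Over.w f, ?_⟩
    rw [← e1, Category.assoc, hf'']
    dsimp only [h₀]
    rw [Iso.hom_inv_id_assoc]

/-- From the plain form to the `Over`-categorical form. -/
theorem bijective_of_nmpg {S V : Scheme.{u}} (v : V ⟶ S) (N Y : Over S)
    (h : NMPg N.hom v Y.hom) :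
    Function.Bijective (fun f : Y ⟶ N => (Over.pullback v).map f) := by
  obtain ⟨hinj, hsurj⟩ := h _ _ _ (IsPullback.of_hasPullback Y.hom v).flip
  refine ⟨?_, ?_⟩
  · intro f g hfg
    have hfg' : ((Over.pullback v).map f).left = ((Over.pullback v).map g).left :=
      congrArg (fun t => t.left) hfg
    simp only [Over.pullback_map_left] at hfg'
    have h1 := congrArg (· ≫ pullback.fst _ _) hfg'
    simp only [pullback.lift_fst] at h1
    ext
    exact hinj f.left g.left (Over.w f) (Over.w g) h1
  · intro g
    have hgw : g.left ≫ pullback.snd N.hom v = pullback.snd Y.hom v := Over.w g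
    have hcN : pullback.fst N.hom v ≫ N.hom = pullback.snd N.hom v ≫ v := pullback.condition
    have hcY : pullback.fst Y.hom v ≫ Y.hom = pullback.snd Y.hom v ≫ v := pullback.condition
    obtain ⟨f₁, hf1, hf2⟩ := hsurj (g.left ≫ pullback.fst N.hom v) (by
      rw [Category.assoc, hcN, reassoc_of% hgw, hcY])
    refine ⟨Over.homMk f₁ hf1, ?_⟩
    ext
    simp only [Over.pullback_map_left, Over.homMk_left]
    apply pullback.hom_ext
    · rw [pullback.lift_fst, hf2]
    · rw [pullback.lift_snd]
      exact hgw.symm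

/-- From the `Over`-categorical form over a monomorphic base change `S' ⟶ S` to the plain form
over `S`. -/
theorem nmpg_of_bijective_pullback {S S' V : Scheme.{u}} (j : S' ⟶ S) [Mono j] (v' : V ⟶ S')
    (N : Over S) (Z : Over S')
    (hb : Function.Bijective (fun g : Z ⟶ (Over.pullback j).obj N => (Over.pullback v').map g)) :
    NMPg N.hom (v' ≫ j) (Z.hom ≫ j) := by
  have h0 := nmpg_of_bijective v' ((Over.pullback j).obj N) Z hb
  intro P p q hP
  have hP' : IsPullback p q v' Z.hom := Descent.isPullback_of_comp_mono j hP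
  obtain ⟨hinj, hsurj⟩ := h0 P p q hP'
  have hcN : pullback.fst N.hom j ≫ N.hom = pullback.snd N.hom j ≫ j := pullback.condition
  refine ⟨?_, ?_⟩
  · intro f g hf hg hfg
    have h1 := hinj (pullback.lift f Z.hom hf) (pullback.lift g Z.hom hg)
      (pullback.lift_snd _ _ _) (pullback.lift_snd _ _ _) (by
        apply pullback.hom_ext
        · rw [Category.assoc, Category.assoc, pullback.lift_fst, pullback.lift_fst, hfg]
        · rw [Category.assoc, Category.assoc, pullback.lift_snd, pullback.lift_snd])
    have h2 := congrArg (· ≫ pullback.fst N.hom j) h1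
    simpa only [pullback.lift_fst] using h2
  · intro h hh
    obtain ⟨f₁, hf1, hf2⟩ := hsurj (pullback.lift h (q ≫ Z.hom) (by rw [hh, Category.assoc]))
      (pullback.lift_snd _ _ _)
    have hf1' : f₁ ≫ pullback.snd N.hom j = Z.hom := hf1
    refine ⟨f₁ ≫ pullback.fst N.hom j, ?_, ?_⟩
    · rw [Category.assoc, hcN, reassoc_of% hf1']
    · rw [← Category.assoc, hf2, pullback.lift_fst]

end Groth.Agent.Lib.Helper50.NeronGen
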