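import Groth.Agent.Lib.Helper50.StalkLim
import Groth.Agent.Lib.Helper50.LimBC

/-!
# `U ×_X Spec 𝒪_{X,x}` is the cofiltered limit of the `U ∩ W`, `W` affine open neighbourhood of `x`
-/

set_option autoImplicit false
universe u
open CategoryTheory CategoryTheory.Limits AlgebraicGeometry Opposite TopologicalSpace

namespace Groth.Agent.Lib.Helper50.StalkLim

variable (X : Scheme.{u}) (x : X) {T : Scheme.{u}} (a : T ⟶ X)

/-- The diagram `W ↦ T ×_X W`. -/
noncomputable def nhdDiagramBC : AffNhd X x ⥤ Scheme.{u} :=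
  bcDiagram (nhdDiagram X x) (fun W ↦ W.1.ι) (fun φ ↦ nhdDiagram_map_ι X x φ) a

@[simp] lemma nhdDiagramBC_obj (W : AffNhd X x) :
    (nhdDiagramBC X x a).obj W = pullback a W.1.ι := rfl

@[reassoc (attr := simp)]
lemma nhdDiagramBC_map_fst {W W' : AffNhd X x} (φ : W ⟶ W') :
    (nhdDiagramBC X x a).map φ ≫ pullback.fst a W'.1.ι = pullback.fst a W.1.ι :=
  bcDiagram_map_fst _ _ _ _ φ

@[reassoc (attr := simp)]
lemma nhdDiagramBC_map_snd {W W' : AffNhd X x} (φ : W ⟶ W') :
    (nhdDiagramBC X x a).map φ ≫ pullback.snd a W'.1.ι =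
      pullback.snd a W.1.ι ≫ X.homOfLE (leOfHom φ) :=
  bcDiagram_map_snd _ _ _ _ φ

instance (W W' : AffNhd X x) (φ : W ⟶ W') : IsAffineHom ((nhdDiagramBC X x a).map φ) := by
  dsimp only [nhdDiagramBC]; infer_instance

instance [QuasiCompact a] (W : AffNhd X x) : CompactSpace ((nhdDiagramBC X x a).obj W) := by
  have : IsAffine W.1.toScheme := W.2.1
  have : QuasiCompact (pullback.snd a W.1.ι) :=
    MorphismProperty.pullback_snd (P := @QuasiCompact) _ _ inferInstance
  change CompactSpace ↥(pullback a W.1.ι)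
  exact QuasiCompact.compactSpace_of_compactSpace (pullback.snd a W.1.ι)

instance [QuasiSeparated a] (W : AffNhd X x) :
    QuasiSeparatedSpace ((nhdDiagramBC X x a).obj W) := by
  have : IsAffine W.1.toScheme := W.2.1
  have : QuasiSeparated (pullback.snd a W.1.ι) :=
    MorphismProperty.pullback_snd (P := @QuasiSeparated) _ _ inferInstance
  change QuasiSeparatedSpace ↥(pullback a W.1.ι)
  exact quasiSeparatedSpace_of_quasiSeparated (pullback.snd a W.1.ι)

variable {P : Scheme.{u}} (p : P ⟶ T) (q : P ⟶ Spec (X.presheaf.stalk x))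
  (h : IsPullback p q a (X.fromSpecStalk x))

/-- The cone with vertex `T ×_X Spec 𝒪_{X,x}`. -/
noncomputable def nhdConeBC : Cone (nhdDiagramBC X x a) :=
  bcCone (nhdDiagram X x) (fun W ↦ W.1.ι) (fun φ ↦ nhdDiagram_map_ι X x φ) a (nhdCone X x)
    (X.fromSpecStalk x) (fun W ↦ Scheme.Opens.fromSpecStalkOfMem_ι W.1 x W.2.2) p q h.w

@[simp] lemma nhdConeBC_pt : (nhdConeBC X x a p q h).pt = P := rfl

@[reassoc (attr := simp)]
lemma nhdConeBC_π_app_fst (W : AffNhd X x) :
    (nhdConeBC X x a p q h).π.app W ≫ pullback.fst a W.1.ι = p :=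
  bcConeπ_fst _ _ _ _ _ _ _ _ _ W

@[reassoc (attr := simp)]
lemma nhdConeBC_π_app_snd (W : AffNhd X x) :
    (nhdConeBC X x a p q h).π.app W ≫ pullback.snd a W.1.ι =
      q ≫ W.1.fromSpecStalkOfMem x W.2.2 :=
  bcConeπ_snd _ _ _ _ _ _ _ _ _ W

attribute [local instance] IsCofiltered.isConnected in
/-- `T ×_X Spec 𝒪_{X,x}` is the limit of the `T ×_X W`. -/
noncomputable def isLimitNhdConeBC : IsLimit (nhdConeBC X x a p q h) :=
  isLimitBcCone _ _ _ _ _ _ _ _ _ (isLimitNhdCone X x) h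

end Groth.Agent.Lib.Helper50.StalkLim
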