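import Groth.Agent.Lib.Helper50.StalkSpread
import Groth.Agent.Lib.Helper50.StalkLimU
import Groth.Agent.Lib.Helper50.Glue2

/-!
# Gluing morphisms along a retrocompact open `U` and `Spec 𝒪_{X,x}`
-/

set_option autoImplicit false
universe u
open CategoryTheory CategoryTheory.Limits AlgebraicGeometry Opposite TopologicalSpace

namespace Groth.Agent.Lib.Helper50.StalkLim

variable {X Y S : Scheme.{u}} (sX : X ⟶ S) (sY : Y ⟶ S)

/-- Uniqueness of spreading out: two `S`-morphisms from an affine neighbourhood to a scheme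
locally of finite type over `S` which agree on `Spec 𝒪_{X,x}` agree on a smaller neighbourhood. -/
theorem exists_spread_out_unique [LocallyOfFiniteType sY] (x : X) (W : AffNhd X x)
    (a b : W.1.toScheme ⟶ Y) (ha : a ≫ sY = W.1.ι ≫ sX) (hb : b ≫ sY = W.1.ι ≫ sX)
    (hab : W.1.fromSpecStalkOfMem x W.2.2 ≫ a = W.1.fromSpecStalkOfMem x W.2.2 ≫ b) :
    ∃ (W' : AffNhd X x) (hle : W'.1 ≤ W.1), X.homOfLE hle ≫ a = X.homOfLE hle ≫ b := by
  obtain ⟨W', φ, h⟩ := Scheme.exists_hom_comp_eq_comp_of_locallyOfFiniteType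
    (nhdDiagram X x) (nhdToBase sX x) sY (nhdCone X x) (isLimitNhdCone X x) (i := W) a b
    ha.symm hb.symm hab
  exact ⟨W', leOfHom φ, h⟩

/-- The structure maps of `T ×_X W` to the base. -/
noncomputable def nhdBCToBase (x : X) {T : Scheme.{u}} (a : T ⟶ X) :
    nhdDiagramBC X x a ⟶ (Functor.const (AffNhd X x)).obj S where
  app W := pullback.fst a W.1.ι ≫ a ≫ sX
  naturality W W' f := by
    dsimp only [Functor.const_obj_obj, Functor.const_obj_map]
    rw [Category.comp_id, nhdDiagramBC_map_fst_assoc]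

/-- Given compatible `S`-morphisms `a : U ⟶ Y` and `b : Spec 𝒪_{X,x} ⟶ Y` with `U` retrocompact
and `Y` locally of finite presentation over `S`, `b` spreads out to an affine open neighbourhood `W`
of `x` compatibly with `a` on `U ∩ W`. -/
theorem exists_spread_out_compat [LocallyOfFinitePresentation sY] (x : X) (U : X.Opens)
    [QuasiCompact U.ι] (a : U.toScheme ⟶ Y) (b : Spec (X.presheaf.stalk x) ⟶ Y)
    (ha : a ≫ sY = U.ι ≫ sX) (hb : b ≫ sY = X.fromSpecStalk x ≫ sX)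
    (hab : ((X.fromSpecStalk x) ⁻¹ᵁ U).ι ≫ b = ((X.fromSpecStalk x) ∣_ U) ≫ a) :
    ∃ (W : AffNhd X x) (b' : W.1.toScheme ⟶ Y),
      W.1.fromSpecStalkOfMem x W.2.2 ≫ b' = b ∧ b' ≫ sY = W.1.ι ≫ sX ∧
      pullback.fst U.ι W.1.ι ≫ a = pullback.snd U.ι W.1.ι ≫ b' := by
  obtain ⟨W₁, b₁, hb₁, hb₁'⟩ := exists_spread_out sX sY x b hb
  have hpb : IsPullback ((X.fromSpecStalk x) ∣_ U) ((X.fromSpecStalk x) ⁻¹ᵁ U).ι U.ι
      (X.fromSpecStalk x) := isPullback_morphismRestrict (X.fromSpecStalk x) U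
  obtain ⟨W₂, φ, h⟩ := Scheme.exists_hom_comp_eq_comp_of_locallyOfFiniteType
    (nhdDiagramBC X x U.ι) (nhdBCToBase sX x U.ι) sY (nhdConeBC X x U.ι _ _ hpb)
    (isLimitNhdConeBC X x U.ι _ _ hpb) (i := W₁)
    (pullback.fst U.ι W₁.1.ι ≫ a) (pullback.snd U.ι W₁.1.ι ≫ b₁)
    (by
      change pullback.fst U.ι W₁.1.ι ≫ U.ι ≫ sX = (pullback.fst U.ι W₁.1.ι ≫ a) ≫ sY
      rw [Category.assoc, ha])
    (by
      change pullback.fst U.ι W₁.1.ι ≫ U.ι ≫ sX = (pullback.snd U.ι W₁.1.ι ≫ b₁) ≫ sY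
      rw [Category.assoc, hb₁', pullback.condition_assoc])
    (by
      have e1 := nhdConeBC_π_app_fst_assoc X x U.ι _ _ hpb W₁ a
      have e2 := nhdConeBC_π_app_snd_assoc X x U.ι _ _ hpb W₁ b₁
      have e3 := e2.trans ((Category.assoc _ _ _).trans
        (congrArg (((X.fromSpecStalk x) ⁻¹ᵁ U).ι ≫ ·) hb₁))
      exact e1.trans (hab.symm.trans e3.symm))
  refine ⟨W₂, X.homOfLE (leOfHom φ) ≫ b₁, ?_, ?_, ?_⟩
  · rw [← Category.assoc, fromSpecStalkOfMem_homOfLE, hb₁]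
  · rw [Category.assoc, hb₁', Scheme.homOfLE_ι_assoc]
  · rw [nhdDiagramBC_map_fst_assoc, nhdDiagramBC_map_snd_assoc] at h
    exact h

end Groth.Agent.Lib.Helper50.StalkLim
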