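import Groth.Agent.Lib.Helper50.NeronGen1
import Groth.Agent.Lib.Helper50.StalkGlue

/-!
# Local-global principle for the Néron mapping property with respect to a generic point
-/

set_option autoImplicit false
universe u
open CategoryTheory CategoryTheory.Limits AlgebraicGeometry

namespace Groth.Agent.Lib.Helper50.NeronGen

open Groth.Agent.Lib.Helper50.StalkLim Groth.Agent.Lib.Helper50

variable {S G : Scheme.{u}} [CompactSpace S] [QuasiSeparatedSpace S] (n : G ⟶ S)
  [LocallyOfFinitePresentation n] (η : S) (hη : ∀ p : S, IsClosed ({p} : Set S) → η ⤳ p)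
  (hloc : ∀ p : S, IsClosed ({p} : Set S) →
    ∀ (Z : Scheme.{u}) (z : Z ⟶ Spec (S.presheaf.stalk p)), Smooth z →
      NMPg n (S.fromSpecStalk η) (z ≫ S.fromSpecStalk p))

omit [QuasiSeparatedSpace S] in
lemma exists_closed_specializes (s : S) : ∃ p : S, IsClosed ({p} : Set S) ∧ s ⤳ p := by
  obtain ⟨p, hps, hp⟩ := IsClosed.exists_closed_singleton (isClosed_closure (s := {s}))
    ⟨s, subset_closure rfl⟩
  exact ⟨p, hp, specializes_iff_mem_closure.mpr hps⟩

include hloc in
omit [QuasiSeparatedSpace S] in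
/-- Injectivity of restriction to the generic fibre. -/
theorem inj_of_loc {Z : Scheme.{u}} (z : Z ⟶ S) [Smooth z] (f g : Z ⟶ G) (hf : f ≫ n = z)
    (hg : g ≫ n = z)
    (hfg : pullback.fst z (S.fromSpecStalk η) ≫ f = pullback.fst z (S.fromSpecStalk η) ≫ g) :
    f = g := by
  refine Scheme.hom_ext_of_forall f g fun x => ?_
  obtain ⟨p, hp, hsp⟩ := exists_closed_specializes (z x)
  have hcZ : pullback.fst z (S.fromSpecStalk p) ≫ z =
      pullback.snd z (S.fromSpecStalk p) ≫ S.fromSpecStalk p := pullback.condition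
  -- the two morphisms agree on `Z ×_S Spec 𝒪_{S,p}`
  have key : pullback.fst z (S.fromSpecStalk p) ≫ f = pullback.fst z (S.fromSpecStalk p) ≫ g := by
    have hP := (IsPullback.of_hasPullback
      (pullback.snd z (S.fromSpecStalk p) ≫ S.fromSpecStalk p) (S.fromSpecStalk η)).flip
    refine (hloc p hp _ (pullback.snd z (S.fromSpecStalk p)) inferInstance _ _ _ hP).1 _ _ ?_ ?_ ?_
    · rw [Category.assoc, hf, hcZ]
    · rw [Category.assoc, hg, hcZ]
    · have hcP := pullback.condition
        (f := pullback.snd z (S.fromSpecStalk p) ≫ S.fromSpecStalk p) (g := S.fromSpecStalk η)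
      obtain ⟨r, hr⟩ : ∃ r : pullback (pullback.snd z (S.fromSpecStalk p) ≫ S.fromSpecStalk p)
          (S.fromSpecStalk η) ⟶ pullback z (S.fromSpecStalk η),
          r ≫ pullback.fst z (S.fromSpecStalk η) =
            pullback.fst (pullback.snd z (S.fromSpecStalk p) ≫ S.fromSpecStalk p)
              (S.fromSpecStalk η) ≫ pullback.fst z (S.fromSpecStalk p) :=
        ⟨pullback.lift _ (pullback.snd (pullback.snd z (S.fromSpecStalk p) ≫ S.fromSpecStalk p)
          (S.fromSpecStalk η)) (by rw [Category.assoc, hcZ, hcP]), pullback.lift_fst _ _ _⟩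
      rw [← Category.assoc, ← Category.assoc, ← hr, Category.assoc, Category.assoc, hfg]
  -- hence on `Spec 𝒪_{Z,x}`
  have hstalk : Z.fromSpecStalk x ≫ f = Z.fromSpecStalk x ≫ g := by
    obtain ⟨ℓ, hℓ⟩ : ∃ ℓ : Spec (Z.presheaf.stalk x) ⟶ pullback z (S.fromSpecStalk p),
        ℓ ≫ pullback.fst z (S.fromSpecStalk p) = Z.fromSpecStalk x :=
      ⟨pullback.lift (Z.fromSpecStalk x)
        (Spec.map (z.stalkMap x) ≫ Spec.map (S.presheaf.stalkSpecializes hsp))
        (by rw [Category.assoc, Scheme.SpecMap_stalkSpecializes_fromSpecStalk,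
          Scheme.SpecMap_stalkMap_fromSpecStalk]), pullback.lift_fst _ _ _⟩
    rw [← hℓ, Category.assoc, Category.assoc, key]
  obtain ⟨W, -⟩ := AffNhd.exists_le (X := Z) (x := x) ⊤ trivial
  obtain ⟨W', hle, hW'⟩ := exists_spread_out_unique z n x W (W.1.ι ≫ f) (W.1.ι ≫ g)
    (by rw [Category.assoc, hf]) (by rw [Category.assoc, hg])
    (by rw [Scheme.Opens.fromSpecStalkOfMem_ι_assoc, Scheme.Opens.fromSpecStalkOfMem_ι_assoc,
      hstalk])
  refine ⟨W'.1, W'.2.2, ?_⟩
  rwa [Scheme.homOfLE_ι_assoc, Scheme.homOfLE_ι_assoc] at hW'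

end Groth.Agent.Lib.Helper50.NeronGen
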