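import Groth.Agent.Lib.Helper50.NeronGen2

/-!
# Local-global principle for the Néron mapping property: existence
-/

set_option autoImplicit false
universe u
open CategoryTheory CategoryTheory.Limits AlgebraicGeometry

namespace Groth.Agent.Lib.Helper50.NeronGen

open Groth.Agent.Lib.Helper50.StalkLim Groth.Agent.Lib.Helper50

variable {S G : Scheme.{u}} [CompactSpace S] [QuasiSeparatedSpace S] (n : G ⟶ S)
  [LocallyOfFinitePresentation n] (η : S) (hη : ∀ p : S, IsClosed ({p} : Set S) → η ⤳ p)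
  (hloc : ∀ p : S, IsClosed ({p} : Set S) →
    ∀ (Z : Scheme.{u}) (z : Z ⟶ Spec (S.presheaf.stalk p)), Smooth z →
      NMPg n (S.fromSpecStalk η) (z ≫ S.fromSpecStalk p))

include hη hloc in
/-- Local existence of extensions. -/
theorem exists_local {Y : Scheme.{u}} (y : Y ⟶ S) [Smooth y]
    (u : pullback y (S.fromSpecStalk η) ⟶ G)
    (hu : u ≫ n = pullback.fst y (S.fromSpecStalk η) ≫ y) (x : Y) :
    ∃ (X : Scheme.{u}) (i : X ⟶ Y) (_ : IsOpenImmersion i) (_ : x ∈ Set.range i) (g : X ⟶ G),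
      g ≫ n = i ≫ y ∧ ∀ {T : Scheme.{u}} (a : T ⟶ pullback y (S.fromSpecStalk η)) (b : T ⟶ X),
        a ≫ pullback.fst y (S.fromSpecStalk η) = b ≫ i → b ≫ g = a ≫ u := by
  obtain ⟨V, -⟩ := AffNhd.exists_le (X := Y) (x := x) ⊤ trivial
  haveI : IsAffine V.1.toScheme := V.2.1
  obtain ⟨p, hp, hsp⟩ := exists_closed_specializes (y x)
  have hηp := hη p hp
  obtain ⟨aV, haV⟩ : ∃ aV : V.1.toScheme ⟶ S, aV = V.1.ι ≫ y := ⟨_, rfl⟩
  haveI : Smooth aV := by rw [haV]; infer_instance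
  have hspec : Spec.map (S.presheaf.stalkSpecializes hηp) ≫ S.fromSpecStalk p =
      S.fromSpecStalk η := Scheme.SpecMap_stalkSpecializes_fromSpecStalk hηp
  have hcV : pullback.fst aV (S.fromSpecStalk p) ≫ aV =
      pullback.snd aV (S.fromSpecStalk p) ≫ S.fromSpecStalk p := pullback.condition
  have hcY : pullback.fst y (S.fromSpecStalk η) ≫ y =
      pullback.snd y (S.fromSpecStalk η) ≫ S.fromSpecStalk η := pullback.condition
  have hcP := pullback.condition
    (f := pullback.snd aV (S.fromSpecStalk p) ≫ S.fromSpecStalk p) (g := S.fromSpecStalk η)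
  have hP := (IsPullback.of_hasPullback
    (pullback.snd aV (S.fromSpecStalk p) ≫ S.fromSpecStalk p) (S.fromSpecStalk η)).flip
  -- the comparison `P ⟶ Y_η`
  obtain ⟨r, hr1, hr2⟩ : ∃ r : pullback (pullback.snd aV (S.fromSpecStalk p) ≫ S.fromSpecStalk p)
      (S.fromSpecStalk η) ⟶ pullback y (S.fromSpecStalk η),
      r ≫ pullback.fst y (S.fromSpecStalk η) =
        pullback.fst (pullback.snd aV (S.fromSpecStalk p) ≫ S.fromSpecStalk p)
          (S.fromSpecStalk η) ≫ pullback.fst aV (S.fromSpecStalk p) ≫ V.1.ι ∧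
      r ≫ pullback.snd y (S.fromSpecStalk η) =
        pullback.snd (pullback.snd aV (S.fromSpecStalk p) ≫ S.fromSpecStalk p)
          (S.fromSpecStalk η) :=
    ⟨pullback.lift _ _ (by
      rw [Category.assoc, Category.assoc, ← haV, hcV, hcP]), pullback.lift_fst _ _ _,
      pullback.lift_snd _ _ _⟩
  -- extension over `V ×_S Spec 𝒪_{S,p}`
  obtain ⟨fp, hfp1, hfp2⟩ := (hloc p hp _ (pullback.snd aV (S.fromSpecStalk p)) inferInstance
    _ _ _ hP).2 (r ≫ u) (by
      rw [Category.assoc, hu, reassoc_of% hr1, ← haV, hcV])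
  -- spreading out
  have hpb := IsPullback.of_hasPullback aV (S.fromSpecStalk p)
  obtain ⟨W, g₀, hg1₀, hg2₀⟩ := Scheme.exists_π_app_comp_eq_of_locallyOfFinitePresentation
    (nhdDiagramBC S p aV) (nhdBCToBase (𝟙 S) p aV) n (nhdConeBC S p aV _ _ hpb)
    (isLimitNhdConeBC S p aV _ _ hpb) fp (NatTrans.ext (funext fun W => by
      have e1 : (nhdConeBC S p aV _ _ hpb).π.app W ≫ pullback.fst aV W.1.ι =
          pullback.fst aV (S.fromSpecStalk p) := nhdConeBC_π_app_fst S p aV _ _ hpb W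
      have e2 : pullback.fst aV (S.fromSpecStalk p) ≫ aV ≫ 𝟙 S = fp ≫ n := by
        rw [Category.comp_id, hfp1, hcV]
      exact ((Category.assoc _ _ _).symm.trans (congrArg (· ≫ aV ≫ 𝟙 S) e1)).trans e2))
  obtain ⟨πW, hπW⟩ : ∃ πW : pullback aV (S.fromSpecStalk p) ⟶ pullback aV W.1.ι,
      πW = (nhdConeBC S p aV _ _ hpb).π.app W := ⟨_, rfl⟩
  have hπ1 : πW ≫ pullback.fst aV W.1.ι = pullback.fst aV (S.fromSpecStalk p) := by
    rw [hπW]; exact nhdConeBC_π_app_fst S p aV _ _ hpb W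
  obtain ⟨g, hπg, hg2'⟩ : ∃ g : pullback aV W.1.ι ⟶ G, πW ≫ g = fp ∧
      g ≫ n = pullback.fst aV W.1.ι ≫ aV :=
    ⟨g₀, by rw [hπW]; exact hg1₀,
      hg2₀.trans (congrArg (pullback.fst aV W.1.ι ≫ ·) (Category.comp_id aV))⟩
  have hV1 : ∀ {T : Scheme.{u}} (t : T ⟶ V.1.toScheme), t ≫ aV = t ≫ V.1.ι ≫ y :=
    fun t => congrArg (t ≫ ·) haV
  have hcW : pullback.fst aV W.1.ι ≫ aV = pullback.snd aV W.1.ι ≫ W.1.ι := pullback.condition
  refine ⟨pullback aV W.1.ι, pullback.fst aV W.1.ι ≫ V.1.ι, inferInstance, ?_, g, ?_, ?_⟩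
  · have hsW : y x ∈ W.1 := hsp.mem_open W.1.2 W.2.2
    obtain ⟨z, hz1, hz2⟩ := Scheme.Pullback.exists_preimage_pullback (f := aV) (g := W.1.ι)
      (⟨x, V.2.2⟩ : V.1.toScheme) (⟨y x, hsW⟩ : W.1.toScheme) (by rw [haV]; rfl)
    refine ⟨z, ?_⟩
    rw [Scheme.Hom.comp_apply, hz1]
    rfl
  · rw [hg2', hV1, Category.assoc]
  · intro T a b hab
    -- `T ⟶ V ×_S Spec 𝒪_{S,p}`
    obtain ⟨c, hc1, hc2⟩ : ∃ c : T ⟶ pullback aV (S.fromSpecStalk p),
        c ≫ pullback.fst aV (S.fromSpecStalk p) = b ≫ pullback.fst aV W.1.ι ∧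
        c ≫ pullback.snd aV (S.fromSpecStalk p) =
          a ≫ pullback.snd y (S.fromSpecStalk η) ≫ Spec.map (S.presheaf.stalkSpecializes hηp) :=
      ⟨pullback.lift _ _ (by
        rw [hV1, Category.assoc, ← reassoc_of% hab, hcY, Category.assoc, Category.assoc,
          hspec]), pullback.lift_fst _ _ _, pullback.lift_snd _ _ _⟩
    have hcπ : c ≫ πW = b := by
      apply pullback.hom_ext
      · rw [Category.assoc, hπ1, hc1]
      · rw [← cancel_mono W.1.ι, Category.assoc, Category.assoc, ← hcW, reassoc_of% hπ1,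
          reassoc_of% hc1, Category.assoc, hcW]
    obtain ⟨d, hd1, hd2⟩ : ∃ d : T ⟶ pullback (pullback.snd aV (S.fromSpecStalk p) ≫
        S.fromSpecStalk p) (S.fromSpecStalk η),
        d ≫ pullback.fst (pullback.snd aV (S.fromSpecStalk p) ≫ S.fromSpecStalk p)
          (S.fromSpecStalk η) = c ∧
        d ≫ pullback.snd (pullback.snd aV (S.fromSpecStalk p) ≫ S.fromSpecStalk p)
          (S.fromSpecStalk η) = a ≫ pullback.snd y (S.fromSpecStalk η) :=
      ⟨pullback.lift _ _ (by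
        rw [reassoc_of% hc2, Category.assoc, hspec]), pullback.lift_fst _ _ _,
        pullback.lift_snd _ _ _⟩
    have hdr : d ≫ r = a := by
      apply pullback.hom_ext
      · rw [Category.assoc, hr1, reassoc_of% hd1, reassoc_of% hc1, hab]
      · rw [Category.assoc, hr2, hd2]
    rw [← hcπ, Category.assoc, hπg, ← hd1, Category.assoc, hfp2, ← Category.assoc, hdr]

end Groth.Agent.Lib.Helper50.NeronGen
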