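import Groth.Agent.Lib.Helper50.NeronGen3

/-!
# Local-global principle for the Néron mapping property: gluing
-/

set_option autoImplicit false
universe u
open CategoryTheory CategoryTheory.Limits AlgebraicGeometry

namespace Groth.Agent.Lib.Helper50.NeronGen

open Groth.Agent.Lib.Helper50.StalkLim Groth.Agent.Lib.Helper50

variable {S G : Scheme.{u}} [CompactSpace S] [QuasiSeparatedSpace S] (n : G ⟶ S)
  [LocallyOfFinitePresentation n] (η : S) (hη : ∀ p : S, IsClosed ({p} : Set S) → η ⤳ p)
  (hloc : ∀ p : S, IsClosed ({p} : Set S) →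
    ∀ (Z : Scheme.{u}) (z : Z ⟶ Spec (S.presheaf.stalk p)), Smooth z →
      NMPg n (S.fromSpecStalk η) (z ≫ S.fromSpecStalk p))

include hη hloc in
/-- If `G` satisfies the Néron mapping property with respect to `Spec 𝒪_{S,η} ⟶ S` after
localising at every closed point, then it satisfies it over `S`. -/
theorem nmpg_of_loc {Y : Scheme.{u}} (y : Y ⟶ S) [Smooth y] : NMPg n (S.fromSpecStalk η) y := by
  intro P p q hP
  let e : P ≅ pullback y (S.fromSpecStalk η) := hP.flip.isoPullback
  have e1 : e.hom ≫ pullback.fst y (S.fromSpecStalk η) = q := hP.flip.isoPullback_hom_fst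
  have e1' : pullback.fst y (S.fromSpecStalk η) = e.inv ≫ q := by
    rw [← e1, Iso.inv_hom_id_assoc]
  refine ⟨?_, ?_⟩
  · intro f g hf hg hfg
    refine inj_of_loc n η hloc y f g hf hg ?_
    rw [e1', Category.assoc, Category.assoc, hfg]
  · intro h hh
    obtain ⟨u, hu0⟩ : ∃ u : pullback y (S.fromSpecStalk η) ⟶ G, u = e.inv ≫ h := ⟨_, rfl⟩
    have hu : u ≫ n = pullback.fst y (S.fromSpecStalk η) ≫ y := by
      rw [hu0, Category.assoc, hh, e1', Category.assoc]
    have heu : e.hom ≫ u = h := by rw [hu0, Iso.hom_inv_id_assoc]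
    choose X i hi hx g hg1 hg2 using exists_local n η hη hloc y u hu
    let 𝒰 : Y.OpenCover :=
      { I₀ := Y, X := X, f := i,
        mem₀ := by
          rw [Scheme.presieve₀_mem_precoverage_iff]
          exact ⟨fun x ↦ ⟨x, hx x⟩, hi⟩ }
    have hcompat : ∀ x x' : Y, pullback.fst (i x) (i x') ≫ g x =
        pullback.snd (i x) (i x') ≫ g x' := by
      intro x x'
      haveI := hi x
      haveI := hi x'
      obtain ⟨w, hw⟩ : ∃ w : pullback (i x) (i x') ⟶ S,
          w = pullback.fst (i x) (i x') ≫ i x ≫ y := ⟨_, rfl⟩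
      haveI : Smooth w := by rw [hw]; infer_instance
      have hcw : pullback.fst w (S.fromSpecStalk η) ≫ w =
          pullback.snd w (S.fromSpecStalk η) ≫ S.fromSpecStalk η := pullback.condition
      refine inj_of_loc n η hloc w _ _ ?_ ?_ ?_
      · rw [Category.assoc, hg1, hw]
      · rw [Category.assoc, hg1, ← pullback.condition_assoc, hw]
      · obtain ⟨a, ha⟩ : ∃ a : pullback w (S.fromSpecStalk η) ⟶ pullback y (S.fromSpecStalk η),
            a ≫ pullback.fst y (S.fromSpecStalk η) =
              pullback.fst w (S.fromSpecStalk η) ≫ pullback.fst (i x) (i x') ≫ i x :=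
          ⟨pullback.lift _ (pullback.snd w (S.fromSpecStalk η)) (by
            rw [← hcw, hw, Category.assoc, Category.assoc]), pullback.lift_fst _ _ _⟩
        have h1 := hg2 x a (pullback.fst w (S.fromSpecStalk η) ≫ pullback.fst (i x) (i x'))
          (by rw [ha, Category.assoc])
        have h2 := hg2 x' a (pullback.fst w (S.fromSpecStalk η) ≫ pullback.snd (i x) (i x'))
          (by rw [ha, Category.assoc, pullback.condition])
        rw [Category.assoc] at h1 h2
        exact h1.trans h2.symm
    refine ⟨𝒰.glueMorphisms g hcompat, ?_, ?_⟩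
    · refine Scheme.Cover.hom_ext 𝒰 _ _ fun x => ?_
      rw [Scheme.Cover.ι_glueMorphisms_assoc]
      exact hg1 x
    · refine Scheme.Cover.hom_ext (𝒰.pullback₁ q) _ _ fun x => ?_
      change pullback.fst q (i x) ≫ q ≫ _ = pullback.fst q (i x) ≫ h
      have h1 := hg2 x (pullback.fst q (i x) ≫ e.hom) (pullback.snd q (i x))
        (by rw [Category.assoc, e1, pullback.condition])
      have h2 : 𝒰.f x ≫ 𝒰.glueMorphisms g hcompat = g x := Scheme.Cover.ι_glueMorphisms 𝒰 g hcompat x
      have h3 : pullback.fst q (i x) ≫ q = pullback.snd q (i x) ≫ 𝒰.f x := pullback.condition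
      rw [reassoc_of% h3, h2, h1, Category.assoc, heu]

end Groth.Agent.Lib.Helper50.NeronGen
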