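import Groth.Agent.Lib.Helper50.SmoothModel
import Groth.Agent.Lib.Helper50.LimStage

/-!
# The Néron mapping property localises to `Spec 𝒪_{S,s}` (quasi-compact quasi-separated test
objects)
-/

set_option autoImplicit false
universe u
open CategoryTheory CategoryTheory.Limits AlgebraicGeometry

namespace Groth.Agent.Lib.Helper50.NeronLoc

open Groth.Agent.Lib.Helper50.StalkLim Groth.Agent.Lib.Helper50

variable {S N : Scheme.{u}} (n : N ⟶ S) (U : S.Opens)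

/-- The Néron mapping property of `N/S` with respect to the open `U` for the test object `Y/S`,
in a form which is flexible in the choice of the fibre product `Y ×_S U`. -/
def NMP {Y : Scheme.{u}} (y : Y ⟶ S) : Prop :=
  ∀ (P : Scheme.{u}) (p : P ⟶ U.toScheme) (q : P ⟶ Y), IsPullback p q U.ι y →
    (∀ f g : Y ⟶ N, f ≫ n = y → g ≫ n = y → q ≫ f = q ≫ g → f = g) ∧
    (∀ h : P ⟶ N, h ≫ n = q ≫ y → ∃ f : Y ⟶ N, f ≫ n = y ∧ q ≫ f = h)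

section

variable (s : S) (W₀ : AffNhd S s) {Y₀ Y' : Scheme.{u}} (f₀ : Y₀ ⟶ (nhdDiagram S s).obj W₀)
  (f' : Y' ⟶ (nhdCone S s).pt) (q₀ : Y' ⟶ Y₀)
  (hpb : IsPullback q₀ f' f₀ ((nhdCone S s).π.app W₀))

/-- The system `Y₀ ×_{W₀} W`. -/
noncomputable abbrev E' : Over W₀ ⥤ Scheme.{u} := StageSetup.E (nhdDiagram S s) W₀ f₀

/-- The cone with apex `Y'`. -/
noncomputable abbrev cE' : Cone (E' s W₀ f₀) :=
  StageSetup.cE (nhdDiagram S s) (nhdCone S s) W₀ f₀ f' q₀ hpb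

/-- It is a limit cone. -/
noncomputable def hcE' : IsLimit (cE' s W₀ f₀ f' q₀ hpb) :=
  StageSetup.hcE (nhdDiagram S s) (nhdCone S s) (isLimitNhdCone S s) W₀ f₀ f' q₀ hpb

/-- The structure maps to `S`. -/
noncomputable abbrev eS (j : Over W₀) : (E' s W₀ f₀).obj j ⟶ S :=
  StageSetup.γ (nhdDiagram S s) W₀ f₀ j ≫ f₀ ≫ W₀.1.ι

lemma heS {j k : Over W₀} (φ : j ⟶ k) : (E' s W₀ f₀).map φ ≫ eS s W₀ f₀ k = eS s W₀ f₀ j := by
  dsimp only [eS]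
  rw [← Category.assoc, StageSetup.hγ]

lemma eS_eq (j : Over W₀) : eS s W₀ f₀ j =
    pullback.snd f₀ ((nhdDiagram S s).map j.hom) ≫ j.left.1.ι := by
  have h1 : pullback.fst f₀ ((nhdDiagram S s).map j.hom) ≫ f₀ =
      pullback.snd f₀ ((nhdDiagram S s).map j.hom) ≫ (nhdDiagram S s).map j.hom :=
    pullback.condition
  have h2 : (nhdDiagram S s).map j.hom ≫ W₀.1.ι = j.left.1.ι := nhdDiagram_map_ι S s j.hom
  calc eS s W₀ f₀ j = (pullback.fst f₀ ((nhdDiagram S s).map j.hom) ≫ f₀) ≫ W₀.1.ι :=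
        (Category.assoc _ _ _).symm
    _ = (pullback.snd f₀ ((nhdDiagram S s).map j.hom) ≫ (nhdDiagram S s).map j.hom) ≫ W₀.1.ι :=
        congrArg (· ≫ W₀.1.ι) h1
    _ = _ := (Category.assoc _ _ _).trans
        (congrArg (pullback.snd f₀ ((nhdDiagram S s).map j.hom) ≫ ·) h2)

lemma smooth_eS [Smooth f₀] (j : Over W₀) : Smooth (eS s W₀ f₀ j) := by
  rw [eS_eq]
  have h1 : Smooth (pullback.snd f₀ ((nhdDiagram S s).map j.hom)) :=
    MorphismProperty.pullback_snd (P := @Smooth) _ _ ‹Smooth f₀›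
  have h2 : Smooth j.left.1.ι := inferInstance
  exact MorphismProperty.comp_mem (W := @Smooth) _ _ h1 h2

/-- The structure maps to `S` as a natural transformation. -/
noncomputable def tE : E' s W₀ f₀ ⟶ (Functor.const (Over W₀)).obj S where
  app j := eS s W₀ f₀ j
  naturality j k φ := by
    dsimp only [Functor.const_obj_obj, Functor.const_obj_map]
    rw [Category.comp_id, heS]

lemma hbS (j : Over W₀) :
    (cE' s W₀ f₀ f' q₀ hpb).π.app j ≫ eS s W₀ f₀ j = f' ≫ S.fromSpecStalk s := by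
  have h1 : (cE' s W₀ f₀ f' q₀ hpb).π.app j ≫ StageSetup.γ (nhdDiagram S s) W₀ f₀ j = q₀ :=
    StageSetup.hb' (nhdDiagram S s) (nhdCone S s) W₀ f₀ f' q₀ hpb j
  have h2 : q₀ ≫ f₀ = f' ≫ W₀.1.fromSpecStalkOfMem s W₀.2.2 := hpb.w
  have h3 : W₀.1.fromSpecStalkOfMem s W₀.2.2 ≫ W₀.1.ι = S.fromSpecStalk s :=
    Scheme.Opens.fromSpecStalkOfMem_ι W₀.1 s W₀.2.2
  calc (cE' s W₀ f₀ f' q₀ hpb).π.app j ≫ eS s W₀ f₀ j
      = ((cE' s W₀ f₀ f' q₀ hpb).π.app j ≫ StageSetup.γ (nhdDiagram S s) W₀ f₀ j) ≫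
          f₀ ≫ W₀.1.ι := (Category.assoc _ _ _).symm
    _ = q₀ ≫ f₀ ≫ W₀.1.ι := congrArg (· ≫ f₀ ≫ W₀.1.ι) h1
    _ = (q₀ ≫ f₀) ≫ W₀.1.ι := (Category.assoc _ _ _).symm
    _ = (f' ≫ W₀.1.fromSpecStalkOfMem s W₀.2.2) ≫ W₀.1.ι := congrArg (· ≫ W₀.1.ι) h2
    _ = f' ≫ S.fromSpecStalk s := (Category.assoc _ _ _).trans (congrArg (f' ≫ ·) h3)

/-- The system `U ×_S (Y₀ ×_{W₀} W)`. -/
noncomputable abbrev EU : Over W₀ ⥤ Scheme.{u} :=
  bcDiagram (E' s W₀ f₀) (eS s W₀ f₀) (heS s W₀ f₀) U.ι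

variable {P : Scheme.{u}} (p : P ⟶ U.toScheme) (q : P ⟶ Y')
  (hP : IsPullback p q U.ι (f' ≫ S.fromSpecStalk s))

/-- The cone with apex `P = U ×_S Y'`. -/
noncomputable abbrev cEU : Cone (EU U s W₀ f₀) :=
  bcCone (E' s W₀ f₀) (eS s W₀ f₀) (heS s W₀ f₀) U.ι (cE' s W₀ f₀ f' q₀ hpb)
    (f' ≫ S.fromSpecStalk s) (hbS s W₀ f₀ f' q₀ hpb) p q hP.w

/-- It is a limit cone. -/
noncomputable def hcEU : IsLimit (cEU U s W₀ f₀ f' q₀ hpb p q hP) :=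
  have := IsCofiltered.isConnected (Over W₀)
  isLimitBcCone (E' s W₀ f₀) (eS s W₀ f₀) (heS s W₀ f₀) U.ι (cE' s W₀ f₀ f' q₀ hpb)
    (f' ≫ S.fromSpecStalk s) (hbS s W₀ f₀ f' q₀ hpb) p q (hcE' s W₀ f₀ f' q₀ hpb) hP

/-- The structure maps to `S` as a natural transformation. -/
noncomputable def tEU : EU U s W₀ f₀ ⟶ (Functor.const (Over W₀)).obj S where
  app j := pullback.snd U.ι (eS s W₀ f₀ j) ≫ eS s W₀ f₀ j
  naturality j k φ := by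
    dsimp only [Functor.const_obj_obj, Functor.const_obj_map]
    rw [Category.comp_id, bcDiagram_map_snd_assoc, heS]

lemma cEU_π_snd (j : Over W₀) :
    (cEU U s W₀ f₀ f' q₀ hpb p q hP).π.app j ≫ pullback.snd U.ι (eS s W₀ f₀ j) =
      q ≫ (cE' s W₀ f₀ f' q₀ hpb).π.app j :=
  bcConeπ_snd (E' s W₀ f₀) (eS s W₀ f₀) U.ι (cE' s W₀ f₀ f' q₀ hpb)
    (f' ≫ S.fromSpecStalk s) (hbS s W₀ f₀ f' q₀ hpb) p q hP.w j

end

section main

variable [QuasiCompact U.ι] [LocallyOfFinitePresentation n]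

/-- The Néron mapping property passes to a smooth scheme over `Spec 𝒪_{S,s}` which has a smooth
quasi-compact quasi-separated model over an affine open neighbourhood of `s`. -/
theorem nmp_of_model (hN : ∀ (Y : Scheme.{u}) (y : Y ⟶ S), Smooth y → NMP n U y)
    (s : S) (W₀ : AffNhd S s) {Y₀ Y' : Scheme.{u}} (f₀ : Y₀ ⟶ (nhdDiagram S s).obj W₀)
    [Smooth f₀] [CompactSpace Y₀] [QuasiSeparatedSpace Y₀]
    (f' : Y' ⟶ (nhdCone S s).pt) (q₀ : Y' ⟶ Y₀)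
    (hpb : IsPullback q₀ f' f₀ ((nhdCone S s).π.app W₀)) :
    NMP n U (f' ≫ S.fromSpecStalk s) := by
  intro P p q hP
  have hcE : ∀ j, CompactSpace ((E' s W₀ f₀).obj j) :=
    fun j => StageSetup.compactSpace_E _ _ _ j
  have hqE : ∀ j, QuasiSeparatedSpace ((E' s W₀ f₀).obj j) :=
    fun j => StageSetup.quasiSeparatedSpace_E _ _ _ j
  have hcEU' : ∀ j, CompactSpace ((EU U s W₀ f₀).obj j) := fun j => by
    change CompactSpace ↥(pullback U.ι (eS s W₀ f₀ j))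
    exact QuasiCompact.compactSpace_of_compactSpace (pullback.snd U.ι (eS s W₀ f₀ j))
  have hqEU' : ∀ j, QuasiSeparatedSpace ((EU U s W₀ f₀).obj j) := fun j => by
    change QuasiSeparatedSpace ↥(pullback U.ι (eS s W₀ f₀ j))
    exact quasiSeparatedSpace_of_quasiSeparated (pullback.snd U.ι (eS s W₀ f₀ j))
  have hsm : ∀ j, Smooth (eS s W₀ f₀ j) := fun j => smooth_eS s W₀ f₀ j
  obtain ⟨πE, hπE⟩ : ∃ πE : ∀ j, Y' ⟶ (E' s W₀ f₀).obj j,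
      ∀ j, πE j = (cE' s W₀ f₀ f' q₀ hpb).π.app j := ⟨fun j => _, fun j => rfl⟩
  obtain ⟨πU, hπU⟩ : ∃ πU : ∀ j, P ⟶ pullback U.ι (eS s W₀ f₀ j),
      ∀ j, πU j = (cEU U s W₀ f₀ f' q₀ hpb p q hP).π.app j := ⟨fun j => _, fun j => rfl⟩
  obtain ⟨EUm, hEUm⟩ : ∃ EUm : ∀ {j k : Over W₀} (_ : j ⟶ k),
      pullback U.ι (eS s W₀ f₀ j) ⟶ pullback U.ι (eS s W₀ f₀ k),
      ∀ {j k : Over W₀} (φ : j ⟶ k), EUm φ = (EU U s W₀ f₀).map φ :=
    ⟨fun φ => (EU U s W₀ f₀).map φ, fun φ => rfl⟩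
  have hw : ∀ {j k : Over W₀} (φ : j ⟶ k), πE j ≫ (E' s W₀ f₀).map φ = πE k := by
    intro j k φ
    rw [hπE, hπE]
    exact (cE' s W₀ f₀ f' q₀ hpb).w φ
  have hbS' : ∀ j, πE j ≫ eS s W₀ f₀ j = f' ≫ S.fromSpecStalk s := by
    intro j
    rw [hπE]
    exact hbS s W₀ f₀ f' q₀ hpb j
  have e1 : ∀ j, πU j ≫ pullback.snd U.ι (eS s W₀ f₀ j) = q ≫ πE j := by
    intro j
    rw [hπE, hπU]
    exact cEU_π_snd U s W₀ f₀ f' q₀ hpb p q hP j
  have e3 : ∀ {j k : Over W₀} (φ : j ⟶ k), EUm φ ≫ pullback.snd U.ι (eS s W₀ f₀ k) =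
      pullback.snd U.ι (eS s W₀ f₀ j) ≫ (E' s W₀ f₀).map φ := by
    intro j k φ
    rw [hEUm]
    exact bcDiagram_map_snd (E' s W₀ f₀) (eS s W₀ f₀) (heS s W₀ f₀) U.ι φ
  refine ⟨?_, ?_⟩
  · intro f g hf hg hfg
    obtain ⟨j₁, f₁, hf₁, hf₁'⟩ := Scheme.exists_π_app_comp_eq_of_locallyOfFinitePresentation
      (E' s W₀ f₀) (tE s W₀ f₀) n (cE' s W₀ f₀ f' q₀ hpb) (hcE' s W₀ f₀ f' q₀ hpb) f
      (NatTrans.ext (funext fun j => (hbS s W₀ f₀ f' q₀ hpb j).trans hf.symm))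
    obtain ⟨j₂, g₂, hg₂, hg₂'⟩ := Scheme.exists_π_app_comp_eq_of_locallyOfFinitePresentation
      (E' s W₀ f₀) (tE s W₀ f₀) n (cE' s W₀ f₀ f' q₀ hpb) (hcE' s W₀ f₀ f' q₀ hpb) g
      (NatTrans.ext (funext fun j => (hbS s W₀ f₀ f' q₀ hpb j).trans hg.symm))
    have hf₁a : πE j₁ ≫ f₁ = f := by rw [hπE]; exact hf₁
    have hg₂a : πE j₂ ≫ g₂ = g := by rw [hπE]; exact hg₂
    have hf₁b : f₁ ≫ n = eS s W₀ f₀ j₁ := hf₁'
    have hg₂b : g₂ ≫ n = eS s W₀ f₀ j₂ := hg₂'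
    obtain ⟨j, a₁, a₂, -⟩ : ∃ (j : Over W₀) (_ : j ⟶ j₁) (_ : j ⟶ j₂), True :=
      ⟨IsCofiltered.min j₁ j₂, IsCofiltered.minToLeft j₁ j₂, IsCofiltered.minToRight j₁ j₂,
        trivial⟩
    obtain ⟨fj, hfj0⟩ : ∃ fj : (E' s W₀ f₀).obj j ⟶ N, fj = (E' s W₀ f₀).map a₁ ≫ f₁ :=
      ⟨_, rfl⟩
    obtain ⟨gj, hgj0⟩ : ∃ gj : (E' s W₀ f₀).obj j ⟶ N, gj = (E' s W₀ f₀).map a₂ ≫ g₂ :=
      ⟨_, rfl⟩
    have hfj : πE j ≫ fj = f := by
      rw [hfj0, ← Category.assoc, hw, hf₁a]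
    have hgj : πE j ≫ gj = g := by
      rw [hgj0, ← Category.assoc, hw, hg₂a]
    have hfjn : fj ≫ n = eS s W₀ f₀ j := by
      rw [hfj0, Category.assoc, hf₁b, heS]
    have hgjn : gj ≫ n = eS s W₀ f₀ j := by
      rw [hgj0, Category.assoc, hg₂b, heS]
    obtain ⟨k, φ, hk⟩ := Scheme.exists_hom_comp_eq_comp_of_locallyOfFiniteType
      (EU U s W₀ f₀) (tEU U s W₀ f₀) n (cEU U s W₀ f₀ f' q₀ hpb p q hP)
      (hcEU U s W₀ f₀ f' q₀ hpb p q hP) (i := j)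
      (pullback.snd U.ι (eS s W₀ f₀ j) ≫ fj) (pullback.snd U.ι (eS s W₀ f₀ j) ≫ gj)
      ((congrArg (pullback.snd U.ι (eS s W₀ f₀ j) ≫ ·) hfjn).symm.trans
        (Category.assoc _ _ _).symm)
      ((congrArg (pullback.snd U.ι (eS s W₀ f₀ j) ≫ ·) hgjn).symm.trans
        (Category.assoc _ _ _).symm)
      (by
        have : πU j ≫ pullback.snd U.ι (eS s W₀ f₀ j) ≫ fj =
            πU j ≫ pullback.snd U.ι (eS s W₀ f₀ j) ≫ gj := by
          rw [← Category.assoc, ← Category.assoc, e1, Category.assoc, Category.assoc, hfj, hgj,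
            hfg]
        rw [hπU] at this
        exact this)
    have hk0 : EUm φ ≫ pullback.snd U.ι (eS s W₀ f₀ j) ≫ fj =
        EUm φ ≫ pullback.snd U.ι (eS s W₀ f₀ j) ≫ gj := by
      rw [hEUm]; exact hk
    have hk' : pullback.snd U.ι (eS s W₀ f₀ k) ≫ ((E' s W₀ f₀).map φ ≫ fj) =
        pullback.snd U.ι (eS s W₀ f₀ k) ≫ ((E' s W₀ f₀).map φ ≫ gj) := by
      rw [← Category.assoc, ← Category.assoc, ← e3, Category.assoc, Category.assoc]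
      exact hk0
    have hinj := (hN _ (eS s W₀ f₀ k) (hsm k) _ _ _
      (IsPullback.of_hasPullback U.ι (eS s W₀ f₀ k))).1
      ((E' s W₀ f₀).map φ ≫ fj) ((E' s W₀ f₀).map φ ≫ gj)
      (by rw [Category.assoc, hfjn, heS]) (by rw [Category.assoc, hgjn, heS]) hk'
    rw [← hfj, ← hgj, ← hw φ, Category.assoc, Category.assoc, hinj]
  · intro h hh
    obtain ⟨j, hj, hj1, hj2⟩ := Scheme.exists_π_app_comp_eq_of_locallyOfFinitePresentation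
      (EU U s W₀ f₀) (tEU U s W₀ f₀) n (cEU U s W₀ f₀ f' q₀ hpb p q hP)
      (hcEU U s W₀ f₀ f' q₀ hpb p q hP) h
      (NatTrans.ext (funext fun j => by
        have : πU j ≫ pullback.snd U.ι (eS s W₀ f₀ j) ≫ eS s W₀ f₀ j = h ≫ n := by
          rw [← Category.assoc, e1, Category.assoc, hbS', hh]
        rw [hπU] at this
        exact this))
    have hj1' : πU j ≫ hj = h := by rw [hπU]; exact hj1
    have hj2' : hj ≫ n = pullback.snd U.ι (eS s W₀ f₀ j) ≫ eS s W₀ f₀ j := hj2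
    obtain ⟨fj, hfj1, hfj2⟩ := (hN _ (eS s W₀ f₀ j) (hsm j) _ _ _
      (IsPullback.of_hasPullback U.ι (eS s W₀ f₀ j))).2 hj hj2'
    refine ⟨πE j ≫ fj, ?_, ?_⟩
    · rw [Category.assoc, hfj1, hbS']
    · rw [← Category.assoc, ← e1, Category.assoc, hfj2, hj1']

end main

end Groth.Agent.Lib.Helper50.NeronLoc
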