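import Groth.Agent.Lib.Helper50.NeronLoc

/-!
# The Néron mapping property localises to `Spec 𝒪_{S,s}` (arbitrary smooth test objects)
-/

set_option autoImplicit false
universe u
open CategoryTheory CategoryTheory.Limits AlgebraicGeometry

namespace Groth.Agent.Lib.Helper50.NeronLoc

open Groth.Agent.Lib.Helper50.StalkLim Groth.Agent.Lib.Helper50

variable {S N : Scheme.{u}} (n : N ⟶ S) (U : S.Opens) [QuasiCompact U.ι]
  [LocallyOfFinitePresentation n]
  (hN : ∀ (Y : Scheme.{u}) (y : Y ⟶ S), Smooth y → NMP n U y) (s : S)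

include hN in
/-- The quasi-compact quasi-separated case. -/
theorem nmp_of_qcqs {Y' : Scheme.{u}} (f' : Y' ⟶ Spec (S.presheaf.stalk s)) [Smooth f']
    [CompactSpace Y'] [QuasiSeparatedSpace Y'] : NMP n U (f' ≫ S.fromSpecStalk s) := by
  obtain ⟨W, Y₀, f₀, q₀, hsm, hqc, hqs, hpb⟩ := SmoothModel.exists_smooth_model_stalk s f'
  haveI : IsAffine W.1.toScheme := W.2.1
  haveI : CompactSpace Y₀ := QuasiCompact.compactSpace_of_compactSpace f₀
  haveI : QuasiSeparatedSpace Y₀ := quasiSeparatedSpace_of_quasiSeparated f₀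
  haveI : Smooth (Y := (nhdDiagram S s).obj W) f₀ := hsm
  exact nmp_of_model n U hN s W (f₀ : Y₀ ⟶ (nhdDiagram S s).obj W) f' q₀ hpb

lemma isPullback_restrict {Y' P V : Scheme.{u}} {y' : Y' ⟶ S} {p : P ⟶ U.toScheme} {q : P ⟶ Y'}
    (hP : IsPullback p q U.ι y') (v : V ⟶ Y') :
    IsPullback (pullback.fst q v ≫ p) (pullback.snd q v) U.ι (v ≫ y') :=
  (IsPullback.of_hasPullback q v).paste_horiz hP

include hN in
/-- Injectivity of restriction for arbitrary smooth test objects over `Spec 𝒪_{S,s}`. -/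
theorem nmp_inj {Y' : Scheme.{u}} (f' : Y' ⟶ Spec (S.presheaf.stalk s)) [Smooth f']
    {P : Scheme.{u}} (p : P ⟶ U.toScheme) (q : P ⟶ Y')
    (hP : IsPullback p q U.ι (f' ≫ S.fromSpecStalk s)) (f g : Y' ⟶ N)
    (hf : f ≫ n = f' ≫ S.fromSpecStalk s) (hg : g ≫ n = f' ≫ S.fromSpecStalk s)
    (hfg : q ≫ f = q ≫ g) : f = g := by
  refine Scheme.Cover.hom_ext Y'.affineCover f g fun i => ?_
  have hV : IsPullback (pullback.fst q (Y'.affineCover.f i) ≫ p)
      (pullback.snd q (Y'.affineCover.f i)) U.ι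
      ((Y'.affineCover.f i ≫ f') ≫ S.fromSpecStalk s) := by
    rw [Category.assoc]
    exact isPullback_restrict U hP _
  refine (nmp_of_qcqs n U hN s (Y'.affineCover.f i ≫ f') _ _ _ hV).1 _ _ ?_ ?_ ?_
  · rw [Category.assoc, hf, Category.assoc]
  · rw [Category.assoc, hg, Category.assoc]
  · rw [← pullback.condition_assoc, ← pullback.condition_assoc, hfg]

include hN in
/-- The Néron mapping property localises. -/
theorem nmp_stalk {Y' : Scheme.{u}} (f' : Y' ⟶ Spec (S.presheaf.stalk s)) [Smooth f'] :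
    NMP n U (f' ≫ S.fromSpecStalk s) := by
  intro P p q hP
  refine ⟨nmp_inj n U hN s f' p q hP, ?_⟩
  intro h hh
  let 𝒰 := Y'.affineCover
  have hV : ∀ i, IsPullback (pullback.fst q (𝒰.f i) ≫ p) (pullback.snd q (𝒰.f i)) U.ι
      ((𝒰.f i ≫ f') ≫ S.fromSpecStalk s) := by
    intro i
    rw [Category.assoc]
    exact isPullback_restrict U hP _
  have hex : ∀ i, ∃ fi : 𝒰.X i ⟶ N, fi ≫ n = 𝒰.f i ≫ f' ≫ S.fromSpecStalk s ∧
      pullback.snd q (𝒰.f i) ≫ fi = pullback.fst q (𝒰.f i) ≫ h := by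
    intro i
    obtain ⟨fi, h1, h2⟩ := (nmp_of_qcqs n U hN s (𝒰.f i ≫ f') _ _ _ (hV i)).2
      (pullback.fst q (𝒰.f i) ≫ h) (by
        rw [Category.assoc, hh, pullback.condition_assoc, Category.assoc])
    exact ⟨fi, by rw [h1, Category.assoc], h2⟩
  choose fi hfi1 hfi2 using hex
  have hfi3 : ∀ i {T : Scheme.{u}} (a : T ⟶ P) (b : T ⟶ 𝒰.X i), a ≫ q = b ≫ 𝒰.f i →
      b ≫ fi i = a ≫ h := by
    intro i T a b hab
    have e1 : pullback.lift a b hab ≫ pullback.snd q (𝒰.f i) = b := pullback.lift_snd _ _ _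
    have e2 : pullback.lift a b hab ≫ pullback.fst q (𝒰.f i) = a := pullback.lift_fst _ _ _
    rw [← e1, Category.assoc, hfi2, ← Category.assoc, e2]
  have hcompat : ∀ i j, pullback.fst (𝒰.f i) (𝒰.f j) ≫ fi i =
      pullback.snd (𝒰.f i) (𝒰.f j) ≫ fi j := by
    intro i j
    obtain ⟨w, hw⟩ : ∃ w : pullback (𝒰.f i) (𝒰.f j) ⟶ Y',
        w = pullback.fst (𝒰.f i) (𝒰.f j) ≫ 𝒰.f i := ⟨_, rfl⟩
    have hW : IsPullback (pullback.fst q w ≫ p) (pullback.snd q w) U.ι
        ((w ≫ f') ≫ S.fromSpecStalk s) := by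
      rw [Category.assoc]
      exact isPullback_restrict U hP _
    haveI : Smooth w := by rw [hw]; infer_instance
    refine nmp_inj n U hN s (w ≫ f') _ _ hW _ _ ?_ ?_ ?_
    · rw [Category.assoc, hfi1, hw, Category.assoc, Category.assoc]
    · rw [Category.assoc, hfi1, ← pullback.condition_assoc, hw, Category.assoc, Category.assoc]
    · have e1 := hfi3 i (pullback.fst q w) (pullback.snd q w ≫ pullback.fst (𝒰.f i) (𝒰.f j))
        (by rw [pullback.condition, hw, Category.assoc])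
      have e2 := hfi3 j (pullback.fst q w) (pullback.snd q w ≫ pullback.snd (𝒰.f i) (𝒰.f j))
        (by rw [pullback.condition, hw, Category.assoc, pullback.condition])
      rw [Category.assoc] at e1 e2
      exact e1.trans e2.symm
  refine ⟨𝒰.glueMorphisms fi hcompat, ?_, ?_⟩
  · refine Scheme.Cover.hom_ext 𝒰 _ _ fun i => ?_
    rw [Scheme.Cover.ι_glueMorphisms_assoc, hfi1]
  · refine Scheme.Cover.hom_ext (𝒰.pullback₁ q) _ _ fun i => ?_
    change pullback.fst q (𝒰.f i) ≫ q ≫ _ = pullback.fst q (𝒰.f i) ≫ h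
    rw [pullback.condition_assoc, Scheme.Cover.ι_glueMorphisms, hfi2]

end Groth.Agent.Lib.Helper50.NeronLoc
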