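import Groth.Agent.Lib.Helper50.NeronLoc2

/-!
# Translating the Néron mapping property between `Over` categories and the plain form
-/

set_option autoImplicit false
universe u
open CategoryTheory CategoryTheory.Limits AlgebraicGeometry

namespace Groth.Agent.Lib.Helper50.NeronLoc

/-- From the `Over`-categorical form of the mapping property to the plain form. -/
theorem nmp_of_bijective {S : Scheme.{u}} (U : S.Opens) (N Y : Over S)
    (hb : Function.Bijective (fun f : Y ⟶ N => (Over.pullback U.ι).map f)) :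
    NMP N.hom U Y.hom := by
  intro P p q hP
  let e : P ≅ pullback Y.hom U.ι := hP.flip.isoPullback
  have e1 : e.hom ≫ pullback.fst Y.hom U.ι = q := hP.flip.isoPullback_hom_fst
  have e2 : e.hom ≫ pullback.snd Y.hom U.ι = p := hP.flip.isoPullback_hom_snd
  refine ⟨?_, ?_⟩
  · intro f g hf hg hfg
    have h1 : pullback.fst Y.hom U.ι ≫ f = pullback.fst Y.hom U.ι ≫ g := by
      rw [← cancel_epi e.hom, ← Category.assoc, ← Category.assoc, e1, hfg]
    have h2 : (Over.pullback U.ι).map (Over.homMk f hf : Y ⟶ N) =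
        (Over.pullback U.ι).map (Over.homMk g hg : Y ⟶ N) := by
      ext
      simp only [Over.pullback_map_left, Over.homMk_left]
      congr 1
    have h3 := hb.1 h2
    exact congrArg (fun t => t.left) h3
  · intro h hh
    let h₀ : pullback Y.hom U.ι ⟶ N.left := e.inv ≫ h
    have hh₀ : h₀ ≫ N.hom = pullback.fst Y.hom U.ι ≫ Y.hom := by
      dsimp only [h₀]
      rw [Category.assoc, hh, ← e1, Category.assoc, Iso.inv_hom_id_assoc]
    let g : (Over.pullback U.ι).obj Y ⟶ (Over.pullback U.ι).obj N :=
      Over.homMk (pullback.lift h₀ (pullback.snd Y.hom U.ι) (by rw [hh₀, pullback.condition]))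
        (pullback.lift_snd _ _ _)
    obtain ⟨f, hf⟩ := hb.2 g
    have hf' : ((Over.pullback U.ι).map f).left = g.left := congrArg (fun t => t.left) hf
    simp only [Over.pullback_map_left, g, Over.homMk_left] at hf'
    have hf'' := congrArg (· ≫ pullback.fst N.hom U.ι) hf'
    simp only [pullback.lift_fst] at hf''
    refine ⟨f.left, Over.w f, ?_⟩
    rw [← e1, Category.assoc, hf'']
    dsimp only [h₀]
    rw [Iso.hom_inv_id_assoc]

/-- From the plain form over `S` to the `Over`-categorical form over a base change `S' ⟶ S`. -/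
theorem bijective_of_nmp {S S' : Scheme.{u}} (j : S' ⟶ S) (U : S.Opens) (N : Over S)
    (Y' : Over S') (h : NMP N.hom U (Y'.hom ≫ j)) :
    Function.Bijective (fun f : Y' ⟶ (Over.pullback j).obj N =>
      (Over.pullback (j ⁻¹ᵁ U).ι).map f) := by
  have hP : IsPullback (pullback.snd Y'.hom (j ⁻¹ᵁ U).ι ≫ (j ∣_ U))
      (pullback.fst Y'.hom (j ⁻¹ᵁ U).ι) U.ι (Y'.hom ≫ j) :=
    (IsPullback.of_hasPullback Y'.hom (j ⁻¹ᵁ U).ι).flip.paste_horiz
      (isPullback_morphismRestrict j U)
  obtain ⟨hinj, hsurj⟩ := h _ _ _ hP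
  refine ⟨?_, ?_⟩
  · intro f g hfg
    have hfg' : ((Over.pullback (j ⁻¹ᵁ U).ι).map f).left =
        ((Over.pullback (j ⁻¹ᵁ U).ι).map g).left := congrArg (fun t => t.left) hfg
    simp only [Over.pullback_map_left] at hfg'
    have h1 := congrArg (· ≫ pullback.fst _ _) hfg'
    simp only [pullback.lift_fst] at h1
    have hfw : f.left ≫ pullback.snd N.hom j = Y'.hom := Over.w f
    have hgw : g.left ≫ pullback.snd N.hom j = Y'.hom := Over.w g
    have h2 := hinj (f.left ≫ pullback.fst N.hom j) (g.left ≫ pullback.fst N.hom j)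
      (by rw [Category.assoc, pullback.condition, ← Category.assoc, hfw])
      (by rw [Category.assoc, pullback.condition, ← Category.assoc, hgw])
      (by rw [← Category.assoc, ← Category.assoc, h1])
    ext
    apply pullback.hom_ext
    · exact h2
    · exact hfw.trans hgw.symm
  · intro g
    have hgw : g.left ≫ pullback.snd ((Over.pullback j).obj N).hom (j ⁻¹ᵁ U).ι =
        pullback.snd Y'.hom (j ⁻¹ᵁ U).ι := Over.w g
    have hc2 : pullback.fst ((Over.pullback j).obj N).hom (j ⁻¹ᵁ U).ι ≫ pullback.snd N.hom j =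
        pullback.snd ((Over.pullback j).obj N).hom (j ⁻¹ᵁ U).ι ≫ (j ⁻¹ᵁ U).ι :=
      pullback.condition
    have hcN : pullback.fst N.hom j ≫ N.hom = pullback.snd N.hom j ≫ j := pullback.condition
    have hcY : pullback.fst Y'.hom (j ⁻¹ᵁ U).ι ≫ Y'.hom =
        pullback.snd Y'.hom (j ⁻¹ᵁ U).ι ≫ (j ⁻¹ᵁ U).ι := pullback.condition
    obtain ⟨f₁, hf1, hf2⟩ := hsurj
      (g.left ≫ pullback.fst ((Over.pullback j).obj N).hom (j ⁻¹ᵁ U).ι ≫ pullback.fst N.hom j) (by
      rw [Category.assoc, Category.assoc, hcN, reassoc_of% hc2, reassoc_of% hgw,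
        reassoc_of% hcY])
    refine ⟨Over.homMk (pullback.lift f₁ Y'.hom hf1) (pullback.lift_snd _ _ _), ?_⟩
    ext
    simp only [Over.pullback_map_left, Over.homMk_left]
    apply pullback.hom_ext
    · rw [pullback.lift_fst]
      apply pullback.hom_ext
      · rw [Category.assoc, pullback.lift_fst, hf2, Category.assoc]
      · rw [Category.assoc, pullback.lift_snd, Category.assoc, hc2, reassoc_of% hgw, hcY]
    · rw [pullback.lift_snd]
      exact hgw.symm

end Groth.Agent.Lib.Helper50.NeronLoc
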