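import Mathlib.Topology.NoetherianSpace
import Mathlib.Topology.Sober
import Mathlib.Topology.Inseparable

/-!
# Points of a closed subset of a Noetherian sober space without proper generizations in it
-/

set_option autoImplicit false
open TopologicalSpace

namespace Groth.Agent.Lib.Helper50

/-- In a Noetherian quasi-sober `T₀` space, every nonempty closed subset contains a point none of
whose proper generizations lies in the subset. -/
theorem exists_mem_forall_specializes_eq {X : Type*} [TopologicalSpace X] [NoetherianSpace X]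
    [QuasiSober X] [T0Space X] {Z : Set X} (hZ : IsClosed Z) (hne : Z.Nonempty) :
    ∃ x ∈ Z, ∀ z ∈ Z, z ⤳ x → z = x := by
  classical
  obtain ⟨S, hSf, hSc, hSi, hSU⟩ := NoetherianSpace.exists_finite_set_isClosed_irreducible hZ
  have hSne : S.Nonempty := by
    obtain ⟨z, hz⟩ := hne
    rw [hSU] at hz
    obtain ⟨t, ht, -⟩ := hz
    exact ⟨t, ht⟩
  obtain ⟨T, hTS, hTmax⟩ := hSf.exists_maximal hSne
  obtain ⟨x, hx⟩ := QuasiSober.sober (hSi T hTS) (hSc T hTS)
  have hxT : x ∈ T := hx.mem
  refine ⟨x, by rw [hSU]; exact ⟨T, hTS, hxT⟩, ?_⟩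
  intro z hz hzx
  rw [hSU] at hz
  obtain ⟨T', hT'S, hzT'⟩ := hz
  have hxT' : x ∈ T' := hzx.mem_closed (hSc T' hT'S) hzT'
  have hTT' : T ≤ T' := by
    intro y hy
    have : x ⤳ y := hx.specializes hy
    exact this.mem_closed (hSc T' hT'S) hxT'
  have hT'T : T' ≤ T := hTmax hT'S hTT'
  have hzT : z ∈ T := hT'T hzT'
  have hxz : x ⤳ z := hx.specializes hzT
  exact (hzx.antisymm hxz).eq
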