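import Groth.Agent.Lib.Helper50.SubGrpFunctor

/-!
# Centrality via a monoidal functor, and transport along natural isomorphisms
-/

set_option autoImplicit false

namespace Groth.Agent.Lib.Helper50.SubGrpFunctor

open CategoryTheory CategoryTheory.Limits MonoidalCategory CartesianMonoidalCategory MonObj
open Functor.LaxMonoidal Functor.OplaxMonoidal Functor.Monoidal

open scoped Obj

section transport

variable {C D : Type*} [Category C] [Category D] {F₁ F₂ : C ⥤ D} (α : F₁ ≅ F₂)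

include α in
lemma mono_of_natIso {X Y : C} (u : X ⟶ Y) (h : Mono (F₁.map u)) : Mono (F₂.map u) := by
  have e : F₂.map u = α.inv.app X ≫ F₁.map u ≫ α.hom.app Y := by
    rw [α.hom.naturality, Iso.inv_hom_id_app_assoc]
  rw [e]
  infer_instance

include α in
lemma map_eq_of_natIso {X Y : C} (a b : X ⟶ Y) (h : F₁.map a = F₁.map b) :
    F₂.map a = F₂.map b := by
  have e : ∀ t : X ⟶ Y, F₂.map t = α.inv.app X ≫ F₁.map t ≫ α.hom.app Y := fun t ↦ by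
    rw [α.hom.naturality, Iso.inv_hom_id_app_assoc]
  rw [e a, e b, h]

include α in
lemma factor_of_natIso {H G T : C} (ι₀ : H ⟶ G) (φ₀ : T ⟶ G)
    (h : ∃ ψ : F₁.obj T ⟶ F₁.obj H, ψ ≫ F₁.map ι₀ = F₁.map φ₀) :
    ∃ ψ : F₂.obj T ⟶ F₂.obj H, ψ ≫ F₂.map ι₀ = F₂.map φ₀ := by
  obtain ⟨ψ, hψ⟩ := h
  refine ⟨α.inv.app T ≫ ψ ≫ α.hom.app H, ?_⟩
  rw [Category.assoc, Category.assoc, ← α.hom.naturality, reassoc_of% hψ, α.hom.naturality,
    Iso.inv_hom_id_app_assoc]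

lemma factor_comp {E : Type*} [Category E] (F : C ⥤ D) (G : D ⥤ E) {H G₀ T : C} (ι₀ : H ⟶ G₀)
    (φ₀ : T ⟶ G₀) (h : ∃ ψ : F.obj T ⟶ F.obj H, ψ ≫ F.map ι₀ = F.map φ₀) :
    ∃ ψ : (F ⋙ G).obj T ⟶ (F ⋙ G).obj H, ψ ≫ (F ⋙ G).map ι₀ = (F ⋙ G).map φ₀ := by
  obtain ⟨ψ, hψ⟩ := h
  exact ⟨G.map ψ, by rw [Functor.comp_map, ← G.map_comp, hψ]; rfl⟩

end transport

variable {C D : Type*} [Category C] [Category D] [CartesianMonoidalCategory C]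
  [CartesianMonoidalCategory D] (F : C ⥤ D) [F.Monoidal]
  {G₀ H₀ : C} [GrpObj G₀] (ι₀ : H₀ ⟶ G₀)

/-- `(g, h) ↦ g h`. -/
noncomputable def comm₁ : G₀ ⊗ H₀ ⟶ G₀ := fst G₀ H₀ * (snd G₀ H₀ ≫ ι₀)

/-- `(g, h) ↦ h g`. -/
noncomputable def comm₂ : G₀ ⊗ H₀ ⟶ G₀ := (snd G₀ H₀ ≫ ι₀) * fst G₀ H₀

lemma map_comm₁ : F.map (comm₁ ι₀) = F.map (fst G₀ H₀) * (F.map (snd G₀ H₀) ≫ F.map ι₀) := by
  rw [comm₁, Functor.map_mul, F.map_comp]

lemma map_comm₂ : F.map (comm₂ ι₀) = (F.map (snd G₀ H₀) ≫ F.map ι₀) * F.map (fst G₀ H₀) := by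
  rw [comm₂, Functor.map_mul, F.map_comp]

lemma map_comm_eq_of_central
    (hc : ∀ (T : D) (g : T ⟶ F.obj G₀) (n : T ⟶ F.obj H₀),
      g * (n ≫ F.map ι₀) = (n ≫ F.map ι₀) * g) :
    F.map (comm₁ ι₀) = F.map (comm₂ ι₀) := by
  rw [map_comm₁, map_comm₂]
  exact hc _ _ _

lemma central_of_map_comm_eq (h : F.map (comm₁ ι₀) = F.map (comm₂ ι₀))
    (T : D) (g : T ⟶ F.obj G₀) (n : T ⟶ F.obj H₀) :
    g * (n ≫ F.map ι₀) = (n ≫ F.map ι₀) * g := by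
  have h1 : lift g n ≫ Functor.LaxMonoidal.μ F G₀ H₀ ≫ F.map (comm₁ ι₀) = g * (n ≫ F.map ι₀) := by
    rw [map_comm₁, MonObj.comp_mul, MonObj.comp_mul]
    simp only [← Category.assoc]
    rw [Category.assoc (lift g n), μ_fst, lift_fst]
    rw [Category.assoc (lift g n), μ_snd, lift_snd]
  have h2 : lift g n ≫ Functor.LaxMonoidal.μ F G₀ H₀ ≫ F.map (comm₂ ι₀) = (n ≫ F.map ι₀) * g := by
    rw [map_comm₂, MonObj.comp_mul, MonObj.comp_mul]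
    simp only [← Category.assoc]
    rw [Category.assoc (lift g n), μ_snd, lift_snd]
    rw [Category.assoc (lift g n), μ_fst, lift_fst]
  rw [← h1, ← h2, h]

end Groth.Agent.Lib.Helper50.SubGrpFunctor
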