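import Groth.Agent.Lib.Helper50.OverLimIso
import Groth.Agent.Lib.Helper50.Descent11

/-!
# fppf covering structure morphisms over a limit descend to a stage
-/

set_option autoImplicit false
universe u

namespace Groth.Agent.Lib.Helper50.OverLim

open CategoryTheory AlgebraicGeometry Limits
open Groth.Agent.Lib.Helper50 Groth.Agent.Lib.Helper50.StageSetup Groth.Agent.Lib.Helper50.Descent

/-- The structure morphism of `X` is covering for the fppf topology. -/
def IsFppfCovering {S : Scheme.{u}} (X : Over S) : Prop :=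
  ∃ (Z : Scheme.{u}) (v : Z ⟶ S) (w : Z ⟶ X.left), w ≫ X.hom = v ∧
    Flat v ∧ Surjective v ∧ LocallyOfFinitePresentation v ∧ QuasiCompact v ∧ QuasiSeparated v

lemma IsFppfCovering.bc {S S' S'' : Scheme.{u}} (g : S' ⟶ S) (X : Over S) (h : S'' ⟶ S')
    (k : S'' ⟶ S) (hk : h ≫ g = k) (H : IsFppfCovering (Red.bc g X)) :
    IsFppfCovering (Red.bc k X) := by
  obtain ⟨Z, v, w, hw, h1, h2, h3, h4, h5⟩ := H
  have hw' : w ≫ pullback.snd X.hom g = v := hw
  have cond : (pullback.fst v h ≫ w ≫ pullback.fst X.hom g) ≫ X.hom = pullback.snd v h ≫ k := by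
    rw [Category.assoc, Category.assoc, pullback.condition, reassoc_of% hw',
      pullback.condition_assoc, hk]
  refine ⟨pullback v h, pullback.snd v h, pullback.lift _ _ cond, pullback.lift_snd _ _ _,
    inferInstance, inferInstance, inferInstance, inferInstance, inferInstance⟩

variable {I : Type u} [SmallCategory I] [IsCofiltered I]
    (D : I ⥤ Scheme.{u}) (c : Limits.Cone D) (hc : Limits.IsLimit c)
    [∀ (i j : I) (f : i ⟶ j), IsAffineHom (D.map f)] (j : I)

include hc in
theorem exists_cover_stage [∀ i, CompactSpace (D.obj i)] [∀ i, QuasiSeparatedSpace (D.obj i)]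
    (Xj : Over (D.obj j)) [LocallyOfFinitePresentation Xj.hom]
    (H : IsFppfCovering (Red.bc (c.π.app j) Xj)) :
    ∃ (i : I) (f : i ⟶ j), IsFppfCovering (Red.bc (D.map f) Xj) := by
  obtain ⟨Z, (v : Z ⟶ c.pt), w, hw, (h1 : Flat v), (h2 : Surjective v),
    (h3 : LocallyOfFinitePresentation v), (h4 : QuasiCompact v), (h5 : QuasiSeparated v)⟩ := H
  have hw' : w ≫ pullback.snd Xj.hom (c.π.app j) = v := hw
  have : CompactSpace c.pt := compactSpace_pt D c hc j
  have : IsAffineHom (c.π.app j) := isAffineHom_π_app D c hc j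
  have : QuasiSeparatedSpace c.pt := quasiSeparatedSpace_of_quasiSeparated (c.π.app j)
  have cZ : CompactSpace Z := QuasiCompact.compactSpace_of_compactSpace v
  have sZ : QuasiSeparatedSpace Z := quasiSeparatedSpace_of_quasiSeparated v
  -- descend `v`
  obtain ⟨i₁, Z₁, v₁, q₁, l1, c1, s1, f1, p1⟩ := exists_descent_with D c hc @Flat
    (fun i₁ X₀ X f₀ _ _ _ f qX hX hf ↦ by
      obtain ⟨k, hk⟩ := exists_forall_flat_τ D c hc i₁ f₀ (𝟙 _) f (𝟙 _) (c.π.app i₁) qX
        (IsPullback.id_vert _) hX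
      exact ⟨k, hk k (𝟙 k)⟩) v h1
  -- move over `j`
  let i₂ := IsCofiltered.min i₁ j
  let a : i₂ ⟶ i₁ := IsCofiltered.minToLeft i₁ j
  let b : i₂ ⟶ j := IsCofiltered.minToRight i₁ j
  have hp2 := IsPullback.of_hasPullback v₁ (D.map a)
  have p2 := isPullback_rebaseQ p1 hp2
  have l2 : LocallyOfFinitePresentation (pullback.snd v₁ (D.map a)) :=
    locallyOfFinitePresentation_of_rebase hp2
  have c2 : CompactSpace ↥(pullback v₁ (D.map a)) := compactSpace_of_rebase hp2
  have s2 : QuasiSeparatedSpace ↥(pullback v₁ (D.map a)) := quasiSeparatedSpace_of_rebase hp2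
  have f2 : Flat (pullback.snd v₁ (D.map a)) := inferInstance
  -- surjectivity at a later stage
  have uo : ∀ _ : Fin 1, UniversallyOpen (pullback.snd v₁ (D.map a)) := fun _ ↦ inferInstance
  obtain ⟨i₃, ψ, hψ⟩ := exists_rebase_jointly_surjective D c hc
    (U := fun _ : Fin 1 ↦ Z) (V := fun _ ↦ pullback v₁ (D.map a)) (u := fun _ ↦ v)
    (fun _ ↦ pullback.snd v₁ (D.map a)) (e := fun _ ↦ rebaseQ p1 hp2) (fun _ ↦ p2)
    (fun x ↦ by
      obtain ⟨y, hy⟩ := h2.surj x
      exact ⟨0, y, hy⟩)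
  set v₂ := pullback.snd v₁ (D.map a) with hv₂
  have hp3 := IsPullback.of_hasPullback v₂ (D.map ψ)
  have p3 := isPullback_rebaseQ p2 hp3
  have l3 : LocallyOfFinitePresentation (pullback.snd v₂ (D.map ψ)) :=
    locallyOfFinitePresentation_of_rebase hp3
  have c3 : CompactSpace ↥(pullback v₂ (D.map ψ)) := compactSpace_of_rebase hp3
  have s3 : QuasiSeparatedSpace ↥(pullback v₂ (D.map ψ)) := quasiSeparatedSpace_of_rebase hp3
  have f3 : Flat (pullback.snd v₂ (D.map ψ)) := inferInstance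
  have sj3 : Surjective (pullback.snd v₂ (D.map ψ)) := ⟨fun x ↦ by
    obtain ⟨_, y, hy⟩ := hψ x
    exact ⟨y, hy⟩⟩
  set v₃ := pullback.snd v₂ (D.map ψ) with hv₃
  -- descend `w`
  let b₃ : i₃ ⟶ j := ψ ≫ b
  let Y : Over (D.obj i₃) := Red.bc (D.map b₃) Xj
  have lY : LocallyOfFinitePresentation Y.hom :=
    inferInstanceAs (LocallyOfFinitePresentation (pullback.snd Xj.hom (D.map b₃)))
  let X₃ : Over (D.obj i₃) := Over.mk v₃
  have cX₃ : CompactSpace X₃.left := c3
  have sX₃ : QuasiSeparatedSpace X₃.left := s3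
  have cond : (w ≫ pullback.fst Xj.hom (c.π.app j)) ≫ Xj.hom = (v ≫ c.π.app i₃) ≫ D.map b₃ := by
    rw [Category.assoc, pullback.condition, reassoc_of% hw', Category.assoc, c.w]
  let a' : pullback X₃.hom (c.π.app i₃) ⟶ Y.left :=
    p3.isoPullback.inv ≫ pullback.lift _ _ cond
  have ha' : a' ≫ Y.hom = pullback.fst X₃.hom (c.π.app i₃) ≫ X₃.hom := by
    change (p3.isoPullback.inv ≫ pullback.lift _ _ cond) ≫ pullback.snd Xj.hom (D.map b₃) =
      pullback.fst v₃ (c.π.app i₃) ≫ v₃
    rw [Category.assoc, pullback.lift_snd, ← Category.assoc, p3.isoPullback_inv_snd,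
      pullback.condition]
  obtain ⟨k, θ, hθ1, -⟩ := exists_proj_comp_eq D c hc i₃ Y.hom a' ha'
  have hθ1' : θ ≫ pullback.snd Xj.hom (D.map b₃) = pullback.fst v₃ (D.map k.hom) ≫ v₃ := hθ1
  -- the covering at stage `k`
  have hp4 := IsPullback.of_hasPullback v₃ (D.map k.hom)
  have c4 : CompactSpace ↥(pullback v₃ (D.map k.hom)) := compactSpace_of_rebase hp4
  have s4 : QuasiSeparatedSpace ↥(pullback v₃ (D.map k.hom)) := quasiSeparatedSpace_of_rebase hp4
  have cond4 : (θ ≫ pullback.fst Xj.hom (D.map b₃)) ≫ Xj.hom =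
      pullback.snd v₃ (D.map k.hom) ≫ D.map (k.hom ≫ b₃) := by
    rw [Category.assoc, pullback.condition, reassoc_of% hθ1', pullback.condition_assoc]
    simp only [Functor.map_comp, Category.assoc]
  refine ⟨k.left, k.hom ≫ b₃, pullback v₃ (D.map k.hom), pullback.snd v₃ (D.map k.hom),
    pullback.lift _ _ cond4, pullback.lift_snd _ _ _, inferInstance, inferInstance,
    inferInstance, quasiCompact_of_compactSpace _, ?_⟩
  have := s4
  infer_instance

end Groth.Agent.Lib.Helper50.OverLim
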