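import Groth.Agent.Lib.Helper50.Descent13
import Groth.Agent.Lib.Helper50.LimStageFP
import Mathlib.CategoryTheory.Monoidal.Cartesian.Over

/-!
# Factorization through a finitely presented closed subscheme descends to a stage
-/

set_option autoImplicit false
universe u
open CategoryTheory AlgebraicGeometry Limits TopologicalSpace

namespace Groth.Agent.Lib.Helper50

namespace StageSetup

variable {I : Type u} [SmallCategory I]
    (D : I ⥤ Scheme.{u}) (c : Limits.Cone D) (hc : Limits.IsLimit c) (i₀ : I)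
    {X₀ Y₀ : Scheme.{u}} (f₀ : X₀ ⟶ Y₀) (g₀ : Y₀ ⟶ D.obj i₀)
    {X Y : Scheme.{u}} (f : X ⟶ Y) (g : Y ⟶ c.pt) (qY : Y ⟶ Y₀) (qX : X ⟶ X₀)
    (hY : IsPullback qY g g₀ (c.π.app i₀)) (hX : IsPullback qX f f₀ qY)

include hc hY hX in
/-- **Descent of isomorphisms** in the stage setting. -/
theorem exists_forall_isIso_τ [IsCofiltered I]
    [∀ (i j : I) (f : i ⟶ j), IsAffineHom (D.map f)]
    [CompactSpace X₀] [CompactSpace Y₀] [QuasiSeparatedSpace Y₀]
    [LocallyOfFinitePresentation f₀] [IsIso f] :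
    ∃ j : Over i₀, ∀ (k : Over i₀) (_ : k ⟶ j), IsIso ((τ D i₀ f₀ g₀).app k) := by
  have h1 := compactSpace_E D i₀ g₀
  have h2 := quasiSeparatedSpace_E D i₀ g₀
  have h3 := compactSpace_F D i₀ f₀ g₀
  have h5 := locallyOfFinitePresentation_τ D i₀ f₀ g₀
  have hf' : IsIso (X := (cF D c i₀ f₀ g₀ f g qY qX hY hX).pt)
      (Y := (cE D c i₀ g₀ g qY hY).pt) f := inferInstanceAs (IsIso f)
  obtain ⟨j, _, hj⟩ := exists_forall_isIso_app (τ D i₀ f₀ g₀)
    (cF D c i₀ f₀ g₀ f g qY qX hY hX) (hcF D c hc i₀ f₀ g₀ f g qY qX hY hX)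
    (cE D c i₀ g₀ g qY hY) (hcE D c hc i₀ g₀ g qY hY) f
    (hf D c i₀ f₀ g₀ f g qY qX hY hX) (fun φ ↦ isPullback_τ D i₀ f₀ g₀ φ) (Over.mk (𝟙 i₀))
  exact ⟨j, hj⟩

end StageSetup

namespace SubGrpStage

section factor

variable {S₀ S' : Scheme.{u}} (f : S' ⟶ S₀) {G₀ H₀ T₀ : Over S₀} (ι₀ : H₀ ⟶ G₀) (φ₀ : T₀ ⟶ G₀)

/-- If the base change of `φ₀⁻¹(H₀) ⟶ T₀` to `S'` is an isomorphism, then the base change of
`φ₀` factors through the base change of `ι₀`. -/
lemma exists_factor_of_isIso {Z' : Scheme.{u}} (q : Z' ⟶ pullback φ₀.left ι₀.left)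
    (z' : Z' ⟶ pullback T₀.hom f)
    (w : q ≫ pullback.fst φ₀.left ι₀.left = z' ≫ pullback.fst T₀.hom f) [IsIso z'] :
    ∃ ψ : (Over.pullback f).obj T₀ ⟶ (Over.pullback f).obj H₀,
      ψ ≫ (Over.pullback f).map ι₀ = (Over.pullback f).map φ₀ := by
  have e1 : (inv z' ≫ q ≫ pullback.snd φ₀.left ι₀.left) ≫ H₀.hom = pullback.snd T₀.hom f ≫ f := by
    have h1 : pullback.snd φ₀.left ι₀.left ≫ H₀.hom = pullback.fst φ₀.left ι₀.left ≫ T₀.hom := by
      rw [← Over.w ι₀, ← pullback.condition_assoc, Over.w φ₀]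
    rw [Category.assoc, Category.assoc, h1, reassoc_of% w, IsIso.inv_hom_id_assoc,
      pullback.condition]
  refine ⟨Over.homMk (pullback.lift (inv z' ≫ q ≫ pullback.snd φ₀.left ι₀.left)
    (pullback.snd T₀.hom f) e1) (pullback.lift_snd _ _ _), ?_⟩
  ext
  apply pullback.hom_ext
  · simp only [Over.comp_left, Over.homMk_left, Over.pullback_map_left, Over.pullback_obj_left,
      Category.assoc, pullback.lift_fst, pullback.lift_fst_assoc]
    rw [← pullback.condition, reassoc_of% w, IsIso.inv_hom_id_assoc]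
  · simp only [Over.comp_left, Over.homMk_left, Over.pullback_map_left, Over.pullback_obj_left,
      Category.assoc, pullback.lift_snd, pullback.lift_snd_assoc]

/-- If the base change of `φ₀` factors through the base change of `ι₀` (a monomorphism), then
the base change of `φ₀⁻¹(H₀) ⟶ T₀` to `S'` is an isomorphism. -/
lemma isIso_of_exists_factor {Z' : Scheme.{u}} (q : Z' ⟶ pullback φ₀.left ι₀.left)
    (z' : Z' ⟶ pullback T₀.hom f)
    (hZ : IsPullback q z' (pullback.fst φ₀.left ι₀.left) (pullback.fst T₀.hom f))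
    [Mono ι₀.left]
    (h : ∃ ψ : (Over.pullback f).obj T₀ ⟶ (Over.pullback f).obj H₀,
      ψ ≫ (Over.pullback f).map ι₀ = (Over.pullback f).map φ₀) : IsIso z' := by
  obtain ⟨ψ, hψ⟩ := h
  have hψ' : pullback.fst T₀.hom f ≫ φ₀.left = (ψ.left ≫ pullback.fst H₀.hom f) ≫ ι₀.left := by
    have := congrArg (fun t => t.left ≫ pullback.fst G₀.hom f) hψ
    simp only [Over.comp_left, Over.pullback_map_left, Over.pullback_obj_left,
      Category.assoc, pullback.lift_fst] at this
    rw [Category.assoc, this]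
  have : Mono z' := by
    have : Mono (pullback.fst φ₀.left ι₀.left) := inferInstance
    exact (MorphismProperty.monomorphisms _).of_isPullback hZ
      ((MorphismProperty.monomorphisms.iff _).2 this)
  have : IsSplitEpi z' := ⟨⟨hZ.lift (pullback.lift (pullback.fst T₀.hom f)
    (ψ.left ≫ pullback.fst H₀.hom f) hψ') (𝟙 _)
    ((pullback.lift_fst _ _ _).trans (Category.id_comp _).symm), hZ.lift_snd _ _ _⟩⟩
  exact isIso_of_mono_of_isSplitEpi z'

end factor

section descent

open StageSetup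

variable {I : Type u} [SmallCategory I] [IsCofiltered I]
    (D : I ⥤ Scheme.{u}) (c : Limits.Cone D) (hc : Limits.IsLimit c)
    [∀ (i j : I) (f : i ⟶ j), IsAffineHom (D.map f)] (i₀ : I)
    {G₀ H₀ T₀ : Over (D.obj i₀)} (ι₀ : H₀ ⟶ G₀) (φ₀ : T₀ ⟶ G₀)

include hc in
/-- If the base change of `φ₀ : T₀ ⟶ G₀` to the limit factors through the base change of the
finitely presented closed immersion `ι₀ : H₀ ⟶ G₀`, then the same holds at all sufficiently
small stages. -/
theorem exists_stage_factor [IsClosedImmersion ι₀.left] [LocallyOfFinitePresentation ι₀.left]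
    [CompactSpace T₀.left] [QuasiSeparatedSpace T₀.left]
    (h : ∃ ψ : (Over.pullback (c.π.app i₀)).obj T₀ ⟶ (Over.pullback (c.π.app i₀)).obj H₀,
      ψ ≫ (Over.pullback (c.π.app i₀)).map ι₀ = (Over.pullback (c.π.app i₀)).map φ₀) :
    ∃ j : Over i₀, ∀ (k : Over i₀) (_ : k ⟶ j),
      ∃ ψ : (Over.pullback (D.map k.hom)).obj T₀ ⟶ (Over.pullback (D.map k.hom)).obj H₀,
        ψ ≫ (Over.pullback (D.map k.hom)).map ι₀ = (Over.pullback (D.map k.hom)).map φ₀ := by
  have h1 : IsClosedImmersion (pullback.fst φ₀.left ι₀.left) := inferInstance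
  have h2 : LocallyOfFinitePresentation (pullback.fst φ₀.left ι₀.left) := inferInstance
  have h3 : CompactSpace ↥(pullback φ₀.left ι₀.left) :=
    QuasiCompact.compactSpace_of_compactSpace (pullback.fst φ₀.left ι₀.left)
  have hiso : IsIso (pullback.snd (pullback.fst φ₀.left ι₀.left)
      (pullback.fst T₀.hom (c.π.app i₀))) :=
    isIso_of_exists_factor (c.π.app i₀) ι₀ φ₀ (pullback.fst _ _) (pullback.snd _ _)
      (IsPullback.of_hasPullback _ _) h
  obtain ⟨j, hj⟩ := exists_forall_isIso_τ D c hc i₀ (pullback.fst φ₀.left ι₀.left) T₀.hom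
    (pullback.snd (pullback.fst φ₀.left ι₀.left) (pullback.fst T₀.hom (c.π.app i₀)))
    (pullback.snd T₀.hom (c.π.app i₀)) (pullback.fst T₀.hom (c.π.app i₀))
    (pullback.fst (pullback.fst φ₀.left ι₀.left) (pullback.fst T₀.hom (c.π.app i₀)))
    (IsPullback.of_hasPullback _ _) (IsPullback.of_hasPullback _ _)
  refine ⟨j, fun k a => ?_⟩
  have hk : IsIso (pullback.snd (pullback.fst φ₀.left ι₀.left)
      (pullback.fst T₀.hom (D.map k.hom))) := hj k a
  exact exists_factor_of_isIso (D.map k.hom) ι₀ φ₀ (pullback.fst _ _)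
    (pullback.snd (pullback.fst φ₀.left ι₀.left) (pullback.fst T₀.hom (D.map k.hom)))
    pullback.condition

end descent

end SubGrpStage

end Groth.Agent.Lib.Helper50
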