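import Groth.Agent.Lib.Helper50.OverLimMono
import Groth.Agent.Lib.Helper50.SubGrpStage

/-!
# Factorization through a finitely presented monomorphism descends to a stage
-/

set_option autoImplicit false
universe u
open CategoryTheory AlgebraicGeometry Limits

namespace Groth.Agent.Lib.Helper50.OverLim

open Groth.Agent.Lib.Helper50 Groth.Agent.Lib.Helper50.StageSetup

section factor

variable {S₀ S' : Scheme.{u}} (f : S' ⟶ S₀) {G₀ H₀ T₀ : Over S₀} (ι₀ : H₀ ⟶ G₀) (φ₀ : T₀ ⟶ G₀)

/-- If the base change of `φ₀` factors through the base change of `ι₀`, and the latter is a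
monomorphism, then the base change of `φ₀⁻¹(H₀) ⟶ T₀` to `S'` is an isomorphism. -/
lemma isIso_of_exists_factor' {Z' : Scheme.{u}} (q : Z' ⟶ pullback φ₀.left ι₀.left)
    (z' : Z' ⟶ pullback T₀.hom f)
    (hZ : IsPullback q z' (pullback.fst φ₀.left ι₀.left) (pullback.fst T₀.hom f))
    [Mono ((Over.pullback f).map ι₀)]
    (h : ∃ ψ : (Over.pullback f).obj T₀ ⟶ (Over.pullback f).obj H₀,
      ψ ≫ (Over.pullback f).map ι₀ = (Over.pullback f).map φ₀) : IsIso z' := by
  obtain ⟨ψ, hψ⟩ := h
  have hm : Mono ((Over.pullback f).map ι₀).left := inferInstance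
  have hψ' : pullback.fst T₀.hom f ≫ φ₀.left = (ψ.left ≫ pullback.fst H₀.hom f) ≫ ι₀.left := by
    have := congrArg (fun t => t.left ≫ pullback.fst G₀.hom f) hψ
    simp only [Over.comp_left, Category.assoc] at this
    rw [map_left_fst, map_left_fst] at this
    rw [Category.assoc, this]
  let s : pullback T₀.hom f ⟶ Z' := hZ.lift (pullback.lift (pullback.fst T₀.hom f)
    (ψ.left ≫ pullback.fst H₀.hom f) hψ') (𝟙 _)
    ((pullback.lift_fst _ _ _).trans (Category.id_comp _).symm)
  have hs1 : s ≫ z' = 𝟙 _ := hZ.lift_snd _ _ _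
  have hs2 : s ≫ q = pullback.lift (pullback.fst T₀.hom f)
    (ψ.left ≫ pullback.fst H₀.hom f) hψ' := hZ.lift_fst _ _ _
  -- key: `q ≫ snd = z' ≫ ψ.left ≫ fst`
  have key : q ≫ pullback.snd φ₀.left ι₀.left = z' ≫ ψ.left ≫ pullback.fst H₀.hom f := by
    have e1 : (q ≫ pullback.snd φ₀.left ι₀.left) ≫ H₀.hom = (z' ≫ pullback.snd T₀.hom f) ≫ f := by
      rw [Category.assoc, ← Over.w ι₀, ← pullback.condition_assoc, Over.w φ₀, ← Category.assoc,
        hZ.w, Category.assoc, Category.assoc, pullback.condition]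
    let A : Z' ⟶ pullback H₀.hom f := pullback.lift _ _ e1
    have hA : A ≫ ((Over.pullback f).map ι₀).left = (z' ≫ ψ.left) ≫ ((Over.pullback f).map ι₀).left := by
      apply pullback.hom_ext
      · rw [Category.assoc, map_left_fst, Category.assoc, Category.assoc, map_left_fst,
          pullback.lift_fst_assoc, Category.assoc, ← pullback.condition, ← Category.assoc q,
          hZ.w, Category.assoc, hψ']
        simp only [Category.assoc]
      · rw [Category.assoc, map_left_snd, Category.assoc, Category.assoc, map_left_snd,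
          pullback.lift_snd]
        have := Over.w ψ
        simp only [Over.pullback_obj_hom] at this
        rw [this]
    have hA' : A = z' ≫ ψ.left := (cancel_mono _).mp hA
    have := congrArg (fun t ↦ t ≫ pullback.fst H₀.hom f) hA'
    simp only [A, pullback.lift_fst, Category.assoc] at this
    exact this
  refine ⟨s, ?_, hs1⟩
  apply hZ.hom_ext
  · rw [Category.assoc, hs2, Category.id_comp]
    apply pullback.hom_ext
    · rw [Category.assoc, pullback.lift_fst, hZ.w]
    · rw [Category.assoc, pullback.lift_snd, key]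
  · rw [Category.assoc, hs1, Category.comp_id, Category.id_comp]

end factor

section descent

variable {I : Type u} [SmallCategory I] [IsCofiltered I]
    (D : I ⥤ Scheme.{u}) (c : Limits.Cone D) (hc : Limits.IsLimit c)
    [∀ (i j : I) (f : i ⟶ j), IsAffineHom (D.map f)] (i₀ : I)
    {G₀ H₀ T₀ : Over (D.obj i₀)} (ι₀ : H₀ ⟶ G₀) (φ₀ : T₀ ⟶ G₀)

include hc in
/-- If the base change of `φ₀ : T₀ ⟶ G₀` to the limit factors through the base change of the
quasi-compact finitely presented `ι₀ : H₀ ⟶ G₀`, which is a monomorphism over the limit, then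
the same holds at all sufficiently small stages. -/
theorem exists_stage_factor' [QuasiCompact ι₀.left] [LocallyOfFinitePresentation ι₀.left]
    [CompactSpace T₀.left] [QuasiSeparatedSpace T₀.left]
    [Mono ((Over.pullback (c.π.app i₀)).map ι₀)]
    (h : ∃ ψ : (Over.pullback (c.π.app i₀)).obj T₀ ⟶ (Over.pullback (c.π.app i₀)).obj H₀,
      ψ ≫ (Over.pullback (c.π.app i₀)).map ι₀ = (Over.pullback (c.π.app i₀)).map φ₀) :
    ∃ j : Over i₀, ∀ (k : Over i₀) (_ : k ⟶ j),
      ∃ ψ : (Over.pullback (D.map k.hom)).obj T₀ ⟶ (Over.pullback (D.map k.hom)).obj H₀,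
        ψ ≫ (Over.pullback (D.map k.hom)).map ι₀ = (Over.pullback (D.map k.hom)).map φ₀ := by
  have h1 : QuasiCompact (pullback.fst φ₀.left ι₀.left) := inferInstance
  have h2 : LocallyOfFinitePresentation (pullback.fst φ₀.left ι₀.left) := inferInstance
  have h3 : CompactSpace ↥(pullback φ₀.left ι₀.left) :=
    QuasiCompact.compactSpace_of_compactSpace (pullback.fst φ₀.left ι₀.left)
  have hiso : IsIso (pullback.snd (pullback.fst φ₀.left ι₀.left)
      (pullback.fst T₀.hom (c.π.app i₀))) :=
    isIso_of_exists_factor' (c.π.app i₀) ι₀ φ₀ (pullback.fst _ _) (pullback.snd _ _)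
      (IsPullback.of_hasPullback _ _) h
  obtain ⟨j, hj⟩ := exists_forall_isIso_τ D c hc i₀ (pullback.fst φ₀.left ι₀.left) T₀.hom
    (pullback.snd (pullback.fst φ₀.left ι₀.left) (pullback.fst T₀.hom (c.π.app i₀)))
    (pullback.snd T₀.hom (c.π.app i₀)) (pullback.fst T₀.hom (c.π.app i₀))
    (pullback.fst (pullback.fst φ₀.left ι₀.left) (pullback.fst T₀.hom (c.π.app i₀)))
    (IsPullback.of_hasPullback _ _) (IsPullback.of_hasPullback _ _)
  refine ⟨j, fun k a => ?_⟩
  have hk : IsIso (pullback.snd (pullback.fst φ₀.left ι₀.left)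
      (pullback.fst T₀.hom (D.map k.hom))) := hj k a
  exact SubGrpStage.exists_factor_of_isIso (D.map k.hom) ι₀ φ₀ (pullback.fst _ _)
    (pullback.snd (pullback.fst φ₀.left ι₀.left) (pullback.fst T₀.hom (D.map k.hom)))
    pullback.condition

end descent

end Groth.Agent.Lib.Helper50.OverLim
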