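import Groth.Agent.Lib.Helper50.PreGrp2

/-!
# Group-like data at a stage compared with a group structure at the limit
-/

set_option autoImplicit false

namespace Groth.Agent.Lib.Helper50

open CategoryTheory MonoidalCategory CartesianMonoidalCategory MonObj
open Functor.LaxMonoidal Functor.OplaxMonoidal Functor.Monoidal

namespace PreGrp

variable {C C₁ D : Type*} [Category C] [Category C₁] [Category D]
  [CartesianMonoidalCategory C] [CartesianMonoidalCategory C₁] [CartesianMonoidalCategory D]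
  (Fk : C ⥤ C₁) (G' : C₁ ⥤ D) (Finf : C ⥤ D) [Fk.Monoidal] [G'.Monoidal] [Finf.Monoidal]
  (T : Fk ⋙ G' ≅ Finf) {X : C} {G : D} [GrpObj G] (e₀ : G ≅ Finf.obj X)
  (mk : Fk.obj (X ⊗ X) ⟶ Fk.obj X) (ek : Fk.obj (𝟙_ C) ⟶ Fk.obj X) (vk : Fk.obj X ⟶ Fk.obj X)

/-- The group-like data on `Fk.obj X` built from morphisms between images of `Fk`. -/
def ofStage : PreGrp (Fk.obj X) :=
  ⟨Functor.LaxMonoidal.μ Fk X X ≫ mk, Functor.LaxMonoidal.ε Fk ≫ ek, vk⟩

variable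
  (RM : G'.map mk ≫ T.hom.app X = T.hom.app (X ⊗ X) ≫ inv (Functor.LaxMonoidal.μ Finf X X) ≫
    (e₀.inv ⊗ₘ e₀.inv) ≫ μ[G] ≫ e₀.hom)
  (RE : G'.map ek ≫ T.hom.app X = T.hom.app (𝟙_ C) ≫ inv (Functor.LaxMonoidal.ε Finf) ≫
    η[G] ≫ e₀.hom)
  (RV : G'.map vk ≫ T.hom.app X = T.hom.app X ≫ e₀.inv ≫ ι[G] ≫ e₀.hom)

include RM in
lemma ofStage_map_m :
    ((ofStage Fk mk ek vk).map G').m =
      ((e₀ ≪≫ (T.app X).symm).inv ⊗ₘ (e₀ ≪≫ (T.app X).symm).inv) ≫ μ[G] ≫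
        (e₀ ≪≫ (T.app X).symm).hom := by
  have hT := NatTrans.IsMonoidal.tensor (τ := T.hom) X X
  rw [Functor.LaxMonoidal.comp_μ] at hT
  have h1 : G'.map mk = T.hom.app (X ⊗ X) ≫ inv (Functor.LaxMonoidal.μ Finf X X) ≫
      (e₀.inv ⊗ₘ e₀.inv) ≫ μ[G] ≫ e₀.hom ≫ T.inv.app X := by
    have := congrArg (fun t ↦ t ≫ T.inv.app X) RM
    simpa using this
  change Functor.LaxMonoidal.μ G' (Fk.obj X) (Fk.obj X) ≫
    G'.map (Functor.LaxMonoidal.μ Fk X X ≫ mk) = _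
  rw [Category.assoc] at hT
  rw [G'.map_comp, h1]
  rw [reassoc_of% hT]
  simp only [Iso.trans_inv, Iso.symm_inv, Iso.app_hom, Iso.trans_hom, Iso.symm_hom, Iso.app_inv,
    Category.assoc, IsIso.hom_inv_id_assoc, tensorHom_comp_tensorHom_assoc]

include RE in
lemma ofStage_map_e :
    ((ofStage Fk mk ek vk).map G').e = η[G] ≫ (e₀ ≪≫ (T.app X).symm).hom := by
  have hT := NatTrans.IsMonoidal.unit (τ := T.hom)
  rw [Functor.LaxMonoidal.comp_ε] at hT
  have h1 : G'.map ek = T.hom.app (𝟙_ C) ≫ inv (Functor.LaxMonoidal.ε Finf) ≫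
      η[G] ≫ e₀.hom ≫ T.inv.app X := by
    have := congrArg (fun t ↦ t ≫ T.inv.app X) RE
    simpa using this
  change Functor.LaxMonoidal.ε G' ≫ G'.map (Functor.LaxMonoidal.ε Fk ≫ ek) = _
  rw [Category.assoc] at hT
  rw [G'.map_comp, h1]
  rw [reassoc_of% hT]
  simp only [Iso.trans_hom, Iso.symm_hom, Iso.app_inv, Category.assoc, IsIso.hom_inv_id_assoc]

include RV in
omit [Finf.Monoidal] in
lemma ofStage_map_i :
    ((ofStage Fk mk ek vk).map G').i =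
      (e₀ ≪≫ (T.app X).symm).inv ≫ ι[G] ≫ (e₀ ≪≫ (T.app X).symm).hom := by
  have h1 : G'.map vk = T.hom.app X ≫ e₀.inv ≫ ι[G] ≫ e₀.hom ≫ T.inv.app X := by
    have := congrArg (fun t ↦ t ≫ T.inv.app X) RV
    simpa using this
  change G'.map vk = _
  rw [h1]
  simp only [Iso.trans_inv, Iso.symm_inv, Iso.app_hom, Iso.trans_hom, Iso.symm_hom, Iso.app_inv,
    Category.assoc]

include RM RE RV in
/-- The induced data at the limit satisfies the group axioms. -/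
theorem isGrp_ofStage_map : ((ofStage Fk mk ek vk).map G').IsGrp :=
  isGrp_of_iso (e₀ ≪≫ (T.app X).symm) _ (ofStage_map_m Fk G' Finf T e₀ mk ek vk RM)
    (ofStage_map_e Fk G' Finf T e₀ mk ek vk RE) (ofStage_map_i Fk G' Finf T e₀ mk ek vk RV)

end PreGrp

end Groth.Agent.Lib.Helper50
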