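import Groth.Agent.Lib.Helper50.OverLimHom3
import Groth.Agent.Lib.Helper50.PreGrp3
import Groth.Agent.Lib.Helper50.Descent8

/-!
# A finitely presented group scheme over a limit comes from a stage
-/

set_option autoImplicit false
universe u
open CategoryTheory AlgebraicGeometry Limits MonoidalCategory CartesianMonoidalCategory MonObj

namespace Groth.Agent.Lib.Helper50.OverLim

open Groth.Agent.Lib.Helper7.OverBC Groth.Agent.Lib.Helper50.SubGrpFunctor

variable {I : Type u} [SmallCategory I] [IsCofiltered I]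
    (D : I ⥤ Scheme.{u}) (c : Limits.Cone D) (hc : Limits.IsLimit c)
    [∀ (i j : I) (f : i ⟶ j), IsAffineHom (D.map f)]

include hc in
theorem exists_grp_stage [∀ i, CompactSpace (D.obj i)] [∀ i, QuasiSeparatedSpace (D.obj i)]
    (G : Over c.pt) [GrpObj G] [LocallyOfFinitePresentation G.hom] [QuasiCompact G.hom]
    [QuasiSeparated G.hom] :
    ∃ (j : I) (Gj : Over (D.obj j)) (_ : GrpObj Gj) (e : G ≅ Red.bc (c.π.app j) Gj),
      IsMonHom e.hom ∧ LocallyOfFinitePresentation Gj.hom ∧ QuasiCompact Gj.hom ∧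
        QuasiSeparated Gj.hom := by
  classical
  obtain ⟨i⟩ : Nonempty I := IsCofiltered.nonempty
  have : CompactSpace c.pt := compactSpace_pt D c hc i
  have : IsAffineHom (c.π.app i) := isAffineHom_π_app D c hc i
  have : QuasiSeparatedSpace c.pt := quasiSeparatedSpace_of_quasiSeparated (c.π.app i)
  have cG : CompactSpace G.left := QuasiCompact.compactSpace_of_compactSpace G.hom
  have sG : QuasiSeparatedSpace G.left := quasiSeparatedSpace_of_quasiSeparated G.hom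
  obtain ⟨i₀, X₀, f₀, qX, l0, c0, s0, hX⟩ := Descent.descends_of_finitePresentation D c hc G.hom
  let G₀ : Over (D.obj i₀) := Over.mk f₀
  let Finf := Over.pullback (c.π.app i₀)
  let e₀ : G ≅ Finf.obj G₀ := Over.isoMk hX.isoPullback hX.isoPullback_hom_snd
  have cG₀ : CompactSpace G₀.left := c0
  have sG₀ : QuasiSeparatedSpace G₀.left := s0
  have lG₀ : LocallyOfFinitePresentation G₀.hom := l0
  have qcG₀ : QuasiCompact G₀.hom := quasiCompact_of_compactSpace _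
  have qsG₀ : QuasiSeparated G₀.hom := inferInstance
  have cGG : CompactSpace (G₀ ⊗ G₀).left :=
    (QuasiCompact.compactSpace_of_compactSpace (pullback.fst G₀.hom G₀.hom) :
      CompactSpace ↥(pullback G₀.hom G₀.hom))
  have sGG : QuasiSeparatedSpace (G₀ ⊗ G₀).left :=
    (quasiSeparatedSpace_of_quasiSeparated (pullback.fst G₀.hom G₀.hom) :
      QuasiSeparatedSpace ↥(pullback G₀.hom G₀.hom))
  have c1 : CompactSpace (𝟙_ (Over (D.obj i₀))).left := inferInstanceAs (CompactSpace (D.obj i₀))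
  have s1 : QuasiSeparatedSpace (𝟙_ (Over (D.obj i₀))).left :=
    inferInstanceAs (QuasiSeparatedSpace (D.obj i₀))
  -- descend the three operations
  obtain ⟨k₁, hk₁⟩ := exists_forall_hom_stage D c hc i₀ (G₀ ⊗ G₀) G₀
    (inv (Functor.LaxMonoidal.μ Finf G₀ G₀) ≫ (e₀.inv ⊗ₘ e₀.inv) ≫ μ[G] ≫ e₀.hom)
  obtain ⟨k₂, hk₂⟩ := exists_forall_hom_stage D c hc i₀ (𝟙_ (Over (D.obj i₀))) G₀
    (inv (Functor.LaxMonoidal.ε Finf) ≫ η[G] ≫ e₀.hom)
  obtain ⟨k₃, hk₃⟩ := exists_forall_hom_stage D c hc i₀ G₀ G₀ (e₀.inv ≫ ι[G] ≫ e₀.hom)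
  let k := IsCofiltered.min (IsCofiltered.min k₁ k₂) k₃
  obtain ⟨mk, RM⟩ := hk₁ k (IsCofiltered.minToLeft _ _ ≫ IsCofiltered.minToLeft _ _)
  obtain ⟨ek, RE⟩ := hk₂ k (IsCofiltered.minToLeft _ _ ≫ IsCofiltered.minToRight _ _)
  obtain ⟨vk, RV⟩ := hk₃ k (IsCofiltered.minToRight _ _)
  let Fk := Over.pullback (D.map k.hom)
  let G' := Over.pullback (c.π.app k.left)
  let T : Fk ⋙ G' ≅ Finf := trNat (c.π.app k.left) (D.map k.hom) (c.π.app i₀) (c.w k.hom)
  have RM' : G'.map mk ≫ T.hom.app G₀ = T.hom.app (G₀ ⊗ G₀) ≫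
      inv (Functor.LaxMonoidal.μ Finf G₀ G₀) ≫ (e₀.inv ⊗ₘ e₀.inv) ≫ μ[G] ≫ e₀.hom := by
    rw [trNat_hom_app, trNat_hom_app]; exact RM
  have RE' : G'.map ek ≫ T.hom.app G₀ = T.hom.app (𝟙_ (Over (D.obj i₀))) ≫
      inv (Functor.LaxMonoidal.ε Finf) ≫ η[G] ≫ e₀.hom := by
    rw [trNat_hom_app, trNat_hom_app]; exact RE
  have RV' : G'.map vk ≫ T.hom.app G₀ = T.hom.app G₀ ≫ e₀.inv ≫ ι[G] ≫ e₀.hom := by
    rw [trNat_hom_app]; exact RV
  let P : PreGrp (Fk.obj G₀) := PreGrp.ofStage Fk mk ek vk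
  have hQ : (P.map G').IsGrp := PreGrp.isGrp_ofStage_map Fk G' Finf T e₀ mk ek vk RM' RE' RV'
  obtain ⟨a1, a2, a3, a4, a5⟩ := (PreGrp.isGrp_map_iff P G').mp hQ
  -- equalities descend
  let Gk : Over (D.obj k.left) := Fk.obj G₀
  have qcGk : QuasiCompact Gk.hom := inferInstanceAs (QuasiCompact (pullback.snd G₀.hom (D.map k.hom)))
  have qsGk : QuasiSeparated Gk.hom :=
    inferInstanceAs (QuasiSeparated (pullback.snd G₀.hom (D.map k.hom)))
  have lGk : LocallyOfFinitePresentation Gk.hom :=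
    inferInstanceAs (LocallyOfFinitePresentation (pullback.snd G₀.hom (D.map k.hom)))
  have cGk : CompactSpace Gk.left := QuasiCompact.compactSpace_of_compactSpace Gk.hom
  have cGkGk : CompactSpace (Gk ⊗ Gk).left :=
    (QuasiCompact.compactSpace_of_compactSpace (pullback.fst Gk.hom Gk.hom) :
      CompactSpace ↥(pullback Gk.hom Gk.hom))
  have qcGkGk : QuasiCompact (Gk ⊗ Gk).hom :=
    inferInstanceAs (QuasiCompact (pullback.fst Gk.hom Gk.hom ≫ Gk.hom))
  have c1k : CompactSpace (𝟙_ (Over (D.obj k.left))).left :=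
    inferInstanceAs (CompactSpace (D.obj k.left))
  have c1Gk : CompactSpace (𝟙_ (Over (D.obj k.left)) ⊗ Gk).left :=
    (QuasiCompact.compactSpace_of_compactSpace
      (pullback.fst (𝟙_ (Over (D.obj k.left))).hom Gk.hom) :
      CompactSpace ↥(pullback (𝟙_ (Over (D.obj k.left))).hom Gk.hom))
  have cGk1 : CompactSpace (Gk ⊗ 𝟙_ (Over (D.obj k.left))).left :=
    (QuasiCompact.compactSpace_of_compactSpace
      (pullback.snd Gk.hom (𝟙_ (Over (D.obj k.left))).hom) :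
      CompactSpace ↥(pullback Gk.hom (𝟙_ (Over (D.obj k.left))).hom))
  have cGGG : CompactSpace ((Gk ⊗ Gk) ⊗ Gk).left :=
    (QuasiCompact.compactSpace_of_compactSpace (pullback.snd (Gk ⊗ Gk).hom Gk.hom) :
      CompactSpace ↥(pullback (Gk ⊗ Gk).hom Gk.hom))
  obtain ⟨l₁, hl₁⟩ := exists_forall_map_eq D c hc k.left P.ax1L (PreGrp.ax1R Gk) a1
  obtain ⟨l₂, hl₂⟩ := exists_forall_map_eq D c hc k.left P.ax2L (PreGrp.ax2R Gk) a2
  obtain ⟨l₃, hl₃⟩ := exists_forall_map_eq D c hc k.left P.ax3L P.ax3R a3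
  obtain ⟨l₄, hl₄⟩ := exists_forall_map_eq D c hc k.left P.ax4L P.ax4R a4
  obtain ⟨l₅, hl₅⟩ := exists_forall_map_eq D c hc k.left P.ax5L P.ax4R a5
  let l := IsCofiltered.min (IsCofiltered.min (IsCofiltered.min l₁ l₂) (IsCofiltered.min l₃ l₄)) l₅
  let Fl := Over.pullback (D.map l.hom)
  have hPl : (P.map Fl).IsGrp := (PreGrp.isGrp_map_iff P Fl).mpr
    ⟨hl₁ l (IsCofiltered.minToLeft _ _ ≫ IsCofiltered.minToLeft _ _ ≫ IsCofiltered.minToLeft _ _),
     hl₂ l (IsCofiltered.minToLeft _ _ ≫ IsCofiltered.minToLeft _ _ ≫ IsCofiltered.minToRight _ _),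
     hl₃ l (IsCofiltered.minToLeft _ _ ≫ IsCofiltered.minToRight _ _ ≫ IsCofiltered.minToLeft _ _),
     hl₄ l (IsCofiltered.minToLeft _ _ ≫ IsCofiltered.minToRight _ _ ≫ IsCofiltered.minToRight _ _),
     hl₅ l (IsCofiltered.minToRight _ _)⟩
  let Gj : Over (D.obj l.left) := Fl.obj Gk
  let instGj : GrpObj Gj := (P.map Fl).toGrpObj hPl
  let G'l := Over.pullback (c.π.app l.left)
  let T' : Fl ⋙ G'l ≅ G' := trNat (c.π.app l.left) (D.map l.hom) (c.π.app k.left) (c.w l.hom)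
  let φ : G ≅ G'.obj Gk := e₀ ≪≫ (T.app G₀).symm
  refine ⟨l.left, Gj, instGj, φ ≪≫ (T'.app Gk).symm, ?_,
    inferInstanceAs (LocallyOfFinitePresentation (pullback.snd Gk.hom (D.map l.hom))),
    inferInstanceAs (QuasiCompact (pullback.snd Gk.hom (D.map l.hom))),
    inferInstanceAs (QuasiSeparated (pullback.snd Gk.hom (D.map l.hom)))⟩
  apply isMonHom_of_mul_hom
  have hm : (P.map G').m = (φ.inv ⊗ₘ φ.inv) ≫ μ[G] ≫ φ.hom :=
    PreGrp.ofStage_map_m Fk G' Finf T e₀ mk ek vk RM'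
  have hnat := PreGrp.map_m_natTrans P T'.inv
  have hμ : μ[Red.bc (c.π.app l.left) Gj] = (P.map (Fl ⋙ G'l)).m := by
    change Functor.LaxMonoidal.μ G'l Gj Gj ≫
      G'l.map (Functor.LaxMonoidal.μ Fl Gk Gk ≫ Fl.map P.m) =
      Functor.LaxMonoidal.μ (Fl ⋙ G'l) Gk Gk ≫ (Fl ⋙ G'l).map P.m
    rw [Functor.LaxMonoidal.comp_μ, Functor.comp_map, G'l.map_comp, Category.assoc]
  rw [hμ]
  simp only [Iso.trans_hom, Iso.symm_hom, Iso.app_inv]
  rw [← tensorHom_comp_tensorHom, Category.assoc, ← hnat, hm]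
  simp only [Category.assoc, tensorHom_comp_tensorHom_assoc, Iso.hom_inv_id, tensorHom_id,
    id_whiskerRight, Category.id_comp]
  rfl

end Groth.Agent.Lib.Helper50.OverLim
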