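import Groth.Agent.Lib.Helper50.OverLim
import Groth.Agent.Lib.Helper7.OverBC

/-!
# Transitivity isomorphisms for base change, in components
-/

set_option autoImplicit false
universe u
open CategoryTheory AlgebraicGeometry Limits

namespace Groth.Agent.Lib.Helper50.OverLim

open Groth.Agent.Lib.Helper7.OverBC

variable {S S' S'' : Scheme.{u}}

/-- The morphism of base changes with prescribed first component. -/
noncomputable def homOfElem (f : S' ⟶ S) {X Y : Over S} (θ : pullback X.hom f ⟶ Y.left)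
    (hθ : θ ≫ Y.hom = pullback.fst X.hom f ≫ X.hom) : Red.bc f X ⟶ Red.bc f Y :=
  Over.homMk (pullback.lift θ (pullback.snd X.hom f) (by rw [hθ, pullback.condition]))
    (pullback.lift_snd _ _ _)

@[reassoc (attr := simp)]
lemma homOfElem_left_fst (f : S' ⟶ S) {X Y : Over S} (θ : pullback X.hom f ⟶ Y.left)
    (hθ : θ ≫ Y.hom = pullback.fst X.hom f ≫ X.hom) :
    (homOfElem f θ hθ).left ≫ pullback.fst Y.hom f = θ :=
  pullback.lift_fst _ _ _

theorem pc_inv_fst (f : S'' ⟶ S') (g : S' ⟶ S) (X : Over S) :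
    ((Over.pullbackComp f g).inv.app X).left ≫ pullback.fst X.hom (f ≫ g) =
      pullback.fst (pullback.snd X.hom g) f ≫ pullback.fst X.hom g := by
  simp [Over.pullbackComp, conjugateIsoEquiv, conjugateEquiv_apply_app]
  erw [pullback.lift_fst, pullback.lift_fst_assoc]
  simp only [Category.assoc]
  erw [pullback.lift_fst_assoc, pullback.lift_fst_assoc]
  simp

lemma bcEq_left_fst {φ ψ : S' ⟶ S} (h : φ = ψ) (X : Over S) :
    (bcEq h X).left ≫ pullback.fst X.hom ψ = pullback.fst X.hom φ := by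
  subst h
  simp [bcEq]

/-- The transitivity isomorphism `(X ×_S S') ×_{S'} S'' ≅ X ×_S S''`. -/
noncomputable def trIso (f : S'' ⟶ S') (g : S' ⟶ S) (k : S'' ⟶ S) (h : f ≫ g = k) (X : Over S) :
    Red.bc f (Red.bc g X) ≅ Red.bc k X :=
  ((Over.pullbackComp f g).app X).symm ≪≫ eqToIso (congrArg (fun φ => Red.bc φ X) h)

lemma trIso_hom (f : S'' ⟶ S') (g : S' ⟶ S) (k : S'' ⟶ S) (h : f ≫ g = k) (X : Over S) :
    (trIso f g k h X).hom = (Over.pullbackComp f g).inv.app X ≫ bcEq h X := rfl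

lemma trIso_inv (f : S'' ⟶ S') (g : S' ⟶ S) (k : S'' ⟶ S) (h : f ≫ g = k) (X : Over S) :
    (trIso f g k h X).inv = bcEq h.symm X ≫ (Over.pullbackComp f g).hom.app X := by
  simp [trIso, bcEq]

@[reassoc]
lemma trIso_hom_left_fst (f : S'' ⟶ S') (g : S' ⟶ S) (k : S'' ⟶ S) (h : f ≫ g = k) (X : Over S) :
    (trIso f g k h X).hom.left ≫ pullback.fst X.hom k =
      pullback.fst (Red.bc g X).hom f ≫ pullback.fst X.hom g := by
  rw [trIso_hom, Over.comp_left, Category.assoc, bcEq_left_fst]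
  exact pc_inv_fst f g X

@[reassoc]
lemma trIso_inv_left_fst (f : S'' ⟶ S') (g : S' ⟶ S) (k : S'' ⟶ S) (h : f ≫ g = k) (X : Over S) :
    (trIso f g k h X).inv.left ≫ pullback.fst (Red.bc g X).hom f ≫ pullback.fst X.hom g =
      pullback.fst X.hom k := by
  rw [← trIso_hom_left_fst f g k h X, ← Category.assoc, ← Over.comp_left, Iso.inv_hom_id,
    Over.id_left, Category.id_comp]

@[reassoc]
lemma trIso_hom_left_snd (f : S'' ⟶ S') (g : S' ⟶ S) (k : S'' ⟶ S) (h : f ≫ g = k) (X : Over S) :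
    (trIso f g k h X).hom.left ≫ pullback.snd X.hom k = pullback.snd (Red.bc g X).hom f :=
  Over.w (trIso f g k h X).hom

@[reassoc]
lemma trIso_inv_left_snd (f : S'' ⟶ S') (g : S' ⟶ S) (k : S'' ⟶ S) (h : f ≫ g = k) (X : Over S) :
    (trIso f g k h X).inv.left ≫ pullback.snd (Red.bc g X).hom f = pullback.snd X.hom k :=
  Over.w (trIso f g k h X).inv

open MonObj in
lemma isMonHom_trIso_hom (f : S'' ⟶ S') (g : S' ⟶ S) (k : S'' ⟶ S) (h : f ≫ g = k) (X : Over S)
    [GrpObj X] : IsMonHom (trIso f g k h X).hom := by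
  rw [trIso_hom]
  have h1 := isMonHom_pullbackComp_inv f g X
  have h2 := isMonHom_bcEq h X
  exact isMonHom_comp' (Y := Red.bc (f ≫ g) X) _ _ h1 h2

open MonObj in
lemma isMonHom_trIso_inv (f : S'' ⟶ S') (g : S' ⟶ S) (k : S'' ⟶ S) (h : f ≫ g = k) (X : Over S)
    [GrpObj X] : IsMonHom (trIso f g k h X).inv := by
  rw [trIso_inv]
  have h1 := isMonHom_pullbackComp_hom f g X
  have h2 := isMonHom_bcEq h.symm X
  exact isMonHom_comp' (Y := Red.bc (f ≫ g) X) _ _ h2 h1

end Groth.Agent.Lib.Helper50.OverLim
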