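import Groth.Agent.Lib.Helper50.OverLimCentral

/-!
# Homomorphism property via a monoidal functor
-/

set_option autoImplicit false

namespace Groth.Agent.Lib.Helper50.SubGrpFunctor

open CategoryTheory CategoryTheory.Limits MonoidalCategory CartesianMonoidalCategory MonObj
open Functor.LaxMonoidal Functor.OplaxMonoidal Functor.Monoidal

open scoped Obj

section

variable {C : Type*} [Category C] [CartesianMonoidalCategory C]

/-- A multiplicative morphism of group objects is a homomorphism. -/
lemma isMonHom_of_mul_hom {M N : C} [GrpObj M] [GrpObj N] (f : M ⟶ N)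
    (h : μ ≫ f = (f ⊗ₘ f) ≫ μ) : IsMonHom f := by
  refine ⟨?_, h⟩
  have hx : (η[M] ≫ f) * (η[M] ≫ f) = (η[M] ≫ f) * 1 := by
    rw [_root_.mul_one, Hom.mul_def, ← lift_map, Category.assoc, ← h, ← Category.assoc,
      ← Hom.mul_def, one_eq_one, _root_.mul_one]
  have := mul_left_cancel hx
  rw [this, one_eq_one]

end

variable {C D : Type*} [Category C] [Category D] [CartesianMonoidalCategory C]
  [CartesianMonoidalCategory D] (F : C ⥤ D) [F.Monoidal]

lemma map_mul_hom_of_isMonHom {A B : C} [MonObj A] [MonObj B] (w : A ⟶ B)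
    (hw : IsMonHom (F.map w)) : F.map (μ ≫ w) = F.map ((w ⊗ₘ w) ≫ μ) := by
  have h := hw.mul_hom
  rw [Functor.obj.μ_def, Functor.obj.μ_def, Category.assoc, μ_natural_assoc] at h
  have h' := (cancel_epi (Functor.LaxMonoidal.μ F A A)).mp h
  rw [F.map_comp, F.map_comp, h']

lemma isMonHom_map_of_map_mul_hom {A B : C} [GrpObj A] [GrpObj B] (w : A ⟶ B)
    (h : F.map (μ ≫ w) = F.map ((w ⊗ₘ w) ≫ μ)) : IsMonHom (F.map w) := by
  apply isMonHom_of_mul_hom
  rw [Functor.obj.μ_def, Functor.obj.μ_def, Category.assoc, μ_natural_assoc, ← F.map_comp,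
    ← F.map_comp, h]

end Groth.Agent.Lib.Helper50.SubGrpFunctor
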