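import Groth.Agent.Lib.Helper50.OverLimHom
import Groth.Agent.Lib.Helper50.OverLimMonHom
import Groth.Agent.Lib.Helper50.LimDesc10

/-!
# Homomorphisms of finitely presented group schemes over a limit come from a stage
-/

set_option autoImplicit false
universe u
open CategoryTheory AlgebraicGeometry Limits MonoidalCategory CartesianMonoidalCategory MonObj

namespace Groth.Agent.Lib.Helper50.OverLim

open Groth.Agent.Lib.Helper7.OverBC Groth.Agent.Lib.Helper50.SubGrpFunctor

variable {I : Type u} [SmallCategory I] [IsCofiltered I]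
    (D : I ⥤ Scheme.{u}) (c : Limits.Cone D) (hc : Limits.IsLimit c)
    [∀ (i j : I) (f : i ⟶ j), IsAffineHom (D.map f)] (j : I)

omit [IsCofiltered I] [∀ (i j : I) (f : i ⟶ j), IsAffineHom (D.map f)] in
/-- The first projection of the double base change, via the transitivity isomorphism. -/
lemma fst_eq_trIso_hom_proj (X : Over (D.obj j)) (k : Over j) :
    pullback.fst (Red.bc (D.map k.hom) X).hom (c.π.app k.left) =
      (trIso (c.π.app k.left) (D.map k.hom) (c.π.app j) (c.w k.hom) X).hom.left ≫
        proj D c j X k := by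
  apply pullback.hom_ext
  · rw [Category.assoc, proj_fst, trIso_hom_left_fst]
  · rw [Category.assoc, proj_snd, trIso_hom_left_snd_assoc]
    exact pullback.condition

omit [IsCofiltered I] [∀ (i j : I) (f : i ⟶ j), IsAffineHom (D.map f)] in
/-- The transition map via the transitivity isomorphism. -/
lemma trIso_inv_fst_eq_trans (X : Over (D.obj j)) (k : Over j) (l : Over k.left) :
    (trIso (D.map l.hom) (D.map k.hom) (D.map (l.hom ≫ k.hom)) (D.map_comp _ _).symm X).inv.left ≫
      pullback.fst (Red.bc (D.map k.hom) X).hom (D.map l.hom) =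
      trans D j X (Over.homMk l.hom rfl : Over.mk (l.hom ≫ k.hom) ⟶ k) := by
  apply pullback.hom_ext
  · rw [Category.assoc, trIso_inv_left_fst, trans_fst]
    rfl
  · rw [Category.assoc, trans_snd]
    have h1 : pullback.fst (Red.bc (D.map k.hom) X).hom (D.map l.hom) ≫
        pullback.snd X.hom (D.map k.hom) =
        pullback.snd (Red.bc (D.map k.hom) X).hom (D.map l.hom) ≫ D.map l.hom :=
      pullback.condition
    rw [h1, trIso_inv_left_snd_assoc]
    rfl

include hc in
/-- **Surjectivity for homomorphisms.** -/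
theorem exists_hom_stage [∀ i, CompactSpace (D.obj i)] [∀ i, QuasiSeparatedSpace (D.obj i)]
    (Gj Hj : Over (D.obj j)) [GrpObj Gj] [GrpObj Hj]
    [QuasiCompact Gj.hom] [QuasiSeparated Gj.hom]
    [LocallyOfFinitePresentation Hj.hom]
    (u : Red.bc (c.π.app j) Gj ⟶ Red.bc (c.π.app j) Hj) (hu : IsMonHom u) :
    ∃ (i : I) (f : i ⟶ j) (ui : Red.bc (D.map f) Gj ⟶ Red.bc (D.map f) Hj), IsMonHom ui ∧
      (Over.pullback (c.π.app i)).map ui =
        (trIso (c.π.app i) (D.map f) (c.π.app j) (c.w f) Gj).hom ≫ u ≫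
          (trIso (c.π.app i) (D.map f) (c.π.app j) (c.w f) Hj).inv := by
  have cG : CompactSpace Gj.left := QuasiCompact.compactSpace_of_compactSpace Gj.hom
  have sG : QuasiSeparatedSpace Gj.left := quasiSeparatedSpace_of_quasiSeparated Gj.hom
  -- Step 1: descend the underlying morphism
  have ha : (u.left ≫ pullback.fst Hj.hom (c.π.app j)) ≫ Hj.hom =
      pullback.fst Gj.hom (c.π.app j) ≫ Gj.hom := by
    rw [Category.assoc, pullback.condition, pullback.condition]
    have := Over.w u
    simp only [Over.pullback_obj_hom] at this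
    rw [← Category.assoc, this]
  obtain ⟨k, θ, hθ1, hθ2⟩ := exists_proj_comp_eq D c hc j Hj.hom _ ha
  let uk : Red.bc (D.map k.hom) Gj ⟶ Red.bc (D.map k.hom) Hj := homOfElem (D.map k.hom) θ hθ1
  -- relation at stage `k`
  have hR : (Over.pullback (c.π.app k.left)).map uk ≫
      (trIso (c.π.app k.left) (D.map k.hom) (c.π.app j) (c.w k.hom) Hj).hom =
      (trIso (c.π.app k.left) (D.map k.hom) (c.π.app j) (c.w k.hom) Gj).hom ≫ u := by
    apply hom_bc_ext
    rw [Over.comp_left, Over.comp_left, Category.assoc, Category.assoc, trIso_hom_left_fst,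
      ← Category.assoc, map_left_fst, Category.assoc, homOfElem_left_fst, ← hθ2,
      fst_eq_trIso_hom_proj, Category.assoc]
  -- the base change of `uk` to the limit is a homomorphism
  have hv : IsMonHom ((Over.pullback (c.π.app k.left)).map uk) := by
    have e : (Over.pullback (c.π.app k.left)).map uk =
        (trIso (c.π.app k.left) (D.map k.hom) (c.π.app j) (c.w k.hom) Gj).hom ≫ u ≫
          (trIso (c.π.app k.left) (D.map k.hom) (c.π.app j) (c.w k.hom) Hj).inv := by
      rw [← Category.assoc, ← hR, Category.assoc, Iso.hom_inv_id, Category.comp_id]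
    rw [e]
    have h1 := isMonHom_trIso_hom (c.π.app k.left) (D.map k.hom) (c.π.app j) (c.w k.hom) Gj
    have h2 := isMonHom_trIso_inv (c.π.app k.left) (D.map k.hom) (c.π.app j) (c.w k.hom) Hj
    exact isMonHom_comp' (Y := Red.bc (c.π.app j) Gj) _ _ h1
      (isMonHom_comp' (Y := Red.bc (c.π.app j) Hj) _ _ hu h2)
  -- Step 2: multiplicativity descends
  have h2 := map_mul_hom_of_isMonHom (Over.pullback (c.π.app k.left)) uk hv
  have cGk : CompactSpace (Red.bc (D.map k.hom) Gj).left :=
    (QuasiCompact.compactSpace_of_compactSpace (pullback.snd Gj.hom (D.map k.hom)) :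
      CompactSpace ↥(pullback Gj.hom (D.map k.hom)))
  have cGG : CompactSpace (Red.bc (D.map k.hom) Gj ⊗ Red.bc (D.map k.hom) Gj).left :=
    (QuasiCompact.compactSpace_of_compactSpace
      (pullback.fst (Red.bc (D.map k.hom) Gj).hom (Red.bc (D.map k.hom) Gj).hom) :
      CompactSpace ↥(pullback (Red.bc (D.map k.hom) Gj).hom (Red.bc (D.map k.hom) Gj).hom))
  have lH : LocallyOfFiniteType (Red.bc (D.map k.hom) Hj).hom :=
    inferInstanceAs (LocallyOfFiniteType (pullback.snd Hj.hom (D.map k.hom)))
  obtain ⟨l, hl⟩ := exists_forall_map_eq D c hc k.left (μ ≫ uk) ((uk ⊗ₘ uk) ≫ μ) h2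
  have h4 : IsMonHom ((Over.pullback (D.map l.hom)).map uk) :=
    isMonHom_map_of_map_mul_hom _ uk (hl l (𝟙 l))
  -- Step 3: the homomorphism at stage `l`
  let trG := trIso (D.map l.hom) (D.map k.hom) (D.map (l.hom ≫ k.hom)) (D.map_comp _ _).symm Gj
  let trH := trIso (D.map l.hom) (D.map k.hom) (D.map (l.hom ≫ k.hom)) (D.map_comp _ _).symm Hj
  refine ⟨l.left, l.hom ≫ k.hom, trG.inv ≫ (Over.pullback (D.map l.hom)).map uk ≫ trH.hom, ?_, ?_⟩
  · have h1 := isMonHom_trIso_inv (D.map l.hom) (D.map k.hom) (D.map (l.hom ≫ k.hom))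
      (D.map_comp _ _).symm Gj
    have h3 := isMonHom_trIso_hom (D.map l.hom) (D.map k.hom) (D.map (l.hom ≫ k.hom))
      (D.map_comp _ _).symm Hj
    exact isMonHom_comp' (Y := Red.bc (D.map l.hom) (Red.bc (D.map k.hom) Gj)) _ _ h1
      (isMonHom_comp' (Y := Red.bc (D.map l.hom) (Red.bc (D.map k.hom) Hj)) _ _ h4 h3)
  · suffices hS : (Over.pullback (c.π.app l.left)).map
        (trG.inv ≫ (Over.pullback (D.map l.hom)).map uk ≫ trH.hom) ≫
        (trIso (c.π.app l.left) (D.map (l.hom ≫ k.hom)) (c.π.app j) (c.w _) Hj).hom =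
        (trIso (c.π.app l.left) (D.map (l.hom ≫ k.hom)) (c.π.app j) (c.w _) Gj).hom ≫ u by
      exact ((Iso.eq_comp_inv _).mpr hS).trans (Category.assoc _ _ _)
    apply hom_bc_ext
    have key : pullback.fst (Red.bc (D.map (l.hom ≫ k.hom)) Gj).hom (c.π.app l.left) ≫
        trG.inv.left ≫ pullback.fst (Red.bc (D.map k.hom) Gj).hom (D.map l.hom) =
        (trIso (c.π.app l.left) (D.map (l.hom ≫ k.hom)) (c.π.app j) (c.w _) Gj).hom.left ≫
          proj D c j Gj k := by
      rw [trIso_inv_fst_eq_trans D j Gj k l]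
      have e1 : pullback.fst (Red.bc (D.map (l.hom ≫ k.hom)) Gj).hom (c.π.app l.left) =
          (trIso (c.π.app l.left) (D.map (l.hom ≫ k.hom)) (c.π.app j) (c.w _) Gj).hom.left ≫
            proj D c j Gj (Over.mk (l.hom ≫ k.hom)) :=
        fst_eq_trIso_hom_proj D c j Gj (Over.mk (l.hom ≫ k.hom))
      rw [e1, Category.assoc]
      congr 1
      exact (StageSetup.cE D c j Gj.hom (pullback.snd Gj.hom (c.π.app j)) (pullback.fst Gj.hom (c.π.app j))
        (IsPullback.of_hasPullback _ _)).w (Over.homMk l.hom rfl : Over.mk (l.hom ≫ k.hom) ⟶ k)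
    rw [Over.comp_left, Over.comp_left, Category.assoc, Category.assoc, trIso_hom_left_fst,
      ← Category.assoc, map_left_fst, Category.assoc]
    simp only [Over.comp_left, Category.assoc]
    rw [trIso_hom_left_fst, ← Category.assoc ((Over.pullback (D.map l.hom)).map uk).left,
      map_left_fst, Category.assoc, homOfElem_left_fst, ← hθ2, reassoc_of% key]

end Groth.Agent.Lib.Helper50.OverLim
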