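import Groth.Agent.Lib.Helper50.OverLimHom2

/-!
# Morphisms over the limit come from all small stages (Over form)
-/

set_option autoImplicit false
universe u
open CategoryTheory AlgebraicGeometry Limits

namespace Groth.Agent.Lib.Helper50.OverLim

open Groth.Agent.Lib.Helper7.OverBC

section

variable {S S' S'' : Scheme.{u}}

/-- The transitivity isomorphism as a natural isomorphism. -/
noncomputable def trNat (f : S'' ⟶ S') (g : S' ⟶ S) (k : S'' ⟶ S) (h : f ≫ g = k) :
    Over.pullback g ⋙ Over.pullback f ≅ Over.pullback k :=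
  (Over.pullbackComp f g).symm ≪≫ eqToIso (congrArg (fun φ => Over.pullback φ) h)

lemma trNat_hom_app (f : S'' ⟶ S') (g : S' ⟶ S) (k : S'' ⟶ S) (h : f ≫ g = k) (X : Over S) :
    (trNat f g k h).hom.app X = (trIso f g k h X).hom := by
  subst h
  simp [trNat, trIso]

lemma trNat_inv_app (f : S'' ⟶ S') (g : S' ⟶ S) (k : S'' ⟶ S) (h : f ≫ g = k) (X : Over S) :
    (trNat f g k h).inv.app X = (trIso f g k h X).inv := by
  subst h
  simp [trNat, trIso]

end

variable {I : Type u} [SmallCategory I] [IsCofiltered I]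
    (D : I ⥤ Scheme.{u}) (c : Limits.Cone D) (hc : Limits.IsLimit c)
    [∀ (i j : I) (f : i ⟶ j), IsAffineHom (D.map f)] (j : I)

include hc in
/-- **Surjectivity** (Over form, eventual): a morphism between the base changes to the limit is
induced, via the transitivity isomorphisms, by a morphism at every sufficiently small stage. -/
theorem exists_forall_hom_stage (X Y : Over (D.obj j)) [CompactSpace X.left]
    [QuasiSeparatedSpace X.left] [LocallyOfFinitePresentation Y.hom]
    (ψ : Red.bc (c.π.app j) X ⟶ Red.bc (c.π.app j) Y) :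
    ∃ k : Over j, ∀ (k' : Over j) (_ : k' ⟶ k),
      ∃ ψk : Red.bc (D.map k'.hom) X ⟶ Red.bc (D.map k'.hom) Y,
        (Over.pullback (c.π.app k'.left)).map ψk ≫
          (trIso (c.π.app k'.left) (D.map k'.hom) (c.π.app j) (c.w k'.hom) Y).hom =
        (trIso (c.π.app k'.left) (D.map k'.hom) (c.π.app j) (c.w k'.hom) X).hom ≫ ψ := by
  have ha : (ψ.left ≫ pullback.fst Y.hom (c.π.app j)) ≫ Y.hom =
      pullback.fst X.hom (c.π.app j) ≫ X.hom := by
    rw [Category.assoc, pullback.condition, pullback.condition]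
    have := Over.w ψ
    simp only [Over.pullback_obj_hom] at this
    rw [← Category.assoc, this]
  obtain ⟨k, θ, hθ1, hθ2⟩ := exists_proj_comp_eq D c hc j Y.hom _ ha
  refine ⟨k, fun k' φ ↦ ?_⟩
  have hθ1' : (trans D j X φ ≫ θ) ≫ Y.hom = pullback.fst X.hom (D.map k'.hom) ≫ X.hom := by
    rw [Category.assoc, hθ1, trans_fst_assoc]
  have hθ2' : proj D c j X k' ≫ trans D j X φ ≫ θ =
      ψ.left ≫ pullback.fst Y.hom (c.π.app j) := by
    rw [← hθ2, ← Category.assoc]
    congr 1
    exact (StageSetup.cE D c j X.hom (pullback.snd X.hom (c.π.app j))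
      (pullback.fst X.hom (c.π.app j)) (IsPullback.of_hasPullback _ _)).w φ
  refine ⟨homOfElem (D.map k'.hom) _ hθ1', ?_⟩
  apply hom_bc_ext
  rw [Over.comp_left, Over.comp_left, Category.assoc, Category.assoc, trIso_hom_left_fst,
    ← Category.assoc, map_left_fst, Category.assoc, homOfElem_left_fst, ← hθ2',
    fst_eq_trIso_hom_proj, Category.assoc]

end Groth.Agent.Lib.Helper50.OverLim
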