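import Groth.Agent.Lib.Helper50.OverLimHom
import Groth.Agent.Lib.Helper50.OverLimCentral
import Groth.Agent.Lib.Helper50.SubGrpStage

/-!
# Isomorphisms over a limit of schemes descend to a stage (Over form)
-/

set_option autoImplicit false
universe u

namespace Groth.Agent.Lib.Helper50.SubGrpFunctor

open CategoryTheory CategoryTheory.Limits MonoidalCategory CartesianMonoidalCategory MonObj
open Functor.LaxMonoidal Functor.OplaxMonoidal Functor.Monoidal

variable {C D : Type*} [Category C] [Category D] [CartesianMonoidalCategory C]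
  [CartesianMonoidalCategory D] (F : C ⥤ D) [F.Monoidal]

lemma lift_μ_map_snd_comp_μ {G X : C} (act : G ⊗ X ⟶ X) :
    lift (Functor.LaxMonoidal.μ F G X ≫ F.map act) (snd (F.obj G) (F.obj X)) ≫
      Functor.LaxMonoidal.μ F X X =
      Functor.LaxMonoidal.μ F G X ≫ F.map (lift act (snd G X)) := by
  rw [← lift_μ, ← Category.assoc, comp_lift, μ_snd]

lemma isIso_lift_iff {G X : C} (act : G ⊗ X ⟶ X) :
    IsIso (lift (Functor.LaxMonoidal.μ F G X ≫ F.map act) (snd (F.obj G) (F.obj X))) ↔
      IsIso (F.map (lift act (snd G X))) := by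
  have h := lift_μ_map_snd_comp_μ F act
  constructor
  · intro hi
    have e : F.map (lift act (snd G X)) = inv (Functor.LaxMonoidal.μ F G X) ≫
        lift (Functor.LaxMonoidal.μ F G X ≫ F.map act) (snd (F.obj G) (F.obj X)) ≫
          Functor.LaxMonoidal.μ F X X := by
      rw [h, IsIso.inv_hom_id_assoc]
    rw [e]
    infer_instance
  · intro hi
    have e : lift (Functor.LaxMonoidal.μ F G X ≫ F.map act) (snd (F.obj G) (F.obj X)) =
        (Functor.LaxMonoidal.μ F G X ≫ F.map (lift act (snd G X))) ≫
          inv (Functor.LaxMonoidal.μ F X X) := by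
      rw [← h, Category.assoc, IsIso.hom_inv_id, Category.comp_id]
    rw [e]
    infer_instance

section transport

variable {C' D' : Type*} [Category C'] [Category D'] {F₁ F₂ : C' ⥤ D'} (α : F₁ ≅ F₂)

include α in
lemma isIso_of_natIso {X Y : C'} (a : X ⟶ Y) (h : IsIso (F₁.map a)) : IsIso (F₂.map a) := by
  have e : F₂.map a = α.inv.app X ≫ F₁.map a ≫ α.hom.app Y := by
    rw [α.hom.naturality, Iso.inv_hom_id_app_assoc]
  rw [e]
  infer_instance

end transport

end Groth.Agent.Lib.Helper50.SubGrpFunctor

namespace Groth.Agent.Lib.Helper50.OverLim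

open CategoryTheory AlgebraicGeometry Limits
open Groth.Agent.Lib.Helper50 Groth.Agent.Lib.Helper50.StageSetup Groth.Agent.Lib.Helper7.OverBC

lemma isIso_map_iff {S S' : Scheme.{u}} (f : S' ⟶ S) {X Y : Over S} (a : X ⟶ Y) :
    IsIso ((Over.pullback f).map a) ↔
      IsIso (pullback.snd a.left (pullback.fst Y.hom f)) := by
  have hp := isPullback_map_left f a
  have e : ((Over.pullback f).map a).left =
      hp.isoPullback.hom ≫ pullback.snd a.left (pullback.fst Y.hom f) :=
    (hp.isoPullback_hom_snd).symm
  constructor
  · intro h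
    have h' : IsIso ((Over.pullback f).map a).left := isIso_left _
    have e' : pullback.snd a.left (pullback.fst Y.hom f) =
        hp.isoPullback.inv ≫ ((Over.pullback f).map a).left :=
      (hp.isoPullback_inv_snd).symm
    rw [e']
    infer_instance
  · intro h
    have h' : IsIso ((Over.pullback f).map a).left := by
      rw [e]
      infer_instance
    have : IsIso ((Over.forget S').map ((Over.pullback f).map a)) := h'
    exact isIso_of_reflects_iso _ (Over.forget S')

variable {I : Type u} [SmallCategory I] [IsCofiltered I]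
    (D : I ⥤ Scheme.{u}) (c : Limits.Cone D) (hc : Limits.IsLimit c)
    [∀ (i j : I) (f : i ⟶ j), IsAffineHom (D.map f)] (j : I)

include hc in
/-- A morphism over a stage whose base change to the limit is an isomorphism has isomorphic
base change at all sufficiently small stages. -/
theorem exists_forall_isIso_map {X Y : Over (D.obj j)} (a : X ⟶ Y) [CompactSpace X.left]
    [CompactSpace Y.left] [QuasiSeparatedSpace Y.left] [LocallyOfFinitePresentation a.left]
    (h : IsIso ((Over.pullback (c.π.app j)).map a)) :
    ∃ k : Over j, ∀ (k' : Over j) (_ : k' ⟶ k), IsIso ((Over.pullback (D.map k'.hom)).map a) := by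
  have h' : IsIso ((Over.pullback (c.π.app j)).map a).left := isIso_left _
  obtain ⟨k, hk⟩ := exists_forall_isIso_τ D c hc j a.left Y.hom
    ((Over.pullback (c.π.app j)).map a).left (pullback.snd Y.hom (c.π.app j))
    (pullback.fst Y.hom (c.π.app j)) (pullback.fst X.hom (c.π.app j))
    (IsPullback.of_hasPullback _ _) (isPullback_map_left (c.π.app j) a)
  refine ⟨k, fun k' φ ↦ ?_⟩
  rw [isIso_map_iff]
  exact hk k' φ

end Groth.Agent.Lib.Helper50.OverLim
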