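import Mathlib

open CategoryTheory CategoryTheory.Limits AlgebraicGeometry Opposite

universe u

namespace Groth.Agent.Lib.Helper50.PiSpec

/-- A compact open of `Spec (∏ R i)` containing the image of each `Spec (R i)` is everything. -/
theorem eq_univ_of_forall_comap_mem {ι : Type*} (R : ι → Type*) [∀ i, CommRing (R i)]
    (W : Set (PrimeSpectrum (∀ i, R i))) (hW : IsCompact W) (hW' : IsOpen W)
    (h : ∀ i (p : PrimeSpectrum (R i)), PrimeSpectrum.comap (Pi.evalRingHom R i) p ∈ W) :
    W = Set.univ := by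
  obtain ⟨t, rfl⟩ := PrimeSpectrum.isCompact_isOpen_iff.1 ⟨hW, hW'⟩
  have hspan : ∀ i, Ideal.span (Set.range fun x : t => (x : ∀ i, R i) i) = ⊤ := by
    intro i
    by_contra hne
    obtain ⟨M, hM, hle⟩ := Ideal.exists_le_maximal _ hne
    have hp := h i ⟨M, hM.isPrime⟩
    apply hp
    rw [PrimeSpectrum.mem_zeroLocus]
    intro x hx
    have : x i ∈ Ideal.span (Set.range fun x : t => (x : ∀ i, R i) i) :=
      Ideal.subset_span ⟨⟨x, hx⟩, rfl⟩
    exact hle this
  have hc : ∀ i, ∃ c : t → R i, ∑ x : t, c x • ((x : ∀ i, R i) i) = 1 := by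
    intro i
    have h1 : (1 : R i) ∈ Ideal.span (Set.range fun x : t => (x : ∀ i, R i) i) := by
      rw [hspan i]; trivial
    exact (Submodule.mem_span_range_iff_exists_fun _).1 h1
  choose c hc using hc
  have h1 : (1 : ∀ i, R i) ∈ Ideal.span (t : Set (∀ i, R i)) := by
    have : (1 : ∀ i, R i) = ∑ x : t, (fun i => c i x) * (x : ∀ i, R i) := by
      funext i
      rw [Finset.sum_apply]
      simpa [smul_eq_mul] using (hc i).symm
    rw [this]
    exact Ideal.sum_mem _ fun x _ => Ideal.mul_mem_left _ _ (Ideal.subset_span x.2)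
  have h2 : Ideal.span (t : Set (∀ i, R i)) = ⊤ := (Ideal.eq_top_iff_one _).2 h1
  rw [← PrimeSpectrum.zeroLocus_span, h2]
  simp

end Groth.Agent.Lib.Helper50.PiSpec

namespace Groth.Agent.Lib.Helper50.PiSpec

/-- the canonical map `Spec (A i) ⟶ Spec (∏ A i)` -/
noncomputable abbrev piι {ι : Type u} (A : ι → CommRingCat.{u}) (i : ι) :
    Spec (A i) ⟶ Spec (CommRingCat.of (∀ i, A i)) :=
  Spec.map (CommRingCat.ofHom (Pi.evalRingHom (fun j => (A j : Type u)) i))

theorem piι_appTop_injective {ι : Type u} (A : ι → CommRingCat.{u})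
    (x : Γ(Spec (CommRingCat.of (∀ i, A i)), ⊤))
    (h : ∀ i, (piι A i).appTop x = 0) : x = 0 := by
  have hx : (Scheme.ΓSpecIso (CommRingCat.of (∀ i, A i))).hom x = 0 := by
    funext i
    have h1 := h i
    have h2 := congrArg (fun φ => φ.hom x)
      (Scheme.ΓSpecIso_naturality (CommRingCat.ofHom (Pi.evalRingHom (fun j => (A j : Type u)) i)))
    simp only [CommRingCat.hom_comp, RingHom.comp_apply] at h2
    have h3 : (Scheme.ΓSpecIso (A i)).hom ((piι A i).appTop x) = 0 := by rw [h1, map_zero]
    exact h2.symm.trans h3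
  have := congrArg (Scheme.ΓSpecIso (CommRingCat.of (∀ i, A i))).inv hx
  simpa using this

/-- Two morphisms from `Spec (∏ A i)` to a quasi-separated scheme agreeing on each `Spec (A i)`
are equal. -/
theorem hom_ext_pi {X : Scheme.{u}} [QuasiSeparatedSpace X] {ι : Type u} (A : ι → CommRingCat.{u})
    (f g : Spec (CommRingCat.of (∀ i, A i)) ⟶ X)
    (h : ∀ i, piι A i ≫ f = piι A i ≫ g) : f = g := by
  let e := equalizer.ι f g
  let s : ∀ i, Spec (A i) ⟶ equalizer f g := fun i => equalizer.lift (piι A i) (h i)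
  have hs : ∀ i, s i ≫ e = piι A i := fun i => equalizer.lift_ι _ _
  obtain ⟨Z, g₁, g₂, hg₁, hg₂, hfac⟩ :=
    (IsImmersion.isImmersion_iff_exists_of_quasiCompact (f := e)).1 inferInstance
  have hiso : IsIso g₂ := by
    apply IsClosedImmersion.isIso_of_injective_of_isAffine
    rw [injective_iff_map_eq_zero]
    intro x hx
    apply piι_appTop_injective A x
    intro i
    rw [← hs i, ← hfac]
    simp only [Scheme.Hom.comp_appTop, CommRingCat.hom_comp, RingHom.comp_apply]
    rw [hx, map_zero, map_zero]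
  have hopen : IsOpenImmersion e := by rw [← hfac]; infer_instance
  have : CompactSpace ↥(equalizer f g : Scheme.{u}) := QuasiCompact.compactSpace_of_compactSpace e
  have htop : e.opensRange = ⊤ := by
    apply TopologicalSpace.Opens.ext
    apply eq_univ_of_forall_comap_mem (fun i => (A i : Type u)) _ (isCompact_range e.continuous)
      e.opensRange.2
    intro i p
    refine ⟨(s i) p, ?_⟩
    have := congrArg (fun φ => φ p) (hs i)
    exact this
  have : IsIso e := isIso_of_isOpenImmersion_of_opensRange_eq_top e htop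
  exact (cancel_epi e).1 (equalizer.condition f g)

end Groth.Agent.Lib.Helper50.PiSpec
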