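import Mathlib
import Groth.Agent.Lib.Helper50.PiSpecInj

open CategoryTheory CategoryTheory.Limits AlgebraicGeometry Opposite

universe u

namespace Groth.Agent.Lib.Helper50.PiSpec

/-- Affine case of surjectivity. -/
theorem exists_of_isAffine {X : Scheme.{u}} [IsAffine X] {ι : Type u} (A : ι → CommRingCat.{u})
    (f : ∀ i, Spec (A i) ⟶ X) :
    ∃ F : Spec (CommRingCat.of (∀ i, A i)) ⟶ X, ∀ i, piι A i ≫ F = f i := by
  let φ : ∀ i, Γ(X, ⊤) ⟶ A i := fun i => (f i).appTop ≫ (Scheme.ΓSpecIso (A i)).hom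
  let Φ : Γ(X, ⊤) ⟶ CommRingCat.of (∀ i, A i) :=
    CommRingCat.ofHom (Pi.ringHom fun i => (φ i).hom)
  refine ⟨Spec.map Φ ≫ X.isoSpec.inv, fun i => ?_⟩
  have h1 : Φ ≫ CommRingCat.ofHom (Pi.evalRingHom (fun j => (A j : Type u)) i) = φ i := by
    ext x; rfl
  rw [piι, ← Category.assoc, ← Spec.map_comp, h1]
  simp only [φ, Spec.map_comp, Category.assoc]
  rw [Scheme.isoSpec_inv_naturality, ← Category.assoc]
  simp [← Spec.map_comp]

end Groth.Agent.Lib.Helper50.PiSpec
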