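import Mathlib

open CategoryTheory CategoryTheory.Limits AlgebraicGeometry Opposite

universe u

namespace Groth.Agent.Lib.Helper50.PiSpec

/-- two-object family -/
def obj₂ (Y₁ Y₂ : Scheme.{u}) : ULift.{u} Bool → Scheme.{u}
  | ⟨true⟩ => Y₁
  | ⟨false⟩ => Y₂

def map₂ {Y Y₁ Y₂ : Scheme.{u}} (π₁ : Y₁ ⟶ Y) (π₂ : Y₂ ⟶ Y) :
    (i : ULift.{u} Bool) → obj₂ Y₁ Y₂ i ⟶ Y
  | ⟨true⟩ => π₁
  | ⟨false⟩ => π₂

/-- fpqc gluing along two flat quasi-compact monomorphisms that jointly cover. -/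
theorem exists_desc_of_two {Y Y₁ Y₂ X : Scheme.{u}} (π₁ : Y₁ ⟶ Y) (π₂ : Y₂ ⟶ Y)
    [Flat π₁] [Flat π₂] [QuasiCompact π₁] [QuasiCompact π₂] [Mono π₁] [Mono π₂]
    (hsurj : ∀ y : Y, y ∈ Set.range π₁ ∨ y ∈ Set.range π₂)
    (g₁ : Y₁ ⟶ X) (g₂ : Y₂ ⟶ X)
    (h : ∀ (Z : Scheme.{u}) (t₁ : Z ⟶ Y₁) (t₂ : Z ⟶ Y₂),
      t₁ ≫ π₁ = t₂ ≫ π₂ → t₁ ≫ g₁ = t₂ ≫ g₂) :
    ∃ f : Y ⟶ X, π₁ ≫ f = g₁ ∧ π₂ ≫ f = g₂ := by
  have hflat : ∀ i, Flat (map₂ π₁ π₂ i) := by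
    rintro ⟨_ | _⟩
    · exact ‹Flat π₂›
    · exact ‹Flat π₁›
  have hqc : ∀ i, QuasiCompact (map₂ π₁ π₂ i) := by
    rintro ⟨_ | _⟩
    · exact ‹QuasiCompact π₂›
    · exact ‹QuasiCompact π₁›
  let 𝒰 : Scheme.Cover.{u} (Scheme.precoverage @Flat) Y :=
    Scheme.Cover.mkOfCovers (ULift.{u} Bool) (obj₂ Y₁ Y₂) (map₂ π₁ π₂) (by
      intro y
      rcases hsurj y with ⟨z, hz⟩ | ⟨z, hz⟩
      · exact ⟨⟨true⟩, z, hz⟩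
      · exact ⟨⟨false⟩, z, hz⟩) hflat
  have : ∀ i, QuasiCompact (𝒰.f i) := hqc
  have : Finite 𝒰.I₀ := inferInstanceAs (Finite (ULift.{u} Bool))
  have hmem := Scheme.Cover.mem_propQCTopology 𝒰
  have hsheaf : Presieve.IsSheaf Scheme.fpqcTopology (yoneda.obj X) :=
    GrothendieckTopology.Subcanonical.isSheaf_of_isRepresentable _
  have h1 := hsheaf _ hmem
  rw [Sieve.ofArrows, ← Presieve.isSheafFor_iff_generate, Presieve.isSheafFor_arrows_iff] at h1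
  let x : (i : ULift.{u} Bool) → (yoneda.obj X).obj (op (𝒰.X i)) := fun i =>
    match i with
    | ⟨true⟩ => g₁
    | ⟨false⟩ => g₂
  obtain ⟨t, ht, -⟩ := h1 x (by
    rintro ⟨_ | _⟩ ⟨_ | _⟩ Z gi gj hij
    · change gi ≫ g₂ = gj ≫ g₂
      have : gi = gj := (cancel_mono π₂).1 hij
      rw [this]
    · exact (h Z gj gi hij.symm).symm
    · exact h Z gi gj hij
    · change gi ≫ g₁ = gj ≫ g₁
      have : gi = gj := (cancel_mono π₁).1 hij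
      rw [this])
  exact ⟨t, ht ⟨true⟩, ht ⟨false⟩⟩

end Groth.Agent.Lib.Helper50.PiSpec
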