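import Mathlib
import Groth.Agent.Lib.Helper50.PiSpecInj
import Groth.Agent.Lib.Helper50.PiSpecDesc

open CategoryTheory CategoryTheory.Limits AlgebraicGeometry Opposite

universe u

namespace Groth.Agent.Lib.Helper50.PiSpec

variable {ι : Type u} (A : ι → CommRingCat.{u}) (a : ∀ i, A i)

/-- the family of localizations -/
abbrev locFam : ι → CommRingCat.{u} := fun i => CommRingCat.of (Localization.Away (a i))

/-- the multiplicative set of families of powers -/
abbrev powSub : Submonoid (∀ i, A i) := Submonoid.pi Set.univ fun i => Submonoid.powers (a i)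

instance isLocalization_powSub : IsLocalization (powSub A a) (∀ i, locFam A a i) :=
  inferInstanceAs (IsLocalization (Submonoid.pi Set.univ fun i => Submonoid.powers (a i))
    (∀ i, Localization.Away (a i)))

/-- `∏ A i ⟶ ∏ (A i)_{a i}` -/
noncomputable abbrev locPiHom :
    CommRingCat.of (∀ i, A i) ⟶ CommRingCat.of (∀ i, locFam A a i) :=
  CommRingCat.ofHom (algebraMap (∀ i, A i) (∀ i, locFam A a i))

/-- `Spec ∏ (A i)_{a i} ⟶ Spec ∏ A i` -/
noncomputable abbrev locPiπ :
    Spec (CommRingCat.of (∀ i, locFam A a i)) ⟶ Spec (CommRingCat.of (∀ i, A i)) :=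
  Spec.map (locPiHom A a)

instance flat_locPiπ : Flat (locPiπ A a) := by
  rw [locPiπ, HasRingHomProperty.Spec_iff (P := @Flat)]
  simp only [locPiHom, CommRingCat.hom_ofHom]
  rw [RingHom.flat_algebraMap_iff]
  exact IsLocalization.flat _ (powSub A a)

instance mono_locPiπ : Mono (locPiπ A a) := by
  have : Epi (locPiHom A a) := IsLocalization.epi (powSub A a) _
  have : Mono (locPiHom A a).op := inferInstance
  exact (inferInstance : Mono (Scheme.Spec.map (locPiHom A a).op))

instance quasiCompact_locPiπ : QuasiCompact (locPiπ A a) := inferInstance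

theorem piι_locPiπ (i : ι) :
    piι (locFam A a) i ≫ locPiπ A a =
      Spec.map (CommRingCat.ofHom (algebraMap (A i) (Localization.Away (a i)))) ≫ piι A i := by
  rw [piι, piι, locPiπ, ← Spec.map_comp, ← Spec.map_comp]
  rfl

theorem range_union (b : ∀ i, A i) (hab : ∀ i, a i + b i = 1)
    (y : Spec (CommRingCat.of (∀ i, A i))) :
    y ∈ Set.range (locPiπ A a) ∨ y ∈ Set.range (locPiπ A b) := by
  change y ∈ Set.range (PrimeSpectrum.comap (algebraMap (∀ i, A i) (∀ i, locFam A a i))) ∨
    y ∈ Set.range (PrimeSpectrum.comap (algebraMap (∀ i, A i) (∀ i, locFam A b i)))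
  rw [PrimeSpectrum.localization_comap_range _ (powSub A a),
    PrimeSpectrum.localization_comap_range _ (powSub A b)]
  by_contra hcon
  rw [not_or] at hcon
  obtain ⟨hc1, hc2⟩ := hcon
  have hc1' : ¬ Disjoint (powSub A a : Set (∀ i, A i)) (PrimeSpectrum.asIdeal y) := hc1
  have hc2' : ¬ Disjoint (powSub A b : Set (∀ i, A i)) (PrimeSpectrum.asIdeal y) := hc2
  rw [Set.not_disjoint_iff] at hc1' hc2'
  obtain ⟨α, hα, hαy⟩ := hc1'
  obtain ⟨β, hβ, hβy⟩ := hc2'
  have huv : ∀ i, ∃ u v : A i, u * α i + v * β i = 1 := by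
    intro i
    obtain ⟨m, hm⟩ := hα i (Set.mem_univ i)
    obtain ⟨n, hn⟩ := hβ i (Set.mem_univ i)
    have hc : IsCoprime (a i) (b i) := ⟨1, 1, by simpa using hab i⟩
    have := hc.pow (m := m) (n := n)
    obtain ⟨u, v, huv⟩ := this
    refine ⟨u, v, ?_⟩
    rw [← huv]
    simp only at hm hn
    rw [← hm, ← hn]
  choose u v huv using huv
  have h1 : (1 : ∀ i, A i) = u * α + v * β := by
    funext i
    simpa using (huv i).symm
  have : (1 : ∀ i, A i) ∈ (PrimeSpectrum.asIdeal y) := by
    rw [h1]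
    exact Ideal.add_mem _ (Ideal.mul_mem_left _ _ hαy) (Ideal.mul_mem_left _ _ hβy)
  exact (PrimeSpectrum.isPrime y).ne_top ((Ideal.eq_top_iff_one _).2 this)

end Groth.Agent.Lib.Helper50.PiSpec
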