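import Mathlib
import Groth.Agent.Lib.Helper50.PiSpecLoc

open CategoryTheory CategoryTheory.Limits AlgebraicGeometry Opposite

universe u

namespace Groth.Agent.Lib.Helper50.PiSpec

variable {ι : Type u} (A : ι → CommRingCat.{u}) (a b : ∀ i, A i)

/-- image of `a` in the `b`-localizations -/
noncomputable abbrev aIn : ∀ i, locFam A b i :=
  fun i => algebraMap (A i) (Localization.Away (b i)) (a i)

/-- the map `(A i)_{a i} → ((A i)_{b i})_{a i}` -/
noncomputable def liftAB (i : ι) :
    Localization.Away (a i) →+* Localization.Away (aIn A a b i) :=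
  IsLocalization.Away.lift (a i)
    (g := (algebraMap (Localization.Away (b i)) (Localization.Away (aIn A a b i))).comp
      (algebraMap (A i) (Localization.Away (b i))))
    (by
      simpa using IsLocalization.Away.algebraMap_isUnit (S := Localization.Away (aIn A a b i))
        (aIn A a b i))

theorem liftAB_comp (i : ι) :
    (liftAB A a b i).comp (algebraMap (A i) (Localization.Away (a i))) =
      (algebraMap (Localization.Away (b i)) (Localization.Away (aIn A a b i))).comp
        (algebraMap (A i) (Localization.Away (b i))) :=
  IsLocalization.Away.lift_comp _ _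

/-- the product of the maps `liftAB` -/
noncomputable def liftPi :
    (∀ i, locFam A a i) →+* (∀ i, locFam (locFam A b) (aIn A a b) i) :=
  Pi.ringHom fun i => (liftAB A a b i).comp (Pi.evalRingHom (fun i => (locFam A a i : Type u)) i)

theorem map_powSub :
    (powSub A a).map (algebraMap (∀ i, A i) (∀ i, locFam A b i)) =
      powSub (locFam A b) (aIn A a b) := by
  ext y
  simp only [Submonoid.mem_map, Submonoid.mem_pi]
  constructor
  · rintro ⟨x, hx, rfl⟩ i hi
    obtain ⟨n, hn⟩ := hx i hi
    refine ⟨n, ?_⟩
    simp only at hn
    change (algebraMap (A i) (Localization.Away (b i)) (a i)) ^ n =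
      algebraMap (A i) (Localization.Away (b i)) (x i)
    rw [← hn, map_pow]
  · intro hy
    choose n hn using fun i => hy i (Set.mem_univ i)
    refine ⟨fun i => a i ^ n i, fun i _ => ⟨n i, rfl⟩, funext fun i => ?_⟩
    change algebraMap (A i) (Localization.Away (b i)) (a i ^ n i) = y i
    rw [map_pow]
    exact hn i

theorem isPullback_loc :
    IsPullback (locPiπ (locFam A b) (aIn A a b)) (Spec.map (CommRingCat.ofHom (liftPi A a b)))
      (locPiπ A b) (locPiπ A a) := by
  have : IsLocalization ((powSub A a).map (algebraMap (∀ i, A i) (∀ i, locFam A b i)))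
      (∀ i, locFam (locFam A b) (aIn A a b) i) := by
    rw [map_powSub]; infer_instance
  have H : (liftPi A a b).comp (algebraMap (∀ i, A i) (∀ i, locFam A a i)) =
      (algebraMap (∀ i, locFam A b i) (∀ i, locFam (locFam A b) (aIn A a b) i)).comp
        (algebraMap (∀ i, A i) (∀ i, locFam A b i)) := by
    ext x i
    exact congrArg (fun φ => φ (x i)) (liftAB_comp A a b i)
  exact isPullback_SpecMap_of_isPushout _ _ _ _
    (CommRingCat.isPushout_of_isLocalization _ _ H (powSub A a))

end Groth.Agent.Lib.Helper50.PiSpec
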