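import Mathlib
import Groth.Agent.Lib.Helper50.PiSpecStep

open CategoryTheory CategoryTheory.Limits AlgebraicGeometry Opposite

universe u

namespace Groth.Agent.Lib.Helper50.PiSpec

variable {ι : Type u} (A : ι → CommRingCat.{u}) (a b : ∀ i, A i)

theorem compat {X : Scheme.{u}} [QuasiSeparatedSpace X] (f : ∀ i, Spec (A i) ⟶ X)
    (xa : Spec (CommRingCat.of (∀ i, locFam A a i)) ⟶ X)
    (hxa : ∀ i, piι (locFam A a) i ≫ xa =
      Spec.map (CommRingCat.ofHom (algebraMap (A i) (Localization.Away (a i)))) ≫ f i)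
    (xb : Spec (CommRingCat.of (∀ i, locFam A b i)) ⟶ X)
    (hxb : ∀ i, piι (locFam A b) i ≫ xb =
      Spec.map (CommRingCat.ofHom (algebraMap (A i) (Localization.Away (b i)))) ≫ f i) :
    Spec.map (CommRingCat.ofHom (liftPi A a b)) ≫ xa =
      locPiπ (locFam A b) (aIn A a b) ≫ xb := by
  apply hom_ext_pi (locFam (locFam A b) (aIn A a b))
  intro i
  have h1 : piι (locFam (locFam A b) (aIn A a b)) i ≫
      Spec.map (CommRingCat.ofHom (liftPi A a b)) =
      Spec.map (CommRingCat.ofHom (liftAB A a b i)) ≫ piι (locFam A a) i := by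
    rw [piι, piι, ← Spec.map_comp, ← Spec.map_comp]; rfl
  rw [← Category.assoc, h1, Category.assoc, hxa,
    ← Category.assoc (piι (locFam (locFam A b) (aIn A a b)) i), piι_locPiπ, Category.assoc, hxb]
  rw [← Category.assoc, ← Category.assoc, ← Spec.map_comp, ← Spec.map_comp]
  congr 2
  ext x
  exact congrArg (fun φ => φ x) (liftAB_comp A a b i)

theorem exists_of_loc {X : Scheme.{u}} [QuasiSeparatedSpace X] (hab : ∀ i, a i + b i = 1)
    (f : ∀ i, Spec (A i) ⟶ X)
    (xa : Spec (CommRingCat.of (∀ i, locFam A a i)) ⟶ X)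
    (hxa : ∀ i, piι (locFam A a) i ≫ xa =
      Spec.map (CommRingCat.ofHom (algebraMap (A i) (Localization.Away (a i)))) ≫ f i)
    (xb : Spec (CommRingCat.of (∀ i, locFam A b i)) ⟶ X)
    (hxb : ∀ i, piι (locFam A b) i ≫ xb =
      Spec.map (CommRingCat.ofHom (algebraMap (A i) (Localization.Away (b i)))) ≫ f i) :
    ∃ F : Spec (CommRingCat.of (∀ i, A i)) ⟶ X, ∀ i, piι A i ≫ F = f i := by
  obtain ⟨F, hFa, hFb⟩ := exists_desc_of_two (locPiπ A a) (locPiπ A b)
    (range_union A a b hab) xa xb (by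
      intro Z t₁ t₂ ht
      obtain ⟨l, hl₁, hl₂⟩ : ∃ l, l ≫ locPiπ (locFam A b) (aIn A a b) = t₂ ∧
          l ≫ Spec.map (CommRingCat.ofHom (liftPi A a b)) = t₁ :=
        ⟨_, (isPullback_loc A a b).lift_fst t₂ t₁ ht.symm,
          (isPullback_loc A a b).lift_snd t₂ t₁ ht.symm⟩
      rw [← hl₁, ← hl₂, Category.assoc, Category.assoc, compat A a b f xa hxa xb hxb])
  refine ⟨F, fun i => ?_⟩
  let s : Bool → A i := fun j => if j then a i else b i
  have hs : Ideal.span (Set.range s) = ⊤ := by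
    rw [Ideal.eq_top_iff_one, ← hab i]
    exact Ideal.add_mem _ (Ideal.subset_span ⟨true, rfl⟩) (Ideal.subset_span ⟨false, rfl⟩)
  apply (Scheme.affineOpenCoverOfSpanRangeEqTop s hs).openCover.hom_ext
  rintro (_ | _)
  · change Spec.map (CommRingCat.ofHom (algebraMap (A i) (Localization.Away (b i)))) ≫ _ = _
    rw [← Category.assoc, ← piι_locPiπ, Category.assoc, hFb, hxb]
    rfl
  · change Spec.map (CommRingCat.ofHom (algebraMap (A i) (Localization.Away (a i)))) ≫ _ = _
    rw [← Category.assoc, ← piι_locPiπ, Category.assoc, hFa, hxa]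
    rfl

end Groth.Agent.Lib.Helper50.PiSpec
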