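import Mathlib
import Groth.Agent.Lib.Helper50.PiSpecGlue
import Groth.Agent.Lib.Helper50.PiSpecAff

open CategoryTheory CategoryTheory.Limits AlgebraicGeometry Opposite

universe u

namespace Groth.Agent.Lib.Helper50.PiSpec

theorem exists_add_eq_one {R : Type*} [CommRing R] (O₁ O₂ : Set (PrimeSpectrum R))
    (h₁ : IsOpen O₁) (h₂ : IsOpen O₂) (h : O₁ ∪ O₂ = Set.univ) :
    ∃ a b : R, a + b = 1 ∧ (∀ p : PrimeSpectrum R, a ∉ p.asIdeal → p ∈ O₁) ∧
      (∀ p : PrimeSpectrum R, b ∉ p.asIdeal → p ∈ O₂) := by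
  obtain ⟨I₁, hI₁⟩ := (PrimeSpectrum.isClosed_iff_zeroLocus_ideal _).1 h₁.isClosed_compl
  obtain ⟨I₂, hI₂⟩ := (PrimeSpectrum.isClosed_iff_zeroLocus_ideal _).1 h₂.isClosed_compl
  have hsup : I₁ ⊔ I₂ = ⊤ := by
    rw [← PrimeSpectrum.zeroLocus_empty_iff_eq_top, PrimeSpectrum.zeroLocus_sup, ← hI₁, ← hI₂,
      ← Set.compl_union, h, Set.compl_univ]
  have h1 : (1 : R) ∈ I₁ ⊔ I₂ := by rw [hsup]; trivial
  obtain ⟨a, ha, b, hb, hab⟩ := Submodule.mem_sup.1 h1
  refine ⟨a, b, hab, fun p hp => ?_, fun p hp => ?_⟩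
  · by_contra hn
    have : p ∈ PrimeSpectrum.zeroLocus (I₁ : Set R) := by rw [← hI₁]; exact hn
    exact hp (this ha)
  · by_contra hn
    have : p ∈ PrimeSpectrum.zeroLocus (I₂ : Set R) := by rw [← hI₂]; exact hn
    exact hp (this hb)

theorem not_mem_of_away {R : CommRingCat.{u}} (a : R)
    (q : Spec (CommRingCat.of (Localization.Away a))) :
    a ∉ (Spec.map (CommRingCat.ofHom (algebraMap R (Localization.Away a))) q).asIdeal := by
  intro h
  have h' : algebraMap R (Localization.Away a) a ∈ q.asIdeal := h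
  exact q.isPrime.ne_top (Ideal.eq_top_of_isUnit_mem _ h'
    (IsLocalization.Away.algebraMap_isUnit a))

theorem exists_of_range_subset {X : Scheme.{u}} [QuasiSeparatedSpace X] (S : X.Opens)
    (hS : IsCompact (S : Set X)) :
    ∀ (ι : Type u) (A : ι → CommRingCat.{u}) (f : ∀ i, Spec (A i) ⟶ X),
      (∀ i, Set.range (f i) ⊆ S) →
      ∃ F : Spec (CommRingCat.of (∀ i, A i)) ⟶ X, ∀ i, piι A i ≫ F = f i := by
  refine compact_open_induction_on (P := fun S : X.Opens =>
    ∀ (ι : Type u) (A : ι → CommRingCat.{u}) (f : ∀ i, Spec (A i) ⟶ X),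
      (∀ i, Set.range (f i) ⊆ S) →
      ∃ F : Spec (CommRingCat.of (∀ i, A i)) ⟶ X, ∀ i, piι A i ≫ F = f i) S hS ?_ ?_
  · intro ι A f hf
    have hemp : ∀ i, IsEmpty (Spec (A i)) := by
      intro i
      refine ⟨fun p => ?_⟩
      exact (hf i ⟨p, rfl⟩ : (f i) p ∈ (⊥ : X.Opens))
    have hsub : ∀ i, Subsingleton (A i) := by
      intro i
      by_contra hn
      rw [not_subsingleton_iff_nontrivial] at hn
      obtain ⟨p⟩ := (PrimeSpectrum.nonempty_iff_nontrivial.2 hn)
      exact (hemp i).false p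
    have : Subsingleton (∀ i, A i) := inferInstance
    have : IsEmpty (Spec (CommRingCat.of (∀ i, A i))) :=
      (inferInstance : IsEmpty (PrimeSpectrum (∀ i, A i)))
    refine ⟨(isInitialOfIsEmpty).to X, fun i => ?_⟩
    exact (isInitialOfIsEmpty (X := Spec (A i))).hom_ext _ _
  · intro S hS U IH ι A f hf
    have hab : ∀ i, ∃ a b : A i, a + b = 1 ∧
        (∀ p : PrimeSpectrum (A i), a ∉ p.asIdeal → (f i) p ∈ (U.1 : Set X)) ∧
        (∀ p : PrimeSpectrum (A i), b ∉ p.asIdeal → (f i) p ∈ (S : Set X)) := by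
      intro i
      apply exists_add_eq_one ((f i) ⁻¹' (U.1 : Set X)) ((f i) ⁻¹' (S : Set X))
        (U.1.2.preimage (f i).continuous) (S.2.preimage (f i).continuous)
      ext p
      simp only [Set.mem_union, Set.mem_preimage, Set.mem_univ, iff_true]
      rcases hf i ⟨p, rfl⟩ with h | h
      · exact Or.inr h
      · exact Or.inl h
    choose a b hab ha hb using hab
    have : IsAffine (U.1 : Scheme.{u}) := U.2
    have hra : ∀ i, Set.range (Spec.map (CommRingCat.ofHom
        (algebraMap (A i) (Localization.Away (a i)))) ≫ f i) ⊆ Set.range U.1.ι := by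
      rintro i _ ⟨q, rfl⟩
      rw [Scheme.Opens.range_ι]
      exact ha i _ (not_mem_of_away (a i) q)
    let ga : ∀ i, Spec (locFam A a i) ⟶ (U.1 : Scheme.{u}) := fun i =>
      IsOpenImmersion.lift U.1.ι _ (hra i)
    obtain ⟨Fa, hFa⟩ := exists_of_isAffine (locFam A a) ga
    obtain ⟨xb, hxb⟩ := IH ι (locFam A b) (fun i => Spec.map (CommRingCat.ofHom
        (algebraMap (A i) (Localization.Away (b i)))) ≫ f i) (by
      rintro i _ ⟨q, rfl⟩
      exact hb i _ (not_mem_of_away (b i) q))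
    exact exists_of_loc A a b hab f (Fa ≫ U.1.ι) (by
      intro i
      rw [← Category.assoc, hFa, IsOpenImmersion.lift_fac]) xb hxb

end Groth.Agent.Lib.Helper50.PiSpec
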