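import Mathlib.CategoryTheory.Monoidal.Cartesian.Grp
import Mathlib.CategoryTheory.Monoidal.Grp

/-!
# Group-like data on an object and group axioms through a monoidal functor

`PreGrp X` is the data of a multiplication, a unit and an inversion on `X`, with no axioms.
For a monoidal functor `F` between cartesian monoidal categories, the induced data on `F.obj X`
satisfies the group axioms iff `F` identifies both sides of each axiom.
-/

set_option autoImplicit false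

namespace Groth.Agent.Lib.Helper50

open CategoryTheory MonoidalCategory CartesianMonoidalCategory MonObj
open Functor.LaxMonoidal Functor.OplaxMonoidal Functor.Monoidal

variable {C : Type*} [Category C] [CartesianMonoidalCategory C]

/-- Multiplication, unit and inversion on `X`, with no axioms. -/
@[ext] structure PreGrp (X : C) where
  m : X ⊗ X ⟶ X
  e : 𝟙_ C ⟶ X
  i : X ⟶ X

namespace PreGrp

variable {X : C} (P : PreGrp X)

def ax1L : 𝟙_ C ⊗ X ⟶ X := (P.e ▷ X) ≫ P.m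
def ax1R (X : C) : 𝟙_ C ⊗ X ⟶ X := (λ_ X).hom
def ax2L : X ⊗ 𝟙_ C ⟶ X := (X ◁ P.e) ≫ P.m
def ax2R (X : C) : X ⊗ 𝟙_ C ⟶ X := (ρ_ X).hom
def ax3L : (X ⊗ X) ⊗ X ⟶ X := (P.m ▷ X) ≫ P.m
def ax3R : (X ⊗ X) ⊗ X ⟶ X := (α_ X X X).hom ≫ (X ◁ P.m) ≫ P.m
def ax4L : X ⟶ X := lift P.i (𝟙 X) ≫ P.m
def ax4R : X ⟶ X := toUnit X ≫ P.e
def ax5L : X ⟶ X := lift (𝟙 X) P.i ≫ P.m

/-- The group axioms. -/
structure IsGrp : Prop where
  h1 : P.ax1L = ax1R X
  h2 : P.ax2L = ax2R X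
  h3 : P.ax3L = P.ax3R
  h4 : P.ax4L = P.ax4R
  h5 : P.ax5L = P.ax4R

/-- The group object of group-like data satisfying the axioms. -/
@[reducible] def toGrpObj (h : P.IsGrp) : GrpObj X where
  one := P.e
  mul := P.m
  one_mul := h.h1
  mul_one := h.h2
  mul_assoc := h.h3
  inv := P.i
  left_inv := h.h4
  right_inv := h.h5

/-- The data of a group object. -/
def ofGrpObj (X : C) [GrpObj X] : PreGrp X := ⟨μ, η, ι⟩

lemma isGrp_ofGrpObj (X : C) [GrpObj X] : (ofGrpObj X).IsGrp :=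
  ⟨MonObj.one_mul X, MonObj.mul_one X, MonObj.mul_assoc X, GrpObj.left_inv X, GrpObj.right_inv X⟩

variable {D : Type*} [Category D] [CartesianMonoidalCategory D] (F : C ⥤ D) [F.Monoidal]

/-- The induced data on the image under a monoidal functor. -/
def map : PreGrp (F.obj X) :=
  ⟨Functor.LaxMonoidal.μ F X X ≫ F.map P.m, Functor.LaxMonoidal.ε F ≫ F.map P.e, F.map P.i⟩

lemma map_ax1L : (P.map F).ax1L =
    (Functor.LaxMonoidal.ε F ▷ F.obj X) ≫ Functor.LaxMonoidal.μ F (𝟙_ C) X ≫ F.map P.ax1L := by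
  simp [ax1L, map]

lemma map_ax1R : ax1R (F.obj X) =
    (Functor.LaxMonoidal.ε F ▷ F.obj X) ≫ Functor.LaxMonoidal.μ F (𝟙_ C) X ≫ F.map (ax1R X) := by
  simp [ax1R]

lemma map_ax2L : (P.map F).ax2L =
    (F.obj X ◁ Functor.LaxMonoidal.ε F) ≫ Functor.LaxMonoidal.μ F X (𝟙_ C) ≫ F.map P.ax2L := by
  simp [ax2L, map]

lemma map_ax2R : ax2R (F.obj X) =
    (F.obj X ◁ Functor.LaxMonoidal.ε F) ≫ Functor.LaxMonoidal.μ F X (𝟙_ C) ≫ F.map (ax2R X) := by
  simp [ax2R]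

lemma map_ax3L : (P.map F).ax3L =
    (Functor.LaxMonoidal.μ F X X ▷ F.obj X) ≫ Functor.LaxMonoidal.μ F (X ⊗ X) X ≫
      F.map P.ax3L := by
  simp [ax3L, map]

lemma map_ax3R : (P.map F).ax3R =
    (Functor.LaxMonoidal.μ F X X ▷ F.obj X) ≫ Functor.LaxMonoidal.μ F (X ⊗ X) X ≫
      F.map P.ax3R := by
  simp [ax3R, map]

lemma map_ax4L : (P.map F).ax4L = F.map P.ax4L := by
  change lift (F.map P.i) (𝟙 (F.obj X)) ≫ Functor.LaxMonoidal.μ F X X ≫ F.map P.m =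
    F.map (lift P.i (𝟙 X) ≫ P.m)
  rw [← F.map_id X, lift_μ_assoc, ← F.map_comp]

lemma map_ax4R : (P.map F).ax4R = F.map P.ax4R := by
  simp [ax4R, map, Functor.Monoidal.toUnit_ε_assoc, ← Functor.map_comp]

lemma map_ax5L : (P.map F).ax5L = F.map P.ax5L := by
  change lift (𝟙 (F.obj X)) (F.map P.i) ≫ Functor.LaxMonoidal.μ F X X ≫ F.map P.m =
    F.map (lift (𝟙 X) P.i ≫ P.m)
  rw [← F.map_id X, lift_μ_assoc, ← F.map_comp]

theorem isGrp_map_iff : (P.map F).IsGrp ↔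
    (F.map P.ax1L = F.map (ax1R X) ∧ F.map P.ax2L = F.map (ax2R X) ∧
      F.map P.ax3L = F.map P.ax3R ∧ F.map P.ax4L = F.map P.ax4R ∧
      F.map P.ax5L = F.map P.ax4R) := by
  constructor
  · rintro ⟨h1, h2, h3, h4, h5⟩
    rw [map_ax1L, map_ax1R, cancel_epi, cancel_epi] at h1
    rw [map_ax2L, map_ax2R, cancel_epi, cancel_epi] at h2
    rw [map_ax3L, map_ax3R, cancel_epi, cancel_epi] at h3
    rw [map_ax4L, map_ax4R] at h4
    rw [map_ax5L, map_ax4R] at h5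
    exact ⟨h1, h2, h3, h4, h5⟩
  · rintro ⟨h1, h2, h3, h4, h5⟩
    refine ⟨?_, ?_, ?_, ?_, ?_⟩
    · rw [map_ax1L, map_ax1R, h1]
    · rw [map_ax2L, map_ax2R, h2]
    · rw [map_ax3L, map_ax3R, h3]
    · rw [map_ax4L, map_ax4R, h4]
    · rw [map_ax5L, map_ax4R, h5]

end PreGrp

end Groth.Agent.Lib.Helper50
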