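import Groth.Agent.Lib.Helper50.PreGrp
import Groth.Agent.Lib.Helper50.OverLimMonHom
import Mathlib.CategoryTheory.Monoidal.NaturalTransformation

/-!
# Group-like data: transport along isomorphisms and natural transformations
-/

set_option autoImplicit false

namespace Groth.Agent.Lib.Helper50

open CategoryTheory MonoidalCategory CartesianMonoidalCategory MonObj
open Functor.LaxMonoidal Functor.OplaxMonoidal Functor.Monoidal

namespace PreGrp

variable {C : Type*} [Category C] [CartesianMonoidalCategory C]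

/-- Data obtained from a group object by transport along an isomorphism satisfies the axioms. -/
lemma isGrp_of_iso {G Y : C} [GrpObj G] (φ : G ≅ Y) (Q : PreGrp Y)
    (hm : Q.m = (φ.inv ⊗ₘ φ.inv) ≫ μ[G] ≫ φ.hom) (he : Q.e = η[G] ≫ φ.hom)
    (hi : Q.i = φ.inv ≫ ι[G] ≫ φ.hom) : Q.IsGrp := by
  letI : GrpObj Y := GrpObj.ofIso φ
  have : Q = ofGrpObj Y := PreGrp.ext hm he hi
  rw [this]
  exact isGrp_ofGrpObj Y

/-- For data `Q` obtained by transport along `φ`, `φ.hom` is a homomorphism. -/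
lemma isMonHom_of_iso {G Y : C} [GrpObj G] (φ : G ≅ Y) (Q : PreGrp Y) (hQ : Q.IsGrp)
    (hm : Q.m = (φ.inv ⊗ₘ φ.inv) ≫ μ[G] ≫ φ.hom) :
    letI := Q.toGrpObj hQ
    IsMonHom φ.hom := by
  letI := Q.toGrpObj hQ
  apply SubGrpFunctor.isMonHom_of_mul_hom
  change μ[G] ≫ φ.hom = (φ.hom ⊗ₘ φ.hom) ≫ Q.m
  rw [hm, tensorHom_comp_tensorHom_assoc, Iso.hom_inv_id, tensorHom_id, id_whiskerRight,
    Category.id_comp]

variable {D : Type*} [Category D] [CartesianMonoidalCategory D]
  {F₁ F₂ : C ⥤ D} [F₁.Monoidal] [F₂.Monoidal]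

/-- A natural transformation of monoidal functors intertwines the induced multiplications. -/
lemma map_m_natTrans {X : C} (P : PreGrp X) (α : F₁ ⟶ F₂) :
    (P.map F₁).m ≫ α.app X = (α.app X ⊗ₘ α.app X) ≫ (P.map F₂).m := by
  change (Functor.LaxMonoidal.μ F₁ X X ≫ F₁.map P.m) ≫ α.app X =
    (α.app X ⊗ₘ α.app X) ≫ Functor.LaxMonoidal.μ F₂ X X ≫ F₂.map P.m
  rw [Category.assoc, α.naturality, NatTrans.IsMonoidal.tensor_assoc]

end PreGrp

end Groth.Agent.Lib.Helper50
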