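import Groth.Agent.Lib.Helper50.StalkExt
import Groth.Agent.Lib.Helper50.NoethGeneric
import Groth.Prelude.Def_FEt
import Mathlib.AlgebraicGeometry.Noetherian

/-!
# One step of the extension of finite étale covers using purity at a point
-/

set_option autoImplicit false
universe u
open CategoryTheory CategoryTheory.Limits AlgebraicGeometry Opposite TopologicalSpace

namespace Groth.Agent.Lib.Helper50.StalkLim

open Groth.Agent.Lib.Helper50.Descent

lemma isPullback_comp_mono {C : Type*} [Category C] {P X Y W Z : C} {fst : P ⟶ X} {snd : P ⟶ Y}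
    {f : X ⟶ W} {g : Y ⟶ W} (i : W ⟶ Z) [Mono i] (h : IsPullback fst snd f g) :
    IsPullback fst snd (f ≫ i) (g ≫ i) :=
  IsPullback.of_isLimit' ⟨by rw [← Category.assoc, h.w, Category.assoc]⟩
    (PullbackCone.isLimitOfCompMono f g i _ h.isLimit)

set_option backward.isDefEq.respectTransparency false in
theorem exists_bigger_extension {X : Scheme.{u}} {U' : X.Opens} [QuasiCompact U'.ι] (x : X)
    (hxU : x ∉ U') (hgen : ∀ z : X, z ⤳ x → z ≠ x → z ∈ U')
    (hpur : FEt.PurityHolds (X.presheaf.stalk x))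
    {V' : Scheme.{u}} (v' : V' ⟶ U'.toScheme) (hv' : IsFinite v' ∧ Etale v') :
    ∃ (W : X.Opens) (_ : x ∈ W) (V'' : Scheme.{u}) (v'' : V'' ⟶ (U' ⊔ W).toScheme)
      (r : V' ⟶ V''),
      IsFinite v'' ∧ Etale v'' ∧ IsPullback r v' v'' (X.homOfLE le_sup_left) := by
  let A := X.presheaf.stalk x
  let Pp : (Spec (X.presheaf.stalk x)).Opens := FEt.puncturedSpec (X.presheaf.stalk x)
  let pS : Pp.toScheme ⟶ Spec (X.presheaf.stalk x) := Pp.ι
  have hpre : (X.fromSpecStalk x) ⁻¹ᵁ U' = Pp := by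
    apply TopologicalSpace.Opens.ext
    ext 𝔭
    change (X.fromSpecStalk x) 𝔭 ∈ U' ↔ 𝔭 ∈ ({IsLocalRing.closedPoint _}ᶜ : Set _)
    rw [Set.mem_compl_iff, Set.mem_singleton_iff]
    constructor
    · intro h1 h2
      rw [h2, Scheme.fromSpecStalk_closedPoint] at h1
      exact hxU h1
    · intro h1
      have hy : (X.fromSpecStalk x) 𝔭 ⤳ x := by
        have : (X.fromSpecStalk x) 𝔭 ∈ Set.range (X.fromSpecStalk x) := ⟨𝔭, rfl⟩
        rw [Scheme.range_fromSpecStalk] at this
        exact this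
      refine hgen _ hy ?_
      intro h2
      apply h1
      apply (X.fromSpecStalk x).isEmbedding.injective
      rw [h2, Scheme.fromSpecStalk_closedPoint]
  have hrange : Set.range (pS ≫ X.fromSpecStalk x) ⊆ Set.range U'.ι := by
    rintro _ ⟨𝔭, rfl⟩
    rw [Scheme.Opens.range_ι]
    have : 𝔭.1 ∈ (X.fromSpecStalk x) ⁻¹ᵁ U' := by rw [hpre]; exact 𝔭.2
    exact this
  let pU : Pp.toScheme ⟶ U'.toScheme := IsOpenImmersion.lift U'.ι (pS ≫ X.fromSpecStalk x) hrange
  have hpU : pU ≫ U'.ι = pS ≫ X.fromSpecStalk x := IsOpenImmersion.lift_fac _ _ _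
  have hP : IsPullback pU pS U'.ι (X.fromSpecStalk x) := by
    refine IsOpenImmersion.isPullback pU pS U'.ι (X.fromSpecStalk x) hpU.symm ?_
    rw [Scheme.Opens.opensRange_ι, Scheme.Opens.opensRange_ι, hpre]
  -- the cover of the punctured spectrum
  let T : FEt.Cat Pp.toScheme :=
    (FEt.restrict pU).obj (MorphismProperty.Over.mk ⊤ v' ⟨hv'.1, hv'.2⟩)
  obtain ⟨Yx, ⟨θ⟩⟩ := hpur.mem_essImage T
  let yx : Yx.left ⟶ Spec (X.presheaf.stalk x) := Yx.hom
  have hyx : IsFinite yx ∧ Etale yx := ⟨Yx.prop.1, Yx.prop.2⟩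
  let Z : Scheme.{u} := pullback yx pS
  let z1 : Z ⟶ Yx.left := pullback.fst yx pS
  let zP : Z ⟶ Pp.toScheme := pullback.snd yx pS
  have h1 : IsPullback z1 zP yx pS := IsPullback.of_hasPullback yx pS
  let θl : Z ⟶ pullback v' pU := θ.hom.left
  have hθl : θl ≫ pullback.snd v' pU = zP := MorphismProperty.Over.w θ.hom
  have : IsIso θl := by
    have : IsIso θ.hom := inferInstance
    exact (MorphismProperty.Over.forget _ _ _ ⋙ Over.forget _).map_isIso θ.hom
  let z2 : Z ⟶ V' := θl ≫ pullback.fst v' pU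
  have h2 : IsPullback z2 zP v' pU :=
    IsPullback.of_iso (IsPullback.of_hasPullback v' pU) (asIso θl).symm (Iso.refl _) (Iso.refl _)
      (Iso.refl _) (by simp [z2]) (by simp [← hθl]) (by simp) (by simp)
  obtain ⟨W, V'', v'', r, hfin, het, hpb⟩ :=
    exists_extension x U' pU pS hP v' yx z1 z2 zP h1 h2 hv' hyx
  exact ⟨W.1, W.2.2, V'', v'', r, hfin, het, hpb⟩

end Groth.Agent.Lib.Helper50.StalkLim
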