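import Groth.Agent.Lib.Helper74.QCAlgOfAffine
import Groth.Agent.Lib.Helper6.CoequifColim
import Groth.Agent.S8255

/-!
# Filtered colimits of quasi-coherent algebras are computed on the affine opens

`R : QCAlg S ⥤ (S.AffineZariskiSiteᵒᵖ ⥤ CommRingCat)` is the restriction to the affine opens.
For a filtered diagram `A : J ⥤ QCAlg S` we construct a colimit cocone `cB A` whose restriction to the
affine opens is the (pointwise) colimit; hence `R` preserves the colimit of `A`
(`isColimit_R_mapCocone`), and for every affine open `U` the sections cocone is a colimit in `CommRingCat`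
(`isColimit_sections`).
-/

set_option autoImplicit false
universe u
open CategoryTheory CategoryTheory.Limits AlgebraicGeometry TopologicalSpace Opposite

noncomputable section

namespace Groth.Agent.Lib.Helper50.QCAlgColim

open RelSpec Groth.Agent.Lib.Helper74.OfAffine

variable {S : Scheme.{u}}

/-- restriction of a quasi-coherent algebra to the affine opens. -/
@[reducible] def R : QCAlg S ⥤ (S.AffineZariskiSiteᵒᵖ ⥤ CommRingCat.{u}) where
  obj A := (Scheme.AffineZariskiSite.toOpensFunctor S).op ⋙ A.presheaf
  map φ := Functor.whiskerLeft _ φ.hom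
  map_id _ := rfl
  map_comp _ _ := rfl

theorem R_map_app {A B : QCAlg S} (φ : A ⟶ B) (U : S.AffineZariskiSiteᵒᵖ) :
    ((R (S := S)).map φ).app U = φ.hom.app (op U.unop.1) := rfl

theorem R_faithful {A' B' : QCAlg S} {f g : A' ⟶ B'} (h : (R (S := S)).map f = (R (S := S)).map g) : f = g :=
  hom_ext_affine fun U hU => NatTrans.congr_app h (op ⟨U, hU⟩)

variable {J : Type u} [SmallCategory J] [IsFiltered J] (A : J ⥤ QCAlg S)

local instance : Nonempty J := IsFiltered.nonempty

/-- the restricted diagram. -/
abbrev G : J ⥤ (S.AffineZariskiSiteᵒᵖ ⥤ CommRingCat.{u}) := A ⋙ R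

/-- the pointwise colimit on the affine opens. -/
abbrev F : S.AffineZariskiSiteᵒᵖ ⥤ CommRingCat.{u} := colimit (G A)

/-- the structure maps of the stages. -/
def αk (k : J) : (Scheme.AffineZariskiSite.toOpensFunctor S).op ⋙ S.presheaf ⟶ (G A).obj k :=
  Functor.whiskerLeft _ (A.obj k).str

theorem αk_map {k k' : J} (m : k ⟶ k') : αk A k ≫ (G A).map m = αk A k' := by
  ext U : 2
  exact NatTrans.congr_app (A.map m).comm _

/-- the structure map of the colimit. -/
def α : (Scheme.AffineZariskiSite.toOpensFunctor S).op ⋙ S.presheaf ⟶ F A :=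
  αk A (Classical.arbitrary J) ≫ colimit.ι (G A) (Classical.arbitrary J)

theorem αk_ι (k : J) : αk A k ≫ colimit.ι (G A) k = α A := by
  have key : ∀ (k k' : J) (m : k ⟶ k'),
      αk A k ≫ colimit.ι (G A) k = αk A k' ≫ colimit.ι (G A) k' := by
    intro k k' m
    rw [← αk_map A m, Category.assoc, colimit.w]
  rw [α, key k _ (IsFiltered.leftToMax k (Classical.arbitrary J)),
    key (Classical.arbitrary J) _ (IsFiltered.rightToMax k (Classical.arbitrary J))]

theorem coequifibered_α : (α A).Coequifibered :=
  Groth.Agent.Lib.Helper6.CoequifColim.coequifibered_of_isColimit (G A) (colimit.cocone (G A))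
    (fun a => isColimitOfPreserves ((evaluation _ _).obj a) (colimit.isColimit (G A)))
    (αk A) (fun k => (A.obj k).coequifibered) (fun m => αk_map A m) (α A) (αk_ι A)

/-- the colimit algebra. -/
def B : QCAlg S := ofAffine (coequifibered_α A)

/-- the comparison iso of the restriction of `B` with the pointwise colimit. -/
def γ : (R (S := S)).obj (B A) ≅ F A := by
  have e := asIso (gammaRestrict (coequifibered_α A))
  exact e

theorem str_γ : Functor.whiskerLeft (Scheme.AffineZariskiSite.toOpensFunctor S).op (B A).str ≫ (γ A).hom = α A :=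
  str_gammaRestrict (coequifibered_α A)

theorem str_b_aux (j : J) :
    Functor.whiskerLeft (Scheme.AffineZariskiSite.toOpensFunctor S).op (A.obj j).str ≫
      (colimit.ι (G A) j ≫ (γ A).inv) =
    Functor.whiskerLeft (Scheme.AffineZariskiSite.toOpensFunctor S).op (B A).str := by
  have h1 : Functor.whiskerLeft (Scheme.AffineZariskiSite.toOpensFunctor S).op (A.obj j).str ≫
      colimit.ι (G A) j = α A := αk_ι A j
  rw [← Category.assoc, h1, ← str_γ A, Category.assoc, Iso.hom_inv_id, Category.comp_id]

/-- the coprojections. -/
def b (j : J) : A.obj j ⟶ B A :=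
  homMkAffine (A.obj j) (B A) (colimit.ι (G A) j ≫ (γ A).inv) (str_b_aux A j)

theorem R_map_b (j : J) : (R (S := S)).map (b A j) = colimit.ι (G A) j ≫ (γ A).inv := by
  ext U : 2
  exact homMkAffine_app (A.obj j) (B A) (colimit.ι (G A) j ≫ (γ A).inv) (str_b_aux A j)
    U.unop.1 U.unop.2

/-- the colimit cocone. -/
def cB : Cocone A where
  pt := B A
  ι :=
    { app := b A
      naturality := fun j j' φ => by
        change A.map φ ≫ b A j' = b A j ≫ 𝟙 _
        rw [Category.comp_id]
        apply R_faithful
        rw [Functor.map_comp, R_map_b, R_map_b, ← Category.assoc]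
        congr 1
        exact colimit.w (G A) φ }

/-- the restriction of `cB` to the affine opens is the pointwise colimit. -/
def isColimit_R_cB : IsColimit ((R (S := S)).mapCocone (cB A)) :=
  IsColimit.ofIsoColimit (colimit.isColimit (G A))
    (Cocone.ext (γ A).symm (fun j => by
      change colimit.ι (G A) j ≫ (γ A).inv = (R (S := S)).map (b A j)
      rw [R_map_b]))

theorem desc_aux (s : Cocone A) :
    α A ≫ colimit.desc (G A) ((R (S := S)).mapCocone s) =
      Functor.whiskerLeft (Scheme.AffineZariskiSite.toOpensFunctor S).op s.pt.str := by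
  rw [← αk_ι A (Classical.arbitrary J), Category.assoc, colimit.ι_desc]
  ext U : 2
  exact NatTrans.congr_app (s.ι.app (Classical.arbitrary J)).comm _

/-- the descent map. -/
def desc (s : Cocone A) : B A ⟶ s.pt :=
  homOfAffine (coequifibered_α A) s.pt (colimit.desc (G A) ((R (S := S)).mapCocone s)) (desc_aux A s)

theorem R_map_desc (s : Cocone A) :
    (R (S := S)).map (desc A s) = (γ A).hom ≫ colimit.desc (G A) ((R (S := S)).mapCocone s) := by
  ext U : 2
  exact homOfAffine_app (coequifibered_α A) s.pt (colimit.desc (G A) ((R (S := S)).mapCocone s))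
    (desc_aux A s) U.unop.1 U.unop.2

/-- `cB` is a colimit cocone. -/
def isColimit_cB : IsColimit (cB A) where
  desc s := desc A s
  fac s j := by
    apply R_faithful
    change (R (S := S)).map (b A j ≫ desc A s) = _
    rw [Functor.map_comp, R_map_b, R_map_desc, Category.assoc, Iso.inv_hom_id_assoc, colimit.ι_desc]
    rfl
  uniq s m hm := by
    apply R_faithful
    refine Eq.trans ?_ (R_map_desc A s).symm
    have h : (γ A).inv ≫ (R (S := S)).map (show B A ⟶ s.pt from m) =
        colimit.desc (G A) ((R (S := S)).mapCocone s) := by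
      apply colimit.hom_ext
      intro j
      rw [colimit.ι_desc, ← Category.assoc, ← R_map_b, ← Functor.map_comp]
      exact congrArg (R (S := S)).map (hm j)
    rw [← h, Iso.hom_inv_id_assoc]
    rfl

/-- restriction to the affine opens preserves filtered colimits of quasi-coherent algebras. -/
theorem preservesColimit_R : PreservesColimit A (R (S := S)) :=
  preservesColimit_of_preserves_colimit_cocone (isColimit_cB A) (isColimit_R_cB A)

/-- for a colimit cocone `c` of `A`, its restriction to the affine opens is a colimit cocone. -/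
def isColimit_R_mapCocone {c : Cocone A} (hc : IsColimit c) : IsColimit ((R (S := S)).mapCocone c) :=
  haveI := preservesColimit_R A
  isColimitOfPreserves R hc

/-- sections over an affine open of a filtered colimit. -/
def isColimit_sections {c : Cocone A} (hc : IsColimit c) (U : S.AffineZariskiSiteᵒᵖ) :
    IsColimit (((evaluation _ _).obj U).mapCocone ((R (S := S)).mapCocone c)) :=
  isColimitOfPreserves ((evaluation _ _).obj U) (isColimit_R_mapCocone A hc)

end Groth.Agent.Lib.Helper50.QCAlgColim
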