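import Groth.Agent.Lib.Helper50.QCAlgColim
import Groth.Agent.Lib.Helper6.AffExt
import Groth.Agent.Lib.Helper6.AffLimit

/-!
# The relative spectrum of a filtered colimit of quasi-coherent algebras is the limit of the spectra
-/

set_option autoImplicit false
universe u
open CategoryTheory CategoryTheory.Limits AlgebraicGeometry TopologicalSpace Opposite

noncomputable section

namespace Groth.Agent.Lib.Helper50.QCAlgSpecLim

open RelSpec Groth.Agent.Lib.Helper6 Groth.Agent.Lib.Helper50.QCAlgColim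

variable {S : Scheme.{u}}

/-- the restriction to affine opens of the algebra map attached to an `S`-morphism. -/
def W {X Y : Scheme.{u}} (f : X ⟶ S) (g : Y ⟶ S) (h : Y ⟶ X) (w : h ≫ f = g) :
    AffExt.res f ⟶ AffExt.res g :=
  Functor.whiskerLeft (Scheme.AffineZariskiSite.toOpensFunctor S).op (AffAlg.algHom f g h w)

theorem W_app {X Y : Scheme.{u}} (f : X ⟶ S) (g : Y ⟶ S) (h : Y ⟶ X) (w : h ≫ f = g)
    (U : S.AffineZariskiSite) :
    (W f g h w).app (op U) =
      h.appLE (f ⁻¹ᵁ U.toOpens) (g ⁻¹ᵁ U.toOpens) (AffUniv.preimage_le f g h w U.toOpens) :=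
  AffUniv.algHom_app f g h w U.toOpens

theorem W_congr {X Y : Scheme.{u}} (f : X ⟶ S) (g : Y ⟶ S) {h h' : Y ⟶ X} (e : h = h')
    (w : h ≫ f = g) (w' : h' ≫ f = g) : W f g h w = W f g h' w' := by
  subst e; rfl

theorem W_comp {X Y Z : Scheme.{u}} (f : X ⟶ S) (g : Y ⟶ S) (e : Z ⟶ S) (h : Y ⟶ X)
    (w : h ≫ f = g) (k : Z ⟶ Y) (w' : k ≫ g = e) (w'' : (k ≫ h) ≫ f = e) :
    W f e (k ≫ h) w'' = W f g h w ≫ W g e k w' := by
  unfold W
  rw [AffLimit.algHom_comp f g e h w k w' w'']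
  rfl

/-- the comparison of the direct image of the relative spectrum with the algebra, on affine opens. -/
def γ (A : QCAlg S) : AffExt.res A.π ≅ (R (S := S)).obj A := by
  haveI : ∀ V, IsIso (A.gammaRestrict.app V) :=
    fun V => Groth.Agent.S8255.isIso_gammaAff A V.unop.1 V.unop.2
  haveI : IsIso A.gammaRestrict := NatIso.isIso_of_isIso_app _
  exact asIso A.gammaRestrict

theorem γ_hom_app (A : QCAlg S) (U : S.AffineZariskiSite) :
    (γ A).hom.app (op U) = A.gammaAff U.1 U.2 := rfl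

theorem specMap_appLE_gammaAff {A B : QCAlg S} (φ : A ⟶ B) (U : S.Opens) (hU : IsAffineOpen U) :
    (QCAlg.specMap φ).appLE (A.π ⁻¹ᵁ U) (B.π ⁻¹ᵁ U)
      (AffUniv.preimage_le A.π B.π (QCAlg.specMap φ) (QCAlg.specMap_π φ) U) ≫ B.gammaAff U hU =
    A.gammaAff U hU ≫ φ.hom.app (op U) := by
  unfold QCAlg.gammaAff
  rw [← Category.assoc, Scheme.Hom.appLE_comp_appLE]
  have h1 : B.ι U hU ≫ QCAlg.specMap φ = Spec.map (φ.hom.app (op U)) ≫ A.ι U hU :=
    QCAlg.ι_specMap U hU φ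
  have h2 : (B.ι U hU ≫ QCAlg.specMap φ).appLE (A.π ⁻¹ᵁ U) ⊤
      ((B.top_le_preimage U hU).trans ((B.ι U hU).preimage_mono
        (AffUniv.preimage_le A.π B.π (QCAlg.specMap φ) (QCAlg.specMap_π φ) U))) =
      (A.ι U hU).appLE (A.π ⁻¹ᵁ U) ⊤ (A.top_le_preimage U hU) ≫
        (Spec.map (φ.hom.app (op U))).appLE ⊤ ⊤ le_top := by
    rw [Scheme.Hom.appLE_comp_appLE]
    simp only [h1]
  rw [h2, Category.assoc, Category.assoc]
  congr 1
  have h3 : (Spec.map (φ.hom.app (op U))).appLE ⊤ ⊤ le_top = (Spec.map (φ.hom.app (op U))).appTop := by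
    simp [Scheme.Hom.appTop, Scheme.Hom.appLE]
  rw [h3]
  exact Scheme.ΓSpecIso_naturality _

theorem γ_naturality {A B : QCAlg S} (φ : A ⟶ B) :
    (γ A).hom ≫ (R (S := S)).map φ = W A.π B.π (QCAlg.specMap φ) (QCAlg.specMap_π φ) ≫ (γ B).hom := by
  ext U : 2
  obtain ⟨U⟩ := U
  rw [NatTrans.comp_app, NatTrans.comp_app, W_app, γ_hom_app, γ_hom_app]
  exact (specMap_appLE_gammaAff φ U.1 U.2).symm

theorem R_map_γ_inv {A B : QCAlg S} (φ : A ⟶ B) :
    (R (S := S)).map φ ≫ (γ B).inv = (γ A).inv ≫ W A.π B.π (QCAlg.specMap φ) (QCAlg.specMap_π φ) := by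
  rw [Iso.comp_inv_eq, Category.assoc, ← γ_naturality, Iso.inv_hom_id_assoc]

theorem π_app_γ (A : QCAlg S) (U : S.AffineZariskiSite) :
    A.π.app U.toOpens ≫ (γ A).hom.app (op U) = A.str.app (op U.toOpens) :=
  A.π_app_gammaAff U.1 U.2

section main

variable {J : Type u} [SmallCategory J] [IsFiltered J] (A : J ⥤ QCAlg S) (c : Cocone A)
  (hc : IsColimit c) {T : Scheme.{u}} (v : ∀ j : J, T ⟶ (A.obj j).spec)
  (hv : ∀ (j j' : J) (φ : j ⟶ j'), v j' ≫ QCAlg.specMap (A.map φ) = v j)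
  (g : T ⟶ S) (hg : ∀ j, v j ≫ (A.obj j).π = g)

/-- the cocone of algebras attached to a compatible family of morphisms. -/
def coconeT : Cocone (A ⋙ R (S := S)) where
  pt := AffExt.res g
  ι :=
    { app := fun j => (γ (A.obj j)).inv ≫ W (A.obj j).π g (v j) (hg j)
      naturality := fun j j' φ => by
        change (R (S := S)).map (A.map φ) ≫ (γ (A.obj j')).inv ≫ W (A.obj j').π g (v j') (hg j') =
          ((γ (A.obj j)).inv ≫ W (A.obj j).π g (v j) (hg j)) ≫ 𝟙 _
        rw [Category.comp_id, ← Category.assoc, R_map_γ_inv, Category.assoc]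
        congr 1
        have w'' : (v j' ≫ QCAlg.specMap (A.map φ)) ≫ (A.obj j).π = g := by
          rw [hv, hg]
        rw [← W_comp (A.obj j).π (A.obj j').π g (QCAlg.specMap (A.map φ)) (QCAlg.specMap_π _)
          (v j') (hg j') w'']
        exact W_congr _ _ (hv j j' φ) _ _ }

/-- the map out of the colimit on affine opens. -/
def dsc : (R (S := S)).obj c.pt ⟶ AffExt.res g :=
  (isColimit_R_mapCocone A hc).desc (coconeT A v hv g hg)

theorem ι_dsc (j : J) :
    (R (S := S)).map (c.ι.app j) ≫ dsc A c hc v hv g hg =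
      (γ (A.obj j)).inv ≫ W (A.obj j).π g (v j) (hg j) :=
  (isColimit_R_mapCocone A hc).fac (coconeT A v hv g hg) j

include hc in
theorem R_hom_ext {Z : S.AffineZariskiSiteᵒᵖ ⥤ CommRingCat.{u}} (f f' : (R (S := S)).obj c.pt ⟶ Z)
    (h : ∀ j, (R (S := S)).map (c.ι.app j) ≫ f = (R (S := S)).map (c.ι.app j) ≫ f') : f = f' :=
  (isColimit_R_mapCocone A hc).hom_ext h

/-- the induced map of algebras on affine opens. -/
def ω₀ : AffExt.res c.pt.π ⟶ AffExt.res g :=
  (γ c.pt).hom ≫ dsc A c hc v hv g hg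

theorem ω₀_comm (U : S.AffineZariskiSite) :
    c.pt.π.app U.toOpens ≫ (ω₀ A c hc v hv g hg).app (op U) = g.app U.toOpens := by
  obtain ⟨j⟩ : Nonempty J := IsFiltered.nonempty
  have e1 : c.pt.π.app U.toOpens ≫ (γ c.pt).hom.app (op U) = c.pt.str.app (op U.toOpens) :=
    π_app_γ c.pt U
  have e2 : c.pt.str.app (op U.toOpens) =
      (A.obj j).str.app (op U.toOpens) ≫ ((R (S := S)).map (c.ι.app j)).app (op U) :=
    (NatTrans.congr_app (c.ι.app j).comm (op U.toOpens)).symm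
  have e3 : ((R (S := S)).map (c.ι.app j)).app (op U) ≫ (dsc A c hc v hv g hg).app (op U) =
      (γ (A.obj j)).inv.app (op U) ≫ (W (A.obj j).π g (v j) (hg j)).app (op U) :=
    NatTrans.congr_app (ι_dsc A c hc v hv g hg j) (op U)
  have e4 : (A.obj j).str.app (op U.toOpens) ≫ (γ (A.obj j)).inv.app (op U) =
      (A.obj j).π.app U.toOpens := by
    have h := π_app_γ (A.obj j) U
    have h' : (γ (A.obj j)).hom.app (op U) ≫ (γ (A.obj j)).inv.app (op U) = 𝟙 _ := by
      rw [← NatTrans.comp_app, Iso.hom_inv_id, NatTrans.id_app]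
    calc (A.obj j).str.app (op U.toOpens) ≫ (γ (A.obj j)).inv.app (op U)
        = ((A.obj j).π.app U.toOpens ≫ (γ (A.obj j)).hom.app (op U)) ≫
            (γ (A.obj j)).inv.app (op U) := congrArg (· ≫ (γ (A.obj j)).inv.app (op U)) h.symm
      _ = (A.obj j).π.app U.toOpens ≫ ((γ (A.obj j)).hom.app (op U) ≫
            (γ (A.obj j)).inv.app (op U)) := Category.assoc _ _ _
      _ = (A.obj j).π.app U.toOpens ≫ 𝟙 _ := congrArg ((A.obj j).π.app U.toOpens ≫ ·) h'
      _ = (A.obj j).π.app U.toOpens := Category.comp_id _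
  have e5' : (A.obj j).π.app U.toOpens ≫ (v j).appLE ((A.obj j).π ⁻¹ᵁ U.toOpens) (g ⁻¹ᵁ U.toOpens)
      (AffUniv.preimage_le _ _ _ (hg j) U.toOpens) = g.app U.toOpens := by
    rw [Scheme.Hom.app_eq_appLE, Scheme.Hom.appLE_comp_appLE, Scheme.Hom.app_eq_appLE]
    simp only [hg j]
  have e5 : (A.obj j).π.app U.toOpens ≫ (W (A.obj j).π g (v j) (hg j)).app (op U) =
      g.app U.toOpens :=
    (congrArg ((A.obj j).π.app U.toOpens ≫ ·) (W_app (A.obj j).π g (v j) (hg j) U)).trans e5'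
  calc c.pt.π.app U.toOpens ≫ (ω₀ A c hc v hv g hg).app (op U)
      = (c.pt.π.app U.toOpens ≫ (γ c.pt).hom.app (op U)) ≫ (dsc A c hc v hv g hg).app (op U) :=
        (Category.assoc _ _ _).symm
    _ = c.pt.str.app (op U.toOpens) ≫ (dsc A c hc v hv g hg).app (op U) :=
        congrArg (· ≫ (dsc A c hc v hv g hg).app (op U)) e1
    _ = ((A.obj j).str.app (op U.toOpens) ≫ ((R (S := S)).map (c.ι.app j)).app (op U)) ≫
          (dsc A c hc v hv g hg).app (op U) :=
        congrArg (· ≫ (dsc A c hc v hv g hg).app (op U)) e2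
    _ = (A.obj j).str.app (op U.toOpens) ≫ (((R (S := S)).map (c.ι.app j)).app (op U) ≫
          (dsc A c hc v hv g hg).app (op U)) := Category.assoc _ _ _
    _ = (A.obj j).str.app (op U.toOpens) ≫ ((γ (A.obj j)).inv.app (op U) ≫
          (W (A.obj j).π g (v j) (hg j)).app (op U)) :=
        congrArg ((A.obj j).str.app (op U.toOpens) ≫ ·) e3
    _ = ((A.obj j).str.app (op U.toOpens) ≫ (γ (A.obj j)).inv.app (op U)) ≫
          (W (A.obj j).π g (v j) (hg j)).app (op U) := (Category.assoc _ _ _).symm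
    _ = (A.obj j).π.app U.toOpens ≫ (W (A.obj j).π g (v j) (hg j)).app (op U) :=
        congrArg (· ≫ (W (A.obj j).π g (v j) (hg j)).app (op U)) e4
    _ = g.app U.toOpens := e5

include hc hv hg in
theorem existsUnique_lift :
    ∃! w : T ⟶ c.pt.spec, ∀ j : J, w ≫ QCAlg.specMap (c.ι.app j) = v j := by
  obtain ⟨w, hw, hwU⟩ := AffExt.exists_lift c.pt.π g (ω₀ A c hc v hv g hg) (ω₀_comm A c hc v hv g hg)
  have hWw : W c.pt.π g w hw = ω₀ A c hc v hv g hg := by
    ext U : 2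
    obtain ⟨U⟩ := U
    rw [W_app]
    exact hwU U
  -- general: a morphism over `S` with the right compositions has the right algebra map
  have key : ∀ (w' : T ⟶ c.pt.spec) (hw' : w' ≫ c.pt.π = g),
      (∀ j, w' ≫ QCAlg.specMap (c.ι.app j) = v j) ↔ W c.pt.π g w' hw' = ω₀ A c hc v hv g hg := by
    intro w' hw'
    have hcomp : ∀ j (w₁ : (w' ≫ QCAlg.specMap (c.ι.app j)) ≫ (A.obj j).π = g),
        (γ (A.obj j)).inv ≫ W (A.obj j).π g (w' ≫ QCAlg.specMap (c.ι.app j)) w₁ =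
        (R (S := S)).map (c.ι.app j) ≫ (γ c.pt).inv ≫ W c.pt.π g w' hw' := by
      intro j w₁
      have hR := R_map_γ_inv (A := A.obj j) (B := c.pt) (c.ι.app j)
      rw [W_comp (A.obj j).π c.pt.π g (QCAlg.specMap (c.ι.app j))
        (QCAlg.specMap_π (A := A.obj j) (B := c.pt) (c.ι.app j)) w' hw' w₁,
        ← Category.assoc ((R (S := S)).map (c.ι.app j)), hR, Category.assoc]
    have hw₁ : ∀ j, (w' ≫ QCAlg.specMap (c.ι.app j)) ≫ (A.obj j).π = g := fun j => by
      rw [Category.assoc, QCAlg.specMap_π (A := A.obj j) (B := c.pt) (c.ι.app j), hw']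
    constructor
    · intro h
      unfold ω₀
      rw [← Iso.inv_comp_eq]
      apply R_hom_ext A c hc
      intro j
      rw [ι_dsc, ← hcomp j (hw₁ j)]
      congr 1
      exact W_congr _ _ (h j) _ _
    · intro h j
      apply AffUniv.hom_ext_of_appLE (A.obj j).π g _ _ (hw₁ j) (hg j)
      intro U
      rw [← W_app (A.obj j).π g _ (hw₁ j), ← W_app (A.obj j).π g _ (hg j)]
      have h2 : W (A.obj j).π g (w' ≫ QCAlg.specMap (c.ι.app j)) (hw₁ j) =
          W (A.obj j).π g (v j) (hg j) := by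
        have := hcomp j (hw₁ j)
        rw [h, ω₀, Iso.inv_hom_id_assoc, ι_dsc] at this
        exact (cancel_epi _).mp this
      rw [h2]
  refine ⟨w, (key w hw).mpr hWw, fun w' h' => ?_⟩
  obtain ⟨j⟩ : Nonempty J := IsFiltered.nonempty
  have hw' : w' ≫ c.pt.π = g := by
    rw [← QCAlg.specMap_π (A := A.obj j) (B := c.pt) (c.ι.app j), ← Category.assoc, h' j, hg j]
  have e := ((key w' hw').mp h').trans hWw.symm
  apply AffUniv.hom_ext_of_appLE c.pt.π g _ _ hw' hw
  intro U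
  rw [← W_app c.pt.π g _ hw', ← W_app c.pt.π g _ hw, e]

end main

end Groth.Agent.Lib.Helper50.QCAlgSpecLim
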