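import Groth.Agent.S4439
import Groth.Agent.Lib.Helper50.UnivOC
import Groth.Agent.Lib.Helper76.RegularLocal
import Groth.Agent.Lib.Helper73.DimFT.DimFun
import Mathlib.AlgebraicGeometry.SpreadingOut
import Mathlib.AlgebraicGeometry.Morphisms.Separated
import Mathlib.RingTheory.DiscreteValuationRing.TFAE

set_option autoImplicit false
universe u
open CategoryTheory CategoryTheory.Limits AlgebraicGeometry IsLocalRing TopologicalSpace

namespace Groth.Agent.Lib.Helper50

/-- Gluing local sections of a separated morphism which agree with a given section over a dense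
open subset. -/
theorem glue_sections {X Y : Scheme.{u}} [IsReduced Y] (f : X ⟶ Y) [IsSeparated f]
    (V : Y.Opens) (hV : Dense (V : Set Y)) (s : (V : Scheme.{u}) ⟶ X)
    {I : Type u} (W : I → Y.Opens) (t : ∀ i, ((W i : Y.Opens) : Scheme.{u}) ⟶ X)
    (ht : ∀ i, t i ≫ f = (W i).ι)
    (hP : ∀ i (T : Scheme.{u}) (a : T ⟶ (W i : Scheme.{u})) (b : T ⟶ (V : Scheme.{u})),
      a ≫ (W i).ι = b ≫ V.ι → a ≫ t i = b ≫ s) :
    ∃ s' : ((⨆ i, W i : Y.Opens) : Scheme.{u}) ⟶ X, s' ≫ f = (⨆ i, W i).ι ∧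
      ∀ i, Y.homOfLE (le_iSup W i) ≫ s' = t i := by
  have compat : ∀ i j : I, pullback.fst (Y.homOfLE (le_iSup W i)) (Y.homOfLE (le_iSup W j)) ≫ t i =
      pullback.snd (Y.homOfLE (le_iSup W i)) (Y.homOfLE (le_iSup W j)) ≫ t j := by
    intro i j
    let h : pullback (Y.homOfLE (le_iSup W i)) (Y.homOfLE (le_iSup W j)) ⟶ Y :=
      pullback.fst (Y.homOfLE (le_iSup W i)) (Y.homOfLE (le_iSup W j)) ≫ (W i).ι
    have hh : h = pullback.snd (Y.homOfLE (le_iSup W i)) (Y.homOfLE (le_iSup W j)) ≫ (W j).ι := by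
      have h2 := congrArg (· ≫ (⨆ i, W i).ι)
        (pullback.condition (f := Y.homOfLE (le_iSup W i)) (g := Y.homOfLE (le_iSup W j)))
      simpa [h] using h2
    have : IsReduced (pullback (Y.homOfLE (le_iSup W i)) (Y.homOfLE (le_iSup W j))) :=
      isReduced_of_isOpenImmersion h
    have : IsDominant (pullback.fst h V.ι) := by
      refine ⟨?_⟩
      rw [DenseRange, Scheme.Pullback.range_fst, Scheme.Opens.range_ι]
      exact hV.preimage h.isOpenEmbedding.isOpenMap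
    refine ext_of_isDominant_of_isSeparated f ?_ (pullback.fst h V.ι) ?_
    · rw [Category.assoc, Category.assoc, ht, ht]
      exact hh
    · have e1 := hP i _ (pullback.fst h V.ι ≫ pullback.fst _ _) (pullback.snd h V.ι)
          (by rw [Category.assoc]; exact pullback.condition)
      have e2 := hP j _ (pullback.fst h V.ι ≫ pullback.snd _ _) (pullback.snd h V.ι)
          (by rw [Category.assoc, ← hh]; exact pullback.condition)
      rw [Category.assoc] at e1 e2
      rw [e1, e2]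
  let 𝒰 : ((⨆ i, W i : Y.Opens) : Scheme.{u}).OpenCover :=
    Scheme.Cover.mkOfCovers I (fun i => ((W i : Y.Opens) : Scheme.{u}))
      (fun i => Y.homOfLE (le_iSup W i)) (fun x => by
        have hx : x.1 ∈ ⨆ i, W i := x.2
        rw [Opens.mem_iSup] at hx
        obtain ⟨i, hi⟩ := hx
        exact ⟨i, ⟨x.1, hi⟩, Scheme.homOfLE_apply' _ _ _⟩)
  refine ⟨𝒰.glueMorphisms t compat, ?_, fun i => Scheme.Cover.ι_glueMorphisms 𝒰 t compat i⟩
  refine 𝒰.hom_ext _ _ fun i => ?_
  have h1 : 𝒰.f i ≫ 𝒰.glueMorphisms t compat = t i := Scheme.Cover.ι_glueMorphisms 𝒰 t compat i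
  rw [← Category.assoc, h1]
  exact (ht i).trans (Y.homOfLE_ι (le_iSup W i)).symm

theorem exists_local_section {X Y : Scheme.{u}} [IsLocallyNoetherian Y] [IsReduced Y]
    (f : X ⟶ Y) [IsSeparated f] [LocallyOfFiniteType f] (hcl : IsClosedMap f.base)
    (V : Y.Opens) (hV : Dense (V : Set Y)) (s : (V : Scheme.{u}) ⟶ X) (hs : s ≫ f = V.ι)
    (y : Y) (hreg : IsRegularLocalRing (Y.presheaf.stalk y))
    (hdim : ringKrullDim (Y.presheaf.stalk y) ≤ 1) :
    ∃ (W : Y.Opens) (_ : y ∈ W) (t : (W : Scheme.{u}) ⟶ X), t ≫ f = W.ι ∧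
      ∀ (T : Scheme.{u}) (a : T ⟶ (W : Scheme.{u})) (b : T ⟶ (V : Scheme.{u})),
        a ≫ W.ι = b ≫ V.ι → a ≫ t = b ≫ s := by
  by_cases hyV : y ∈ V
  · exact ⟨V, hyV, s, hs, fun T a b h => by rw [(cancel_mono V.ι).mp h]⟩
  set R := Y.presheaf.stalk y with hR
  haveI : IsDomain R := Groth.Agent.Lib.Helper76.isDomain_of_isRegularLocalRing R
  haveI : ValuationRing R := by
    have h1 := (IsRegularLocalRing.iff_finrank_cotangentSpace R).mp hreg
    have h2 : Module.finrank (ResidueField R) (CotangentSpace R) ≤ 1 := by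
      have : ((Module.finrank (ResidueField R) (CotangentSpace R) : ℕ) : WithBot ℕ∞) ≤ 1 :=
        h1 ▸ hdim
      exact_mod_cast this
    exact ((tfae_of_isNoetherianRing_of_isLocalRing_of_isDomain R).out 5 1).mp h2
  -- a Noetherian neighbourhood and the irreducible neighbourhood `W₀`
  obtain ⟨N, hN, hyN, -⟩ := exists_isAffineOpen_mem_and_subset
    (show y ∈ (⊤ : Y.Opens) from trivial)
  haveI : IsNoetherianRing Γ(Y, N) := IsLocallyNoetherian.component_noetherian ⟨N, hN⟩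
  haveI : NoetherianSpace (N : Set Y) := noetherianSpace_of_isAffineOpen N hN
  obtain ⟨W₀, hW₀o, hyW₀, hW₀⟩ :=
    Groth.Agent.Lib.Helper73.exists_open_forall_exists_generic_of_nhd y (N : Set Y) N.2 hyN
  -- the generic point
  let K := FractionRing R
  let ιK : Spec (CommRingCat.of K) ⟶ Spec R := Spec.map (CommRingCat.ofHom (algebraMap R K))
  let jK : Spec (CommRingCat.of K) ⟶ Y := ιK ≫ Y.fromSpecStalk y
  let pt : Spec (CommRingCat.of K) := closedPoint K
  have hgen : ∀ q : Spec R, ιK.base pt ⤳ q := by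
    intro q
    refine (PrimeSpectrum.le_iff_specializes _ _).mp ?_
    change Ideal.comap (algebraMap R K) _ ≤ q.asIdeal
    intro r hr
    have h0 : algebraMap R K r = 0 := by
      have : algebraMap R K r ∈ maximalIdeal K := hr
      rwa [IsLocalRing.maximalIdeal_eq_bot, Ideal.mem_bot] at this
    rw [(IsFractionRing.injective R K) (h0.trans (map_zero _).symm)]
    exact q.asIdeal.zero_mem
  set η : Y := jK.base pt with hη
  have hηgen : ∀ η' : Y, η' ⤳ y → η ⤳ η' := by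
    intro η' h'
    obtain ⟨q, rfl⟩ : η' ∈ Set.range (Y.fromSpecStalk y).base := by
      rw [Scheme.range_fromSpecStalk]; exact h'
    exact (hgen q).map (Y.fromSpecStalk y).continuous
  have hηW : ∀ w ∈ W₀, η ⤳ w := by
    intro w hw
    obtain ⟨η', h1, h2⟩ := hW₀ w hw
    exact (hηgen η' h2).trans h1
  have hηV : η ∈ V := by
    obtain ⟨w, hwW, hwV⟩ := hV.inter_open_nonempty W₀ hW₀o ⟨y, hyW₀⟩
    exact (hηW w hwW).mem_open V.2 hwV
  have hηy : η ⤳ y := hηgen y specializes_rfl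
  -- the rational point through `V`
  have hrange : Set.range jK.base ⊆ Set.range V.ι.base := by
    rintro _ ⟨p, rfl⟩
    have hp : p = pt := Subsingleton.elim _ _
    rw [hp, Scheme.Opens.range_ι]
    exact hηV
  let k : Spec (CommRingCat.of K) ⟶ (V : Scheme.{u}) := IsOpenImmersion.lift V.ι jK hrange
  have hk : k ≫ V.ι = jK := IsOpenImmersion.lift_fac _ _ _
  -- base change to the local ring and the section there
  have hcl' : IsClosedMap (pullback.snd f (Y.fromSpecStalk y)).base :=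
    isClosedMap_snd_of_isPreimmersion (IsPullback.of_hasPullback f (Y.fromSpecStalk y)) hcl
  let xK : Spec (CommRingCat.of K) ⟶ pullback f (Y.fromSpecStalk y) :=
    pullback.lift (k ≫ s) ιK (by rw [Category.assoc, hs, hk])
  have hdom : IsDomain (R : Type u) := inferInstance
  obtain ⟨σ, ⟨hσ₁, hσ₂⟩, -⟩ := @Groth.Agent.S4439.result (R : Type u) _ hdom _ K _ _ _
    (pullback f (Y.fromSpecStalk y))
    (pullback.snd f (Y.fromSpecStalk y)) _ hcl' xK (pullback.lift_snd _ _ _)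
  let l : Spec R ⟶ X := σ ≫ pullback.fst f (Y.fromSpecStalk y)
  have hl₁ : l ≫ f = Y.fromSpecStalk y := by
    change (σ ≫ pullback.fst f (Y.fromSpecStalk y)) ≫ f = _
    rw [Category.assoc, pullback.condition, ← Category.assoc, hσ₁]
    exact Category.id_comp _
  have hl₂ : ιK ≫ l = k ≫ s := by
    change ιK ≫ σ ≫ pullback.fst f (Y.fromSpecStalk y) = _
    rw [← Category.assoc]
    exact (congrArg (· ≫ pullback.fst f (Y.fromSpecStalk y)) hσ₂).trans (pullback.lift_fst _ _ _)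
  -- spreading out
  obtain ⟨U₁, hyU₁, t₁, hlt, ht₁⟩ := spread_out_of_isGermInjective' (𝟙 Y) f l
    (by rw [hl₁, Category.comp_id])
  rw [Category.comp_id] at ht₁
  let W : Y.Opens := U₁ ⊓ ⟨W₀, hW₀o⟩
  have hyW : y ∈ W := ⟨hyU₁, hyW₀⟩
  obtain ⟨t, ht_def⟩ : ∃ t : (W : Scheme.{u}) ⟶ X,
      t = Y.homOfLE (inf_le_left : W ≤ U₁) ≫ t₁ := ⟨_, rfl⟩
  have ht : t ≫ f = W.ι := by
    rw [ht_def, Category.assoc, ht₁, Scheme.homOfLE_ι]
  refine ⟨W, hyW, t, ht, ?_⟩
  intro T a b hab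
  let O : Y.Opens := W ⊓ V
  have hE : Y.homOfLE (inf_le_left : O ≤ W) ≫ t = Y.homOfLE (inf_le_right : O ≤ V) ≫ s := by
    have hrangeO : Set.range jK.base ⊆ Set.range O.ι.base := by
      rintro _ ⟨p, rfl⟩
      have hp : p = pt := Subsingleton.elim _ _
      rw [hp, Scheme.Opens.range_ι]
      exact ⟨⟨hηy.mem_open U₁.2 hyU₁, hηy.mem_open hW₀o hyW₀⟩, hηV⟩
    let ι' : Spec (CommRingCat.of K) ⟶ (O : Scheme.{u}) := IsOpenImmersion.lift O.ι jK hrangeO
    have hι' : ι' ≫ O.ι = jK := IsOpenImmersion.lift_fac _ _ _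
    haveI : IsDominant ι' := by
      refine ⟨fun o => ?_⟩
      have h1 : O.ι.base (ι'.base pt) = η := congrArg (fun q => q.base pt) hι'
      have h2 : η ⤳ O.ι.base o := hηW _ o.2.1.2
      have h3 : ι'.base pt ⤳ o := by
        rw [← O.ι.isOpenEmbedding.isInducing.specializes_iff, h1]; exact h2
      exact closure_mono (Set.singleton_subset_iff.mpr (Set.mem_range_self pt))
        (specializes_iff_mem_closure.mp h3)
    refine ext_of_isDominant_of_isSeparated f ?_ ι' ?_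
    · rw [Category.assoc, Category.assoc, ht, hs, Scheme.homOfLE_ι, Scheme.homOfLE_ι]
    · have h1 : ι' ≫ Y.homOfLE (inf_le_right : O ≤ V) = k := by
        rw [← cancel_mono V.ι, Category.assoc, Scheme.homOfLE_ι, hι', hk]
      have h2 : ι' ≫ Y.homOfLE (inf_le_left : O ≤ W) ≫ Y.homOfLE (inf_le_left : W ≤ U₁) =
          ιK ≫ U₁.fromSpecStalkOfMem y hyU₁ := by
        rw [← cancel_mono U₁.ι]
        simp only [Category.assoc, Scheme.homOfLE_ι, Scheme.Opens.fromSpecStalkOfMem_ι]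
        exact hι'
      calc ι' ≫ Y.homOfLE (inf_le_left : O ≤ W) ≫ t
          = (ι' ≫ Y.homOfLE (inf_le_left : O ≤ W) ≫ Y.homOfLE (inf_le_left : W ≤ U₁)) ≫ t₁ := by
            rw [ht_def]; simp only [Category.assoc]
        _ = ιK ≫ l := by rw [h2, Category.assoc, ← hlt]
        _ = k ≫ s := hl₂
        _ = ι' ≫ Y.homOfLE (inf_le_right : O ≤ V) ≫ s := by rw [← Category.assoc, h1]
  have hrT : Set.range (a ≫ W.ι).base ⊆ Set.range O.ι.base := by
    rintro _ ⟨p, rfl⟩
    rw [Scheme.Opens.range_ι]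
    refine ⟨(a.base p).2, ?_⟩
    have : (a ≫ W.ι).base p = (b ≫ V.ι).base p := by rw [hab]
    rw [this]
    exact (b.base p).2
  let c : T ⟶ (O : Scheme.{u}) := IsOpenImmersion.lift O.ι (a ≫ W.ι) hrT
  have hc₁ : c ≫ Y.homOfLE (inf_le_left : O ≤ W) = a := by
    rw [← cancel_mono W.ι, Category.assoc, Scheme.homOfLE_ι, IsOpenImmersion.lift_fac]
  have hc₂ : c ≫ Y.homOfLE (inf_le_right : O ≤ V) = b := by
    rw [← cancel_mono V.ι, Category.assoc, Scheme.homOfLE_ι, IsOpenImmersion.lift_fac, hab]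
  rw [← hc₁, ← hc₂, Category.assoc, Category.assoc, hE]

theorem exists_section_extension {X Y : Scheme.{u}} [IsLocallyNoetherian Y] [IsReduced Y]
    (hreg : ∀ y : Y, ringKrullDim (Y.presheaf.stalk y) ≤ 1 →
      IsRegularLocalRing (Y.presheaf.stalk y))
    (f : X ⟶ Y) [IsSeparated f] [LocallyOfFiniteType f] (hcl : IsClosedMap f.base)
    (V : Y.Opens) (hV : Dense (V : Set Y)) (s : (V : Scheme.{u}) ⟶ X) (hs : s ≫ f = V.ι) :
    ∃ (U : Y.Opens) (hVU : V ≤ U) (s' : (U : Scheme.{u}) ⟶ X), s' ≫ f = U.ι ∧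
      Y.homOfLE hVU ≫ s' = s ∧
      ∀ y : Y, ringKrullDim (Y.presheaf.stalk y) ≤ 1 → y ∈ U := by
  let J := {y : Y // ringKrullDim (Y.presheaf.stalk y) ≤ 1}
  have hloc : ∀ j : J, ∃ (W : Y.Opens) (_ : j.1 ∈ W) (t : (W : Scheme.{u}) ⟶ X), t ≫ f = W.ι ∧
      ∀ (T : Scheme.{u}) (a : T ⟶ (W : Scheme.{u})) (b : T ⟶ (V : Scheme.{u})),
        a ≫ W.ι = b ≫ V.ι → a ≫ t = b ≫ s :=
    fun j => exists_local_section f hcl V hV s hs j.1 (hreg j.1 j.2) j.2
  choose W' hW' t' ht' hP' using hloc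
  let W : Option J → Y.Opens := fun o => Option.elim o V W'
  let t : ∀ o : Option J, ((W o : Y.Opens) : Scheme.{u}) ⟶ X :=
    @Option.rec J (fun o => ((W o : Y.Opens) : Scheme.{u}) ⟶ X) s t'
  have ht : ∀ o, t o ≫ f = (W o).ι := by
    rintro (_ | j)
    · exact hs
    · exact ht' j
  have hP : ∀ o (T : Scheme.{u}) (a : T ⟶ ((W o : Y.Opens) : Scheme.{u}))
      (b : T ⟶ (V : Scheme.{u})), a ≫ (W o).ι = b ≫ V.ι → a ≫ t o = b ≫ s := by
    rintro (_ | j) T a b hab
    · have : a = b := (cancel_mono V.ι).mp hab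
      rw [this]
      rfl
    · exact hP' j T a b hab
  obtain ⟨s', hs'₁, hs'₂⟩ := glue_sections f V hV s W t ht hP
  refine ⟨⨆ o, W o, le_iSup W none, s', hs'₁, hs'₂ none, fun y hy => ?_⟩
  exact (le_iSup W (some ⟨y, hy⟩)) (hW' ⟨y, hy⟩)

end Groth.Agent.Lib.Helper50
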