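import Groth.Agent.Lib.Helper50.Glue2
import Groth.Agent.Lib.Helper50.Descent2

/-!
# Relative gluing over a cover by two opens
-/

set_option autoImplicit false
universe u
open CategoryTheory CategoryTheory.Limits AlgebraicGeometry

namespace Groth.Agent.Lib.Helper50.Descent

lemma isPullback_of_comp_mono {C : Type*} [Category C] {P X Y W Z : C} {fst : P ⟶ X} {snd : P ⟶ Y}
    {f : X ⟶ W} {g : Y ⟶ W} (i : W ⟶ Z) [Mono i] (h : IsPullback fst snd (f ≫ i) (g ≫ i)) :
    IsPullback fst snd f g :=
  ⟨⟨by rw [← cancel_mono i, Category.assoc, Category.assoc, h.w]⟩,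
    ⟨PullbackCone.IsLimit.mk _
      (fun s => h.lift s.fst s.snd (by rw [← Category.assoc, s.condition, Category.assoc]))
      (fun s => h.lift_fst _ _ _) (fun s => h.lift_snd _ _ _)
      (fun s m h1 h2 => h.hom_ext (by rw [h1, h.lift_fst]) (by rw [h2, h.lift_snd]))⟩⟩

section

variable {B A C O : Scheme.{u}} (a : A ⟶ B) (b : C ⟶ B) [IsOpenImmersion a] [IsOpenImmersion b]
  (hcov : ∀ x : B, x ∈ Set.range a ∨ x ∈ Set.range b)
  (oA : O ⟶ A) (oC : O ⟶ C) (hO : IsPullback oA oC a b)
  {EA EC EO : Scheme.{u}} (fA : EA ⟶ A) (fC : EC ⟶ C) (fO : EO ⟶ O)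
  (wA : EO ⟶ EA) (wC : EO ⟶ EC)
  (hA : IsPullback wA fO fA oA) (hC : IsPullback wC fO fC oC)

include hO hA in
lemma isOpenImmersion_wA : IsOpenImmersion wA := by
  have : IsOpenImmersion oA := MorphismProperty.of_isPullback (P := @IsOpenImmersion) hO.flip
    inferInstance
  exact MorphismProperty.of_isPullback (P := @IsOpenImmersion) hA.flip inferInstance

include hO hC in
lemma isOpenImmersion_wC : IsOpenImmersion wC := by
  have : IsOpenImmersion oC := MorphismProperty.of_isPullback (P := @IsOpenImmersion) hO inferInstance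
  exact MorphismProperty.of_isPullback (P := @IsOpenImmersion) hC.flip inferInstance

include hA hC hO in
lemma relGlue_comm : wA ≫ fA ≫ a = wC ≫ fC ≫ b := by
  rw [hA.w_assoc, hC.w_assoc, hO.w]

variable [IsOpenImmersion wA] [IsOpenImmersion wC]

/-- The structure map of the glued scheme. -/
noncomputable def relGlueToBase : pushout wA wC ⟶ B :=
  pushout.desc (fA ≫ a) (fC ≫ b) (relGlue_comm a b oA oC hO fA fC fO wA wC hA hC)

@[reassoc (attr := simp)]
lemma inl_relGlueToBase :
    pushout.inl wA wC ≫ relGlueToBase a b oA oC hO fA fC fO wA wC hA hC = fA ≫ a :=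
  pushout.inl_desc _ _ _

@[reassoc (attr := simp)]
lemma inr_relGlueToBase :
    pushout.inr wA wC ≫ relGlueToBase a b oA oC hO fA fC fO wA wC hA hC = fC ≫ b :=
  pushout.inr_desc _ _ _

set_option backward.isDefEq.respectTransparency false in
lemma isPullback_inl_relGlueToBase :
    IsPullback fA (pushout.inl wA wC) a (relGlueToBase a b oA oC hO fA fC fO wA wC hA hC) := by
  refine IsOpenImmersion.isPullback _ _ _ _ (inl_relGlueToBase ..) ?_
  apply TopologicalSpace.Opens.ext
  ext z
  simp only [Scheme.Hom.coe_opensRange, TopologicalSpace.Opens.map_coe, Set.mem_preimage]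
  constructor
  · intro hz
    rcases pushout_jointly_surjective wA wC z with ⟨y, rfl⟩ | ⟨y, rfl⟩
    · exact ⟨y, rfl⟩
    · rw [← Scheme.Hom.comp_apply, inr_relGlueToBase, Scheme.Hom.comp_apply] at hz
      obtain ⟨t, ht⟩ := hz
      obtain ⟨o, ho1, ho2⟩ := hO.exists_preimage_scheme t (fC y) ht
      obtain ⟨e, he1, he2⟩ := hC.exists_preimage_scheme y o ho2.symm
      refine ⟨wA e, ?_⟩
      rw [← he1, ← Scheme.Hom.comp_apply, ← Scheme.Hom.comp_apply, pushout.condition]
  · rintro ⟨y, rfl⟩
    rw [← Scheme.Hom.comp_apply, inl_relGlueToBase, Scheme.Hom.comp_apply]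
    exact ⟨fA y, rfl⟩

set_option backward.isDefEq.respectTransparency false in
lemma isPullback_inr_relGlueToBase :
    IsPullback fC (pushout.inr wA wC) b (relGlueToBase a b oA oC hO fA fC fO wA wC hA hC) := by
  refine IsOpenImmersion.isPullback _ _ _ _ (inr_relGlueToBase ..) ?_
  apply TopologicalSpace.Opens.ext
  ext z
  simp only [Scheme.Hom.coe_opensRange, TopologicalSpace.Opens.map_coe, Set.mem_preimage]
  constructor
  · intro hz
    rcases pushout_jointly_surjective wA wC z with ⟨y, rfl⟩ | ⟨y, rfl⟩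
    · rw [← Scheme.Hom.comp_apply, inl_relGlueToBase, Scheme.Hom.comp_apply] at hz
      obtain ⟨t, ht⟩ := hz
      obtain ⟨o, ho1, ho2⟩ := hO.exists_preimage_scheme (fA y) t ht.symm
      obtain ⟨e, he1, he2⟩ := hA.exists_preimage_scheme y o ho1.symm
      refine ⟨wC e, ?_⟩
      rw [← he1, ← Scheme.Hom.comp_apply, ← Scheme.Hom.comp_apply, pushout.condition]
    · exact ⟨y, rfl⟩
  · rintro ⟨y, rfl⟩
    rw [← Scheme.Hom.comp_apply, inr_relGlueToBase, Scheme.Hom.comp_apply]
    exact ⟨fC y, rfl⟩

include hcov in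
/-- A property local on the target holds for the glued morphism if it holds for both pieces. -/
lemma relGlueToBase_prop (P : MorphismProperty Scheme.{u}) [IsZariskiLocalAtTarget P]
    (h1 : P fA) (h2 : P fC) : P (relGlueToBase a b oA oC hO fA fC fO wA wC hA hC) := by
  rw [IsZariskiLocalAtTarget.iff_of_openCover (P := P) (coverOfTwo a b hcov)]
  rintro (_ | _)
  · have hp := isPullback_inl_relGlueToBase a b oA oC hO fA fC fO wA wC hA hC
    exact (P.arrow_mk_iso_iff (Arrow.isoMk hp.flip.isoPullback (Iso.refl _)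
      (by simp [Scheme.Cover.pullbackHom]; exact hp.flip.isoPullback_hom_snd))).mp h1
  · have hp := isPullback_inr_relGlueToBase a b oA oC hO fA fC fO wA wC hA hC
    exact (P.arrow_mk_iso_iff (Arrow.isoMk hp.flip.isoPullback (Iso.refl _)
      (by simp [Scheme.Cover.pullbackHom]; exact hp.flip.isoPullback_hom_snd))).mp h2

end

end Groth.Agent.Lib.Helper50.Descent
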