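import Mathlib

/-!
# The degree-one projection of a symmetric algebra

For `f : M →ₗ[R] A` exhibiting `A` as the symmetric algebra of `M`: the augmentation `aug : A →ₐ[R] R`, the
degree-one projection `deg1 : A →ₗ[R] M` (a left inverse of `f`), its Leibniz rule, its naturality under
change of rings, and the fact that an algebra surjection `A' → A` from another symmetric algebra
`f' : E → A'` induces a surjection `deg1 ∘ g ∘ f' : E → M`.
-/

set_option autoImplicit false

namespace Groth.Agent.Lib.Helper50.SymDeg1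

section
variable {R M A : Type*} [CommRing R] [AddCommGroup M] [Module R M] [CommRing A] [Algebra R A]
  {f : M →ₗ[R] A} (h : IsSymmetricAlgebra f)

/-- The augmentation of a symmetric algebra. -/
noncomputable def aug : A →ₐ[R] R := h.lift (0 : M →ₗ[R] R)

theorem aug_f (m : M) : aug h (f m) = 0 := by
  simp [aug]

/-- The degree-one projection of a symmetric algebra. -/
noncomputable def deg1 : A →ₗ[R] M := by
  letI : Module Rᵐᵒᵖ M := Module.compHom _ ((RingHom.id R).fromOpposite mul_comm)
  haveI : IsCentralScalar R M := ⟨fun r m => rfl⟩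
  exact (TrivSqZeroExt.sndHom R M).comp (h.lift (TrivSqZeroExt.inrHom R M)).toLinearMap

theorem deg1_f (m : M) : deg1 h (f m) = m := by
  letI : Module Rᵐᵒᵖ M := Module.compHom _ ((RingHom.id R).fromOpposite mul_comm)
  haveI : IsCentralScalar R M := ⟨fun r m => rfl⟩
  change (h.lift (TrivSqZeroExt.inrHom R M) (f m)).snd = m
  rw [h.lift_eq]
  rfl

theorem deg1_algebraMap (r : R) : deg1 h (algebraMap R A r) = 0 := by
  letI : Module Rᵐᵒᵖ M := Module.compHom _ ((RingHom.id R).fromOpposite mul_comm)
  haveI : IsCentralScalar R M := ⟨fun r m => rfl⟩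
  change (h.lift (TrivSqZeroExt.inrHom R M) (algebraMap R A r)).snd = 0
  rw [AlgHom.commutes]
  rfl

theorem deg1_mul (a b : A) : deg1 h (a * b) = aug h a • deg1 h b + aug h b • deg1 h a := by
  letI : Module Rᵐᵒᵖ M := Module.compHom _ ((RingHom.id R).fromOpposite mul_comm)
  haveI : IsCentralScalar R M := ⟨fun r m => rfl⟩
  have hfst : ∀ a, (h.lift (TrivSqZeroExt.inrHom R M) a).fst = aug h a := by
    intro a
    have h1 : (TrivSqZeroExt.fstHom R R M).comp (h.lift (TrivSqZeroExt.inrHom R M)) = aug h := by
      apply h.algHom_ext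
      ext m
      simp [aug]
    exact congr($h1 a)
  change (h.lift (TrivSqZeroExt.inrHom R M) (a * b)).snd = _
  rw [map_mul, TrivSqZeroExt.snd_mul, hfst, hfst]
  rfl

end

section nat
variable {R M A : Type*} [CommRing R] [AddCommGroup M] [Module R M] [CommRing A] [Algebra R A]
  {f : M →ₗ[R] A} (h : IsSymmetricAlgebra f)
  {R' M' A' : Type*} [CommRing R'] [AddCommGroup M'] [Module R' M'] [CommRing A'] [Algebra R' A']
  {f' : M' →ₗ[R'] A'} (h' : IsSymmetricAlgebra f')

/-- Naturality of the augmentation and of the degree-one projection under change of rings. -/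
theorem aug_deg1_natural (ρ : R →+* R') (μ : M →+ M') (σ : A →+* A')
    (hμ : ∀ (r : R) (m : M), μ (r • m) = ρ r • μ m)
    (hσ1 : ∀ r : R, σ (algebraMap R A r) = algebraMap R' A' (ρ r))
    (hσ2 : ∀ m : M, σ (f m) = f' (μ m)) (a : A) :
    ρ (aug h a) = aug h' (σ a) ∧ μ (deg1 h a) = deg1 h' (σ a) := by
  induction a using h.induction with
  | algebraMap r =>
    rw [hσ1, AlgHom.commutes, AlgHom.commutes, deg1_algebraMap, deg1_algebraMap, map_zero]
    exact ⟨rfl, rfl⟩
  | ι m =>
    rw [hσ2, aug_f, aug_f, deg1_f, deg1_f, map_zero]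
    exact ⟨rfl, rfl⟩
  | mul a b ha hb =>
    rw [map_mul, map_mul, map_mul, map_mul, deg1_mul, deg1_mul, map_add, hμ, hμ, ha.1, ha.2, hb.1, hb.2]
    exact ⟨rfl, rfl⟩
  | add a b ha hb =>
    refine ⟨?_, ?_⟩
    · simp only [map_add, ha.1, hb.1]
    · simp only [map_add, ha.2, hb.2]

theorem deg1_natural (ρ : R →+* R') (μ : M →+ M') (σ : A →+* A')
    (hμ : ∀ (r : R) (m : M), μ (r • m) = ρ r • μ m)
    (hσ1 : ∀ r : R, σ (algebraMap R A r) = algebraMap R' A' (ρ r))
    (hσ2 : ∀ m : M, σ (f m) = f' (μ m)) (a : A) :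
    μ (deg1 h a) = deg1 h' (σ a) :=
  (aug_deg1_natural h h' ρ μ σ hμ hσ1 hσ2 a).2

end nat

section surj
variable {R M A : Type*} [CommRing R] [AddCommGroup M] [Module R M] [CommRing A] [Algebra R A]
  {f : M →ₗ[R] A} (h : IsSymmetricAlgebra f)
  {E A' : Type*} [AddCommGroup E] [Module R E] [CommRing A'] [Algebra R A']
  {f' : E →ₗ[R] A'} (h' : IsSymmetricAlgebra f')

include h' in
/-- A surjection of algebras from a symmetric algebra `Sym E` onto `Sym M` induces a surjection `E → M`
(compose with the degree-one projection). -/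
theorem deg1_comp_surjective (g : A' →+* A) (hg1 : ∀ r : R, g (algebraMap R A' r) = algebraMap R A r)
    (hg : Function.Surjective g) : Function.Surjective fun e : E => deg1 h (g (f' e)) := by
  let N : Submodule R M := LinearMap.range
    ({ toFun := fun e => deg1 h (g (f' e))
       map_add' := fun x y => by simp only [map_add]
       map_smul' := fun r x => by
        simp only [map_smul, RingHom.id_apply, Algebra.smul_def, map_mul, hg1, deg1_mul, AlgHom.commutes,
          deg1_algebraMap, smul_zero, add_zero]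
        rfl } : E →ₗ[R] M)
  have key : ∀ a' : A', deg1 h (g a') ∈ N := by
    intro a'
    induction a' using h'.induction with
    | algebraMap r => rw [hg1, deg1_algebraMap]; exact N.zero_mem
    | ι e => exact ⟨e, rfl⟩
    | mul a b ha hb =>
      rw [map_mul, deg1_mul]
      exact N.add_mem (N.smul_mem _ hb) (N.smul_mem _ ha)
    | add a b ha hb =>
      rw [map_add, map_add]
      exact N.add_mem ha hb
  intro m
  obtain ⟨a', ha'⟩ := hg (f m)
  have h1 := key a'
  rw [ha', deg1_f] at h1
  obtain ⟨e, he⟩ := h1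
  exact ⟨e, he⟩

end surj

end Groth.Agent.Lib.Helper50.SymDeg1
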