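import Groth.Agent.Lib.Helper74.SymQCAlgProps
import Groth.Agent.Lib.Helper50.SymDeg1
import Groth.Agent.Lib.Helper50.AffSpecIso
import Groth.Agent.Lib.Helper40.QCAlgGen
import Groth.Agent.Lib.Helper40.ExtFP1
import Groth.Agent.Lib.Helper6.AffUniv
import Groth.Agent.Lib.Helper2.RankSections
import Groth.Agent.Lib.Helper21.QCohSections
import Groth.Agent.Lib.Lead.CohAff3
import Groth.Agent.S8255
import Groth.Prelude.Def_PerfAux
import Mathlib.Topology.Sheaves.SheafCondition.Sites

/-!
# Resolution property and embeddings of affine finite-type schemes into vector bundles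

* `AffHomData`: a map of sheaves of modules `E ⟶ M` from compatible additive maps over the affine opens.
* `pr1 M : (symAlg M).toModule ⟶ M`: the degree-one projection of the symmetric algebra of a quasi-coherent module.
* `exists_epi_of_embeds`, `embeds_of_resolution`: the two directions of the criterion.
-/

set_option autoImplicit false
universe u
open CategoryTheory CategoryTheory.Limits AlgebraicGeometry TopologicalSpace Opposite

namespace Groth.Agent.Lib.Helper50.ResPropAux

open RelSpec Groth.Agent.Lib.Helper74.SymQ Groth.Agent.Lib.Helper74.OfAffine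
  Groth.Agent.Lib.Helper50.SymDeg1

variable {S : Scheme.{u}}

section builder
variable (E M : S.Modules)

/-- Affine-local data for a module map `E ⟶ M`. -/
structure AffHomData where
  /-- the maps on sections over affine opens -/
  app : ∀ (U : S.Opens) (_ : IsAffineOpen U), Γ(E, U) →+ Γ(M, U)
  nat : ∀ (U V : S.Opens) (hU : IsAffineOpen U) (hV : IsAffineOpen V) (h : V ≤ U) (m : Γ(E, U)),
    app V hV (E.presheaf.map (homOfLE h).op m) = M.presheaf.map (homOfLE h).op (app U hU m)
  lin : ∀ (U : S.Opens) (hU : IsAffineOpen U) (r : Γ(S, U)) (m : Γ(E, U)),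
    app U hU (r • m) = r • app U hU m

variable {E M} (d : AffHomData E M)

theorem isBasis_affine :
    Opens.IsBasis (Set.range (Subtype.val : S.affineOpens → S.Opens)) := by
  rw [Subtype.range_coe]; exact S.isBasis_affineOpens

/-- The natural transformation on the basis of affine opens. -/
noncomputable def AffHomData.basisNat :
    (inducedFunctor (Subtype.val : S.affineOpens → S.Opens)).op ⋙ E.presheaf ⟶
      (inducedFunctor (Subtype.val : S.affineOpens → S.Opens)).op ⋙ M.presheaf where
  app i := AddCommGrpCat.ofHom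
    (d.app (show S.affineOpens from i.unop).1 (show S.affineOpens from i.unop).2)
  naturality i j g := by
    ext s
    exact d.nat _ _ (show S.affineOpens from i.unop).2 (show S.affineOpens from j.unop).2
      g.unop.hom.le s

/-- The glued map of abelian presheaves. -/
noncomputable def AffHomData.glueNat : E.presheaf ⟶ M.presheaf :=
  TopCat.Sheaf.restrictHomEquivHom E.presheaf ⟨M.presheaf, M.isSheaf⟩ isBasis_affine d.basisNat

theorem AffHomData.glueNat_app (U : S.Opens) (hU : IsAffineOpen U) (s : Γ(E, U)) :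
    d.glueNat.app (op U) s = d.app U hU s := by
  have h := TopCat.Sheaf.extend_hom_app E.presheaf ⟨M.presheaf, M.isSheaf⟩ isBasis_affine
    d.basisNat ⟨U, hU⟩
  exact congr($h s)

theorem AffHomData.glueNat_res {W U : S.Opens} (i : U ≤ W) (s : Γ(E, W)) :
    M.presheaf.map (homOfLE i).op (d.glueNat.app (op W) s) =
      d.glueNat.app (op U) (E.presheaf.map (homOfLE i).op s) :=
  (congr($(d.glueNat.naturality (homOfLE i).op) s)).symm

/-- Two sections of a module agreeing on all affine opens are equal. -/
theorem eq_of_affine_res_eq (F : S.Modules) {W : S.Opens} (s t : Γ(F, W))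
    (h : ∀ (U : S.Opens) (_ : IsAffineOpen U) (hUW : U ≤ W),
      F.presheaf.map (homOfLE hUW).op s = F.presheaf.map (homOfLE hUW).op t) : s = t := by
  refine TopCat.Presheaf.section_ext ⟨F.presheaf, F.isSheaf⟩ W s t (fun x hx => ?_)
  obtain ⟨U, hU, hxU, hUW⟩ := Opens.isBasis_iff_nbhd.mp S.isBasis_affineOpens hx
  have e1 := TopCat.Presheaf.germ_res_apply F.presheaf (homOfLE hUW) x hxU s
  have e2 := TopCat.Presheaf.germ_res_apply F.presheaf (homOfLE hUW) x hxU t
  change F.presheaf.germ W x hx s = F.presheaf.germ W x hx t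
  rw [← e1, ← e2]
  exact congrArg _ (h U hU hUW)

theorem AffHomData.glueNat_smul (W : S.Opens) (r : Γ(S, W)) (s : Γ(E, W)) :
    d.glueNat.app (op W) (r • s) = r • d.glueNat.app (op W) s := by
  apply eq_of_affine_res_eq M
  intro U hU hUW
  rw [d.glueNat_res, Scheme.Modules.map_smul, Scheme.Modules.map_smul, d.glueNat_res,
    d.glueNat_app U hU, d.glueNat_app U hU, d.lin]

/-- The module map with the given restrictions to the affine opens. -/
noncomputable def AffHomData.toHom : E ⟶ M :=
  ⟨PresheafOfModules.homMk d.glueNat (fun U r m => d.glueNat_smul U.unop r m)⟩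

theorem AffHomData.toHom_app (U : S.Opens) (hU : IsAffineOpen U) (s : Γ(E, U)) :
    d.toHom.app U s = d.app U hU s := d.glueNat_app U hU s

end builder

section pr
variable (M : S.Modules) [M.IsQuasicoherent]

/-- The affine-local data of the degree-one projection `Sym M ⟶ M`. -/
noncomputable def prData : AffHomData (symAlg M).toModule M where
  app U hU := (deg1 (isSymmetricAlgebra_symJ M U hU)).toAddMonoidHom
  nat U V hU hV h m :=
    (deg1_natural (isSymmetricAlgebra_symJ M U hU) (isSymmetricAlgebra_symJ M V hV)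
      (resR h) (resM M h) ((symAlg M).presheaf.map (homOfLE h).op).hom (resM_smul M h)
      (fun r => str_res (symAlg M) h r) (fun x => (jLin_res (symJ M) h x).symm) m).symm
  lin U hU r m := map_smul (deg1 (isSymmetricAlgebra_symJ M U hU)) r m

/-- The degree-one projection `Sym M ⟶ M`. -/
noncomputable def pr1 : (symAlg M).toModule ⟶ M := (prData M).toHom

theorem pr1_app (U : S.Opens) (hU : IsAffineOpen U) (s : (symAlg M).presheaf.obj (op U)) :
    (pr1 M).app U s = deg1 (isSymmetricAlgebra_symJ M U hU) s :=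
  (prData M).toHom_app U hU s

end pr

section main

/-- If every affine finite-type scheme over `S` embeds into a vector bundle, then every quasi-coherent module of
finite type is a quotient of a finite locally free module. -/
theorem exists_epi_of_embeds (M : S.Modules) (hq : M.IsQuasicoherent)
    (hft : SheafOfModules.IsFiniteType (R := S.ringCatSheaf) M)
    (H : ∀ (X : Scheme.{u}) (f : X ⟶ S) [IsAffineHom f] [LocallyOfFiniteType f],
      ∃ (E : S.Modules) (A : RelSpec.QCAlg S) (j : E ⟶ A.toModule) (i : X ⟶ A.spec),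
        Coh.IsQCoh E ∧ FlatMod.IsFinLocFree E ∧ RelSpec.IsSymAlg E A j ∧ IsClosedImmersion i ∧
          i ≫ A.π = f) :
    ∃ (E : S.Modules) (π : E ⟶ M), FlatMod.IsFinLocFree E ∧ Epi π := by
  haveI := hq
  haveI : LocallyOfFiniteType (symAlg M).π := by
    refine spec_π_of_forall @LocallyOfFiniteType _ fun U hU => ?_
    rw [HasRingHomProperty.Spec_iff (P := @LocallyOfFiniteType)]
    haveI : Module.Finite Γ(S, U) Γ(M, U) :=
      Groth.Agent.Lib.Lead.CohAff.finite_sections_of_isFiniteType M hft hU
    have h := isSymmetricAlgebra_symJ M U hU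
    exact finiteType_of_isSymmetricAlgebra h
  obtain ⟨E, A, j, i, hEq, hEf, hsym, hi, hif⟩ := H (symAlg M).spec (symAlg M).π
  haveI : E.IsQuasicoherent := hEq
  haveI := hi
  haveI hisoA : IsIso A.gammaMap := Groth.Agent.S8255.result A
  haveI hisoB : IsIso (symAlg M).gammaMap := Groth.Agent.S8255.result (symAlg M)
  let g₁ : A.presheaf ⟶ A.π.base _* A.spec.presheaf := inv A.gammaMap
  have hg₁ : A.str ≫ g₁ = A.π.c := by
    rw [← A.π_c_gammaMap, Category.assoc, IsIso.hom_inv_id, Category.comp_id]
  let θ₁ : A ⟶ QCAlg.directImage A.π := ⟨g₁, hg₁⟩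
  let θ₂ : QCAlg.directImage A.π ⟶ QCAlg.directImage (symAlg M).π :=
    ⟨AffAlg.algHom A.π (symAlg M).π i hif, AffAlg.algHom_comm A.π (symAlg M).π i hif⟩
  let θ : A ⟶ symAlg M := θ₁ ≫ θ₂ ≫ (symAlg M).gammaHom
  have hθsurj : ∀ (U : S.Opens) (_ : IsAffineOpen U),
      Function.Surjective (θ.hom.app (op U)).hom := by
    intro U hU
    have h1 : Function.Surjective ((inv A.gammaMap).app (op U)).hom :=
      (ConcreteCategory.bijective_of_isIso ((inv A.gammaMap).app (op U))).2
    have h2 : Function.Surjective
        ((AffAlg.algHom A.π (symAlg M).π i hif).app (op U)).hom := by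
      have : ∀ (g : (symAlg M).spec ⟶ S) (w : i ≫ A.π = g),
          Function.Surjective ((AffAlg.algHom A.π g i w).app (op U)).hom := by
        rintro g rfl
        have e : (AffAlg.algHom A.π (i ≫ A.π) i rfl).app (op U) = i.app (A.π ⁻¹ᵁ U) := by
          simp only [AffAlg.algHom]; rfl
        rw [e]
        exact i.app_surjective _ (hU.preimage A.π)
      exact this _ hif
    have h3 : Function.Surjective ((symAlg M).gammaMap.app (op U)).hom :=
      (ConcreteCategory.bijective_of_isIso ((symAlg M).gammaMap.app (op U))).2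
    exact h3.comp (h2.comp h1)
  refine ⟨E, j ≫ QCAlg.Hom.toModuleMap θ ≫ pr1 M, hEf, ?_⟩
  refine Groth.Agent.Lib.Helper40.ExtFP.epi_of_affine_cover _ {U | IsAffineOpen U}
    (fun U hU => hU) ?_ ?_
  · intro x
    obtain ⟨U, hU, hxU, -⟩ :=
      Opens.isBasis_iff_nbhd.mp S.isBasis_affineOpens (U := ⊤) (Opens.mem_top x)
    exact ⟨U, hU, hxU⟩
  · intro U hU
    have hE := isSymmetricAlgebra_of_isSymAlg hsym U hU
    have hM := isSymmetricAlgebra_symJ M U hU
    have hs := deg1_comp_surjective hM hE (θ.hom.app (op U)).hom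
      (fun r => hom_algebraMap θ U r) (hθsurj U hU)
    intro m
    obtain ⟨e, he⟩ := hs m
    refine ⟨e, ?_⟩
    rw [← he]
    exact pr1_app M U hU _

/-- On a quasi-compact quasi-separated scheme with the resolution property, every affine finite-type scheme embeds
into a vector bundle. -/
theorem embeds_of_resolution [CompactSpace S] [QuasiSeparatedSpace S]
    (hR : PerfAux.HasResolutionProperty S) {X : Scheme.{u}} (f : X ⟶ S) [IsAffineHom f]
    [LocallyOfFiniteType f] :
    ∃ (E : S.Modules) (A : RelSpec.QCAlg S) (j : E ⟶ A.toModule) (i : X ⟶ A.spec),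
      Coh.IsQCoh E ∧ FlatMod.IsFinLocFree E ∧ RelSpec.IsSymAlg E A j ∧ IsClosedImmersion i ∧
        i ≫ A.π = f := by
  classical
  set B := RelSpec.QCAlg.directImage f with hB
  have hBft : ∀ U : S.affineOpens, (B.str.app (op (U : S.Opens))).hom.FiniteType := by
    intro U
    have h1 := HasRingHomProperty.appLE (P := @LocallyOfFiniteType) f inferInstance U
      ⟨f ⁻¹ᵁ U.1, U.2.preimage f⟩ le_rfl
    rw [← Scheme.Hom.app_eq_appLE] at h1
    exact h1
  obtain ⟨E₀, j₀, hmono, hqE, hftE, hgen⟩ :=
    Groth.Agent.Lib.Helper40.QCAlgGen.exists_generating_sub B hBft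
  have := hqE
  obtain ⟨P, p, hPf, hp⟩ := hR E₀ hqE hftE
  haveI : P.IsQuasicoherent :=
    Groth.Agent.Lib.Helper2.RankSections.isQuasicoherent_of_isFinLocFree P hPf
  have := hp
  obtain ⟨ψ, hψ, -⟩ := isSymAlg_symAlg P B (p ≫ j₀)
  have hsurj : ∀ (U : S.Opens) (_ : IsAffineOpen U),
      Function.Surjective (ψ.hom.app (op U)).hom := by
    intro U hU
    have h1 : Groth.Agent.Lib.Helper40.QCAlgGen.genRing B j₀ U ≤ (ψ.hom.app (op U)).hom.range := by
      refine Subring.closure_le.mpr ?_
      rintro b (⟨r, rfl⟩ | ⟨e, rfl⟩)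
      · refine ⟨((symAlg P).str.app (op U)).hom r, ?_⟩
        exact congr($(NatTrans.congr_app ψ.comm (op U)).hom r)
      · obtain ⟨x, hx⟩ :=
          Groth.Agent.Lib.Helper21.QCohSections.app_surjective_of_epi p hU e
        refine ⟨(((symJ P).app U).hom x), ?_⟩
        have h2 : ((symJ P ≫ QCAlg.Hom.toModuleMap ψ).app U).hom x = ((p ≫ j₀).app U).hom x := by
          rw [hψ]
        rw [← hx]
        exact h2
    rw [hgen ⟨U, hU⟩] at h1
    intro b
    exact h1 (Subring.mem_top b)
  have hcl : IsClosedImmersion (RelSpec.QCAlg.specMap ψ) :=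
    specMap_of_forall @IsClosedImmersion ψ fun U hU =>
      IsClosedImmersion.spec_of_surjective _ (hsurj U hU)
  obtain ⟨c, hc1, hc2⟩ := Groth.Agent.Lib.Helper50.AffSpecIso.exists_iso_spec_directImage f
  haveI := hc2
  haveI := hcl
  refine ⟨P, symAlg P, symJ P, c ≫ RelSpec.QCAlg.specMap ψ, inferInstance, hPf,
    isSymAlg_symAlg P, inferInstance, ?_⟩
  rw [Category.assoc, RelSpec.QCAlg.specMap_π, hc1]

end main

end Groth.Agent.Lib.Helper50.ResPropAux
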