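import Groth.Agent.Lib.Helper50.ResPropAux
import Groth.Agent.Lib.Helper50.FinSubCoprod
import Groth.Agent.Lib.Helper40.QCohCoprod
import Groth.Agent.Lib.Helper2.QCAlgMod

/-!
# Generating families and embeddings into vector bundles (variants of `ResPropAux`)
-/

set_option autoImplicit false
universe u
open CategoryTheory CategoryTheory.Limits AlgebraicGeometry TopologicalSpace Opposite

namespace Groth.Agent.Lib.Helper50.ResPropAux

open RelSpec Groth.Agent.Lib.Helper74.SymQ Groth.Agent.Lib.Helper74.OfAffine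
  Groth.Agent.Lib.Helper50.SymDeg1

variable {S : Scheme.{u}}

/-- A closed immersion of `V(M)` into `V(E)` over `S` induces an epimorphism `E ⟶ M`. -/
theorem exists_epi_of_closedImmersion (M : S.Modules) [M.IsQuasicoherent] (E : S.Modules)
    [E.IsQuasicoherent] (A : RelSpec.QCAlg S) (j : E ⟶ A.toModule) (hsym : RelSpec.IsSymAlg E A j)
    (i : (symAlg M).spec ⟶ A.spec) [IsClosedImmersion i] (hif : i ≫ A.π = (symAlg M).π) :
    ∃ π : E ⟶ M, Epi π := by
  haveI hisoA : IsIso A.gammaMap := Groth.Agent.S8255.result A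
  haveI hisoB : IsIso (symAlg M).gammaMap := Groth.Agent.S8255.result (symAlg M)
  let g₁ : A.presheaf ⟶ A.π.base _* A.spec.presheaf := inv A.gammaMap
  have hg₁ : A.str ≫ g₁ = A.π.c := by
    rw [← A.π_c_gammaMap, Category.assoc, IsIso.hom_inv_id, Category.comp_id]
  let θ₁ : A ⟶ QCAlg.directImage A.π := ⟨g₁, hg₁⟩
  let θ₂ : QCAlg.directImage A.π ⟶ QCAlg.directImage (symAlg M).π :=
    ⟨AffAlg.algHom A.π (symAlg M).π i hif, AffAlg.algHom_comm A.π (symAlg M).π i hif⟩
  let θ : A ⟶ symAlg M := θ₁ ≫ θ₂ ≫ (symAlg M).gammaHom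
  have hθsurj : ∀ (U : S.Opens) (_ : IsAffineOpen U),
      Function.Surjective (θ.hom.app (op U)).hom := by
    intro U hU
    have h1 : Function.Surjective ((inv A.gammaMap).app (op U)).hom :=
      (ConcreteCategory.bijective_of_isIso ((inv A.gammaMap).app (op U))).2
    have h2 : Function.Surjective
        ((AffAlg.algHom A.π (symAlg M).π i hif).app (op U)).hom := by
      have : ∀ (g : (symAlg M).spec ⟶ S) (w : i ≫ A.π = g),
          Function.Surjective ((AffAlg.algHom A.π g i w).app (op U)).hom := by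
        rintro g rfl
        have e : (AffAlg.algHom A.π (i ≫ A.π) i rfl).app (op U) = i.app (A.π ⁻¹ᵁ U) := by
          simp only [AffAlg.algHom]; rfl
        rw [e]
        exact i.app_surjective _ (hU.preimage A.π)
      exact this _ hif
    have h3 : Function.Surjective ((symAlg M).gammaMap.app (op U)).hom :=
      (ConcreteCategory.bijective_of_isIso ((symAlg M).gammaMap.app (op U))).2
    exact h3.comp (h2.comp h1)
  refine ⟨j ≫ QCAlg.Hom.toModuleMap θ ≫ pr1 M, ?_⟩
  refine Groth.Agent.Lib.Helper40.ExtFP.epi_of_affine_cover _ {U | IsAffineOpen U}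
    (fun U hU => hU) ?_ ?_
  · intro x
    obtain ⟨U, hU, hxU, -⟩ :=
      Opens.isBasis_iff_nbhd.mp S.isBasis_affineOpens (U := ⊤) (Opens.mem_top x)
    exact ⟨U, hU, hxU⟩
  · intro U hU
    have hE := isSymmetricAlgebra_of_isSymAlg hsym U hU
    have hM := isSymmetricAlgebra_symJ M U hU
    have hs := deg1_comp_surjective hM hE (θ.hom.app (op U)).hom
      (fun r => hom_algebraMap θ U r) (hθsurj U hU)
    intro m
    obtain ⟨e, he⟩ := hs m
    refine ⟨e, ?_⟩
    rw [← he]
    exact pr1_app M U hU _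

/-- A module map `φ : P ⟶ f_*O_Y` (`f` affine) whose image generates the algebra `f_*O_Y` over every affine open gives a closed
immersion of `Y` into `V(P)`. -/
theorem embeds_of_generating {Y : Scheme.{u}} (f : Y ⟶ S) [IsAffineHom f] (P : S.Modules)
    [P.IsQuasicoherent] (φ : P ⟶ (RelSpec.QCAlg.directImage f).toModule)
    (hgen : ∀ (U : S.Opens) (_ : IsAffineOpen U),
      Groth.Agent.Lib.Helper40.QCAlgGen.genRing (RelSpec.QCAlg.directImage f) φ U = ⊤) :
    ∃ (B : RelSpec.QCAlg S) (φ' : P ⟶ B.toModule) (c : Y ⟶ B.spec),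
      RelSpec.IsSymAlg P B φ' ∧ IsClosedImmersion c ∧ c ≫ B.π = f := by
  classical
  obtain ⟨ψ, hψ, -⟩ := isSymAlg_symAlg P (RelSpec.QCAlg.directImage f) φ
  have hsurj : ∀ (U : S.Opens) (_ : IsAffineOpen U),
      Function.Surjective (ψ.hom.app (op U)).hom := by
    intro U hU
    have h1 : Groth.Agent.Lib.Helper40.QCAlgGen.genRing (RelSpec.QCAlg.directImage f) φ U ≤
        (ψ.hom.app (op U)).hom.range := by
      refine Subring.closure_le.mpr ?_
      rintro b (⟨r, rfl⟩ | ⟨e, rfl⟩)
      · refine ⟨((symAlg P).str.app (op U)).hom r, ?_⟩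
        exact congr($(NatTrans.congr_app ψ.comm (op U)).hom r)
      · refine ⟨(((symJ P).app U).hom e), ?_⟩
        rw [← hψ]
        rfl
    rw [hgen U hU] at h1
    intro b
    exact h1 (Subring.mem_top b)
  have hcl : IsClosedImmersion (RelSpec.QCAlg.specMap ψ) :=
    specMap_of_forall @IsClosedImmersion ψ fun U hU =>
      IsClosedImmersion.spec_of_surjective _ (hsurj U hU)
  obtain ⟨c, hc1, hc2⟩ := Groth.Agent.Lib.Helper50.AffSpecIso.exists_iso_spec_directImage f
  have := hc2
  have := hcl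
  refine ⟨symAlg P, symJ P, c ≫ RelSpec.QCAlg.specMap ψ, isSymAlg_symAlg P, inferInstance, ?_⟩
  rw [Category.assoc, RelSpec.QCAlg.specMap_π, hc1]

end Groth.Agent.Lib.Helper50.ResPropAux
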