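import Groth.Agent.Lib.Helper50.LimDesc10
import Groth.Agent.Lib.Helper50.LimStage
import Groth.Agent.Lib.Helper30.SchDense
import Mathlib.AlgebraicGeometry.Noetherian
import Mathlib.AlgebraicGeometry.Morphisms.Flat

set_option autoImplicit false
universe u
open CategoryTheory AlgebraicGeometry Limits

namespace Groth.Agent.Lib.Helper50.SchDenseLim

/-- The canonical morphism to the scheme theoretic image of a quasi-compact morphism is scheme
theoretically dominant. -/
instance isSchemeTheoreticallyDominant_toImage {X Y : Scheme.{u}} (f : X ⟶ Y) [QuasiCompact f] :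
    IsSchemeTheoreticallyDominant f.toImage := by
  rw [isSchemeTheoreticallyDominant_iff]
  refine Scheme.IdealSheafData.ext_of_iSup_eq_top
    (fun U : Y.affineOpens ↦ ⟨f.imageι ⁻¹ᵁ U.1, U.2.preimage f.imageι⟩) ?_ ?_
  · change ⨆ U : Y.affineOpens, f.imageι ⁻¹ᵁ U.1 = ⊤
    rw [← Scheme.Hom.preimage_iSup, iSup_affineOpens_eq_top]
    rfl
  · intro U
    rw [Scheme.Hom.ker_apply, Scheme.IdealSheafData.ideal_bot, Pi.bot_apply,
      ← RingHom.injective_iff_ker_eq_bot]
    exact f.toImage_app_injective U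

/-- Morphisms locally of finite type to a locally noetherian scheme are locally of finite
presentation. -/
theorem lfp_of_lft_of_isLocallyNoetherian {X S : Scheme.{u}} (g : X ⟶ S) [LocallyOfFiniteType g]
    [IsLocallyNoetherian S] : LocallyOfFinitePresentation g := by
  rw [HasRingHomProperty.iff_appLE (P := @LocallyOfFinitePresentation)]
  intro U V e
  have hft : (g.appLE U V e).hom.FiniteType :=
    (HasRingHomProperty.iff_appLE (P := @LocallyOfFiniteType)).1 ‹_› U V e
  have : IsNoetherianRing Γ(S, U.1) := IsLocallyNoetherian.component_noetherian U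
  algebraize [(g.appLE U V e).hom]
  exact Algebra.FinitePresentation.of_finiteType.1 hft

open Groth.Agent.Lib.Helper50 Groth.Agent.Lib.Helper50.StageSetup Groth.Agent.Lib.Helper30.SchDense

/-- The lift of a preimage open to the pulled back scheme theoretic image. -/
noncomputable def liftImg {X Y : Scheme.{u}} (p : X ⟶ Y) (U₀ : Y.Opens) :
    (p ⁻¹ᵁ U₀).toScheme ⟶ pullback U₀.ι.imageι p :=
  pullback.lift ((p ∣_ U₀) ≫ U₀.ι.toImage) (p ⁻¹ᵁ U₀).ι
    (by rw [Category.assoc, Scheme.Hom.toImage_imageι, morphismRestrict_ι])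

@[reassoc (attr := simp)]
lemma liftImg_snd {X Y : Scheme.{u}} (p : X ⟶ Y) (U₀ : Y.Opens) :
    liftImg p U₀ ≫ pullback.snd U₀.ι.imageι p = (p ⁻¹ᵁ U₀).ι :=
  pullback.lift_snd _ _ _

@[reassoc (attr := simp)]
lemma liftImg_fst {X Y : Scheme.{u}} (p : X ⟶ Y) (U₀ : Y.Opens) :
    liftImg p U₀ ≫ pullback.fst U₀.ι.imageι p = (p ∣_ U₀) ≫ U₀.ι.toImage :=
  pullback.lift_fst _ _ _

lemma isPullback_liftImg {X Y : Scheme.{u}} (p : X ⟶ Y) (U₀ : Y.Opens) :
    IsPullback (liftImg p U₀) (p ∣_ U₀) (pullback.fst U₀.ι.imageι p) U₀.ι.toImage := by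
  refine IsPullback.of_right (h₁₂ := pullback.snd U₀.ι.imageι p) (h₂₂ := U₀.ι.imageι)
    (v₁₃ := p) ?_ (liftImg_fst p U₀) (IsPullback.of_hasPullback _ _).flip
  rw [liftImg_snd, Scheme.Hom.toImage_imageι]
  exact (isPullback_morphismRestrict p U₀).flip

/-- If `U₀` is quasi-compact and `p` is flat, then the lift is scheme theoretically dominant. -/
lemma isSchemeTheoreticallyDominant_liftImg {X Y : Scheme.{u}} (p : X ⟶ Y) [Flat p]
    (U₀ : Y.Opens) [QuasiCompact U₀.ι] : IsSchemeTheoreticallyDominant (liftImg p U₀) :=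
  IsSchemeTheoreticallyDominant.of_isPullback (isPullback_liftImg p U₀).flip

/-- If the preimage of `U₀` is schematically dense, then the pulled back scheme theoretic image
is everything. -/
lemma isIso_snd_of_dense {X Y : Scheme.{u}} (p : X ⟶ Y) (U₀ : Y.Opens)
    (h : CInt.IsSchematicallyDense (p ⁻¹ᵁ U₀)) : IsIso (pullback.snd U₀.ι.imageι p) := by
  have := isSchemeTheoreticallyDominant_of_dense _ h
  rw [IsClosedImmersion.isIso_iff_ker_eq_bot, ← le_bot_iff]
  refine (Scheme.Hom.le_ker_comp (liftImg p U₀) _).trans ?_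
  rw [liftImg_snd, (p ⁻¹ᵁ U₀).ι.ker_eq_bot]

/-- Conversely (for flat `p` and quasi-compact opens). -/
lemma dense_of_isIso_snd {X Y : Scheme.{u}} (p : X ⟶ Y) [Flat p] (U₀ : Y.Opens)
    [QuasiCompact U₀.ι] [QuasiCompact (p ⁻¹ᵁ U₀).ι] [IsIso (pullback.snd U₀.ι.imageι p)] :
    CInt.IsSchematicallyDense (p ⁻¹ᵁ U₀) := by
  have := isSchemeTheoreticallyDominant_liftImg p U₀
  have : IsSchemeTheoreticallyDominant (p ⁻¹ᵁ U₀).ι := by
    rw [← liftImg_snd]; infer_instance
  exact dense_of_isSchemeTheoreticallyDominant _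

end Groth.Agent.Lib.Helper50.SchDenseLim
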