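import Groth.Agent.Lib.Helper50.SchDenseLim
import Groth.Agent.S4764

set_option autoImplicit false
universe u
open CategoryTheory AlgebraicGeometry Limits

namespace Groth.Agent.Lib.Helper50.SchDenseLim
open Groth.Agent.Lib.Helper50 Groth.Agent.Lib.Helper50.StageSetup Groth.Agent.Lib.Helper30.SchDense

variable {I : Type u} [SmallCategory I] [IsCofiltered I] (D : I ⥤ Scheme.{u}) (c : Limits.Cone D)
    (hc : Limits.IsLimit c)
    [∀ (i j : I) (g : i ⟶ j), IsAffineHom (D.map g)]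
    [∀ i : I, IsNoetherian (D.obj i)] (i₀ : I) (U₀ : (D.obj i₀).Opens)

include hc in
theorem exists_stage_of_dense (h : CInt.IsSchematicallyDense ((c.π.app i₀) ⁻¹ᵁ U₀)) :
    ∃ (i : I) (g : i ⟶ i₀), IsIso (pullback.snd U₀.ι.imageι (D.map g)) := by
  let a := U₀.ι.imageι
  have hiso : IsIso (pullback.snd a (c.π.app i₀)) := isIso_snd_of_dense (c.π.app i₀) U₀ h
  have : IsClosedImmersion a := inferInstanceAs (IsClosedImmersion U₀.ι.imageι)
  have : LocallyOfFinitePresentation a := lfp_of_lft_of_isLocallyNoetherian a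
  have hP : IsPullback (pullback.fst a (c.π.app i₀)) (pullback.snd a (c.π.app i₀)) a
      (c.π.app i₀) := IsPullback.of_hasPullback _ _
  have : IsConnected (Over i₀) := IsCofiltered.isConnected (Over i₀)
  let F := bcDiagram (D₀ D i₀) (β D i₀) (hβ D i₀) a
  let τ : F ⟶ D₀ D i₀ := bcDiagramSnd (D₀ D i₀) (β D i₀) (hβ D i₀) a
  let cF : Cone F := bcCone (D₀ D i₀) (β D i₀) (hβ D i₀) a (c₀ D c i₀) (c.π.app i₀) (hb D c i₀)
    (pullback.fst a (c.π.app i₀)) (pullback.snd a (c.π.app i₀)) hP.w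
  have hcF : IsLimit cF := isLimitBcCone (D₀ D i₀) (β D i₀) (hβ D i₀) a (c₀ D c i₀) (c.π.app i₀)
    (hb D c i₀) _ _ (hc₀ D c hc i₀) hP
  have : ∀ j : Over i₀, CompactSpace ((D₀ D i₀).obj j) := fun j ↦
    inferInstanceAs (CompactSpace (D.obj j.left))
  have : ∀ j : Over i₀, QuasiSeparatedSpace ((D₀ D i₀).obj j) := fun j ↦
    inferInstanceAs (QuasiSeparatedSpace (D.obj j.left))
  have : ∀ j : Over i₀, CompactSpace (F.obj j) := fun j ↦ by
    have : CompactSpace ↥(pullback a (β D i₀ j) : Scheme.{u}) :=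
      QuasiCompact.compactSpace_of_compactSpace (pullback.snd a (β D i₀ j))
    exact this
  have : @IsIso Scheme _ cF.pt (c₀ D c i₀).pt (pullback.snd a (c.π.app i₀)) := hiso
  have : ∀ j : Over i₀, LocallyOfFinitePresentation (τ.app j) := fun j ↦
    inferInstanceAs (LocallyOfFinitePresentation (pullback.snd a (β D i₀ j)))
  obtain ⟨j, -, hj⟩ := exists_forall_isIso_app τ cF hcF (c₀ D c i₀) (hc₀ D c hc i₀)
    (pullback.snd a (c.π.app i₀))
    (fun j ↦ bcConeπ_snd (D₀ D i₀) (β D i₀) a (c₀ D c i₀) (c.π.app i₀) (hb D c i₀) _ _ hP.w j)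
    (fun φ ↦ isPullback_bcDiagram_map (D₀ D i₀) (β D i₀) (hβ D i₀) a φ) (Over.mk (𝟙 i₀))
  exact ⟨j.left, j.hom, hj j (𝟙 j)⟩

include hc in
theorem dense_iff [∀ (i j : I) (g : i ⟶ j), Flat (D.map g)] [IsNoetherian c.pt] :
    CInt.IsSchematicallyDense ((c.π.app i₀) ⁻¹ᵁ U₀) ↔
      ∃ (i : I) (g : i ⟶ i₀), CInt.IsSchematicallyDense ((D.map g) ⁻¹ᵁ U₀) := by
  constructor
  · intro h
    obtain ⟨i, g, hg⟩ := exists_stage_of_dense D c hc i₀ U₀ h
    exact ⟨i, g, dense_of_isIso_snd (D.map g) U₀⟩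
  · rintro ⟨i, g, h⟩
    have : Flat (c.π.app i) := Groth.Agent.S4764.result D c hc i (fun j φ ↦ inferInstance)
    have h' := dense_preimage_of_flat (c.π.app i) _ h
    rwa [← Scheme.Hom.comp_preimage, c.w g] at h'

end Groth.Agent.Lib.Helper50.SchDenseLim
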