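import Groth.Agent.Lib.Helper50.Descent13
import Groth.Agent.Lib.Helper50.LimDesc10
import Mathlib.AlgebraicGeometry.Morphisms.SchemeTheoreticallyDominant

/-!
# Limits along scheme-theoretically dominant affine transition maps

Morphisms from the limit to a scheme locally of finite *type* over the base factor through a
stage when the transition maps are scheme-theoretically dominant.
-/

set_option autoImplicit false
universe u
open CategoryTheory AlgebraicGeometry Limits

namespace Groth.Agent.Lib.Helper50.SchDomLim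

open Groth.Agent.Lib.Helper50 Groth.Agent.Lib.Helper50.StageSetup Groth.Agent.Lib.Helper50.Descent

variable {I : Type u} [SmallCategory I] [IsCofiltered I]
    (D : I ⥤ Scheme.{u}) (c : Limits.Cone D) (hc : Limits.IsLimit c)
    [∀ (i j : I) (f : i ⟶ j), IsAffineHom (D.map f)]

include hc in
/-- The projections of a limit along scheme-theoretically dominant affine transition maps are
scheme-theoretically dominant. -/
theorem isSchemeTheoreticallyDominant_π_app
    [∀ (i j : I) (f : i ⟶ j), IsSchemeTheoreticallyDominant (D.map f)] (i : I) :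
    IsSchemeTheoreticallyDominant (c.π.app i) := by
  rw [isSchemeTheoreticallyDominant_iff]
  ext1
  funext U
  rw [Scheme.IdealSheafData.ideal_bot]
  apply le_bot_iff.mp
  refine (Scheme.Hom.ideal_ker_le _ U).trans ?_
  intro s hs
  have hs' : (c.π.app i).app U.1 s = 0 := hs
  obtain ⟨j, f, hj⟩ := exists_app_map_eq_zero_of_isLimit D c hc U.2.isCompact s hs'
  have hinj := (D.map f).app_injective U.1
  exact hinj (hj.trans (map_zero _).symm)

include hc in
/-- **Factorization through a stage** for targets locally of finite type, along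
scheme-theoretically dominant transition maps. -/
theorem exists_factor [∀ (i j : I) (f : i ⟶ j), IsSchemeTheoreticallyDominant (D.map f)]
    [∀ i, CompactSpace (D.obj i)] [∀ i, QuasiSeparatedSpace (D.obj i)]
    {S Y : Scheme.{u}} (t : D ⟶ (Functor.const I).obj S) (y : Y ⟶ S) [LocallyOfFiniteType y]
    [QuasiCompact y] [QuasiSeparated y] (a : c.pt ⟶ Y)
    (ha : ∀ i, a ≫ y = c.π.app i ≫ t.app i) :
    ∃ (i : I) (g : D.obj i ⟶ Y), c.π.app i ≫ g = a ∧ g ≫ y = t.app i := by
  classical
  obtain ⟨i₁⟩ : Nonempty I := IsCofiltered.nonempty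
  have : CompactSpace c.pt := compactSpace_pt D c hc i₁
  have : IsAffineHom (c.π.app i₁) := isAffineHom_π_app D c hc i₁
  have : QuasiSeparatedSpace c.pt := quasiSeparatedSpace_of_quasiSeparated (c.π.app i₁)
  have hβ : ∀ {j k : I} (φ : j ⟶ k), D.map φ ≫ t.app k = t.app j := fun φ ↦ by
    have := t.naturality φ
    simpa using this
  let s : c.pt ⟶ S := a ≫ y
  have hb : ∀ j, c.π.app j ≫ t.app j = s := fun j ↦ (ha j).symm
  -- the system `Y ×_S X_i`
  let P : I ⥤ Scheme.{u} := bcDiagram D (fun j ↦ t.app j) hβ y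
  have hpq : pullback.fst y s ≫ y = pullback.snd y s ≫ s := pullback.condition
  let cP : Cone P := bcCone D (fun j ↦ t.app j) hβ y c s hb (pullback.fst y s) (pullback.snd y s)
    hpq
  have := IsCofiltered.isConnected I
  have hcP : IsLimit cP := isLimitBcCone D (fun j ↦ t.app j) hβ y c s hb (pullback.fst y s)
    (pullback.snd y s) hc (IsPullback.of_hasPullback y s)
  have sP : ∀ j, QuasiSeparatedSpace (P.obj j) := fun j ↦
    (quasiSeparatedSpace_of_quasiSeparated (pullback.snd y (t.app j)) :
      QuasiSeparatedSpace ↥(pullback y (t.app j)))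
  -- the graph
  let Γ : c.pt ⟶ pullback y s := pullback.lift a (𝟙 _) (by simp [s])
  have hΓ : Γ ≫ pullback.snd y s = 𝟙 _ := pullback.lift_snd _ _ _
  have hΓ1 : Γ ≫ pullback.fst y s = a := pullback.lift_fst _ _ _
  have lΓ : LocallyOfFinitePresentation Γ := by
    have : LocallyOfFinitePresentation (Γ ≫ pullback.snd y s) := by rw [hΓ]; infer_instance
    exact locallyOfFinitePresentation_of_comp Γ (pullback.snd y s)
  have lΓ' : LocallyOfFinitePresentation (X := c.pt) (Y := cP.pt) Γ := lΓ
  obtain ⟨i₀, Z₀, (g₀ : Z₀ ⟶ pullback y (t.app i₀)), r, (l0 : LocallyOfFinitePresentation g₀),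
      c0, s0, hZ⟩ :=
    descends_of_finitePresentation P cP hcP (X := c.pt) (f := Γ)
  -- the composite to `X_{i₀}`
  let πP : pullback y s ⟶ pullback y (t.app i₀) :=
    bcConeπ D (fun j ↦ t.app j) y c s hb (pullback.fst y s) (pullback.snd y s) hpq i₀
  have hZ' : IsPullback r Γ g₀ πP := hZ
  have hbc : IsPullback πP (pullback.snd y s) (pullback.snd y (t.app i₀)) (c.π.app i₀) :=
    isPullback_bcConeπ D (fun j ↦ t.app j) y c s hb (pullback.fst y s) (pullback.snd y s)
      (IsPullback.of_hasPullback y s) i₀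
  have hfst : πP ≫ pullback.fst y (t.app i₀) = pullback.fst y s :=
    bcConeπ_fst D (fun j ↦ t.app j) y c s hb (pullback.fst y s) (pullback.snd y s) hpq i₀
  let h₀ : Z₀ ⟶ D.obj i₀ := g₀ ≫ pullback.snd y (t.app i₀)
  have hX : IsPullback r (𝟙 c.pt) h₀ (c.π.app i₀) := by
    have := hZ'.paste_vert hbc
    rwa [hΓ] at this
  have lh₀ : LocallyOfFiniteType h₀ :=
    inferInstanceAs (LocallyOfFiniteType (g₀ ≫ pullback.snd y (t.app i₀)))
  obtain ⟨j, hj⟩ := exists_forall_isClosedImmersion_τ D c hc i₀ h₀ (𝟙 _) (𝟙 c.pt) (𝟙 c.pt)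
    (c.π.app i₀) r (IsPullback.id_vert _) hX
  have hp := IsPullback.of_hasPullback h₀ (D.map j.hom)
  have hcl : IsClosedImmersion (pullback.snd h₀ (D.map j.hom)) :=
    (prop_iff_of_isPullback D i₀ h₀ (𝟙 (D.obj i₀)) @IsClosedImmersion j
      (IsPullback.id_vert (D.map j.hom)) hp).mpr (hj j (𝟙 j))
  -- it is an isomorphism
  have hr : rebaseQ hX hp ≫ pullback.snd h₀ (D.map j.hom) = c.π.app j.left := by
    rw [rebaseQ_snd, Category.id_comp]
  have hdom := isSchemeTheoreticallyDominant_π_app D c hc j.left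
  have hiso : IsIso (pullback.snd h₀ (D.map j.hom)) := by
    rw [IsClosedImmersion.isIso_iff_ker_eq_bot]
    apply le_bot_iff.mp
    have h1 := Scheme.Hom.le_ker_comp (rebaseQ hX hp) (pullback.snd h₀ (D.map j.hom))
    rw [hr, hdom.ker_eq_bot] at h1
    exact h1
  refine ⟨j.left, inv (pullback.snd h₀ (D.map j.hom)) ≫ pullback.fst h₀ (D.map j.hom) ≫ g₀ ≫
    pullback.fst y (t.app i₀), ?_, ?_⟩
  · have e1 : c.π.app j.left ≫ inv (pullback.snd h₀ (D.map j.hom)) = rebaseQ hX hp := by
      rw [← hr, Category.assoc, IsIso.hom_inv_id, Category.comp_id]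
    rw [reassoc_of% e1, rebaseQ_fst_assoc, reassoc_of% hZ'.w, hfst]
    exact hΓ1
  · have e2 : (g₀ ≫ pullback.fst y (t.app i₀)) ≫ y = h₀ ≫ t.app i₀ := by
      rw [Category.assoc, pullback.condition, Category.assoc]
    rw [Category.assoc, Category.assoc, Category.assoc, ← Category.assoc g₀, e2,
      pullback.condition_assoc, IsIso.inv_hom_id_assoc, hβ]

end Groth.Agent.Lib.Helper50.SchDomLim
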