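import Groth.Agent.S0591
import Groth.Agent.S9191
import Groth.Agent.Lib.Helper50.StalkLim

/-!
# Smooth models: a smooth morphism of finite presentation to a cofiltered limit comes from a stage
-/

set_option autoImplicit false
universe u
open CategoryTheory CategoryTheory.Limits AlgebraicGeometry

namespace Groth.Agent.Lib.Helper50.SmoothModel

/-- A smooth qcqs morphism to a cofiltered limit of qcqs schemes with affine transition maps is the
base change of a smooth qcqs morphism to some stage. -/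
theorem exists_smooth_model {I : Type u} [SmallCategory I] [IsCofiltered I]
    (D : I ⥤ Scheme.{u}) (c : Limits.Cone D) (hc : Limits.IsLimit c)
    [∀ (i j : I) (f : i ⟶ j), IsAffineHom (D.map f)] [∀ i, CompactSpace (D.obj i)]
    [∀ i, QuasiSeparatedSpace (D.obj i)] (X : Scheme.{u}) (f : X ⟶ c.pt)
    [Smooth f] [QuasiCompact f] [QuasiSeparated f] :
    ∃ (j : I) (Xj : Scheme.{u}) (f₀ : Xj ⟶ D.obj j) (g : X ⟶ Xj),
      Smooth f₀ ∧ QuasiCompact f₀ ∧ QuasiSeparated f₀ ∧ IsPullback g f f₀ (c.π.app j) := by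
  obtain ⟨i, Xi, fi, g, hfi1, hfi2, hfi3, hpb⟩ := Groth.Agent.S0591.result D c hc X f
  haveI : CompactSpace Xi := QuasiCompact.compactSpace_of_compactSpace fi
  haveI : QuasiSeparatedSpace Xi := quasiSeparatedSpace_of_quasiSeparated fi
  obtain ⟨j, φ, Xj, Yj, fj, gj, pY, pX, hp1, hp2, hsm⟩ := Groth.Agent.S9191.result
    D c hc i fi (𝟙 _) f (𝟙 _) (c.π.app i) g (IsPullback.id_vert _) hpb
  haveI : IsIso gj := hp1.isIso_snd_of_isIso
  have hV : IsPullback pX (fj ≫ gj) fi (D.map φ) := by
    have := hp2.paste_vert hp1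
    rwa [Category.comp_id] at this
  have hw : g ≫ fi = (f ≫ c.π.app j) ≫ D.map φ := by
    rw [Category.assoc, c.w φ]
    exact hpb.w
  have hfin : IsPullback (hV.lift g (f ≫ c.π.app j) hw) f (fj ≫ gj) (c.π.app j) := by
    refine IsPullback.of_right ?_ (hV.lift_snd _ _ hw) hV
    rw [hV.lift_fst, c.w φ]
    exact hpb
  haveI : QuasiCompact fj := MorphismProperty.of_isPullback (P := @QuasiCompact) hp2 hfi2
  haveI : QuasiSeparated fj := MorphismProperty.of_isPullback (P := @QuasiSeparated) hp2 hfi3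
  exact ⟨j, Xj, fj ≫ gj, _, inferInstance, inferInstance, inferInstance, hfin⟩

open Groth.Agent.Lib.Helper50.StalkLim in
/-- A smooth morphism `Y' ⟶ Spec 𝒪_{S,s}` with `Y'` quasi-compact and quasi-separated is the base
change of a smooth morphism to an affine open neighbourhood of `s`. -/
theorem exists_smooth_model_stalk {S : Scheme.{u}} (s : S) {Y' : Scheme.{u}}
    (f' : Y' ⟶ Spec (S.presheaf.stalk s)) [Smooth f'] [CompactSpace Y'] [QuasiSeparatedSpace Y'] :
    ∃ (W : AffNhd S s) (Y₀ : Scheme.{u}) (f₀ : Y₀ ⟶ W.1.toScheme) (q₀ : Y' ⟶ Y₀),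
      Smooth f₀ ∧ QuasiCompact f₀ ∧ QuasiSeparated f₀ ∧
        IsPullback q₀ f' f₀ (W.1.fromSpecStalkOfMem s W.2.2) := by
  haveI : QuasiCompact f' := by
    rw [quasiCompact_iff_compactSpace]; infer_instance
  haveI : QuasiSeparated f' := by
    rw [quasiSeparated_iff_quasiSeparatedSpace]; infer_instance
  haveI h1 : Smooth (Y := (nhdCone S s).pt) f' := ‹Smooth f'›
  haveI h2 : QuasiCompact (Y := (nhdCone S s).pt) f' := ‹QuasiCompact f'›
  haveI h3 : QuasiSeparated (Y := (nhdCone S s).pt) f' := ‹QuasiSeparated f'›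
  exact exists_smooth_model (nhdDiagram S s) (nhdCone S s) (isLimitNhdCone S s) Y' f'

end Groth.Agent.Lib.Helper50.SmoothModel
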