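import Groth.Agent.Lib.Helper50.FGLim
import Mathlib.AlgebraicGeometry.Fiber
import Mathlib.AlgebraicGeometry.Morphisms.ClosedImmersion
import Mathlib.AlgebraicGeometry.PullbackCarrier

/-!
# Spreading out a closed subset missing a fibre
-/

set_option autoImplicit false
universe u
open CategoryTheory CategoryTheory.Limits AlgebraicGeometry Opposite

namespace Groth.Agent.Lib.Helper50

/-- In a scheme, between a compact set and an open set containing it there is a compact open. -/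
lemma exists_compact_open_between {X : Scheme.{u}} {K : Set X} (hK : IsCompact K) (O : X.Opens)
    (hKO : K ⊆ (O : Set X)) :
    ∃ W : X.Opens, IsCompact (W : Set X) ∧ K ⊆ (W : Set X) ∧ W ≤ O := by
  refine hK.induction_on (p := fun s => ∃ W : X.Opens, IsCompact (W : Set X) ∧ s ⊆ (W : Set X) ∧
    W ≤ O) ?_ ?_ ?_ ?_
  · exact ⟨⊥, by simp, by simp, bot_le⟩
  · rintro s t hst ⟨W, h1, h2, h3⟩
    exact ⟨W, h1, hst.trans h2, h3⟩
  · rintro s t ⟨W₁, h1, h2, h3⟩ ⟨W₂, h1', h2', h3'⟩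
    refine ⟨W₁ ⊔ W₂, ?_, ?_, sup_le h3 h3'⟩
    · rw [TopologicalSpace.Opens.coe_sup]; exact h1.union h1'
    · rw [TopologicalSpace.Opens.coe_sup]; exact Set.union_subset_union h2 h2'
  · intro x hx
    obtain ⟨_, ⟨W, hW : IsAffineOpen W, rfl⟩, hxW, hWO⟩ :=
      X.isBasis_affineOpens.exists_subset_of_mem_open (hKO hx) O.2
    exact ⟨W, mem_nhdsWithin_of_mem_nhds (W.2.mem_nhds hxW), W, hW.isCompact, le_rfl, hWO⟩

section

variable {A B : Type u} [CommRing A] [CommRing B] [Algebra A B]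
  {X S₀ : Scheme.{u}} (f : X ⟶ S₀) (u : Spec (CommRingCat.of A) ⟶ S₀)

/-- The structure maps of the stages `Spec B_λ ⟶ S₀`. -/
noncomputable def fgβ (j : (FGSub A B)ᵒᵖ) : (fgSpecDiagram A B).obj j ⟶ S₀ :=
  Spec.map (CommRingCat.ofHom (algebraMap A j.unop.1)) ≫ u

lemma fgβ_map {j k : (FGSub A B)ᵒᵖ} (φ : j ⟶ k) :
    (fgSpecDiagram A B).map φ ≫ fgβ u k = fgβ u j := by
  dsimp only [fgβ]
  rw [← Category.assoc]
  congr 1
  change Spec.map _ ≫ Spec.map _ = _
  rw [← Spec.map_comp]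
  rfl

lemma fgβ_cone (j : (FGSub A B)ᵒᵖ) :
    (fgSpecCone A B).π.app j ≫ fgβ u j = Spec.map (CommRingCat.ofHom (algebraMap A B)) ≫ u := by
  dsimp only [fgβ]
  rw [← Category.assoc]
  congr 1
  change Spec.map _ ≫ Spec.map _ = _
  rw [← Spec.map_comp]
  rfl

lemma fgβ_eq (j : (FGSub A B)ᵒᵖ) {N : ℕ} (ψ₀ : MvPolynomial (Fin N) A →ₐ[A] j.unop.1) :
    fgβ u j = (Spec.map (CommRingCat.ofHom ψ₀.toRingHom) :
      (fgSpecDiagram A B).obj j ⟶ Spec (CommRingCat.of (MvPolynomial (Fin N) A))) ≫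
      Spec.map (CommRingCat.ofHom (algebraMap A (MvPolynomial (Fin N) A))) ≫ u := by
  dsimp only [fgβ]
  rw [← Category.assoc]
  congr 1
  change Spec.map _ = Spec.map _ ≫ Spec.map _
  rw [← Spec.map_comp]
  congr 1
  refine CommRingCat.hom_ext (RingHom.ext fun x => ?_)
  exact (ψ₀.commutes x).symm

lemma fgπ_eq (j : (FGSub A B)ᵒᵖ) {N : ℕ} (ψ₀ : MvPolynomial (Fin N) A →ₐ[A] j.unop.1) :
    Spec.map (CommRingCat.ofHom (j.unop.1.val.comp ψ₀).toRingHom) =
      (fgSpecCone A B).π.app j ≫ (Spec.map (CommRingCat.ofHom ψ₀.toRingHom) :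
      (fgSpecDiagram A B).obj j ⟶ Spec (CommRingCat.of (MvPolynomial (Fin N) A))) := by
  change _ = Spec.map _ ≫ Spec.map _
  rw [← Spec.map_comp]
  rfl

end

section main

variable {A B : Type u} [CommRing A] [CommRing B] [Algebra A B]
  {X S₀ : Scheme.{u}} (f : X ⟶ S₀) [QuasiCompact f] (u : Spec (CommRingCat.of A) ⟶ S₀)

/-- **Spreading out a closed subset missing a fibre**, auxiliary form. -/
theorem spread_closed_aux (b : Spec (CommRingCat.of B) ⟶ S₀)
    (hbdef : b = Spec.map (CommRingCat.ofHom (algebraMap A B)) ≫ u)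
    (t : Spec (CommRingCat.of B))
    (C : Set ↥(pullback f b)) (hC : IsClosed C)
    (hCt : ∀ z ∈ C, (pullback.snd f b).base z ≠ t) :
    ∃ (N : ℕ) (ψ : MvPolynomial (Fin N) A →ₐ[A] B)
      (m : pullback f b ⟶
        pullback f (Spec.map (CommRingCat.ofHom (algebraMap A (MvPolynomial (Fin N) A))) ≫ u))
      (Z' : Set ↥(pullback f
        (Spec.map (CommRingCat.ofHom (algebraMap A (MvPolynomial (Fin N) A))) ≫ u))),
      m ≫ pullback.fst _ _ = pullback.fst _ _ ∧
      m ≫ pullback.snd _ _ = pullback.snd _ _ ≫ Spec.map (CommRingCat.ofHom ψ.toRingHom) ∧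
      IsClosed Z' ∧
      (∀ z' ∈ Z', (pullback.snd f
        (Spec.map (CommRingCat.ofHom (algebraMap A (MvPolynomial (Fin N) A))) ≫ u)).base z' ≠
          (Spec.map (CommRingCat.ofHom ψ.toRingHom)).base t) ∧
      ∀ z ∈ C, m.base z ∈ Z' := by
  classical
  -- the limit presentation
  let D := fgSpecDiagram A B
  let c := fgSpecCone A B
  have hc : IsLimit c := isLimitFgSpecCone A B
  have hβ : ∀ {j k : (FGSub A B)ᵒᵖ} (φ : j ⟶ k), D.map φ ≫ fgβ u k = fgβ u j := fgβ_map u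
  have hb : ∀ j, c.π.app j ≫ fgβ u j = b := fun j => (fgβ_cone u j).trans hbdef.symm
  have h : IsPullback (pullback.fst f b) (pullback.snd f b) f b := IsPullback.of_hasPullback f b
  have := IsCofiltered.isConnected ((FGSub A B)ᵒᵖ)
  let cP := bcCone D (fgβ u) hβ f c b hb (pullback.fst f b) (pullback.snd f b) h.w
  have hcP : IsLimit cP := isLimitBcCone D (fgβ u) hβ f c b hb _ _ hc h
  -- the fibre is compact and inside the complement of `C`
  have hK : IsCompact ((pullback.snd f b).base ⁻¹' {t}) :=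
    (pullback.snd f b).isCompact_preimage_singleton t
  have hKO : (pullback.snd f b).base ⁻¹' {t} ⊆ ((⟨Cᶜ, hC.isOpen_compl⟩ : (pullback f b).Opens) :
      Set ↥(pullback f b)) := by
    intro z hz hzC
    exact hCt z hzC hz
  obtain ⟨Y', hY'c, hKY', hY'O⟩ := exists_compact_open_between hK _ hKO
  obtain ⟨j, W, -, hW⟩ := exists_preimage_eq (bcDiagram D (fgβ u) hβ f) cP hcP Y' hY'c
  -- explicit names for the projections
  let πj : pullback f b ⟶ pullback f (fgβ u j) :=
    bcConeπ D (fgβ u) f c b hb (pullback.fst f b) (pullback.snd f b) h.w j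
  let qj : Spec (CommRingCat.of B) ⟶ (D.obj j) := c.π.app j
  have hW' : πj ⁻¹ᵁ W = Y' := hW
  have hπ1 : πj ≫ pullback.fst f (fgβ u j) = pullback.fst f b :=
    bcConeπ_fst D (fgβ u) f c b hb _ _ h.w j
  have hπ2 : πj ≫ pullback.snd f (fgβ u j) = pullback.snd f b ≫ qj :=
    bcConeπ_snd D (fgβ u) f c b hb _ _ h.w j
  have hπP : IsPullback πj (pullback.snd f b) (pullback.snd f (fgβ u j)) qj :=
    isPullback_bcConeπ D (fgβ u) f c b hb _ _ h j
  -- a presentation of the stage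
  have hft : Algebra.FiniteType A j.unop.1 := (Subalgebra.fg_iff_finiteType _).1 j.unop.2
  obtain ⟨N, ψ₀, hψ₀⟩ := Algebra.FiniteType.iff_quotient_mvPolynomial''.1 hft
  let b' : Spec (CommRingCat.of (MvPolynomial (Fin N) A)) ⟶ S₀ :=
    Spec.map (CommRingCat.ofHom (algebraMap A (MvPolynomial (Fin N) A))) ≫ u
  let i₀ : (D.obj j) ⟶ Spec (CommRingCat.of (MvPolynomial (Fin N) A)) :=
    Spec.map (CommRingCat.ofHom ψ₀.toRingHom)
  have hi₀ : IsClosedImmersion i₀ := IsClosedImmersion.spec_of_surjective _ hψ₀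
  have h2 : fgβ u j = i₀ ≫ b' := fgβ_eq u j ψ₀
  let jm : pullback f (fgβ u j) ⟶ pullback f b' :=
    pullback.map f (fgβ u j) f b' (𝟙 X) i₀ (𝟙 S₀) (by simp) (by rw [Category.comp_id, h2])
  have e1 : jm ≫ pullback.fst f b' = pullback.fst f (fgβ u j) :=
    (pullback.lift_fst _ _ _).trans (Category.comp_id _)
  have e2 : jm ≫ pullback.snd f b' = pullback.snd f (fgβ u j) ≫ i₀ := pullback.lift_snd _ _ _
  have hjm : IsPullback jm (pullback.snd f (fgβ u j)) (pullback.snd f b') i₀ := by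
    refine IsPullback.of_right (h₁₂ := pullback.fst f b') (h₂₂ := b') (v₁₃ := f) ?_
      e2 (IsPullback.of_hasPullback _ _)
    rw [e1, ← h2]
    exact IsPullback.of_hasPullback _ _
  have hjmc : IsClosedImmersion jm :=
    MorphismProperty.of_isPullback (P := @IsClosedImmersion) hjm.flip hi₀
  let ψ : MvPolynomial (Fin N) A →ₐ[A] B := j.unop.1.val.comp ψ₀
  have hψ : Spec.map (CommRingCat.ofHom ψ.toRingHom) = qj ≫ i₀ := fgπ_eq j ψ₀
  refine ⟨N, ψ, πj ≫ jm,
    jm.base '' ((W : Set ↥((bcDiagram D (fgβ u) hβ f).obj j))ᶜ), ?_, ?_, ?_, ?_, ?_⟩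
  · rw [Category.assoc]
    erw [e1]
    exact hπ1
  · rw [Category.assoc]
    erw [e2]
    rw [← Category.assoc, hπ2, Category.assoc, hψ]
  · exact jm.isClosedEmbedding.isClosedMap _ W.2.isClosed_compl
  · rintro _ ⟨w, hw, rfl⟩ hz'
    apply hw
    -- `w` lies over the image of `t`
    have e3 : (pullback.snd f b').base (jm.base w) =
        i₀.base ((pullback.snd f (fgβ u j)).base w) := by
      rw [← Scheme.Hom.comp_apply, ← Scheme.Hom.comp_apply, e2]
    have e4 : (Spec.map (CommRingCat.ofHom ψ.toRingHom)).base t = i₀.base (qj.base t) := by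
      rw [hψ]; rfl
    have e5 : (pullback.snd f (fgβ u j)).base w = qj.base t :=
      i₀.isClosedEmbedding.injective (by rw [← e3, ← e4]; exact hz')
    obtain ⟨x, hx1, hx2⟩ := Scheme.exists_preimage_of_isPullback hπP w t e5
    have hxY : x ∈ (Y' : Set _) := hKY' hx2
    rw [← hW'] at hxY
    have : πj.base x ∈ W := hxY
    rw [← hx1]
    exact this
  · intro z hz
    refine ⟨πj.base z, ?_, rfl⟩
    intro hzW
    have : z ∈ (πj ⁻¹ᵁ W : (pullback f b).Opens) := hzW
    rw [hW'] at this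
    exact hY'O this hz

/-- **Spreading out a closed subset missing a fibre.** -/
theorem spread_closed (t : Spec (CommRingCat.of B))
    (C : Set ↥(pullback f (Spec.map (CommRingCat.ofHom (algebraMap A B)) ≫ u))) (hC : IsClosed C)
    (hCt : ∀ z ∈ C,
      (pullback.snd f (Spec.map (CommRingCat.ofHom (algebraMap A B)) ≫ u)).base z ≠ t) :
    ∃ (N : ℕ) (ψ : MvPolynomial (Fin N) A →ₐ[A] B)
      (m : pullback f (Spec.map (CommRingCat.ofHom (algebraMap A B)) ≫ u) ⟶
        pullback f (Spec.map (CommRingCat.ofHom (algebraMap A (MvPolynomial (Fin N) A))) ≫ u))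
      (Z' : Set ↥(pullback f
        (Spec.map (CommRingCat.ofHom (algebraMap A (MvPolynomial (Fin N) A))) ≫ u))),
      m ≫ pullback.fst _ _ = pullback.fst _ _ ∧
      m ≫ pullback.snd _ _ = pullback.snd _ _ ≫ Spec.map (CommRingCat.ofHom ψ.toRingHom) ∧
      IsClosed Z' ∧
      (∀ z' ∈ Z', (pullback.snd f
        (Spec.map (CommRingCat.ofHom (algebraMap A (MvPolynomial (Fin N) A))) ≫ u)).base z' ≠
          (Spec.map (CommRingCat.ofHom ψ.toRingHom)).base t) ∧
      ∀ z ∈ C, m.base z ∈ Z' :=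
  spread_closed_aux f u _ rfl t C hC hCt

end main

end Groth.Agent.Lib.Helper50
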