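import Groth.Agent.Lib.Helper50.StalkLimU
import Groth.Agent.Lib.Helper50.RelGlue2
import Groth.Agent.Lib.Helper50.Descent9
import Groth.Agent.Lib.Helper50.Descent12
import Groth.Agent.S4795

/-!
# Extending a finite étale cover of a retrocompact open `U` over a point `x ∉ U`, given an
extension over `Spec 𝒪_{X,x}`
-/

set_option autoImplicit false
universe u
open CategoryTheory CategoryTheory.Limits AlgebraicGeometry Opposite TopologicalSpace

namespace Groth.Agent.Lib.Helper50.StalkLim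

open Groth.Agent.Lib.Helper50.Descent

variable {X : Scheme.{u}} (x : X) (U : X.Opens) [QuasiCompact U.ι]
  {P : Scheme.{u}} (pU : P ⟶ U.toScheme) (pS : P ⟶ Spec (X.presheaf.stalk x))
  (hP : IsPullback pU pS U.ι (X.fromSpecStalk x))
  {V Yx Z : Scheme.{u}} (v : V ⟶ U.toScheme) (yx : Yx ⟶ Spec (X.presheaf.stalk x))
  (z1 : Z ⟶ Yx) (z2 : Z ⟶ V) (zP : Z ⟶ P)
  (h1 : IsPullback z1 zP yx pS) (h2 : IsPullback z2 zP v pU)

include hP h1 h2 in
set_option backward.isDefEq.respectTransparency false in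
theorem exists_extension (hv : IsFinite v ∧ Etale v) (hyx : IsFinite yx ∧ Etale yx) :
    ∃ (W : AffNhd X x) (V' : Scheme.{u}) (v' : V' ⟶ (U ⊔ W.1).toScheme) (r : V ⟶ V'),
      IsFinite v' ∧ Etale v' ∧ IsPullback r v v' (X.homOfLE le_sup_left) := by
  have hvfin : IsFinite v := hv.1
  have hvet : Etale v := hv.2
  have hyfin : IsFinite yx := hyx.1
  have hyet : Etale yx := hyx.2
  -- Step 1: descend `Yx`
  have : CompactSpace Yx := QuasiCompact.compactSpace_of_compactSpace yx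
  have : QuasiSeparatedSpace Yx := quasiSeparatedSpace_of_quasiSeparated yx
  obtain ⟨W₁, Y₁, y₁, q, _, _, _, hy₁, hq⟩ := exists_descent_with (nhdDiagram X x) (nhdCone X x)
    (isLimitNhdCone X x) (@IsFinite ⊓ @Etale : MorphismProperty Scheme.{u})
    (fun i₁ X₀ X' f₀ _ _ _ f qX hX hf ↦
      HP_finiteEtale (nhdDiagram X x) (nhdCone X x) (isLimitNhdCone X x) i₁ f₀ f qX hX hf)
    (f := yx) ⟨hyfin, hyet⟩
  have hy₁fin : IsFinite y₁ := hy₁.1
  have hy₁et : Etale y₁ := hy₁.2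
  replace hq : IsPullback q yx y₁ (W₁.1.fromSpecStalkOfMem x W₁.2.2) := hq
  -- Step 2: descend the isomorphism
  let DU := nhdDiagramBC X x U.ι
  let cU := nhdConeBC X x U.ι pU pS hP
  have hcU : IsLimit cU := isLimitNhdConeBC X x U.ι pU pS hP
  let πU : P ⟶ pullback U.ι W₁.1.ι := cU.π.app W₁
  have hπ1 : πU ≫ pullback.fst U.ι W₁.1.ι = pU := nhdConeBC_π_app_fst X x U.ι pU pS hP W₁
  have hπ2 : πU ≫ pullback.snd U.ι W₁.1.ι = pS ≫ W₁.1.fromSpecStalkOfMem x W₁.2.2 :=
    nhdConeBC_π_app_snd X x U.ι pU pS hP W₁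
  let a₀ : pullback y₁ (pullback.snd U.ι W₁.1.ι) ⟶ pullback U.ι W₁.1.ι := pullback.snd _ _
  let b₀ : pullback v (pullback.fst U.ι W₁.1.ι) ⟶ pullback U.ι W₁.1.ι := pullback.snd _ _
  have ha₀fin : IsFinite a₀ := MorphismProperty.pullback_snd (P := @IsFinite) _ _ hy₁fin
  have ha₀et : Etale a₀ := MorphismProperty.pullback_snd (P := @Etale) _ _ hy₁et
  have hb₀fin : IsFinite b₀ := MorphismProperty.pullback_snd (P := @IsFinite) _ _ hvfin
  have hb₀et : Etale b₀ := MorphismProperty.pullback_snd (P := @Etale) _ _ hvet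
  let qX : Z ⟶ pullback y₁ (pullback.snd U.ι W₁.1.ι) :=
    pullback.lift (z1 ≫ q) (zP ≫ πU) (by
      rw [Category.assoc, hq.w, ← Category.assoc, h1.w, Category.assoc, Category.assoc, hπ2])
  have hX : IsPullback qX zP a₀ πU := by
    refine IsPullback.of_right ?_ (pullback.lift_snd _ _ _)
      (IsPullback.of_hasPullback y₁ (pullback.snd U.ι W₁.1.ι))
    rw [pullback.lift_fst, hπ2]
    exact h1.paste_horiz hq
  let qY : Z ⟶ pullback v (pullback.fst U.ι W₁.1.ι) :=
    pullback.lift z2 (zP ≫ πU) (by rw [h2.w, Category.assoc, hπ1])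
  have hY : IsPullback qY zP b₀ πU := by
    refine IsPullback.of_right ?_ (pullback.lift_snd _ _ _)
      (IsPullback.of_hasPullback v (pullback.fst U.ι W₁.1.ι))
    rw [pullback.lift_fst, hπ1]
    exact h2
  have : CompactSpace (DU.obj W₁) := inferInstance
  have : QuasiSeparatedSpace (DU.obj W₁) := inferInstance
  obtain ⟨W₂, φ, A₂, B₂, aj, bj, pX, pY, hpX, hpY, e, he⟩ :=
    (Groth.Agent.S4795.result DU cU hcU W₁ a₀ b₀ zP zP qX qY hX hY).mp ⟨Iso.refl _, by simp⟩
  have hle : W₂.1 ≤ W₁.1 := leOfHom φ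
  have hφ1 : DU.map φ ≫ pullback.fst U.ι W₁.1.ι = pullback.fst U.ι W₂.1.ι :=
    nhdDiagramBC_map_fst X x U.ι φ
  have hφ2 : DU.map φ ≫ pullback.snd U.ι W₁.1.ι = pullback.snd U.ι W₂.1.ι ≫ X.homOfLE hle :=
    nhdDiagramBC_map_snd X x U.ι φ
  -- Step 3: relative gluing
  let a : U.toScheme ⟶ (U ⊔ W₂.1).toScheme := X.homOfLE le_sup_left
  let b : W₂.1.toScheme ⟶ (U ⊔ W₂.1).toScheme := X.homOfLE le_sup_right
  have hcov : ∀ z : (U ⊔ W₂.1).toScheme, z ∈ Set.range a ∨ z ∈ Set.range b := by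
    rintro ⟨z, hz | hz⟩
    · left; exact ⟨⟨z, hz⟩, Subtype.ext (by rw [Scheme.homOfLE_apply])⟩
    · right; exact ⟨⟨z, hz⟩, Subtype.ext (by rw [Scheme.homOfLE_apply])⟩
  have hO : IsPullback (pullback.fst U.ι W₂.1.ι) (pullback.snd U.ι W₂.1.ι) a b := by
    apply isPullback_of_comp_mono (U ⊔ W₂.1).ι
    rw [Scheme.homOfLE_ι, Scheme.homOfLE_ι]
    exact IsPullback.of_hasPullback _ _
  let fC : pullback y₁ (X.homOfLE hle) ⟶ W₂.1.toScheme := pullback.snd _ _
  have hfCfin : IsFinite fC := MorphismProperty.pullback_snd (P := @IsFinite) _ _ hy₁fin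
  have hfCet : Etale fC := MorphismProperty.pullback_snd (P := @Etale) _ _ hy₁et
  let wC : A₂ ⟶ pullback y₁ (X.homOfLE hle) :=
    pullback.lift (pX ≫ pullback.fst _ _) (aj ≫ pullback.snd U.ι W₂.1.ι) (by
      rw [Category.assoc, pullback.condition, ← Category.assoc, hpX.w, Category.assoc, hφ2,
        Category.assoc])
  have hC : IsPullback wC aj fC (pullback.snd U.ι W₂.1.ι) := by
    refine IsPullback.of_right ?_ (pullback.lift_snd _ _ _)
      (IsPullback.of_hasPullback y₁ (X.homOfLE hle))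
    rw [pullback.lift_fst, ← hφ2]
    exact hpX.paste_horiz (IsPullback.of_hasPullback y₁ (pullback.snd U.ι W₁.1.ι))
  let wA : A₂ ⟶ V := e.hom ≫ pY ≫ pullback.fst _ _
  have hB : IsPullback (pY ≫ pullback.fst v (pullback.fst U.ι W₁.1.ι)) bj v
      (pullback.fst U.ι W₂.1.ι) := by
    rw [← hφ1]
    exact hpY.paste_horiz (IsPullback.of_hasPullback v (pullback.fst U.ι W₁.1.ι))
  have hA : IsPullback wA aj v (pullback.fst U.ι W₂.1.ι) :=
    IsPullback.of_iso hB e.symm (Iso.refl _) (Iso.refl _) (Iso.refl _)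
      (by simp [wA]) (by simp [← he]) (by simp) (by simp)
  have iwA : IsOpenImmersion wA := isOpenImmersion_wA a b _ _ hO v aj wA hA
  have iwC : IsOpenImmersion wC := isOpenImmersion_wC a b _ _ hO fC aj wC hC
  refine ⟨W₂, pushout wA wC, relGlueToBase a b _ _ hO v fC aj wA wC hA hC, pushout.inl wA wC,
    ?_, ?_, (isPullback_inl_relGlueToBase a b _ _ hO v fC aj wA wC hA hC).flip⟩
  · exact relGlueToBase_prop a b hcov _ _ hO v fC aj wA wC hA hC @IsFinite hvfin hfCfin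
  · exact relGlueToBase_prop a b hcov _ _ hO v fC aj wA wC hA hC @Etale hvet hfCet

end Groth.Agent.Lib.Helper50.StalkLim
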