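import Groth.Agent.Lib.Helper50.StalkGlue

/-!
# Spreading out an isomorphism of local rings to an isomorphism of open neighbourhoods
(both schemes locally of finite presentation over the base)
-/

set_option autoImplicit false
universe u
open CategoryTheory CategoryTheory.Limits AlgebraicGeometry Opposite TopologicalSpace

namespace Groth.Agent.Lib.Helper50.StalkLim

variable {X Y S : Scheme.{u}} (sX : X ⟶ S) (sY : Y ⟶ S)

/-- One half of the spreading out of an isomorphism: a spread-out `f₁` of `a` and a spread-out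
`g₁` of the inverse are inverse to each other near `x`. -/
theorem exists_left_inverse_nhd [LocallyOfFiniteType sX] {x : X} {y : Y}
    (a : Spec (X.presheaf.stalk x) ⟶ Spec (Y.presheaf.stalk y))
    (a' : Spec (Y.presheaf.stalk y) ⟶ Spec (X.presheaf.stalk x)) (haa' : a ≫ a' = 𝟙 _)
    (W₁ : AffNhd X x) (f₁ : W₁.1.toScheme ⟶ Y) (hf₁ : f₁ ≫ sY = W₁.1.ι ≫ sX)
    (hf₁' : W₁.1.fromSpecStalkOfMem x W₁.2.2 ≫ f₁ = a ≫ Y.fromSpecStalk y)
    (T₁ : AffNhd Y y) (g₁ : T₁.1.toScheme ⟶ X) (hg₁ : g₁ ≫ sX = T₁.1.ι ≫ sY)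
    (hg₁' : T₁.1.fromSpecStalkOfMem y T₁.2.2 ≫ g₁ = a' ≫ X.fromSpecStalk x)
    (hxy : f₁ ⟨x, W₁.2.2⟩ = y) :
    ∃ (W₃ : AffNhd X x) (hle : W₃.1 ≤ W₁.1) (f₃ : W₃.1.toScheme ⟶ T₁.1.toScheme),
      f₃ ≫ T₁.1.ι = X.homOfLE hle ≫ f₁ ∧ f₃ ≫ g₁ = W₃.1.ι := by
  -- shrink so that `f₁` lands in `T₁`
  let O₂ : X.Opens := W₁.1.ι ''ᵁ (f₁ ⁻¹ᵁ T₁.1)
  have hxO₂ : x ∈ O₂ := ⟨⟨x, W₁.2.2⟩, by change f₁ _ ∈ T₁.1; rw [hxy]; exact T₁.2.2, rfl⟩
  obtain ⟨W₂, hW₂⟩ := AffNhd.exists_le (X := X) (x := x) O₂ hxO₂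
  have hle₂ : W₂.1 ≤ W₁.1 := by
    intro z hz
    obtain ⟨w, -, rfl⟩ := hW₂ hz
    exact w.2
  have hr : Set.range (X.homOfLE hle₂ ≫ f₁) ⊆ Set.range T₁.1.ι := by
    rintro _ ⟨z, rfl⟩
    rw [Scheme.Opens.range_ι]
    obtain ⟨w, hw, hwz⟩ := hW₂ z.2
    have : (X.homOfLE hle₂) z = w := Subtype.ext (by rw [Scheme.homOfLE_apply]; exact hwz.symm)
    rw [Scheme.Hom.comp_apply, this]
    exact hw
  let f₂ : W₂.1.toScheme ⟶ T₁.1.toScheme := IsOpenImmersion.lift T₁.1.ι (X.homOfLE hle₂ ≫ f₁) hr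
  have hf₂ : f₂ ≫ T₁.1.ι = X.homOfLE hle₂ ≫ f₁ := IsOpenImmersion.lift_fac _ _ _
  have hstalk : W₂.1.fromSpecStalkOfMem x W₂.2.2 ≫ f₂ = a ≫ T₁.1.fromSpecStalkOfMem y T₁.2.2 := by
    rw [← cancel_mono T₁.1.ι, Category.assoc, hf₂, ← Category.assoc, fromSpecStalkOfMem_homOfLE,
      hf₁', Category.assoc, Scheme.Opens.fromSpecStalkOfMem_ι]
  obtain ⟨W₃, hle₃, h⟩ := exists_spread_out_unique sX sX x W₂ (f₂ ≫ g₁) W₂.1.ι
    (by rw [Category.assoc, hg₁, ← Category.assoc, hf₂, Category.assoc, hf₁,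
      Scheme.homOfLE_ι_assoc])
    rfl
    (by rw [← Category.assoc, hstalk, Category.assoc, hg₁', ← Category.assoc, haa',
      Category.id_comp, Scheme.Opens.fromSpecStalkOfMem_ι])
  refine ⟨W₃, hle₃.trans hle₂, X.homOfLE hle₃ ≫ f₂, ?_, ?_⟩
  · rw [Category.assoc, hf₂, ← Category.assoc, Scheme.homOfLE_homOfLE]
  · rw [Category.assoc, h, Scheme.homOfLE_ι]

set_option backward.isDefEq.respectTransparency false in
/-- Spreading out an isomorphism of the local schemes to an isomorphism of open neighbourhoods. -/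
theorem exists_spread_out_iso [LocallyOfFinitePresentation sX] [LocallyOfFinitePresentation sY]
    {x : X} {y : Y}
    (a : Spec (X.presheaf.stalk x) ⟶ Spec (Y.presheaf.stalk y))
    (a' : Spec (Y.presheaf.stalk y) ⟶ Spec (X.presheaf.stalk x)) (haa' : a ≫ a' = 𝟙 _)
    (ha'a : a' ≫ a = 𝟙 _)
    (hclosed : a (IsLocalRing.closedPoint _) = IsLocalRing.closedPoint _)
    (hclosed' : a' (IsLocalRing.closedPoint _) = IsLocalRing.closedPoint _)
    (ha : (a ≫ Y.fromSpecStalk y) ≫ sY = X.fromSpecStalk x ≫ sX) :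
    ∃ (U : X.Opens) (hxU : x ∈ U) (V : Y.Opens) (f : U.toScheme ⟶ V.toScheme), IsIso f ∧
      a ≫ Y.fromSpecStalk y = U.fromSpecStalkOfMem x hxU ≫ f ≫ V.ι ∧
        f ≫ V.ι ≫ sY = U.ι ≫ sX := by
  have ha' : (a' ≫ X.fromSpecStalk x) ≫ sX = Y.fromSpecStalk y ≫ sY := by
    rw [Category.assoc, ← ha, ← Category.assoc, ← Category.assoc, ha'a, Category.id_comp]
  obtain ⟨W₁, f₁, hf₁', hf₁⟩ := exists_spread_out sX sY x _ ha
  obtain ⟨T₁, g₁, hg₁', hg₁⟩ := exists_spread_out sY sX y _ ha'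
  have hxy : f₁ ⟨x, W₁.2.2⟩ = y := by
    have h := congr($hf₁' (IsLocalRing.closedPoint _))
    rw [Scheme.Hom.comp_apply, Scheme.Hom.comp_apply, hclosed, Scheme.fromSpecStalk_closedPoint]
      at h
    rw [← h]
    congr 1
    apply W₁.1.ι.isOpenEmbedding.injective
    rw [← Scheme.Hom.comp_apply, Scheme.Opens.fromSpecStalkOfMem_ι,
      Scheme.fromSpecStalk_closedPoint]
    rfl
  have hyx : g₁ ⟨y, T₁.2.2⟩ = x := by
    have h := congr($hg₁' (IsLocalRing.closedPoint _))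
    rw [Scheme.Hom.comp_apply, Scheme.Hom.comp_apply, hclosed', Scheme.fromSpecStalk_closedPoint]
      at h
    rw [← h]
    congr 1
    apply T₁.1.ι.isOpenEmbedding.injective
    rw [← Scheme.Hom.comp_apply, Scheme.Opens.fromSpecStalkOfMem_ι,
      Scheme.fromSpecStalk_closedPoint]
    rfl
  obtain ⟨W₃, hleW, f₃, hf₃, hf₃'⟩ := exists_left_inverse_nhd sX sY a a' haa' W₁ f₁ hf₁ hf₁'
    T₁ g₁ hg₁ hg₁' hxy
  obtain ⟨T₃, hleT, g₃, hg₃, hg₃'⟩ := exists_left_inverse_nhd sY sX a' a ha'a T₁ g₁ hg₁ hg₁'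
    W₁ f₁ hf₁ hf₁' hyx
  -- the two open pieces
  let e₁ : pullback f₃ (Y.homOfLE hleT) ⟶ W₃.1.toScheme := pullback.fst _ _
  let e₂ : pullback f₃ (Y.homOfLE hleT) ⟶ T₃.1.toScheme := pullback.snd _ _
  have he : e₁ ≫ f₃ = e₂ ≫ Y.homOfLE hleT := pullback.condition
  let e₁' : pullback g₃ (X.homOfLE hleW) ⟶ T₃.1.toScheme := pullback.fst _ _
  let e₂' : pullback g₃ (X.homOfLE hleW) ⟶ W₃.1.toScheme := pullback.snd _ _
  have he' : e₁' ≫ g₃ = e₂' ≫ X.homOfLE hleW := pullback.condition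
  let α : pullback f₃ (Y.homOfLE hleT) ⟶ pullback g₃ (X.homOfLE hleW) :=
    pullback.lift e₂ e₁ (by
      rw [← cancel_mono W₁.1.ι, Category.assoc, Category.assoc, hg₃, Scheme.homOfLE_ι,
        ← Category.assoc, ← he, Category.assoc, hf₃'])
  let β : pullback g₃ (X.homOfLE hleW) ⟶ pullback f₃ (Y.homOfLE hleT) :=
    pullback.lift e₂' e₁' (by
      rw [← cancel_mono T₁.1.ι, Category.assoc, Category.assoc, hf₃, Scheme.homOfLE_ι,
        ← Category.assoc, ← he', Category.assoc, hg₃'])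
  have hα1 : α ≫ e₁' = e₂ := pullback.lift_fst _ _ _
  have hα2 : α ≫ e₂' = e₁ := pullback.lift_snd _ _ _
  have hβ1 : β ≫ e₁ = e₂' := pullback.lift_fst _ _ _
  have hβ2 : β ≫ e₂ = e₁' := pullback.lift_snd _ _ _
  have hαβ : α ≫ β = 𝟙 _ := by
    apply pullback.hom_ext
    · rw [Category.assoc, Category.id_comp]
      exact (congrArg (α ≫ ·) hβ1).trans hα2
    · rw [Category.assoc, Category.id_comp]
      exact (congrArg (α ≫ ·) hβ2).trans hα1
  have hβα : β ≫ α = 𝟙 _ := by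
    apply pullback.hom_ext
    · rw [Category.assoc, Category.id_comp]
      exact (congrArg (β ≫ ·) hα1).trans hβ2
    · rw [Category.assoc, Category.id_comp]
      exact (congrArg (β ≫ ·) hα2).trans hβ1
  have : IsIso α := ⟨β, hαβ, hβα⟩
  let u : pullback f₃ (Y.homOfLE hleT) ⟶ X := e₁ ≫ W₃.1.ι
  let v : pullback g₃ (X.homOfLE hleW) ⟶ Y := e₁' ≫ T₃.1.ι
  have hu : IsOpenImmersion u := inferInstance
  have hv : IsOpenImmersion v := inferInstance
  -- `x` lies in the range of `u`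
  have hxu : x ∈ u.opensRange := by
    have h1 : f₃ ⟨x, W₃.2.2⟩ = (Y.homOfLE hleT) ⟨y, T₃.2.2⟩ := by
      apply T₁.1.ι.isOpenEmbedding.injective
      rw [← Scheme.Hom.comp_apply, ← Scheme.Hom.comp_apply, hf₃, Scheme.homOfLE_ι,
        Scheme.Hom.comp_apply]
      have : (X.homOfLE hleW) ⟨x, W₃.2.2⟩ = ⟨x, W₁.2.2⟩ :=
        Subtype.ext (by rw [Scheme.homOfLE_apply])
      rw [this, hxy]
      rfl
    obtain ⟨z, hz1, -⟩ := Scheme.Pullback.exists_preimage_pullback _ _ h1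
    exact ⟨z, by rw [Scheme.Hom.comp_apply]; change W₃.1.ι (e₁ z) = x; rw [hz1]; rfl⟩
  refine ⟨u.opensRange, hxu, v.opensRange, u.isoOpensRange.inv ≫ α ≫ v.isoOpensRange.hom,
    inferInstance, ?_, ?_⟩
  all_goals
    have key : (u.isoOpensRange.inv ≫ α ≫ v.isoOpensRange.hom) ≫ v.opensRange.ι =
        (u.isoOpensRange.inv ≫ e₁ ≫ X.homOfLE hleW) ≫ f₁ := by
      simp only [Category.assoc, Scheme.Hom.isoOpensRange_hom_ι]
      congr 1
      change α ≫ e₁' ≫ T₃.1.ι = _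
      rw [reassoc_of% hα1, ← Scheme.homOfLE_ι Y hleT, ← reassoc_of% he, hf₃]
    have hρ : (u.isoOpensRange.inv ≫ e₁ ≫ X.homOfLE hleW) ≫ W₁.1.ι = u.opensRange.ι := by
      simp only [Category.assoc, Scheme.homOfLE_ι]
      exact Scheme.Hom.isoOpensRange_inv_comp u
  · have hρ' : u.opensRange.fromSpecStalkOfMem x hxu ≫
        (u.isoOpensRange.inv ≫ e₁ ≫ X.homOfLE hleW) = W₁.1.fromSpecStalkOfMem x W₁.2.2 := by
      rw [← cancel_mono W₁.1.ι, Category.assoc, hρ, Scheme.Opens.fromSpecStalkOfMem_ι,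
        Scheme.Opens.fromSpecStalkOfMem_ι]
    rw [key, ← Category.assoc, hρ', hf₁']
  · rw [← Category.assoc, key, Category.assoc, hf₁, ← Category.assoc, hρ]

end Groth.Agent.Lib.Helper50.StalkLim
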