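import Groth.Agent.Lib.Helper50.StalkLim

/-!
# Spreading out morphisms from `Spec 𝒪_{X,x}` to a neighbourhood (target locally of finite
presentation, no condition on `X`)
-/

set_option autoImplicit false
universe u
open CategoryTheory CategoryTheory.Limits AlgebraicGeometry Opposite TopologicalSpace

namespace Groth.Agent.Lib.Helper50.StalkLim

variable {X Y S : Scheme.{u}} (sX : X ⟶ S) (sY : Y ⟶ S)

/-- The structure maps of the affine neighbourhoods to a base `S`. -/
noncomputable def nhdToBase (x : X) : nhdDiagram X x ⟶ (Functor.const (AffNhd X x)).obj S where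
  app W := W.1.ι ≫ sX
  naturality W W' f := by
    dsimp only [Functor.const_obj_obj, Functor.const_obj_map]
    rw [Category.comp_id, nhdDiagram_map_ι_assoc]

/-- Spreading out a morphism `Spec 𝒪_{X,x} ⟶ Y` over `S` to an affine open neighbourhood of `x`,
for `Y` locally of finite presentation over `S`. -/
theorem exists_spread_out [LocallyOfFinitePresentation sY] (x : X)
    (a : Spec (X.presheaf.stalk x) ⟶ Y) (ha : a ≫ sY = X.fromSpecStalk x ≫ sX) :
    ∃ (W : AffNhd X x) (g : W.1.toScheme ⟶ Y),
      W.1.fromSpecStalkOfMem x W.2.2 ≫ g = a ∧ g ≫ sY = W.1.ι ≫ sX := by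
  obtain ⟨W, g, hg1, hg2⟩ := Scheme.exists_π_app_comp_eq_of_locallyOfFinitePresentation
    (nhdDiagram X x) (nhdToBase sX x) sY (nhdCone X x) (isLimitNhdCone X x) a (by
      ext W
      change W.1.fromSpecStalkOfMem x W.2.2 ≫ W.1.ι ≫ sX = a ≫ sY
      rw [Scheme.Opens.fromSpecStalkOfMem_ι_assoc, ha])
  exact ⟨W, g, hg1, hg2⟩

end Groth.Agent.Lib.Helper50.StalkLim
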