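import Groth.Agent.Lib.Helper50.Glue2
import Mathlib.AlgebraicGeometry.Stalk

/-!
# Morphisms are determined by their restrictions to `X ∖ {x}` and `Spec 𝒪_{X,x}`
-/

set_option autoImplicit false
universe u
open CategoryTheory CategoryTheory.Limits AlgebraicGeometry Opposite TopologicalSpace

namespace Groth.Agent.Lib.Helper50.StalkLim

/-- A global section is determined by its germ at `x` and its restriction to an open containing
all other points. -/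
lemma eq_of_germ_eq_of_res_eq {T : Scheme.{u}} (x : T) (O : T.Opens) (hO : ∀ z : T, z ≠ x → z ∈ O)
    (u v : Γ(T, ⊤)) (h1 : T.presheaf.germ ⊤ x trivial u = T.presheaf.germ ⊤ x trivial v)
    (h2 : O.ι.appTop u = O.ι.appTop v) : u = v := by
  obtain ⟨N, hxN, i₁, i₂, h⟩ := T.presheaf.germ_eq (U := ⊤) (V := ⊤) x trivial trivial u v h1
  obtain rfl : i₁ = i₂ := Subsingleton.elim _ _
  refine T.sheaf.eq_of_locally_eq₂ i₁ (homOfLE le_top : O.ι ''ᵁ ⊤ ⟶ ⊤) ?_ u v h h2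
  intro z _
  by_cases hz : z = x
  · exact Or.inl (hz ▸ hxN)
  · refine Or.inr ?_
    rw [Scheme.Opens.ι_image_top]
    exact hO z hz

/-- Morphisms to an affine scheme are determined by their restrictions to `Spec 𝒪_{T,x}` and
to an open containing all other points. -/
lemma hom_ext_of_fromSpecStalk_of_affine {T Z : Scheme.{u}} [IsAffine Z] (x : T) (O : T.Opens)
    (hO : ∀ z : T, z ≠ x → z ∈ O) (k₁ k₂ : T ⟶ Z)
    (h1 : T.fromSpecStalk x ≫ k₁ = T.fromSpecStalk x ≫ k₂) (h2 : O.ι ≫ k₁ = O.ι ≫ k₂) :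
    k₁ = k₂ := by
  apply ext_of_isAffine
  have key : ∀ k : T ⟶ Z, Spec.map (k.appTop ≫ T.presheaf.germ ⊤ x trivial) =
      (T.fromSpecStalk x ≫ k) ≫ Z.toSpecΓ := by
    intro k
    rw [Spec.map_comp, ← Scheme.fromSpecStalk_toSpecΓ, Category.assoc, Category.assoc,
      Scheme.toSpecΓ_naturality]
  have g1 : k₁.appTop ≫ T.presheaf.germ ⊤ x trivial = k₂.appTop ≫ T.presheaf.germ ⊤ x trivial := by
    apply Spec.map_injective
    rw [key, key, h1]
  have g2 : k₁.appTop ≫ O.ι.appTop = k₂.appTop ≫ O.ι.appTop := by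
    rw [← Scheme.Hom.comp_appTop, ← Scheme.Hom.comp_appTop, h2]
  ext s
  exact eq_of_germ_eq_of_res_eq x O hO _ _ congr($g1 s) congr($g2 s)

/-- **Uniqueness**: morphisms `X ⟶ Y` are determined by their restrictions to `Spec 𝒪_{X,x}`
and to an open containing all other points. -/
theorem hom_ext_of_fromSpecStalk {X Y : Scheme.{u}} (x : X) (U : X.Opens)
    (hU : ∀ z : X, z ≠ x → z ∈ U) (g₁ g₂ : X ⟶ Y)
    (h1 : X.fromSpecStalk x ≫ g₁ = X.fromSpecStalk x ≫ g₂) (h2 : U.ι ≫ g₁ = U.ι ≫ g₂) :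
    g₁ = g₂ := by
  have hx : g₁ x = g₂ x := by
    have := congr($h1 (IsLocalRing.closedPoint _))
    simpa only [Scheme.Hom.comp_apply, Scheme.fromSpecStalk_closedPoint] using this
  obtain ⟨_, ⟨W : Y.Opens, hW, rfl⟩, hxW, -⟩ :=
    Y.isBasis_affineOpens.exists_subset_of_mem_open (Set.mem_univ (g₁ x)) isOpen_univ
  let T : X.Opens := g₁ ⁻¹ᵁ W ⊓ g₂ ⁻¹ᵁ W
  have hxT : x ∈ T := ⟨hxW, by change g₂ x ∈ W; rw [← hx]; exact hxW⟩
  have : IsAffine W.toScheme := hW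
  have hr1 : Set.range (T.ι ≫ g₁) ⊆ Set.range W.ι := by
    rintro _ ⟨z, rfl⟩
    rw [Scheme.Opens.range_ι]
    exact z.2.1
  have hr2 : Set.range (T.ι ≫ g₂) ⊆ Set.range W.ι := by
    rintro _ ⟨z, rfl⟩
    rw [Scheme.Opens.range_ι]
    exact z.2.2
  let k₁ : T.toScheme ⟶ W.toScheme := IsOpenImmersion.lift W.ι (T.ι ≫ g₁) hr1
  let k₂ : T.toScheme ⟶ W.toScheme := IsOpenImmersion.lift W.ι (T.ι ≫ g₂) hr2
  have hk₁ : k₁ ≫ W.ι = T.ι ≫ g₁ := IsOpenImmersion.lift_fac _ _ _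
  have hk₂ : k₂ ≫ W.ι = T.ι ≫ g₂ := IsOpenImmersion.lift_fac _ _ _
  have hk : k₁ = k₂ := by
    refine hom_ext_of_fromSpecStalk_of_affine (T := T.toScheme) ⟨x, hxT⟩ (T.ι ⁻¹ᵁ U) ?_ k₁ k₂ ?_ ?_
    · intro z hz
      exact hU z.1 (fun h ↦ hz (Subtype.ext h))
    · rw [← cancel_mono W.ι, Category.assoc, Category.assoc, hk₁, hk₂,
        ← Scheme.SpecMap_stalkMap_fromSpecStalk_assoc, ← Scheme.SpecMap_stalkMap_fromSpecStalk_assoc]
      congr 1
    · rw [← cancel_mono W.ι, Category.assoc, Category.assoc, hk₁, hk₂]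
      have e : (T.ι ⁻¹ᵁ U).ι ≫ T.ι = (T.ι ∣_ U) ≫ U.ι := (morphismRestrict_ι T.ι U).symm
      rw [reassoc_of% e, reassoc_of% e, h2]
  have hT : T.ι ≫ g₁ = T.ι ≫ g₂ := by rw [← hk₁, ← hk₂, hk]
  refine Descent.hom_ext_of_two U.ι T.ι ?_ h2 hT
  intro z
  by_cases hz : z = x
  · right
    rw [Scheme.Opens.range_ι]
    exact hz ▸ hxT
  · left
    rw [Scheme.Opens.range_ι]
    exact hU z hz

end Groth.Agent.Lib.Helper50.StalkLim
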