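import Groth.Agent.Lib.Helper72.SubGrp
import Mathlib.CategoryTheory.Monoidal.Cartesian.Grp

/-!
# Subgroup structures on the image of a monomorphism under a monoidal functor

For a monoidal functor `F` between cartesian monoidal categories, a group object `G₀`, and
`ι₀ : H₀ ⟶ G₀` with `F.map ι₀` mono: `F.obj H₀` is a subgroup object of `F.obj G₀` (with the
induced group structure) iff the images under `F` of the unit, of the multiplication restricted to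
`H₀ ⊗ H₀`, and of the inverse restricted to `H₀`, factor through `F.map ι₀`.
-/

set_option autoImplicit false

namespace Groth.Agent.Lib.Helper50.SubGrpFunctor

open CategoryTheory CategoryTheory.Limits MonoidalCategory CartesianMonoidalCategory MonObj
open Functor.LaxMonoidal Functor.OplaxMonoidal Functor.Monoidal

open scoped Obj

variable {C D : Type*} [Category C] [Category D] [CartesianMonoidalCategory C]
  [CartesianMonoidalCategory D] (F : C ⥤ D) [F.Monoidal]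
  {G₀ H₀ : C} [GrpObj G₀] (ι₀ : H₀ ⟶ G₀)

/-- The conjugation map `G₀ ⊗ H₀ ⟶ G₀`, `(g, h) ↦ g h g⁻¹`. -/
noncomputable def conj : G₀ ⊗ H₀ ⟶ G₀ := fst G₀ H₀ * (snd G₀ H₀ ≫ ι₀) * (fst G₀ H₀)⁻¹

lemma map_conj : F.map (conj ι₀) =
    F.map (fst G₀ H₀) * (F.map (snd G₀ H₀) ≫ F.map ι₀) * (F.map (fst G₀ H₀))⁻¹ := by
  rw [conj, Functor.map_mul, Functor.map_mul, Functor.map_inv', F.map_comp]

section limitDirection

variable [hH : GrpObj (F.obj H₀)] [hι : IsMonHom (F.map ι₀)]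

include hι in
lemma exists_factor_one : ∃ ψ : F.obj (𝟙_ C) ⟶ F.obj H₀, ψ ≫ F.map ι₀ = F.map (η : 𝟙_ C ⟶ G₀) := by
  refine ⟨inv (ε F) ≫ η, ?_⟩
  rw [Category.assoc, IsMonHom.one_hom, Functor.obj.η_def, IsIso.inv_hom_id_assoc]

include hι in
lemma exists_factor_mul :
    ∃ ψ : F.obj (H₀ ⊗ H₀) ⟶ F.obj H₀, ψ ≫ F.map ι₀ = F.map ((ι₀ ⊗ₘ ι₀) ≫ μ) := by
  refine ⟨inv (Functor.LaxMonoidal.μ F H₀ H₀) ≫ μ, ?_⟩
  rw [Category.assoc, IsMonHom.mul_hom, Functor.obj.μ_def, F.map_comp, μ_natural_assoc,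
    IsIso.inv_hom_id_assoc]

include hι in
lemma exists_factor_inv : ∃ ψ : F.obj H₀ ⟶ F.obj H₀, ψ ≫ F.map ι₀ = F.map (ι₀ ≫ ι) := by
  refine ⟨ι, ?_⟩
  rw [GrpObj.inv_hom, Functor.obj.ι_def, F.map_comp]

omit hH in
lemma exists_factor_conj
    (hn : ∀ (T : D) (g : T ⟶ F.obj G₀) (n : T ⟶ F.obj H₀),
      ∃ n' : T ⟶ F.obj H₀, g * (n ≫ F.map ι₀) * g⁻¹ = n' ≫ F.map ι₀) :
    ∃ ψ : F.obj (G₀ ⊗ H₀) ⟶ F.obj H₀, ψ ≫ F.map ι₀ = F.map (conj ι₀) := by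
  obtain ⟨n', hn'⟩ := hn (F.obj (G₀ ⊗ H₀)) (F.map (fst G₀ H₀)) (F.map (snd G₀ H₀))
  exact ⟨n', by rw [← hn', map_conj]⟩

end limitDirection

section stageDirection

variable
  (ψ₁ : F.obj (𝟙_ C) ⟶ F.obj H₀) (h₁ : ψ₁ ≫ F.map ι₀ = F.map (η : 𝟙_ C ⟶ G₀))
  (ψ₂ : F.obj (H₀ ⊗ H₀) ⟶ F.obj H₀) (h₂ : ψ₂ ≫ F.map ι₀ = F.map ((ι₀ ⊗ₘ ι₀) ≫ μ))
  (ψ₃ : F.obj H₀ ⟶ F.obj H₀) (h₃ : ψ₃ ≫ F.map ι₀ = F.map (ι₀ ≫ ι))

include h₁ in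
lemma ho : (ε F ≫ ψ₁) ≫ F.map ι₀ = η := by
  rw [Category.assoc, h₁, Functor.obj.η_def]

include h₂ in
lemma hm : (Functor.LaxMonoidal.μ F H₀ H₀ ≫ ψ₂) ≫ F.map ι₀ = (F.map ι₀ ⊗ₘ F.map ι₀) ≫ μ := by
  rw [Category.assoc, h₂, Functor.obj.μ_def, F.map_comp, μ_natural_assoc]

include h₃ in
lemma hv : ψ₃ ≫ F.map ι₀ = F.map ι₀ ≫ ι := by
  rw [h₃, Functor.obj.ι_def, F.map_comp]

variable [Mono (F.map ι₀)]

/-- The group structure on `F.obj H₀` from the three factorizations. -/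
@[reducible] noncomputable def grpObj : GrpObj (F.obj H₀) :=
  Groth.Agent.Lib.Helper72.grpObjOfMono (F.map ι₀) (Functor.LaxMonoidal.μ F H₀ H₀ ≫ ψ₂)
    (hm F ι₀ ψ₂ h₂) (ε F ≫ ψ₁) (ho F ι₀ ψ₁ h₁) ψ₃ (hv F ι₀ ψ₃ h₃)

lemma isMonHom : letI := grpObj F ι₀ ψ₁ h₁ ψ₂ h₂ ψ₃ h₃
    IsMonHom (F.map ι₀) :=
  letI := grpObj F ι₀ ψ₁ h₁ ψ₂ h₂ ψ₃ h₃
  ⟨ho F ι₀ ψ₁ h₁, hm F ι₀ ψ₂ h₂⟩

omit [Mono (F.map ι₀)] in
lemma normal_of_factor_conj (ψ₄ : F.obj (G₀ ⊗ H₀) ⟶ F.obj H₀)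
    (h₄ : ψ₄ ≫ F.map ι₀ = F.map (conj ι₀))
    (T : D) (g : T ⟶ F.obj G₀) (n : T ⟶ F.obj H₀) :
    ∃ n' : T ⟶ F.obj H₀, g * (n ≫ F.map ι₀) * g⁻¹ = n' ≫ F.map ι₀ := by
  refine ⟨lift g n ≫ Functor.LaxMonoidal.μ F G₀ H₀ ≫ ψ₄, ?_⟩
  rw [Category.assoc, Category.assoc, h₄, map_conj, MonObj.comp_mul, MonObj.comp_mul,
    GrpObj.comp_inv, MonObj.comp_mul, MonObj.comp_mul, GrpObj.comp_inv]
  simp only [← Category.assoc]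
  rw [Category.assoc (lift g n), μ_fst, lift_fst]
  rw [Category.assoc (lift g n), μ_snd, lift_snd]

end stageDirection

end Groth.Agent.Lib.Helper50.SubGrpFunctor
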