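import Groth.Agent.Lib.Helper50.SubGrpFunctor
import Groth.Agent.Lib.Helper50.SubGrpStage
import Groth.Prelude.Def_Red

/-!
# Descent of closed subgroup schemes from a limit to a stage
-/

set_option autoImplicit false
universe u
open CategoryTheory AlgebraicGeometry MonoidalCategory CartesianMonoidalCategory MonObj GrpObj

namespace Groth.Agent.Lib.Helper50

theorem exists_grpObj_stage_of_closedSubscheme_limit_subgroup
    {I : Type u} [SmallCategory I] [IsCofiltered I]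
    (D : I ⥤ Scheme.{u}) (c : Limits.Cone D) (hc : Limits.IsLimit c)
    [∀ (i j : I) (a : i ⟶ j), IsAffineHom (D.map a)] (i₀ : I)
    [CompactSpace (D.obj i₀)] [QuasiSeparatedSpace (D.obj i₀)]
    (G₀ : Over (D.obj i₀)) [GrpObj G₀] [IsSeparated G₀.hom] [QuasiCompact G₀.hom]
    [LocallyOfFinitePresentation G₀.hom]
    (H₀ : Over (D.obj i₀)) (ι₀ : H₀ ⟶ G₀) [IsClosedImmersion ι₀.left]
    [LocallyOfFinitePresentation ι₀.left]
    (hH : ∃ _ : GrpObj (Red.bc (c.π.app i₀) H₀), IsMonHom ((Over.pullback (c.π.app i₀)).map ι₀)) :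
    (∃ (i : I) (a : i ⟶ i₀) (_ : GrpObj (Red.bc (D.map a) H₀)),
        IsMonHom ((Over.pullback (D.map a)).map ι₀)) ∧
    ((∃ (_ : GrpObj (Red.bc (c.π.app i₀) H₀)) (_ : IsMonHom ((Over.pullback (c.π.app i₀)).map ι₀)),
        AlgGrp.IsNormalHom ((Over.pullback (c.π.app i₀)).map ι₀)) →
      ∃ (i : I) (a : i ⟶ i₀) (_ : GrpObj (Red.bc (D.map a) H₀))
        (_ : IsMonHom ((Over.pullback (D.map a)).map ι₀)),
        AlgGrp.IsNormalHom ((Over.pullback (D.map a)).map ι₀)) := by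
  classical
  -- basic instances
  have hmonoL : Mono ι₀.left := inferInstance
  have hmono : Mono ι₀ := Over.mono_of_mono_left ι₀
  have hmonoF : ∀ {S' : Scheme.{u}} (f : S' ⟶ D.obj i₀), Mono ((Over.pullback f).map ι₀) :=
    fun f => inferInstance
  have hH₀hom : H₀.hom = ι₀.left ≫ G₀.hom := (Over.w ι₀).symm
  have qcH : QuasiCompact H₀.hom := by rw [hH₀hom]; infer_instance
  have qsH : QuasiSeparated H₀.hom := by rw [hH₀hom]; infer_instance
  have cG : CompactSpace G₀.left := QuasiCompact.compactSpace_of_compactSpace G₀.hom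
  have sG : QuasiSeparatedSpace G₀.left := quasiSeparatedSpace_of_quasiSeparated G₀.hom
  have cH : CompactSpace H₀.left := QuasiCompact.compactSpace_of_compactSpace H₀.hom
  have sH : QuasiSeparatedSpace H₀.left := quasiSeparatedSpace_of_quasiSeparated H₀.hom
  have c1 : CompactSpace (𝟙_ (Over (D.obj i₀))).left := inferInstanceAs (CompactSpace (D.obj i₀))
  have s1 : QuasiSeparatedSpace (𝟙_ (Over (D.obj i₀))).left :=
    inferInstanceAs (QuasiSeparatedSpace (D.obj i₀))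
  have cHH : CompactSpace (H₀ ⊗ H₀).left :=
    (QuasiCompact.compactSpace_of_compactSpace (Limits.pullback.fst H₀.hom H₀.hom) :
      CompactSpace ↥(Limits.pullback H₀.hom H₀.hom))
  have sHH : QuasiSeparatedSpace (H₀ ⊗ H₀).left :=
    (quasiSeparatedSpace_of_quasiSeparated (Limits.pullback.fst H₀.hom H₀.hom) :
      QuasiSeparatedSpace ↥(Limits.pullback H₀.hom H₀.hom))
  have cGH : CompactSpace (G₀ ⊗ H₀).left :=
    (QuasiCompact.compactSpace_of_compactSpace (Limits.pullback.fst G₀.hom H₀.hom) :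
      CompactSpace ↥(Limits.pullback G₀.hom H₀.hom))
  have sGH : QuasiSeparatedSpace (G₀ ⊗ H₀).left :=
    (quasiSeparatedSpace_of_quasiSeparated (Limits.pullback.fst G₀.hom H₀.hom) :
      QuasiSeparatedSpace ↥(Limits.pullback G₀.hom H₀.hom))
  -- the three factorizations descend
  have key : (∃ _ : GrpObj (Red.bc (c.π.app i₀) H₀),
      IsMonHom ((Over.pullback (c.π.app i₀)).map ι₀)) →
      ∃ j : Over i₀, ∀ (k : Over i₀) (_ : k ⟶ j),
        (∃ ψ₁ : (Over.pullback (D.map k.hom)).obj (𝟙_ (Over (D.obj i₀))) ⟶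
            (Over.pullback (D.map k.hom)).obj H₀,
          ψ₁ ≫ (Over.pullback (D.map k.hom)).map ι₀ =
            (Over.pullback (D.map k.hom)).map (η : 𝟙_ (Over (D.obj i₀)) ⟶ G₀)) ∧
        (∃ ψ₂ : (Over.pullback (D.map k.hom)).obj (H₀ ⊗ H₀) ⟶
            (Over.pullback (D.map k.hom)).obj H₀,
          ψ₂ ≫ (Over.pullback (D.map k.hom)).map ι₀ =
            (Over.pullback (D.map k.hom)).map ((ι₀ ⊗ₘ ι₀) ≫ μ)) ∧
        (∃ ψ₃ : (Over.pullback (D.map k.hom)).obj H₀ ⟶ (Over.pullback (D.map k.hom)).obj H₀,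
          ψ₃ ≫ (Over.pullback (D.map k.hom)).map ι₀ =
            (Over.pullback (D.map k.hom)).map (ι₀ ≫ ι)) := by
    rintro ⟨hG, hM⟩
    obtain ⟨j₁, hj₁⟩ := SubGrpStage.exists_stage_factor D c hc i₀ ι₀
      (η : 𝟙_ (Over (D.obj i₀)) ⟶ G₀)
      (SubGrpFunctor.exists_factor_one (Over.pullback (c.π.app i₀)) ι₀)
    obtain ⟨j₂, hj₂⟩ := SubGrpStage.exists_stage_factor D c hc i₀ ι₀ ((ι₀ ⊗ₘ ι₀) ≫ μ)
      (SubGrpFunctor.exists_factor_mul (Over.pullback (c.π.app i₀)) ι₀)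
    obtain ⟨j₃, hj₃⟩ := SubGrpStage.exists_stage_factor D c hc i₀ ι₀ (ι₀ ≫ ι)
      (SubGrpFunctor.exists_factor_inv (Over.pullback (c.π.app i₀)) ι₀)
    refine ⟨IsCofiltered.min (IsCofiltered.min j₁ j₂) j₃, fun k a => ⟨?_, ?_, ?_⟩⟩
    · exact hj₁ k (a ≫ IsCofiltered.minToLeft _ _ ≫ IsCofiltered.minToLeft _ _)
    · exact hj₂ k (a ≫ IsCofiltered.minToLeft _ _ ≫ IsCofiltered.minToRight _ _)
    · exact hj₃ k (a ≫ IsCofiltered.minToRight _ _)
  refine ⟨?_, ?_⟩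
  · obtain ⟨j, hj⟩ := key hH
    obtain ⟨⟨ψ₁, h₁⟩, ⟨ψ₂, h₂⟩, ⟨ψ₃, h₃⟩⟩ := hj j (𝟙 j)
    have := hmonoF (D.map j.hom)
    exact ⟨j.left, j.hom,
      SubGrpFunctor.grpObj (Over.pullback (D.map j.hom)) ι₀ ψ₁ h₁ ψ₂ h₂ ψ₃ h₃,
      SubGrpFunctor.isMonHom (Over.pullback (D.map j.hom)) ι₀ ψ₁ h₁ ψ₂ h₂ ψ₃ h₃⟩
  · rintro ⟨hG, hM, hN⟩
    obtain ⟨j, hj⟩ := key ⟨hG, hM⟩
    obtain ⟨j₄, hj₄⟩ := SubGrpStage.exists_stage_factor D c hc i₀ ι₀ (SubGrpFunctor.conj ι₀)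
      (SubGrpFunctor.exists_factor_conj (Over.pullback (c.π.app i₀)) ι₀ hN)
    let k := IsCofiltered.min j j₄
    obtain ⟨⟨ψ₁, h₁⟩, ⟨ψ₂, h₂⟩, ⟨ψ₃, h₃⟩⟩ := hj k (IsCofiltered.minToLeft _ _)
    obtain ⟨ψ₄, h₄⟩ := hj₄ k (IsCofiltered.minToRight _ _)
    have := hmonoF (D.map k.hom)
    refine ⟨k.left, k.hom,
      SubGrpFunctor.grpObj (Over.pullback (D.map k.hom)) ι₀ ψ₁ h₁ ψ₂ h₂ ψ₃ h₃,
      SubGrpFunctor.isMonHom (Over.pullback (D.map k.hom)) ι₀ ψ₁ h₁ ψ₂ h₂ ψ₃ h₃, ?_⟩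
    intro T g n
    exact SubGrpFunctor.normal_of_factor_conj (Over.pullback (D.map k.hom)) ι₀ ψ₄ h₄ T g n

end Groth.Agent.Lib.Helper50
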