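import Mathlib

/-!
# Two pieces of commutative algebra

* the symmetric algebra of a finitely presented module is a finitely presented algebra;
* if `R` is an algebra of finite type over `k` and `R ⧸ I` is finite over `k`, then finitely many elements of `I`
  already force every quotient killing them to be finite over `k`.
-/

set_option autoImplicit false

open scoped Polynomial

namespace Groth.Agent.Lib.Helper50.SymFP

section sym

variable {R M A : Type*} [CommRing R] [AddCommGroup M] [Module R M] [CommRing A] [Algebra R A]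

/-- The symmetric algebra of a finitely presented module is an algebra of finite presentation. -/
theorem finitePresentation_of_isSymmetricAlgebra [Module.FinitePresentation R M] {f : M →ₗ[R] A}
    (hf : IsSymmetricAlgebra f) : Algebra.FinitePresentation R A := by
  classical
  obtain ⟨s, hs, hker⟩ := Module.FinitePresentation.out (R := R) (M := M)
  set p : (s →₀ R) →ₗ[R] M := Finsupp.linearCombination R ((↑) : s → M) with hp
  have hpsurj : Function.Surjective p := by
    rw [← LinearMap.range_eq_top, hp, Finsupp.range_linearCombination]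
    simpa using hs
  let L : (s →₀ R) →ₗ[R] MvPolynomial s R :=
    Finsupp.linearCombination R (fun i : s => (MvPolynomial.X i : MvPolynomial s R))
  let Φ : MvPolynomial s R →ₐ[R] A := MvPolynomial.aeval (fun i : s => f i.1)
  have hΦL : ∀ v, Φ (L v) = f (p v) := by
    intro v
    induction v using Finsupp.induction_linear with
    | zero => simp
    | add a b ha hb => rw [map_add, map_add, ha, hb, map_add, map_add]
    | single i r =>
      simp [L, Φ, hp, Finsupp.linearCombination_single, Algebra.smul_def]
  have hΦsurj : Function.Surjective Φ := by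
    intro a
    induction a using hf.induction with
    | algebraMap r => exact ⟨MvPolynomial.C r, by simp [Φ]⟩
    | ι m =>
      obtain ⟨v, rfl⟩ := hpsurj m
      exact ⟨L v, hΦL v⟩
    | mul a b ha hb =>
      obtain ⟨x, rfl⟩ := ha
      obtain ⟨y, rfl⟩ := hb
      exact ⟨x * y, map_mul _ _ _⟩
    | add a b ha hb =>
      obtain ⟨x, rfl⟩ := ha
      obtain ⟨y, rfl⟩ := hb
      exact ⟨x + y, map_add _ _ _⟩
  obtain ⟨t, ht⟩ := hker
  set 𝔞 : Ideal (MvPolynomial s R) := Ideal.span (L '' (t : Set (s →₀ R))) with h𝔞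
  have hLK : ∀ v ∈ LinearMap.ker p, L v ∈ 𝔞 := by
    intro v hv
    rw [← ht] at hv
    induction hv using Submodule.span_induction with
    | mem x hx => exact Ideal.subset_span ⟨x, hx, rfl⟩
    | zero => rw [map_zero]; exact zero_mem _
    | add x y _ _ hx hy => rw [map_add]; exact add_mem hx hy
    | smul r x _ hx =>
      rw [map_smul, Algebra.smul_def]
      exact Ideal.mul_mem_left _ _ hx
  -- the induced linear map `M → MvPolynomial / 𝔞`
  let q : (s →₀ R) →ₗ[R] (MvPolynomial s R ⧸ 𝔞) := (Ideal.Quotient.mkₐ R 𝔞).toLinearMap ∘ₗ L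
  have hq : LinearMap.ker p ≤ LinearMap.ker q := by
    intro v hv
    rw [LinearMap.mem_ker]
    change Ideal.Quotient.mk 𝔞 (L v) = 0
    exact Ideal.Quotient.eq_zero_iff_mem.mpr (hLK v hv)
  let g : M →ₗ[R] (MvPolynomial s R ⧸ 𝔞) :=
    ((LinearMap.ker p).liftQ q hq) ∘ₗ (p.quotKerEquivOfSurjective hpsurj).symm.toLinearMap
  have hgp : ∀ v, g (p v) = Ideal.Quotient.mk 𝔞 (L v) := by
    intro v
    have h1 : (p.quotKerEquivOfSurjective hpsurj).symm (p v) = Submodule.Quotient.mk v := by
      rw [LinearEquiv.symm_apply_eq]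
      rfl
    change ((LinearMap.ker p).liftQ q hq) ((p.quotKerEquivOfSurjective hpsurj).symm (p v)) = _
    rw [h1]
    rfl
  let Ψ : A →ₐ[R] (MvPolynomial s R ⧸ 𝔞) := hf.lift g
  have hΨΦ : Ψ.comp Φ = Ideal.Quotient.mkₐ R 𝔞 := by
    apply MvPolynomial.algHom_ext
    intro i
    have h1 : Φ (MvPolynomial.X i) = f (p (Finsupp.single i 1)) := by
      simp [Φ, hp, Finsupp.linearCombination_single]
    have h2 : L (Finsupp.single i 1) = MvPolynomial.X i := by
      simp [L, Finsupp.linearCombination_single]
    change Ψ (Φ (MvPolynomial.X i)) = _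
    rw [h1]
    change hf.lift g (f (p (Finsupp.single i 1))) = _
    rw [hf.lift_eq, hgp, h2]
    rfl
  have hkerΦ : RingHom.ker Φ.toRingHom = 𝔞 := by
    apply le_antisymm
    · intro x hx
      have h1 : Ψ (Φ x) = 0 := by
        have : Φ x = 0 := hx
        rw [this, map_zero]
      have h2 : (Ψ.comp Φ) x = Ideal.Quotient.mk 𝔞 x := by rw [hΨΦ]; rfl
      rw [AlgHom.comp_apply, h1] at h2
      exact Ideal.Quotient.eq_zero_iff_mem.mp h2.symm
    · rw [h𝔞, Ideal.span_le]
      rintro _ ⟨v, hv, rfl⟩
      change Φ (L v) = 0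
      rw [hΦL]
      have : v ∈ LinearMap.ker p := by rw [← ht]; exact Submodule.subset_span hv
      rw [LinearMap.mem_ker.mp this, map_zero]
  refine Algebra.FinitePresentation.of_surjective (f := Φ) hΦsurj ?_
  rw [hkerΦ, h𝔞]
  exact ⟨(t.image L), by simp⟩

end sym

section finite

variable {k R : Type*} [CommRing k] [CommRing R]

/-- if `R` is of finite type over `k` and `R ⧸ I` is finite over `k` then finitely many elements of `I` force
finiteness of every quotient of `R` killing them. -/
theorem exists_finset_finite (φ : k →+* R) (hφ : φ.FiniteType) (I : Ideal R)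
    (hI : ((Ideal.Quotient.mk I).comp φ).Finite) :
    ∃ s : Finset R, (∀ x ∈ s, x ∈ I) ∧
      ∀ {T : Type _} [CommRing T] (g : R →+* T), Function.Surjective g → (∀ x ∈ s, g x = 0) →
        (g.comp φ).Finite := by
  classical
  letI := φ.toAlgebra
  obtain ⟨t, ht⟩ := (hφ : Algebra.FiniteType k R).out
  have hint : ∀ a : R, ∃ P : k[X], P.Monic ∧ Polynomial.eval₂ φ a P ∈ I := by
    intro a
    have h1 : ((Ideal.Quotient.mk I).comp φ).IsIntegralElem (Ideal.Quotient.mk I a) :=
      hI.to_isIntegral _
    obtain ⟨P, hP, hP0⟩ := h1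
    refine ⟨P, hP, ?_⟩
    rw [← Ideal.Quotient.eq_zero_iff_mem, Polynomial.hom_eval₂]
    exact hP0
  choose P hPm hPI using hint
  refine ⟨t.image (fun a => Polynomial.eval₂ φ a (P a)), ?_, ?_⟩
  · intro x hx
    obtain ⟨a, -, rfl⟩ := Finset.mem_image.mp hx
    exact hPI a
  · intro T _ g hg h0
    letI : Algebra k T := (g.comp φ).toAlgebra
    let g' : R →ₐ[k] T := { g with commutes' := fun r => rfl }
    have h1 : Algebra.adjoin k (g' '' (t : Set R)) = ⊤ := by
      rw [← AlgHom.map_adjoin, ht, Algebra.map_top, AlgHom.range_eq_top]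
      exact hg
    have h2 : ∀ y ∈ g' '' (t : Set R), IsIntegral k y := by
      rintro _ ⟨a, ha, rfl⟩
      refine ⟨P a, hPm a, ?_⟩
      have h3 : g (Polynomial.eval₂ φ a (P a)) = 0 :=
        h0 _ (Finset.mem_image.mpr ⟨a, ha, rfl⟩)
      rw [Polynomial.hom_eval₂] at h3
      exact h3
    have h3 : (Algebra.adjoin k (g' '' (t : Set R))).toSubmodule.FG :=
      fg_adjoin_of_finite (t.finite_toSet.image _) h2
    rw [h1] at h3
    exact (⟨h3⟩ : Module.Finite k T)

end finite

end Groth.Agent.Lib.Helper50.SymFP
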