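import Mathlib.Topology.Irreducible
import Mathlib.Topology.NoetherianSpace

set_option autoImplicit false

namespace Groth.Agent.Lib.Helper50

open Set

/-- A continuous map with dense range from a space with finitely many irreducible components, under
which the closures of the images of distinct components are incomparable, induces a bijection on
irreducible components. -/
lemma bijOn_irreducibleComponents_of_denseRange {X Z : Type*} [TopologicalSpace X]
    [TopologicalSpace Z] (f : X → Z) (hf : Continuous f) (hd : DenseRange f)
    (hfin : (irreducibleComponents X).Finite)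
    (hsep : ∀ Y ∈ irreducibleComponents X, ∀ Y' ∈ irreducibleComponents X, Y ≠ Y' →
       ¬ closure (f '' Y) ⊆ closure (f '' Y')) :
    Set.BijOn (fun Y : Set X => closure (f '' Y)) (irreducibleComponents X)
      (irreducibleComponents Z) := by
  classical
  have hirr : ∀ Y ∈ irreducibleComponents X, IsIrreducible (closure (f '' Y)) :=
    fun Y hY ↦ (hY.1.image f hf.continuousOn).closure
  -- every irreducible subset of `Z` lies in one of the closures
  have key : ∀ W : Set Z, IsIrreducible W → ∃ Y ∈ irreducibleComponents X, W ⊆ closure (f '' Y) := by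
    intro W hW
    let t : Finset (Set Z) := hfin.toFinset.image fun Y ↦ closure (f '' Y)
    have hcl : ∀ z ∈ t, IsClosed z := by
      intro z hz
      obtain ⟨Y, -, rfl⟩ := Finset.mem_image.mp hz
      exact isClosed_closure
    have hcov : W ⊆ ⋃₀ (t : Set (Set Z)) := by
      have huniv : ⋃₀ (t : Set (Set Z)) = univ := by
        have hclosed : IsClosed (⋃₀ (t : Set (Set Z))) := by
          rw [Set.sUnion_eq_biUnion]
          exact t.finite_toSet.isClosed_biUnion (fun z hz ↦ hcl z hz)
        have hrange : range f ⊆ ⋃₀ (t : Set (Set Z)) := by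
          rintro _ ⟨x, rfl⟩
          have hx : x ∈ ⋃₀ irreducibleComponents X := by
            rw [sUnion_irreducibleComponents]; trivial
          obtain ⟨Y, hY, hxY⟩ := hx
          refine ⟨closure (f '' Y), ?_, subset_closure ⟨x, hxY, rfl⟩⟩
          exact Finset.mem_coe.mpr (Finset.mem_image.mpr ⟨Y, hfin.mem_toFinset.mpr hY, rfl⟩)
        have := closure_minimal hrange hclosed
        rw [hd.closure_range] at this
        exact univ_subset_iff.mp this
      rw [huniv]
      exact subset_univ _
    obtain ⟨z, hz, hWz⟩ := isIrreducible_iff_sUnion_isClosed.mp hW t hcl hcov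
    obtain ⟨Y, hY, rfl⟩ := Finset.mem_image.mp hz
    exact ⟨Y, hfin.mem_toFinset.mp hY, hWz⟩
  refine ⟨?_, ?_, ?_⟩
  · intro Y hY
    refine ⟨hirr Y hY, fun W hW hYW ↦ ?_⟩
    obtain ⟨Y', hY', hWY'⟩ := key W hW
    have hYY' : Y = Y' := by
      by_contra hne
      exact hsep Y hY Y' hY' hne (hYW.trans hWY')
    subst hYY'
    exact hWY'
  · intro Y hY Y' hY' heq
    by_contra hne
    exact hsep Y hY Y' hY' hne (le_of_eq heq)
  · intro W hW
    obtain ⟨Y, hY, hWY⟩ := key W hW.1
    exact ⟨Y, hY, (subset_antisymm hWY (hW.2 (hirr Y hY) hWY)).symm⟩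

end Groth.Agent.Lib.Helper50
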