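import Mathlib.Topology.Sober
import Mathlib.Topology.Irreducible

set_option autoImplicit false

namespace Groth.Agent.Lib.Helper50

open Set

/-- In a quasi-sober space with finitely many irreducible components, a subset which is stable
under generization has an open neighbourhood contained in its closure. -/
lemma exists_isOpen_subset_closure_of_stableUnderGeneralization {X : Type*} [TopologicalSpace X]
    [QuasiSober X] (hfin : (irreducibleComponents X).Finite) (P : Set X)
    (hgen : ∀ x ∈ P, ∀ y, y ⤳ x → y ∈ P) :
    ∃ O : Set X, IsOpen O ∧ P ⊆ O ∧ O ⊆ closure P := by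
  classical
  let K : Set (Set X) := {Z | Z ∈ irreducibleComponents X ∧ ¬ (Z ∩ P).Nonempty}
  have hKfin : K.Finite := hfin.subset fun Z hZ ↦ hZ.1
  refine ⟨(⋃ Z ∈ K, Z)ᶜ, ?_, ?_, ?_⟩
  · rw [isOpen_compl_iff]
    exact hKfin.isClosed_biUnion fun Z hZ ↦ isClosed_of_mem_irreducibleComponents Z hZ.1
  · intro x hxP hx
    simp only [mem_iUnion, exists_prop] at hx
    obtain ⟨Z, hZK, hxZ⟩ := hx
    exact hZK.2 ⟨x, hxZ, hxP⟩
  · intro x hx
    have hZ := irreducibleComponent_mem_irreducibleComponents x
    have hxZ : x ∈ irreducibleComponent x := mem_irreducibleComponent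
    by_cases hK : (irreducibleComponent x ∩ P).Nonempty
    · obtain ⟨p, hpZ, hpP⟩ := hK
      obtain ⟨η, hη⟩ := QuasiSober.sober hZ.1 (isClosed_of_mem_irreducibleComponents _ hZ)
      have hηP : η ∈ P := hgen p hpP η (hη.specializes hpZ)
      have : irreducibleComponent x ⊆ closure P := by
        rw [← hη.def]
        exact closure_mono (singleton_subset_iff.mpr hηP)
      exact this hxZ
    · exfalso
      apply hx
      simp only [mem_iUnion, exists_prop]
      exact ⟨irreducibleComponent x, ⟨hZ, hK⟩, hxZ⟩

end Groth.Agent.Lib.Helper50
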