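import Mathlib.AlgebraicGeometry.Morphisms.UniversallyOpen
import Mathlib.AlgebraicGeometry.PullbackCarrier
import Mathlib.RingTheory.TensorProduct.MvPolynomial
import Groth.Agent.Lib.Helper50.UnivOC

set_option autoImplicit false
universe u
open CategoryTheory AlgebraicGeometry Limits TensorProduct

namespace Groth.Agent.Lib.Helper50

attribute [local instance] MvPolynomial.algebraMvPolynomial

section alg

variable {A B : Type u} [CommRing A] [CommRing B] [Algebra A B] {d : ℕ} (b : Fin d → B)

lemma exists_sum_tmul_eq (hb : Submodule.span A (Set.range b) = ⊤)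
    (R : Type u) [CommRing R] [Algebra A R] (t : B ⊗[A] R) :
    ∃ r : Fin d → R, ∑ i, b i ⊗ₜ[A] r i = t := by
  induction t using TensorProduct.induction_on with
  | zero => exact ⟨0, by simp⟩
  | tmul β ρ =>
    have hβ : β ∈ Submodule.span A (Set.range b) := hb ▸ Submodule.mem_top
    obtain ⟨c, hc⟩ := (Submodule.mem_span_range_iff_exists_fun A).mp hβ
    refine ⟨fun i ↦ c i • ρ, ?_⟩
    rw [← hc, TensorProduct.sum_tmul]
    refine Finset.sum_congr rfl fun i _ ↦ ?_
    rw [TensorProduct.smul_tmul]
  | add x y hx hy =>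
    obtain ⟨r, hr⟩ := hx
    obtain ⟨r', hr'⟩ := hy
    refine ⟨r + r', ?_⟩
    simp only [Pi.add_apply, TensorProduct.tmul_add, Finset.sum_add_distrib, hr, hr']

variable (R : Type u) [CommRing R] [Algebra A R] (r : Fin d → R)

/-- Evaluation `A[X] → R` at `r`. -/
noncomputable def evalR : MvPolynomial (Fin d) A →ₐ[A] R := MvPolynomial.aeval r

/-- Evaluation `B[X] → B ⊗ R` at `1 ⊗ r`. -/
noncomputable def evalB : MvPolynomial (Fin d) B →ₐ[B] B ⊗[A] R :=
  MvPolynomial.aeval (fun i ↦ (1 : B) ⊗ₜ[A] r i)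

lemma evalB_linearForm :
    evalB (A := A) R r (∑ i, MvPolynomial.X i * MvPolynomial.C (b i)) = ∑ i, b i ⊗ₜ[A] r i := by
  simp [evalB, Algebra.TensorProduct.algebraMap_apply]

lemma isPushout_eval :
    IsPushout (CommRingCat.ofHom (evalR (A := A) R r).toRingHom)
      (CommRingCat.ofHom (MvPolynomial.map (σ := Fin d) (algebraMap A B)))
      (CommRingCat.ofHom (Algebra.TensorProduct.includeRight (R := A) (A := B) (B := R)).toRingHom)
      (CommRingCat.ofHom (evalB (A := A) (B := B) R r).toRingHom) := by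
  have t := CommRingCat.isPushout_of_isPushout A (MvPolynomial (Fin d) A) B (MvPolynomial (Fin d) B)
  have s := (CommRingCat.isPushout_tensorProduct A B R).flip
  refine IsPushout.of_left ?_ ?_ t
  · convert s using 1
    · ext a
      simp [evalR]
    · ext x
      simp [evalB]
  · ext x
    · simp [evalR, evalB, Algebra.TensorProduct.algebraMap_apply]
    · simp [evalR, evalB]

/-- The key openness claim. -/
theorem isOpenMap_SpecMap_includeRight (hb : Submodule.span A (Set.range b) = ⊤)
    (hO : IsOpen (PrimeSpectrum.comap (MvPolynomial.map (σ := Fin d) (algebraMap A B)) ''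
      (PrimeSpectrum.basicOpen (∑ i : Fin d, MvPolynomial.X i * MvPolynomial.C (b i)) :
        Set (PrimeSpectrum (MvPolynomial (Fin d) B))))) :
    IsOpenMap (Spec.map (CommRingCat.ofHom
      (Algebra.TensorProduct.includeRight (R := A) (A := B) (B := R)).toRingHom)) := by
  refine (PrimeSpectrum.isTopologicalBasis_basic_opens (R := B ⊗[A] R)).isOpenMap_iff.mpr ?_
  rintro _ ⟨t, rfl⟩
  obtain ⟨r, rfl⟩ := exists_sum_tmul_eq b hb R t
  have sq := (isPullback_SpecMap_of_isPushout _ _ _ _ (isPushout_eval (A := A) (B := B) R r)).flip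
  have key := Scheme.image_preimage_eq_of_isPullback sq
    (PrimeSpectrum.basicOpen (∑ i : Fin d, MvPolynomial.X i * MvPolynomial.C (b i)) :
        Set (PrimeSpectrum (MvPolynomial (Fin d) B)))
  have e1 : (Spec.map (CommRingCat.ofHom (evalB (A := A) (B := B) R r).toRingHom)) ⁻¹'
      (PrimeSpectrum.basicOpen (∑ i : Fin d, MvPolynomial.X i * MvPolynomial.C (b i)) :
        Set (PrimeSpectrum (MvPolynomial (Fin d) B))) =
      (PrimeSpectrum.basicOpen (∑ i, b i ⊗ₜ[A] r i) : Set (PrimeSpectrum (B ⊗[A] R))) := by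
    rw [← evalB_linearForm]
    rfl
  rw [e1] at key
  show IsOpen ((Spec.map (CommRingCat.ofHom
      (Algebra.TensorProduct.includeRight (R := A) (A := B) (B := R)).toRingHom)) ''
      (PrimeSpectrum.basicOpen (∑ i, b i ⊗ₜ[A] r i) : Set (PrimeSpectrum (B ⊗[A] R))))
  rw [key]
  exact hO.preimage (Spec.map (CommRingCat.ofHom (evalR (A := A) R r).toRingHom)).continuous

end alg

section wrap

lemma exists_affineOpen_mem {T : Scheme.{u}} (t : T) : ∃ V : T.Opens, IsAffineOpen V ∧ t ∈ V := by
  obtain ⟨_, ⟨V, hV, rfl⟩, htV, -⟩ := T.isBasis_affineOpens.exists_subset_of_mem_open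
    (Set.mem_univ t) isOpen_univ
  exact ⟨V, hV, htV⟩

/-- Universal openness over an affine base can be tested on affine base changes. -/
theorem universallyOpen_of_forall_SpecMap {X : Scheme.{u}} {A : CommRingCat.{u}} (f : X ⟶ Spec A)
    (H : ∀ (R : CommRingCat.{u}) (φ : A ⟶ R), IsOpenMap (pullback.snd f (Spec.map φ))) :
    UniversallyOpen f := by
  refine ⟨fun X' T i₁ g f' hsq ↦ ?_⟩
  have hsq' : IsPullback i₁ f' f g := hsq.flip
  rw [← hsq'.isoPullback_hom_snd,
    MorphismProperty.cancel_left_of_respectsIso (topologically @IsOpenMap)]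
  choose V hV htV using exists_affineOpen_mem (T := T)
  have hcover : TopologicalSpace.IsOpenCover V := by
    refine TopologicalSpace.IsOpenCover.mk (top_le_iff.mp fun t _ ↦ ?_)
    exact TopologicalSpace.Opens.mem_iSup.mpr ⟨t, htV t⟩
  apply IsZariskiLocalAtTarget.of_openCover (P := topologically @IsOpenMap)
    (T.openCoverOfIsOpenCover V hcover)
  intro (t : T)
  show topologically @IsOpenMap (pullback.snd (pullback.snd f g) (V t).ι)
  rw [← pullbackLeftPullbackSndIso_hom_snd,
    MorphismProperty.cancel_left_of_respectsIso (topologically @IsOpenMap)]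
  have e : (V t).ι ≫ g = (hV t).isoSpec.hom ≫
      Spec.map (Spec.preimage ((hV t).fromSpec ≫ g)) := by
    rw [Spec.map_preimage, ← IsAffineOpen.isoSpec_inv_ι (hV t), Category.assoc,
      Iso.hom_inv_id_assoc]
  show IsOpenMap (pullback.snd f ((V t).ι ≫ g))
  rw [e]
  exact isOpenMap_snd_comp_of_isPreimmersion f _ _ (H _ _)

end wrap

end Groth.Agent.Lib.Helper50
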