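import Mathlib.AlgebraicGeometry.ValuativeCriterion

set_option autoImplicit false
universe u
open CategoryTheory CategoryTheory.Limits AlgebraicGeometry IsLocalRing

namespace Groth.Agent.Lib.Helper50

set_option backward.isDefEq.respectTransparency false in
/-- A specializing morphism to the spectrum of a valuation ring admits a section through every
point of its generic fibre rational over the fraction field. -/
theorem exists_section_of_specializingMap (R : Type u) [CommRing R] [IsDomain R]
    [ValuationRing R] (K : Type u) [Field K] [Algebra R K] [IsFractionRing R K] (X : Scheme.{u})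
    (f : X ⟶ Spec (CommRingCat.of R)) (H : SpecializingMap f)
    (i₁ : Spec (CommRingCat.of K) ⟶ X)
    (w : i₁ ≫ f = Spec.map (CommRingCat.ofHom (algebraMap R K))) :
    ∃ s : Spec (CommRingCat.of R) ⟶ X, s ≫ f = 𝟙 _ ∧
      Spec.map (CommRingCat.ofHom (algebraMap R K)) ≫ s = i₁ := by
  have : IsDomain (CommRingCat.of R) := ‹_›
  have : ValuationRing (CommRingCat.of R) := ‹_›
  let : Field (CommRingCat.of K) := ‹_›
  let lft := i₁
  have hlft : f (lft (closedPoint _)) ⤳ closedPoint R := by
    exact specializes_closedPoint (R := R) _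
  obtain ⟨x, h₁, h₂⟩ := @H (lft (closedPoint _)) _ hlft
  let e : CommRingCat.of R ≅ (Spec <| .of R).presheaf.stalk (f x) :=
    (stalkClosedPointIso (.of R)).symm ≪≫
      (Spec <| .of R).presheaf.stalkCongr (.of_eq h₂.symm)
  let α := e.hom ≫ f.stalkMap x
  have : IsLocalHom e.hom.hom := isLocalHom_of_isIso e.hom
  have : IsLocalHom α.hom := inferInstanceAs
    (IsLocalHom ((f.stalkMap x).hom.comp e.hom.hom))
  let β := X.presheaf.stalkSpecializes h₁ ≫ Scheme.stalkClosedPointTo lft
  have hαβ : α ≫ β = CommRingCat.ofHom (algebraMap R K) := by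
    simp only [CommRingCat.coe_of, Iso.trans_hom, Iso.symm_hom, TopCat.Presheaf.stalkCongr_hom,
      Category.assoc, α, e, β, stalkClosedPointIso_inv, StructureSheaf.toStalk]
    change (Scheme.ΓSpecIso (.of R)).inv ≫ (Spec <| .of R).presheaf.germ _ _ _ ≫ _ = _
    simp only [TopCat.Presheaf.germ_stalkSpecializes_assoc, Scheme.Hom.germ_stalkMap_assoc]
    simp only [TopologicalSpace.Opens.map_top]
    rw [Scheme.germ_stalkClosedPointTo lft ⊤ trivial]
    erw [← Scheme.Hom.comp_app_assoc lft f]
    rw [w]
    simp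
  have hbij := (bijective_rangeRestrict_comp_of_valuationRing (R := R) (K := K) α.hom β.hom
    (CommRingCat.hom_ext_iff.mp hαβ))
  let φ : X.presheaf.stalk x ⟶ CommRingCat.of R := CommRingCat.ofHom <|
    (RingEquiv.ofBijective _ hbij).symm.toRingHom.comp β.hom.rangeRestrict
  have hαφ : α ≫ φ = 𝟙 _ := by ext x; exact (RingEquiv.ofBijective _ hbij).symm_apply_apply x
  have hαφ' : f.stalkMap x ≫ φ = e.inv := by
    rw [← cancel_epi e.hom, ← Category.assoc, hαφ, e.hom_inv_id]
  have hφβ : φ ≫ CommRingCat.ofHom (algebraMap R K) = β :=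
    hαβ ▸ CommRingCat.hom_ext (RingHom.ext fun x ↦ congr_arg Subtype.val
      ((RingEquiv.ofBijective _ hbij).apply_symm_apply (β.hom.rangeRestrict x)))
  refine ⟨Spec.map φ ≫ X.fromSpecStalk _, ?_, ?_⟩
  · rw [Category.assoc, ← Scheme.SpecMap_stalkMap_fromSpecStalk, ← Spec.map_comp_assoc, hαφ']
    simp only [Iso.trans_inv, TopCat.Presheaf.stalkCongr_inv, Iso.symm_inv, Spec.map_comp,
      Category.assoc, e]
    refine (congrArg (Spec.map (stalkClosedPointIso (CommRingCat.of R)).hom ≫ ·)
      (Scheme.SpecMap_stalkSpecializes_fromSpecStalk _)).trans ?_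
    refine (congrArg (Spec.map (stalkClosedPointIso (CommRingCat.of R)).hom ≫ ·)
      (Spec_stalkClosedPointIso (CommRingCat.of R)).symm).trans ?_
    rw [← Spec.map_comp, Iso.inv_hom_id, Spec.map_id]
  · simp only [← Spec.map_comp_assoc, hφβ]
    simp only [Spec.map_comp, Category.assoc, β]
    refine (congrArg (Spec.map (Scheme.stalkClosedPointTo lft) ≫ ·)
      (Scheme.SpecMap_stalkSpecializes_fromSpecStalk h₁)).trans ?_
    exact Scheme.Spec_stalkClosedPointTo_fromSpecStalk lft

end Groth.Agent.Lib.Helper50
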