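import Groth.Agent.Lib.Helper50.WRSch
import Groth.Agent.S4764
import Groth.Agent.S4758
import Mathlib.AlgebraicGeometry.AffineTransitionLimit

set_option autoImplicit false
universe u
open CategoryTheory AlgebraicGeometry RingTheory.Sequence Opposite Limits

namespace Groth.Agent.Lib.Helper50.WRSch

theorem wr_limit_iff {I : Type u} [SmallCategory I] [IsCofiltered I]
    (D : I ⥤ Scheme.{u}) (c : Limits.Cone D) (hc : Limits.IsLimit c)
    [∀ (i j : I) (f : i ⟶ j), IsAffineHom (D.map f)]
    (hflat : ∀ (i j : I) (f : i ⟶ j), Flat (D.map f))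
    (hcase : (∀ i : I, IsLocallyNoetherian (D.obj i)) ∨
      ∀ (i j : I) (f : i ⟶ j), Surjective (D.map f))
    (i₀ : I) [CompactSpace (D.obj i₀)] (fs : List Γ(D.obj i₀, ⊤)) :
    (∀ U : c.pt.affineOpens, IsWeaklyRegular Γ(c.pt, U.1)
        (fs.map (fun f => (c.pt.presheaf.map (homOfLE (le_top : U.1 ≤ ⊤)).op).hom
          ((c.π.app i₀).appTop.hom f)))) ↔
      ∃ (j : I) (φ : j ⟶ i₀), ∀ U : (D.obj j).affineOpens,
        IsWeaklyRegular Γ(D.obj j, U.1)
          (fs.map (fun f => ((D.obj j).presheaf.map (homOfLE (le_top : U.1 ≤ ⊤)).op).hom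
            ((D.map φ).appTop.hom f))) := by
  have hπflat : ∀ i, Flat (c.π.app i) := fun i ↦
    Groth.Agent.S4764.result D c hc i (fun j φ ↦ hflat j i φ)
  have := hπflat i₀
  have e1 : ∀ U : c.pt.affineOpens,
      fs.map (fun f => (c.pt.presheaf.map (homOfLE (le_top : U.1 ≤ ⊤)).op).hom
          ((c.π.app i₀).appTop.hom f)) = res c.pt (fs.map (c.π.app i₀).appTop.hom) U.1 := by
    intro U
    rw [res, List.map_map]
    rfl
  have e2 : ∀ (j : I) (φ : j ⟶ i₀) (U : (D.obj j).affineOpens),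
      fs.map (fun f => ((D.obj j).presheaf.map (homOfLE (le_top : U.1 ≤ ⊤)).op).hom
            ((D.map φ).appTop.hom f)) = res (D.obj j) (fs.map (D.map φ).appTop.hom) U.1 := by
    intro j φ U
    rw [res, List.map_map]
    rfl
  simp only [e1, e2]
  rw [forall_affine_iff_forall_wrAt]
  simp only [forall_affine_iff_forall_wrAt]
  have h1 : (∀ z : c.pt, WRAt c.pt (fs.map (c.π.app i₀).appTop.hom) z) ↔
      ∀ z : c.pt, WRAt (D.obj i₀) fs (c.π.app i₀ z) :=
    forall_congr' fun z ↦ wrAt_map_iff (c.π.app i₀) fs z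
  have h2 : ∀ (j : I) (φ : j ⟶ i₀), (∀ z : D.obj j, WRAt (D.obj j) (fs.map (D.map φ).appTop.hom) z) ↔
      ∀ z : D.obj j, WRAt (D.obj i₀) fs (D.map φ z) := fun j φ ↦
    have := hflat j i₀ φ
    forall_congr' fun z ↦ wrAt_map_iff (D.map φ) fs z
  rw [h1]
  simp only [h2]
  constructor
  · intro H
    rcases hcase with hN | hS
    · -- locally noetherian case
      have := hN i₀
      have hopen := isOpen_setOf_wrAt (D.obj i₀) fs
      by_contra hcon
      push_neg at hcon
      obtain ⟨s, hs⟩ := exists_mem_of_isClosed_of_nonempty' D c hc (j := i₀)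
        (fun i hij ↦ (D.map hij) ⁻¹' {y | WRAt (D.obj i₀) fs y}ᶜ)
        (fun i hij ↦ hopen.isClosed_compl.preimage (D.map hij).continuous)
        (fun i hij ↦ by
          obtain ⟨z, hz⟩ := hcon i hij
          exact ⟨z, hz⟩)
        (fun i hij ↦ by
          have : CompactSpace (D.obj i) := QuasiCompact.compactSpace_of_compactSpace (D.map hij)
          exact (hopen.isClosed_compl.preimage (D.map hij).continuous).isCompact)
        (fun i i' hi'i hij z hz ↦ by
          change D.map hij (D.map hi'i z) ∈ {y | WRAt (D.obj i₀) fs y}ᶜ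
          rw [← Scheme.Hom.comp_apply, ← D.map_comp]
          exact hz)
      have := hs i₀ (𝟙 i₀)
      rw [Set.mem_preimage, D.map_id] at this
      exact this (H s)
    · -- surjective case
      have hsurj : Surjective (c.π.app i₀) :=
        (Groth.Agent.S4758.result D c hc i₀).mpr (fun j φ ↦ hS j i₀ φ)
      refine ⟨i₀, 𝟙 i₀, fun z ↦ ?_⟩
      rw [D.map_id]
      obtain ⟨s, rfl⟩ := hsurj.surj z
      exact H s
  · rintro ⟨j, φ, H⟩ z
    have := H (c.π.app j z)
    rwa [← Scheme.Hom.comp_apply, c.w φ] at this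

end Groth.Agent.Lib.Helper50.WRSch
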