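import Mathlib.RingTheory.Regular.RegularSequence
import Mathlib.RingTheory.Regular.Flat
import Mathlib.RingTheory.Flat.FaithfullyFlat.Algebra
import Mathlib.RingTheory.LocalProperties.Basic
import Mathlib.RingTheory.Localization.AtPrime.Basic
import Mathlib.RingTheory.Noetherian.Basic

set_option autoImplicit false
universe u
open RingTheory.Sequence

namespace Groth.Agent.Lib.Helper50.WRLoc

variable {R : Type*} [CommRing R]

/-- Weak regularity of a sequence on the ring itself, in terms of ideal membership. -/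
lemma wr_iff (rs : List R) :
    IsWeaklyRegular R rs ↔ ∀ (i : ℕ) (h : i < rs.length) (x : R),
      rs[i] * x ∈ Ideal.ofList (rs.take i) → x ∈ Ideal.ofList (rs.take i) := by
  rw [isWeaklyRegular_iff]
  refine forall₂_congr fun i h ↦ ?_
  rw [isSMulRegular_quotient_iff_mem_of_smul_mem]
  have e : (Ideal.ofList (rs.take i) • ⊤ : Submodule R R) = Ideal.ofList (rs.take i) := by
    rw [smul_eq_mul, Ideal.mul_top]
  rw [e]
  rfl

/-- The sequence `rs` becomes weakly regular after localizing at the submonoid `M`, expressed in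
terms of `R`. -/
def LocWR (rs : List R) (M : Submonoid R) : Prop :=
  ∀ (i : ℕ) (h : i < rs.length) (x : R),
    (∃ m ∈ M, m * (rs[i] * x) ∈ Ideal.ofList (rs.take i)) →
      ∃ m ∈ M, m * x ∈ Ideal.ofList (rs.take i)

lemma locWR_of_wr (rs : List R) (M : Submonoid R) (h : IsWeaklyRegular R rs) : LocWR rs M := by
  rw [wr_iff] at h
  rintro i hi x ⟨m, hm, hx⟩
  refine ⟨m, hm, h i hi _ ?_⟩
  rwa [mul_left_comm] at hx

lemma mem_map_iff {S : Type*} [CommRing S] [Algebra R S] (M : Submonoid R) [IsLocalization M S]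
    (I : Ideal R) (x : R) :
    algebraMap R S x ∈ I.map (algebraMap R S) ↔ ∃ m ∈ M, m * x ∈ I := by
  rw [IsLocalization.mem_map_algebraMap_iff M S]
  constructor
  · rintro ⟨⟨a, m⟩, h⟩
    rw [← map_mul] at h
    obtain ⟨c, hc⟩ := (IsLocalization.eq_iff_exists M S).mp h
    refine ⟨c * m, M.mul_mem c.2 m.2, ?_⟩
    have : (c : R) * m * x = c * a := by rw [mul_assoc, mul_comm (m : R) x, hc]
    rw [this]
    exact I.mul_mem_left _ a.2
  · rintro ⟨m, hm, h⟩
    exact ⟨⟨⟨m * x, h⟩, ⟨m, hm⟩⟩, by simp [mul_comm]⟩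

/-- `LocWR` is weak regularity in any localization. -/
lemma wr_localization_iff {S : Type*} [CommRing S] [Algebra R S] (M : Submonoid R)
    [IsLocalization M S] (rs : List R) :
    IsWeaklyRegular S (rs.map (algebraMap R S)) ↔ LocWR rs M := by
  rw [wr_iff]
  have hI : ∀ i, Ideal.ofList ((rs.map (algebraMap R S)).take i) =
      (Ideal.ofList (rs.take i)).map (algebraMap R S) := fun i ↦ by
    rw [← List.map_take, Ideal.map_ofList]
  constructor
  · intro H i hi x hx
    have hi' : i < (rs.map (algebraMap R S)).length := by simpa using hi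
    have := H i hi' (algebraMap R S x)
    rw [hI, List.getElem_map, ← map_mul, mem_map_iff M, mem_map_iff M] at this
    exact this hx
  · intro H i hi y hy
    have hi' : i < rs.length := by simpa using hi
    obtain ⟨⟨x, s⟩, hxs⟩ := IsLocalization.surj M y
    have hs : IsUnit (algebraMap R S s) := IsLocalization.map_units S s
    rw [hI] at hy ⊢
    have h1 : algebraMap R S (rs[i] * x) ∈ (Ideal.ofList (rs.take i)).map (algebraMap R S) := by
      rw [map_mul, ← hxs, ← mul_assoc]
      rw [List.getElem_map] at hy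
      exact Ideal.mul_mem_right _ _ hy
    rw [mem_map_iff M] at h1
    have h2 := (mem_map_iff (S := S) M _ x).mpr (H i hi' x h1)
    rw [← hxs] at h2
    exact (Ideal.mul_unit_mem_iff_mem _ hs).mp h2

/-- Weak regularity is local at maximal ideals. -/
lemma wr_of_forall_maximal (rs : List R)
    (H : ∀ (P : Ideal R) [P.IsMaximal], LocWR rs P.primeCompl) : IsWeaklyRegular R rs := by
  rw [wr_iff]
  intro i hi x hx
  by_contra hcon
  let C : Ideal R :=
    { carrier := {r | r * x ∈ Ideal.ofList (rs.take i)}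
      add_mem' := fun {a b} ha hb ↦ by
        change (a + b) * x ∈ Ideal.ofList (rs.take i)
        rw [add_mul]
        exact Ideal.add_mem _ ha hb
      zero_mem' := by
        change 0 * x ∈ Ideal.ofList (rs.take i)
        rw [zero_mul]
        exact Ideal.zero_mem _
      smul_mem' := fun c a ha ↦ by
        change (c • a) * x ∈ Ideal.ofList (rs.take i)
        rw [smul_eq_mul, mul_assoc]
        exact Ideal.mul_mem_left _ _ ha }
  have hC : C ≠ ⊤ := by
    intro h
    have : (1 : R) ∈ C := h ▸ Submodule.mem_top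
    change 1 * x ∈ Ideal.ofList (rs.take i) at this
    rw [one_mul] at this
    exact hcon this
  obtain ⟨P, hP, hCP⟩ := Ideal.exists_le_maximal C hC
  obtain ⟨m, hm, hmx⟩ := H P i hi x ⟨1, P.primeCompl.one_mem, by simpa using hx⟩
  exact hm (hCP hmx)

/-- Faithfully flat descent of weak regularity. -/
lemma wr_of_faithfullyFlat {S : Type*} [CommRing S] [Algebra R S] [Module.FaithfullyFlat R S]
    (rs : List R) (h : IsWeaklyRegular S (rs.map (algebraMap R S))) : IsWeaklyRegular R rs := by
  rw [wr_iff] at h ⊢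
  intro i hi x hx
  have hi' : i < (rs.map (algebraMap R S)).length := by simpa using hi
  have hI : Ideal.ofList ((rs.map (algebraMap R S)).take i) =
      (Ideal.ofList (rs.take i)).map (algebraMap R S) := by
    rw [← List.map_take, Ideal.map_ofList]
  have := h i hi' (algebraMap R S x) (by
    rw [hI, List.getElem_map, ← map_mul]
    exact Ideal.mem_map_of_mem _ hx)
  rw [hI] at this
  have h2 : x ∈ ((Ideal.ofList (rs.take i)).map (algebraMap R S)).comap (algebraMap R S) := this
  rwa [Ideal.comap_map_eq_self_of_faithfullyFlat] at h2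

/-- The colon ideal `(I : r)`. -/
def colonIdeal (I : Ideal R) (r : R) : Ideal R where
  carrier := {x | r * x ∈ I}
  add_mem' := fun {a b} ha hb ↦ by
    change r * (a + b) ∈ I
    rw [mul_add]
    exact Ideal.add_mem _ ha hb
  zero_mem' := by
    change r * 0 ∈ I
    rw [mul_zero]
    exact Ideal.zero_mem _
  smul_mem' := fun c a ha ↦ by
    change r * (c • a) ∈ I
    rw [smul_eq_mul, mul_left_comm]
    exact Ideal.mul_mem_left _ _ ha

lemma mem_colonIdeal {I : Ideal R} {r x : R} : x ∈ colonIdeal I r ↔ r * x ∈ I := Iff.rfl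

lemma exists_mul_mem_of_locWR [IsNoetherianRing R] (rs : List R) (P : Ideal R) [P.IsPrime]
    (h : LocWR rs P.primeCompl) (i : ℕ) (hi : i < rs.length) :
    ∃ g ∉ P, ∀ x : R, rs[i] * x ∈ Ideal.ofList (rs.take i) →
      g * x ∈ Ideal.ofList (rs.take i) := by
  classical
  set I := Ideal.ofList (rs.take i) with hI
  obtain ⟨s, hs⟩ := (isNoetherianRing_iff_ideal_fg R).mp inferInstance (colonIdeal I rs[i])
  have key : ∀ y ∈ s, ∃ m ∉ P, m * y ∈ I := fun y hy ↦ by
    have hy' : y ∈ colonIdeal I rs[i] := hs ▸ Ideal.subset_span hy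
    obtain ⟨m, hm, hmy⟩ := h i hi y ⟨1, P.primeCompl.one_mem, by
      rw [one_mul]; exact mem_colonIdeal.mp hy'⟩
    exact ⟨m, hm, hmy⟩
  choose! m hm hmy using key
  refine ⟨∏ y ∈ s, m y, ?_, ?_⟩
  · intro hmem
    obtain ⟨y, hy, hy'⟩ := (Ideal.IsPrime.prod_mem_iff (p := P)).mp hmem
    exact hm y hy hy'
  · intro x hx
    have hx' : x ∈ Ideal.span (s : Set R) := hs ▸ (mem_colonIdeal.mpr hx)
    refine Submodule.span_induction (p := fun x _ ↦ (∏ y ∈ s, m y) * x ∈ I) ?_ ?_ ?_ ?_ hx'
    · intro y hy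
      rw [← Finset.mul_prod_erase s m hy, mul_right_comm]
      exact Ideal.mul_mem_right _ _ (hmy y hy)
    · rw [mul_zero]; exact Ideal.zero_mem _
    · intro a b _ _ ha hb
      rw [mul_add]; exact Ideal.add_mem _ ha hb
    · intro c a _ ha
      rw [smul_eq_mul, mul_left_comm]; exact Ideal.mul_mem_left _ _ ha

/-- In a noetherian ring, the locus where a sequence is weakly regular is open. -/
lemma exists_forall_locWR [IsNoetherianRing R] (rs : List R) (P : Ideal R) [P.IsPrime]
    (h : LocWR rs P.primeCompl) :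
    ∃ g ∉ P, ∀ (Q : Ideal R) [Q.IsPrime], g ∉ Q → LocWR rs Q.primeCompl := by
  classical
  have key : ∀ i : Fin rs.length, ∃ g ∉ P, ∀ x : R, rs[i] * x ∈ Ideal.ofList (rs.take i) →
      g * x ∈ Ideal.ofList (rs.take i) := fun i ↦ exists_mul_mem_of_locWR rs P h i i.2
  choose g hg hgx using key
  refine ⟨∏ i, g i, ?_, ?_⟩
  · intro hmem
    obtain ⟨i, -, hi⟩ := (Ideal.IsPrime.prod_mem_iff (p := P)).mp hmem
    exact hg i hi
  · intro Q _ hQ i hi x ⟨m, hm, hmx⟩
    have hgi : g ⟨i, hi⟩ ∉ Q := fun hmem ↦ hQ (by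
      rw [← Finset.mul_prod_erase Finset.univ g (Finset.mem_univ ⟨i, hi⟩)]
      exact Ideal.mul_mem_right _ _ hmem)
    refine ⟨g ⟨i, hi⟩ * m, ?_, ?_⟩
    · exact fun hmem ↦ (Ideal.IsPrime.mem_or_mem ‹_› hmem).elim hgi hm
    · rw [mul_assoc]
      apply hgx ⟨i, hi⟩
      rw [mul_left_comm] at hmx
      exact hmx

end Groth.Agent.Lib.Helper50.WRLoc
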