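import Groth.Agent.Lib.Helper50.WRLoc
import Mathlib.AlgebraicGeometry.Morphisms.Flat
import Mathlib.AlgebraicGeometry.Noetherian
import Mathlib.AlgebraicGeometry.AffineScheme

set_option autoImplicit false
universe u
open CategoryTheory AlgebraicGeometry RingTheory.Sequence Opposite

namespace Groth.Agent.Lib.Helper50.WRSch

open Groth.Agent.Lib.Helper50.WRLoc

/-- The list of global sections `fs` is a weakly regular sequence in the stalk at `z`. -/
def WRAt (Z : Scheme.{u}) (fs : List Γ(Z, ⊤)) (z : Z) : Prop :=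
  IsWeaklyRegular (Z.presheaf.stalk z) (fs.map (Z.presheaf.germ ⊤ z trivial).hom)

/-- The restrictions of a list of global sections to an open. -/
def res (Z : Scheme.{u}) (fs : List Γ(Z, ⊤)) (U : Z.Opens) : List Γ(Z, U) :=
  fs.map (Z.presheaf.map (homOfLE (le_top : U ≤ ⊤)).op).hom

lemma wrAt_iff_locWR (Z : Scheme.{u}) (fs : List Γ(Z, ⊤)) {U : Z.Opens} (hU : IsAffineOpen U)
    (z : Z) (hz : z ∈ U) :
    WRAt Z fs z ↔ LocWR (res Z fs U) (hU.primeIdealOf ⟨z, hz⟩).asIdeal.primeCompl := by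
  letI : Algebra Γ(Z, U) (Z.presheaf.stalk z) :=
    TopCat.Presheaf.algebra_section_stalk Z.presheaf ⟨z, hz⟩
  have : IsLocalization.AtPrime (Z.presheaf.stalk z) (hU.primeIdealOf ⟨z, hz⟩).asIdeal :=
    hU.isLocalization_stalk ⟨z, hz⟩
  rw [← wr_localization_iff (S := Z.presheaf.stalk z)
    (hU.primeIdealOf ⟨z, hz⟩).asIdeal.primeCompl (res Z fs U)]
  have e : (res Z fs U).map (algebraMap Γ(Z, U) (Z.presheaf.stalk z)) =
      fs.map (Z.presheaf.germ ⊤ z trivial).hom := by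
    rw [res, List.map_map]
    congr 1
    ext f
    change (Z.presheaf.germ U z hz).hom ((Z.presheaf.map (homOfLE le_top).op).hom f) = _
    rw [← CommRingCat.comp_apply, TopCat.Presheaf.germ_res]
  rw [e]
  rfl

/-- Weak regularity on all affine opens is weak regularity at all stalks. -/
lemma forall_affine_iff_forall_wrAt (Z : Scheme.{u}) (fs : List Γ(Z, ⊤)) :
    (∀ U : Z.affineOpens, IsWeaklyRegular Γ(Z, U.1) (res Z fs U.1)) ↔ ∀ z : Z, WRAt Z fs z := by
  constructor
  · intro H z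
    obtain ⟨_, ⟨U, hU : IsAffineOpen U, rfl⟩, hzU, -⟩ :=
      Z.isBasis_affineOpens.exists_subset_of_mem_open (Set.mem_univ z) isOpen_univ
    rw [wrAt_iff_locWR Z fs hU z hzU]
    exact locWR_of_wr _ _ (H ⟨U, hU⟩)
  · intro H U
    apply wr_of_forall_maximal
    intro P hP
    let y : PrimeSpectrum Γ(Z, U.1) := ⟨P, hP.isPrime⟩
    let x : U.1 := U.2.isoSpec.inv y
    have hx : U.2.primeIdealOf x = y := by
      change U.2.isoSpec.hom (U.2.isoSpec.inv y) = y
      rw [← Scheme.Hom.comp_apply, Iso.inv_hom_id]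
      rfl
    have := (wrAt_iff_locWR Z fs U.2 x.1 x.2).mp (H x.1)
    rw [show (⟨x.1, x.2⟩ : U.1) = x from rfl, hx] at this
    exact this

/-- Flat morphisms preserve and reflect weak regularity at points. -/
lemma wrAt_map_iff {Z' Z : Scheme.{u}} (h : Z' ⟶ Z) [Flat h] (fs : List Γ(Z, ⊤)) (z' : Z') :
    WRAt Z' (fs.map h.appTop.hom) z' ↔ WRAt Z fs (h z') := by
  have hflat : (h.stalkMap z').hom.Flat := (Flat.iff_flat_stalkMap h).mp inferInstance z'
  algebraize [(h.stalkMap z').hom]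
  have : Module.FaithfullyFlat (Z.presheaf.stalk (h z')) (Z'.presheaf.stalk z') :=
    @Module.FaithfullyFlat.of_flat_of_isLocalHom _ _ _ _ _ _ _ hflat
      (by rw [RingHom.algebraMap_toAlgebra]; infer_instance)
  have e : (fs.map h.appTop.hom).map (Z'.presheaf.germ ⊤ z' trivial).hom =
      (fs.map (Z.presheaf.germ ⊤ (h z') trivial).hom).map
        (algebraMap (Z.presheaf.stalk (h z')) (Z'.presheaf.stalk z')) := by
    rw [List.map_map, List.map_map]
    congr 1
    ext f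
    change (Z'.presheaf.germ ⊤ z' trivial).hom (h.appTop.hom f) =
      (h.stalkMap z').hom ((Z.presheaf.germ ⊤ (h z') trivial).hom f)
    exact (Scheme.Hom.germ_stalkMap_apply h ⊤ z' trivial f).symm
  unfold WRAt
  rw [e]
  exact ⟨wr_of_faithfullyFlat _, fun H ↦ H.of_flat⟩

/-- On a locally noetherian scheme, the locus where `fs` is weakly regular is open. -/
lemma isOpen_setOf_wrAt (Z : Scheme.{u}) [IsLocallyNoetherian Z] (fs : List Γ(Z, ⊤)) :
    IsOpen {z : Z | WRAt Z fs z} := by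
  rw [isOpen_iff_forall_mem_open]
  intro z hz
  obtain ⟨_, ⟨U, hU : IsAffineOpen U, rfl⟩, hzU, -⟩ :=
    Z.isBasis_affineOpens.exists_subset_of_mem_open (Set.mem_univ z) isOpen_univ
  have : IsNoetherianRing Γ(Z, U) := IsLocallyNoetherian.component_noetherian ⟨U, hU⟩
  have hmem : ∀ (g : Γ(Z, U)) (w : Z) (hw : w ∈ U),
      w ∈ Z.basicOpen g ↔ g ∉ (hU.primeIdealOf ⟨w, hw⟩).asIdeal := by
    intro g w hw
    rw [Scheme.mem_basicOpen _ _ _ hw, hU.primeIdealOf_eq_map_closedPoint]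
    change _ ↔ ¬ ((Z.presheaf.germ U w hw).hom g ∈ IsLocalRing.maximalIdeal _)
    rw [IsLocalRing.mem_maximalIdeal, mem_nonunits_iff, not_not]
  obtain ⟨g, hg, hgQ⟩ := exists_forall_locWR (res Z fs U)
    (hU.primeIdealOf ⟨z, hzU⟩).asIdeal ((wrAt_iff_locWR Z fs hU z hzU).mp hz)
  refine ⟨Z.basicOpen g, ?_, (Z.basicOpen g).2, (hmem g z hzU).mpr hg⟩
  intro w hw
  have hwU : w ∈ U := Z.basicOpen_le g hw
  change WRAt Z fs w
  rw [wrAt_iff_locWR Z fs hU w hwU]
  exact hgQ _ ((hmem g w hwU).mp hw)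

end Groth.Agent.Lib.Helper50.WRSch
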